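import Mathlib
import Cfsg.Agent.BLK.Cover2
import Cfsg.Agent.BLK.GenDec2
import Cfsg.Agent.BLK.PrincCol
import Cfsg.Agent.CHAR.Gallagher

/-! Restriction to a normal subgroup with abelian quotient; blocks with abelian defect groups over
a stable block of a normal subgroup of `p`-power index. -/

set_option autoImplicit false
open Cfsg MonoidAlgebra Subgroup CL.Char
open scoped ComplexConjugate

namespace CL.Blk

variable {G : Type*} [Group G] [Finite G] {p : ℕ} {M : Ideal AlgInt}

open Classical in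
theorem sum_hom_trivial_on {N : Subgroup G} (hc : commutator G ≤ N)
    [Fintype {lam : G →* ℂˣ // ∀ n ∈ N, lam n = 1}] (g : G) :
    ∑ lam : {lam : G →* ℂˣ // ∀ n ∈ N, lam n = 1}, (lam.1 g : ℂ) =
      if g ∈ N then (N.index : ℂ) else 0 := by
  split_ifs with hg
  · rw [Finset.sum_congr rfl (g := fun _ => (1 : ℂ)) fun lam _ => by rw [lam.2 g hg]; rfl,
      Finset.sum_const, Finset.card_univ, ← Nat.card_eq_fintype_card, card_hom_trivial_on N hc,
      nsmul_eq_mul, mul_one]
  · obtain ⟨μ, hμ, hμg⟩ := exists_hom_of_not_mem N hc hg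
    let e : {lam : G →* ℂˣ // ∀ n ∈ N, lam n = 1} ≃ {lam : G →* ℂˣ // ∀ n ∈ N, lam n = 1} :=
      { toFun := fun lam => ⟨μ * lam.1, fun n hn => by simp [hμ n hn, lam.2 n hn]⟩
        invFun := fun lam => ⟨μ⁻¹ * lam.1, fun n hn => by simp [hμ n hn, lam.2 n hn]⟩
        left_inv := fun lam => Subtype.ext (inv_mul_cancel_left μ lam.1)
        right_inv := fun lam => Subtype.ext (mul_inv_cancel_left μ lam.1) }
    have h1 := Equiv.sum_comp e (fun lam => (lam.1 g : ℂ))
    have h2 : ∑ lam, ((e lam).1 g : ℂ) =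
        (μ g : ℂ) * ∑ lam : {lam : G →* ℂˣ // ∀ n ∈ N, lam n = 1}, (lam.1 g : ℂ) := by
      rw [Finset.mul_sum]
      exact Finset.sum_congr rfl fun lam _ => by simp [e]
    rw [h2] at h1
    have h3 : ((μ g : ℂ) - 1) *
        ∑ lam : {lam : G →* ℂˣ // ∀ n ∈ N, lam n = 1}, (lam.1 g : ℂ) = 0 := by
      rw [sub_mul, h1, one_mul, sub_self]
    refine (mul_eq_zero.1 h3).resolve_left fun h => hμg ?_
    exact Units.ext (sub_eq_zero.1 h)

/-- The inner product of two restrictions to a subgroup containing the derived subgroup. -/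
theorem inner_res_eq_sum_hom {G : Type*} [Group G] [Fintype G] {N : Subgroup G} [Fintype N]
    (hc : commutator G ≤ N) [Fintype {lam : G →* ℂˣ // ∀ n ∈ N, lam n = 1}] (χ ψ : G → ℂ) :
    classInner (fun n : N => χ n) (fun n : N => ψ n) =
      ∑ lam : {lam : G →* ℂˣ // ∀ n ∈ N, lam n = 1},
        classInner (fun g => (lam.1 g : ℂ) * χ g) ψ := by
  classical
  simp only [classInner_def]
  rw [← Finset.mul_sum, Finset.sum_comm]
  have h1 : ∀ g : G, ∑ lam : {lam : G →* ℂˣ // ∀ n ∈ N, lam n = 1},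
      (lam.1 g : ℂ) * χ g * conj (ψ g) =
      if g ∈ N then (N.index : ℂ) * (χ g * conj (ψ g)) else 0 := fun g => by
    rw [← Finset.sum_mul, ← Finset.sum_mul, sum_hom_trivial_on hc]
    split_ifs <;> ring
  rw [Finset.sum_congr rfl fun g _ => h1 g, sum_eq_sum_subgroup N (fun g hg => if_neg hg),
    Finset.sum_congr rfl fun n : N => fun _ => if_pos n.2, ← Finset.mul_sum, ← mul_assoc,
    ← N.card_mul_index]
  congr 1
  have h2 := card_ne_zero N
  have h3 : (N.index : ℂ) ≠ 0 := Nat.cast_ne_zero.2 index_ne_zero_of_finite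
  push_cast
  field_simp

/-- If no nontrivial linear character of the abelian group `G/N` fixes `χ`, then `χ_N` is
irreducible. -/
theorem res_irr_of_hom_mul_ne {N : Subgroup G} (hc : commutator G ≤ N) {χ : G → ℂ}
    (hχ : IsIrrCharacter G χ)
    (h : ∀ lam : G →* ℂˣ, (∀ n ∈ N, lam n = 1) → (∀ g, (lam g : ℂ) * χ g = χ g) → lam = 1) :
    IsIrrCharacter N fun n : N => χ n := by
  classical
  have := Fintype.ofFinite G
  have := Fintype.ofFinite N
  have : Fintype {lam : G →* ℂˣ // ∀ n ∈ N, lam n = 1} := Fintype.ofFinite _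
  refine (hχ.isCharacter.res N).isIrr_of_inner_self ?_
  rw [inner_res_eq_sum_hom hc, Finset.sum_eq_single ⟨1, fun _ _ => rfl⟩]
  · simpa using hχ.inner_self
  · intro lam _ hl
    refine (hχ.hom_mul lam.1).inner_of_ne hχ fun e => hl (Subtype.ext ?_)
    exact h lam.1 lam.2 (congrFun e)
  · exact fun h => (h (Finset.mem_univ _)).elim

/-- An extendible character of `N` has `|G : N|` extensions when `G/N` is abelian. -/
theorem card_ext_eq_index {N : Subgroup G} [N.Normal] (hc : commutator G ≤ N)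
    {χ : IrrCharacter G} (hχ : IsIrrCharacter N fun n : N => χ.1 n) :
    Nat.card {ψ : IrrCharacter G // ∀ n : N, ψ.1 n = χ.1 n} = N.index := by
  rw [← card_hom_trivial_on N hc]
  symm
  refine Nat.card_eq_of_bijective
    (fun lam => ⟨irrMulHom lam.1 χ, fun n => by simp [irrMulHom_apply, lam.2 n n.2]⟩) ⟨?_, ?_⟩
  · intro a b hab
    have h1 : (fun g => (a.1 g : ℂ)) * χ.1 = (fun g => (b.1 g : ℂ)) * χ.1 :=
      congrArg (fun x => x.1.1) hab
    have h2 := gallagher_inj χ.2.isCharacter hχ (isIrrCharacter_hom a.1) (isIrrCharacter_hom b.1)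
      (fun n hn => by simp [a.2 n hn]) (fun n hn => by simp [b.2 n hn]) h1
    exact Subtype.ext (hom_coe_injective h2)
  · rintro ⟨ψ, hψ⟩
    obtain ⟨lam, h1, h2⟩ := exists_hom_mul_of_res_eq χ.2.isCharacter hχ ψ.2.isCharacter hψ
    exact ⟨⟨lam, h1⟩, Subtype.ext (Subtype.ext h2.symm)⟩

/-- No member of a block vanishes on the section of an element in the centre of a defect
group. -/
theorem exists_apply_ne_zero_of_center (hM : IsPModular p M) {B : Set (IrrCharacter G)}
    (hB : IsPBlock M B) {D : Subgroup G} (hD : IsDefectGroup p M B D) {y : G} (hy : y ∈ D)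
    (hc : ∀ x ∈ D, x * y = y * x) {χ : IrrCharacter G} (hχ : χ ∈ B) :
    ∃ s : G, ¬ p ∣ orderOf s ∧ s * y = y * s ∧ χ.1 (y * s) ≠ 0 := by
  have hyp := pElt_of_mem_isPGroup hM.1 hD.isPGroup hy
  obtain ⟨b, hi, -, hd⟩ := exists_major hM hB hD hy rfl
    fun x hx => mem_centralizer_singleton_iff.2 (hc x hx)
  have hb := ((isInducedBlock_iff hM).1 hi).1
  have h1 := (isSec_centralizer hyp).rb_ne_zero_of_major hM hb hB
    ((subset_locSet_iff_isInducedBlock hM hyp rfl hB hb).2 hi) hd hχ
  by_contra hne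
  push Not at hne
  refine h1 ?_
  rw [← rb_zero (p := p) b]
  refine rb_congr hM (isBlockUnion_of_block hM hb) fun c hc => ?_
  refine hne c ?_ (mem_centralizer_singleton_iff.1 c.2)
  rw [orderOf_coe]; exact hc

omit [Finite G] in
/-- Equality of ranks when restriction maps one set of characters onto another and all regular
elements lie in the subgroup. -/
theorem blockRank_eq_of_res {N : Subgroup G} (hN : ∀ g : G, ¬ p ∣ orderOf g → g ∈ N)
    {B : Set (IrrCharacter G)} {b : Set (IrrCharacter N)}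
    (h1 : ∀ χ ∈ B, ∃ θ ∈ b, ∀ n : N, χ.1 n = θ.1 n) (h2 : ∀ θ ∈ b, ∃ χ ∈ B, ∀ n : N, χ.1 n = θ.1 n) :
    blockRank p B = blockRank p b := by
  classical
  let E : (N → ℂ) →ₗ[ℂ] (G → ℂ) :=
    { toFun := fun f g => if h : g ∈ N then f ⟨g, h⟩ else 0
      map_add' := fun f f' => by funext g; by_cases h : g ∈ N <;> simp [h]
      map_smul' := fun c f => by funext g; by_cases h : g ∈ N <;> simp [h] }
  have hE : Function.Injective E := fun f f' h => by
    funext n
    have := congrFun h n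
    simpa [E, n.2] using this
  have key : ∀ (χ : IrrCharacter G) (θ : IrrCharacter N), (∀ n : N, χ.1 n = θ.1 n) →
      pRegularPart p χ.1 = E (pRegularPart p θ.1) := fun χ θ h => by
    funext g
    by_cases hg : IsPRegular p g
    · have hgN := hN g hg
      have hg' : IsPRegular p (⟨g, hgN⟩ : N) := by
        change ¬ p ∣ orderOf _
        rw [← orderOf_coe]; exact hg
      rw [pRegularPart_of hg]
      change _ = if h : g ∈ N then _ else _
      rw [dif_pos hgN, pRegularPart_of hg', ← h]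
    · rw [pRegularPart_of_not hg]
      change _ = if h : g ∈ N then _ else _
      split_ifs with hgN
      · refine (pRegularPart_of_not fun hg' => hg ?_).symm
        change ¬ p ∣ orderOf _ at hg' ⊢
        rwa [← orderOf_coe] at hg'
      · rfl
  have h3 : (fun χ : IrrCharacter G => pRegularPart p χ.1) '' B =
      E '' ((fun θ : IrrCharacter N => pRegularPart p θ.1) '' b) := by
    ext f
    constructor
    · rintro ⟨χ, hχ, rfl⟩
      obtain ⟨θ, hθ, h⟩ := h1 χ hχ
      exact ⟨_, ⟨θ, hθ, rfl⟩, (key χ θ h).symm⟩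
    · rintro ⟨_, ⟨θ, hθ, rfl⟩, rfl⟩
      obtain ⟨χ, hχ, h⟩ := h2 θ hθ
      exact ⟨χ, hχ, key χ θ h⟩
  rw [blockRank, blockRank, h3, Submodule.span_image]
  exact LinearEquiv.finrank_eq (Submodule.equivMapOfInjective E hE _).symm

omit [Finite G] in
theorem commutator_le_of_sup_eq_top {N P : Subgroup G} [N.Normal] (h : N ⊔ P = ⊤)
    (hP : ∀ x ∈ P, ∀ y ∈ P, x * y = y * x) : commutator G ≤ N := by
  rw [commutator_def, commutator_le]
  intro a _ b _
  have ha : a ∈ N ⊔ P := h ▸ mem_top a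
  have hb : b ∈ N ⊔ P := h ▸ mem_top b
  obtain ⟨n, hn, x, hx, rfl⟩ := mem_sup_of_normal_left.1 ha
  obtain ⟨m, hm, y, hy, rfl⟩ := mem_sup_of_normal_left.1 hb
  rw [← QuotientGroup.eq_one_iff, ← QuotientGroup.mk'_apply, map_commutatorElement, map_mul,
    map_mul, QuotientGroup.mk'_apply, QuotientGroup.mk'_apply, QuotientGroup.mk'_apply,
    QuotientGroup.mk'_apply, (QuotientGroup.eq_one_iff n).2 hn, (QuotientGroup.eq_one_iff m).2 hm,
    one_mul, one_mul, commutatorElement_eq_one_iff_mul_comm, ← QuotientGroup.mk_mul,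
    ← QuotientGroup.mk_mul, hP x hx y hy]

/-- The members of a block with abelian defect group `P` restrict irreducibly to a normal
subgroup `N` of `p`-power index with `N P = G`. -/
theorem res_irr_of_abelian_defect (hM : IsPModular p M) {B : Set (IrrCharacter G)}
    (hB : IsPBlock M B) {P : Subgroup G} (hP : IsDefectGroup p M B P)
    (hab : ∀ x ∈ P, ∀ y ∈ P, x * y = y * x) {N : Subgroup G} [N.Normal] {k : ℕ}
    (hk : N.index = p ^ k) (h : N ⊔ P = ⊤) {χ : IrrCharacter G} (hχ : χ ∈ B) :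
    IsIrrCharacter N fun n : N => χ.1 n := by
  refine res_irr_of_hom_mul_ne (commutator_le_of_sup_eq_top h hab) χ.2 fun lam h1 h2 => ?_
  have h3 : ∀ y ∈ P, lam y = 1 := fun y hy => by
    obtain ⟨s, hs, -, h0⟩ := exists_apply_ne_zero_of_center hM hB hP hy
      (fun x hx => hab x hx y hy) hχ
    have h4 := h2 (y * s)
    rw [map_mul, h1 s (mem_of_index_pow_of_not_dvd hM.1 hk hs), mul_one] at h4
    exact Units.ext (mul_left_eq_self₀.1 h4 |>.resolve_right h0)
  ext g
  have hg : g ∈ N ⊔ P := h ▸ mem_top g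
  obtain ⟨n, hn, x, hx, rfl⟩ := mem_sup_of_normal_left.1 hg
  rw [map_mul, h1 n hn, h3 x hx]; simp

end CL.Blk
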