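import Mathlib
import Cfsg.Agent.BLK.Princ2
import Cfsg.Agent.BLK.Osima
import Cfsg.Agent.BLK.Graded
import Cfsg.Agent.CHAR.Gallagher
import Cfsg.Agent.CHAR.Ext
import Cfsg.Agent.CHAR.Scalar
import Cfsg.Agent.FGS.ClassSize
import Cfsg.Agent.BLK.CoverAb
import Cfsg.Agent.SOLV.MinNormal

/-! Isomorphic principal blocks (Alperin, Dade). -/

set_option autoImplicit false
open Cfsg CL.Char MonoidAlgebra

namespace CL.Blk

variable {G : Type*} [Group G] [Finite G] {p : ℕ} {M : Ideal AlgInt} {N : Subgroup G}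

theorem omega_fixed_mul {χ : G → ℂ} (hχ : IsCharacter G χ)
    (hχN : IsIrrCharacter N fun n => χ n) {a : ℂ[G]} (ha : IsFixed N a) (b : ℂ[G]) :
    omega χ (a * b) = omega χ a * omega χ b := by
  have h1 : χ 1 ≠ 0 := hχN.one_ne_zero
  obtain ⟨n, ρ, rfl⟩ := hχ
  have := isIrreducible_of_character (ρ.comp N.subtype) hχN
  let T : Representation.IntertwiningMap (ρ.comp N.subtype) (ρ.comp N.subtype) :=
    { toLinearMap := ρ.asAlgebraHom a
      isIntertwining' := fun u => by
        have := congrArg ρ.asAlgebraHom (isFixed_iff.1 ha u u.2)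
        rw [map_mul, map_mul, Representation.asAlgebraHom_single_one] at this
        exact this.symm }
  obtain ⟨c, hc⟩ :=
    (Representation.IsIrreducible.algebraMap_intertwiningMap_bijective_of_isAlgClosed
      (ρ := ρ.comp N.subtype)).2 T
  have hc' : ρ.asAlgebraHom a = c • (1 : (Fin n → ℂ) →ₗ[ℂ] (Fin n → ℂ)) :=
    (congrArg (·.toLinearMap) hc).symm
  have key : ∀ b, charLin ρ.character (a * b) = c * charLin ρ.character b := fun b => by
    rw [charLin_character, charLin_character, map_mul, hc', smul_mul_assoc, one_mul, map_smul,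
      smul_eq_mul]
  have k1 := key 1
  rw [mul_one, charLin_one] at k1
  rw [omega_apply, omega_apply, omega_apply, key, k1]
  field_simp

theorem omega_fixed_pow {χ : G → ℂ} (hχ : IsCharacter G χ)
    (hχN : IsIrrCharacter N fun n => χ n) {a : ℂ[G]} (ha : IsFixed N a) (n : ℕ) :
    omega χ (a ^ n) = omega χ a ^ n := by
  induction n with
  | zero => rw [pow_zero, pow_zero, omega_one (show χ 1 ≠ 0 from hχN.one_ne_zero)]
  | succ n ih => rw [pow_succ', omega_fixed_mul hχ hχN ha, ih, pow_succ']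

theorem IsHomog.pow {A Γ : Type*} [CommRing A] [Group Γ] {π : G →* Γ} {γ : Γ} {a : A[G]}
    (h : IsHomog π γ a) (n : ℕ) : IsHomog π (γ ^ n) (a ^ n) := by
  induction n with
  | zero => rw [pow_zero, pow_zero]; exact isHomog_one π
  | succ n ih => rw [pow_succ, pow_succ]; exact ih.mul h

open Classical in
/-- The sum of the `N`-conjugates of `x`. -/
noncomputable def relClassSum (N : Subgroup G) (x : G) : ℂ[G] :=
  ofFun fun y => if y ∈ Set.range (fun n : N => n * x * (n : G)⁻¹) then 1 else 0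

theorem isInt_relClassSum (x : G) : IsInt M (relClassSum N x) :=
  isInt_ofFun fun y => by split_ifs; exacts [one_mem _, zero_mem _]

theorem isFixed_relClassSum (x : G) : IsFixed N (relClassSum N x) := fun u hu y => by
  classical
  simp only [relClassSum, coeff_ofFun]
  refine if_congr ⟨?_, ?_⟩ rfl rfl
  · rintro ⟨n, hn⟩
    exact ⟨⟨u, hu⟩⁻¹ * n, by
      change u⁻¹ * n * x * (u⁻¹ * n)⁻¹ = y
      rw [show y = u⁻¹ * (u * y * u⁻¹) * u by group, ← hn]; group⟩
  · rintro ⟨n, rfl⟩
    exact ⟨⟨u, hu⟩ * n, by simp [mul_assoc]⟩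

theorem isHomog_relClassSum [hN : N.Normal] (x : G) :
    IsHomog (QuotientGroup.mk' N) (x : G ⧸ N) (relClassSum N x) := fun y hy => by
  simp only [relClassSum, coeff_ofFun]
  refine if_neg ?_
  rintro ⟨n, rfl⟩
  simp [(QuotientGroup.eq_one_iff (n : G)).2 n.2] at hy

theorem omega_relClassSum {χ : G → ℂ} (hχ : IsClassFunction G χ) (x : G) :
    omega χ (relClassSum N x) =
      ((Subgroup.centralizer ({x} : Set G)).relIndex N : ℂ) * (χ x / χ 1) := by
  rw [omega_of_indicator χ (Set.range (fun n : N => n * x * (n : G)⁻¹))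
    (fun g hg => by simp only [relClassSum, coeff_ofFun, if_pos hg])
    (fun g hg => by simp only [relClassSum, coeff_ofFun, if_neg hg]),
    finsum_mem_congr rfl (g := fun _ => χ x / χ 1) (by rintro _ ⟨n, rfl⟩; rw [hχ x n]),
    finsum_mem_eq_finite_toFinset_sum _ (Set.toFinite _), Finset.sum_const,
    ← Set.ncard_eq_toFinset_card, CL.CS.ncard_conj_subgroup, nsmul_eq_mul]

/-- The central character attached to `χ` on the centraliser of `N` reduces to the
augmentation. -/
def AugLike (M : Ideal AlgInt) (N : Subgroup G) (χ : G → ℂ) : Prop :=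
  ∀ a : ℂ[G], IsInt M a → IsFixed N a → omega χ a - omega (fun _ => 1) a ∈ (V M).nonunits

theorem omega_one_fun_mem {a : ℂ[G]} (ha : IsInt M a) : omega (fun _ : G => (1 : ℂ)) a ∈ V M := by
  rw [omega_apply, div_one]
  exact charLin_mem_V (fun _ => one_mem _) ha

variable [hN : N.Normal]

theorem omega_homog_one (hM : IsPModular p M) {χ : G → ℂ} {θ : IrrCharacter N}
    (hθ : θ ∈ principalBlock M N) (hext : ∀ n : N, χ n = θ.1 n) {a : ℂ[G]} (ha : IsInt M a)
    (hf : IsFixed N a) (hh : IsHomog (QuotientGroup.mk' N) 1 a) :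
    omega χ a ∈ V M ∧ red M (omega χ a) = red M (omega (fun _ => 1) a) := by
  have hc := hf.isCentral_res N.subtype fun h => h.2
  have h1 := omega_mem_V θ hc (ha.res _)
  have h2 := omega_mem_V (irrOne N) hc (ha.res _)
  rw [← hh.part_eq, part_one_eq_amb_res, omega_amb, omega_amb,
    show (fun n => χ (N.subtype n)) = θ.1 from funext hext]
  exact ⟨h1, ((red_eq_red_iff h2 h1).2
    (omega_sub_mem_nonunits hM (mem_principalBlock_iff.1 hθ) hc (ha.res _))).symm⟩

/-- Every coset of `N` contains an element whose `N`-class has length prime to `p`. -/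
def CosetCov (p : ℕ) (N : Subgroup G) : Prop :=
  ∀ g : G, ∃ x : G, (x : G ⧸ N) = g ∧ ¬ p ∣ (Subgroup.centralizer ({x} : Set G)).relIndex N

theorem exists_augLike (hM : IsPModular p M) (hcov : CosetCov p N)
    {χ : G → ℂ} (hχ : IsCharacter G χ) {θ : IrrCharacter N} (hθ : θ ∈ principalBlock M N)
    (hext : ∀ n : N, χ n = θ.1 n) : ∃ lam : G →* ℂˣ, (∀ n ∈ N, lam n = 1) ∧
      AugLike M N fun g => lam g * χ g := by
  classical
  have hχN : IsIrrCharacter N fun n => χ n := by
    rw [show (fun n : N => χ n) = θ.1 from funext hext]; exact θ.2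
  choose x hx hxp using hcov
  have hV : ∀ {γ} {a : ℂ[G]}, IsInt M a → IsFixed N a → IsHomog (QuotientGroup.mk' N) γ a →
      omega χ a ∈ V M := fun {γ a} ha hf hh => by
    refine mem_V_of_pow (Nat.card_pos (α := G ⧸ N)).ne' ?_
    rw [← omega_fixed_pow hχ hχN hf]
    exact (omega_homog_one hM hθ hext (ha.pow _) (hf.pow _)
      (pow_card_eq_one' (x := γ) ▸ hh.pow _)).1
  set R : ℂ[G] → F M := fun a => red M (omega χ a) with hR
  set A : ℂ[G] → F M := fun a => red M (omega (fun _ => 1) a) with hA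
  have hRm : ∀ {γ δ} {a b : ℂ[G]}, IsInt M a → IsFixed N a → IsHomog (QuotientGroup.mk' N) γ a →
      IsInt M b → IsFixed N b → IsHomog (QuotientGroup.mk' N) δ b → R (a * b) = R a * R b :=
    fun ha hf hh hb hf' hh' => by
      simp only [hR]; rw [omega_fixed_mul hχ hχN hf, red_mul (hV ha hf hh) (hV hb hf' hh')]
  have hAm : ∀ {a b : ℂ[G]}, IsInt M a → IsFixed N a → IsInt M b → A (a * b) = A a * A b :=
    fun ha hf hb => by
      simp only [hA]
      rw [omega_fixed_mul isCharacter_one isIrrCharacter_one hf,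
        red_mul (omega_one_fun_mem ha) (omega_one_fun_mem hb)]
  set u : G → ℂ[G] := fun g => relClassSum N (x g) with hu
  have ui : ∀ g, IsInt M (u g) := fun g => isInt_relClassSum _
  have uf : ∀ g, IsFixed N (u g) := fun g => isFixed_relClassSum _
  have uh : ∀ g : G, IsHomog (QuotientGroup.mk' N) (g : G ⧸ N) (u g) := fun g =>
    hx g ▸ isHomog_relClassSum _
  have uA : ∀ g, A (u g) ≠ 0 := fun g => by
    simp only [hA, hu]
    rw [omega_relClassSum (fun _ _ => rfl), div_one, mul_one]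
    exact mt (red_natCast_eq_zero_iff hM _).1 (hxp g)
  have h1 : ∀ (g : G) {a : ℂ[G]}, IsInt M a → IsFixed N a →
      IsHomog (QuotientGroup.mk' N) (g : G ⧸ N) a → R a * R (u g⁻¹) = A a * A (u g⁻¹) :=
    fun g a ha hf hh => by
      rw [← hRm ha hf hh (ui _) (uf _) (uh _), ← hAm ha hf (ui _)]
      exact (omega_homog_one hM hθ hext (ha.mul (ui _)) (hf.mul (uf _))
        (by simpa using hh.mul (uh g⁻¹))).2
  have key : ∀ (g : G) {a : ℂ[G]}, IsInt M a → IsFixed N a →
      IsHomog (QuotientGroup.mk' N) (g : G ⧸ N) a → R a = R (u g) / A (u g) * A a :=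
    fun g a ha hf hh => by
      have e1 := h1 g ha hf hh
      have e2 := h1 g (ui g) (uf g) (uh g)
      have e3 : R (u g⁻¹) ≠ 0 := fun h => mul_ne_zero (uA g) (uA g⁻¹) (by rw [← e2, h, mul_zero])
      rw [div_mul_eq_mul_div, eq_div_iff (uA g)]
      exact mul_right_cancel₀ e3 (by linear_combination A (u g) * e1 - A a * e2)
  have cN : ∀ n ∈ N, R (u n) / A (u n) = 1 := fun n hn => (div_eq_one_iff_eq (uA n)).2
    (omega_homog_one hM hθ hext (ui n) (uf n) ((QuotientGroup.eq_one_iff n).2 hn ▸ uh n)).2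
  let c : G →* F M :=
    { toFun := fun g => R (u g) / A (u g)
      map_one' := cN 1 N.one_mem
      map_mul' := fun g h => by
        have e := key (g * h) ((ui g).mul (ui h)) ((uf g).mul (uf h)) ((uh g).mul (uh h))
        rw [hRm (ui g) (uf g) (uh g) (ui h) (uf h) (uh h), hAm (ui g) (uf g) (ui h)] at e
        rw [div_mul_div_comm, e, mul_div_cancel_right₀ _ (mul_ne_zero (uA g) (uA h))] }
  have := charP_F hM
  have := Fact.mk hM.1
  have hm := Nat.not_dvd_ordCompl hM.1 (Nat.card_pos (α := G)).ne'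
  have hm0 : ordCompl[p] (Nat.card G) ≠ 0 := fun h => hm (h ▸ dvd_zero p)
  have hc : ∀ g, c g ^ ordCompl[p] (Nat.card G) = 1 := fun g => by
    refine sub_eq_zero.1 ((pow_eq_zero_iff (pow_ne_zero ((Nat.card G).factorization p)
      hM.1.ne_zero)).1 ?_)
    rw [sub_pow_char_pow, one_pow, ← pow_mul, mul_comm, Nat.ordProj_mul_ordCompl_eq_self,
      ← map_pow, pow_card_eq_one', map_one, sub_self]
  choose ε hε hεc using fun g => exists_pow_eq_one_red_eq hm0 (hc g)
  have εV : ∀ g, ε g ∈ V M := fun g => mem_V_of_pow_eq_one hm0 (hε g)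
  let e : G →* ℂ :=
    { toFun := ε
      map_one' := eq_one_of_red_eq_one hM hm (hε 1) (by rw [hεc, map_one])
      map_mul' := fun g h => eq_of_red_eq_of_pow_eq_one hM hm hm (hε _)
        (by rw [mul_pow, hε, hε, one_mul]) (by
          rw [red_mul (εV g) (εV h), hεc, hεc, hεc, map_mul]) }
  have eN : ∀ n ∈ N, e.toHomUnits⁻¹ n = 1 := fun n hn => by
    rw [MonoidHom.inv_apply, inv_eq_one]
    exact Units.ext (eq_one_of_red_eq_one hM hm (hε n) ((hεc n).trans (cN n hn)))
  refine ⟨e.toHomUnits⁻¹, eN, fun a ha hf => ?_⟩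
  have := Fintype.ofFinite (G ⧸ N)
  have := Fintype.ofFinite G
  rw [← sum_part (QuotientGroup.mk' N) a, map_sum, map_sum, ← Finset.sum_sub_distrib]
  refine sum_mem fun γ _ => ?_
  obtain ⟨g, rfl⟩ := QuotientGroup.mk_surjective γ
  have ha' : IsInt M (part (QuotientGroup.mk' N) (g : G ⧸ N) a) := ha.trunc _
  have hf' := hf.part (π := QuotientGroup.mk' N) (QuotientGroup.ker_mk' N).ge (g : G ⧸ N)
  have hh := isHomog_part (QuotientGroup.mk' N) (g : G ⧸ N) a
  generalize part (QuotientGroup.mk' N) (g : G ⧸ N) a = b at ha' hf' hh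
  have e1 : omega (fun g => (e.toHomUnits⁻¹ g : ℂˣ) * χ g) b = ε g⁻¹ * omega χ b := by
    rw [omega_apply_sum, omega_apply_sum, Finset.mul_sum]
    refine Finset.sum_congr rfl fun y _ => ?_
    by_cases hy : (y : G ⧸ N) = g
    · have := eN _ (QuotientGroup.eq.1 hy.symm)
      rw [map_mul, mul_eq_one_iff_inv_eq, ← map_inv, inv_inv] at this
      rw [← this, map_one, MonoidHom.inv_apply, ← map_inv, MonoidHom.coe_toHomUnits]
      simp only [Units.val_one, one_mul]
      change _ * (ε g⁻¹ * _) / _ = _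
      ring
    · simp [hh y hy]
  rw [e1, ← red_eq_red_iff (mul_mem (εV _) (hV ha' hf' hh)) (omega_one_fun_mem ha'),
    red_mul (εV _) (hV ha' hf' hh), hεc]
  change _ * R b = A b
  rw [key g ha' hf' hh, ← mul_assoc]
  change c g⁻¹ * c g * _ = _
  rw [← map_mul, inv_mul_cancel, map_one, one_mul]

omit [Finite G] hN in
theorem AugLike.comp_mem_principal (hM : IsPModular p M) {χ : G → ℂ} (h : AugLike M N χ)
    {J : Type*} [Group J] [Finite J] {f : J →* G} (hf : Function.Injective f) (hN : N ≤ f.range)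
    {ξ : IrrCharacter J} (hξ : ∀ y, ξ.1 y = χ (f y)) : ξ ∈ principalBlock M J := by
  refine (mem_principal_iff_centralChar hM).2 fun g => ?_
  have := h _ ((isInt_classSum g).amb f) (((isCentral_classSum g).isFixed_amb hf).mono hN)
  rwa [omega_amb, omega_amb, ← funext hξ, omega_classSum ξ.2.isClassFunction,
    omega_classSum (fun _ _ => rfl), centralChar_one_fun] at this

/-- An extendible character of the principal block has an extension all of whose restrictions lie
in principal blocks. -/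
theorem exists_ext_principal (hM : IsPModular p M) (hcov : CosetCov p N)
    {χ : G → ℂ} (hχ : IsCharacter G χ) {θ : IrrCharacter N} (hθ : θ ∈ principalBlock M N)
    (hext : ∀ n : N, χ n = θ.1 n) : ∃ η ∈ principalBlock M G, (∀ n : N, η.1 n = θ.1 n) ∧
      ∀ J : Subgroup G, N ≤ J → ∃ ξ ∈ principalBlock M J, ∀ y : J, ξ.1 y = η.1 y := by
  obtain ⟨lam, hlam, h⟩ := exists_augLike hM hcov hχ hθ hext
  have e : ∀ n : N, (lam n : ℂ) * χ n = θ.1 n := fun n => by
    rw [hlam n n.2, Units.val_one, one_mul, hext]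
  have h1 : IsIrrCharacter N fun n : N => (lam n : ℂ) * χ n := by
    rw [funext e]; exact θ.2
  have h2 := (isIrrCharacter_hom lam).isCharacter.mul hχ
  exact ⟨⟨_, h2.irr_of_res N h1⟩, h.comp_mem_principal hM (f := MonoidHom.id G)
    Function.injective_id (fun x _ => ⟨x, rfl⟩) fun _ => rfl, e, fun J hJ =>
    ⟨⟨_, (h2.res J).irr_of_res _ (res_subgroupOf_irr hJ h1)⟩,
      h.comp_mem_principal hM J.subtype_injective (by simpa using hJ) fun _ => rfl, fun _ => rfl⟩⟩

omit [Finite G] hN in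
theorem not_dvd_relIndex_of_le (hp : p.Prime) {C K : Subgroup G} (hK : N ≤ K)
    (h : ¬ p ∣ C.relIndex N) (h' : ¬ p ∣ N.relIndex K) : ¬ p ∣ C.relIndex K := fun h0 => by
  have := h0.trans (Subgroup.relIndex_dvd_of_le_left K (inf_le_left : C ⊓ N ≤ C))
  rw [← Subgroup.relIndex_mul_relIndex _ N K inf_le_right hK, Subgroup.inf_relIndex_right] at this
  exact (hp.dvd_mul.1 this).elim h h'

omit [Finite G] hN in
theorem CosetCov.mono (hp : p.Prime) (h : CosetCov p N) {K : Subgroup G} (hK : N ≤ K)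
    (h' : ¬ p ∣ N.relIndex K) : CosetCov p K := fun g =>
  let ⟨x, hx, hxp⟩ := h g
  ⟨x, QuotientGroup.eq.2 (hK (QuotientGroup.eq.1 hx)), not_dvd_relIndex_of_le hp hK hxp h'⟩

omit [Finite G] hN in
theorem CosetCov.subgroupOf (h : CosetCov p N) {J : Subgroup G} (hJ : N ≤ J) :
    CosetCov p (N.subgroupOf J) := fun g => by
  obtain ⟨x, hx, hxp⟩ := h g
  have hx' := QuotientGroup.eq.1 hx
  have hxJ : x ∈ J := by simpa using J.mul_mem g.2 (J.inv_mem (hJ hx'))
  refine ⟨⟨x, hxJ⟩, QuotientGroup.eq.2 hx', ?_⟩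
  rwa [show Subgroup.centralizer ({⟨x, hxJ⟩} : Set J) =
    (Subgroup.centralizer {x}).subgroupOf J from Subgroup.ext fun y => by
      simp [Subgroup.mem_subgroupOf, Subgroup.mem_centralizer_singleton_iff, Subtype.ext_iff],
    Subgroup.relIndex_subgroupOf hJ]

omit [Finite G] hN in
theorem CosetCov.exists_index (hp : p.Prime) (h : CosetCov p N) (hi : ¬ p ∣ N.index) (g : G) :
    ∃ x : G, (x : G ⧸ N) = g ∧ ¬ p ∣ (Subgroup.centralizer ({x} : Set G)).index :=
  let ⟨x, hx, hxp⟩ := h g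
  ⟨x, hx, by simpa using not_dvd_relIndex_of_le hp le_top hxp (by simpa using hi)⟩

omit [Finite G] in
theorem cosetCov_of_sup_centralizer {Q : Subgroup G}
    (hp : ¬ p ∣ Q.relIndex N) (h : N ⊔ Subgroup.centralizer (Q : Set G) = ⊤) : CosetCov p N :=
  fun g => by
    have hg : g ∈ Subgroup.centralizer (Q : Set G) ⊔ N := by rw [sup_comm, h]; trivial
    obtain ⟨x, hx, n, hn, rfl⟩ := Subgroup.mem_sup_of_normal_right.1 hg
    exact ⟨x, QuotientGroup.eq.2 (by simpa using hn), fun h0 => hp (h0.trans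
      (Subgroup.relIndex_dvd_of_le_left N fun y hy =>
        Subgroup.mem_centralizer_singleton_iff.2 (hx y hy)))⟩

omit hN in
theorem subOf_mem_principal (hM : IsPModular p M) {J : Subgroup G} (hJ : N ≤ J)
    {θ : IrrCharacter N} (hθ : θ ∈ principalBlock M N) :
    (⟨_, θ.2.subOf hJ⟩ : IrrCharacter (N.subgroupOf J)) ∈ principalBlock M (N.subgroupOf J) :=
  (irrCongr_mem_principal_iff hM (Subgroup.subgroupOfEquivOfLe hJ) θ).2 hθ

theorem inertia_eq_top_of_commutator_le (hM : IsPModular p M) (hcov : CosetCov p N)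
    (hi : ¬ p ∣ N.index) (hc : commutator G ≤ N) {θ : IrrCharacter N}
    (hθ : θ ∈ principalBlock M N) : inertia N θ.1 = ⊤ := by
  have := Fintype.ofFinite G
  have := Fintype.ofFinite N
  have hT := le_inertia θ.2.isClassFunction
  have := Subgroup.Normal.of_commutator_le G (hc.trans hT)
  obtain ⟨χ, hχ, h⟩ := exists_principal_over hM N hθ
  obtain ⟨ψ, -, e, -⟩ := clifford_ind_surj hT θ.2 le_rfl χ.2 h
  refine (Subgroup.eq_top_iff' _).2 fun g => ?_
  obtain ⟨x, hx, hxp⟩ := hcov.exists_index hM.1 hi g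
  have hxT : x ∈ inertia N θ.1 := by_contra fun hxT =>
    principal_apply_ne_zero' hM hχ hxp (e ▸ indFun_eq_zero_of_normal _ ψ hxT)
  simpa using Subgroup.mul_mem _ hxT (hT (QuotientGroup.eq.1 hx))

theorem inertia_eq_top_of_principal (hM : IsPModular p M) (hcov : CosetCov p N)
    (hi : ¬ p ∣ N.index) {θ : IrrCharacter N} (hθ : θ ∈ principalBlock M N) :
    inertia N θ.1 = ⊤ := by
  refine (Subgroup.eq_top_iff' _).2 fun g => ?_
  have hJ : N ≤ N ⊔ Subgroup.zpowers g := le_sup_left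
  have h := inertia_eq_top_of_commutator_le hM (hcov.subgroupOf hJ)
    (fun h => hi (h.trans (Subgroup.relIndex_dvd_index_of_le hJ)))
    (commutator_le_of_sup_eq_top (P := (Subgroup.zpowers g).subgroupOf _)
      (by rw [← Subgroup.subgroupOf_sup le_sup_left le_sup_right, Subgroup.subgroupOf_self])
      (by
        rintro ⟨_, _⟩ ⟨i, rfl⟩ ⟨_, _⟩ ⟨j, rfl⟩
        exact Subtype.ext (zpow_mul_comm g i j))) (subOf_mem_principal hM hJ hθ)
  rw [inertia_subOf hJ, Subgroup.subgroupOf_eq_top] at h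
  exact h (Subgroup.mem_sup_right (Subgroup.mem_zpowers g))

universe u in
theorem exists_ext_of_index_pow (hM : IsPModular p M) {q : ℕ} (hq : q.Prime) (c : ℕ) :
    ∀ (G : Type u) [Group G] [Finite G] (N : Subgroup G) [N.Normal], N.index = q ^ c →
      ¬ p ∣ N.index → CosetCov p N → ∀ θ ∈ principalBlock M N,
      ∃ η ∈ principalBlock M G, ∀ n : N, η.1 n = θ.1 n := by
  induction c with
  | zero =>
    intro G _ _ N _ hc hi hcov θ hθ
    have : Subsingleton (G ⧸ N) := (Nat.card_eq_one_iff_unique.1 hc).1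
    obtain ⟨χ, hχ, e⟩ := exists_ext_of_isCyclic N inferInstance θ.2
      (inertia_eq_top_iff.1 (inertia_eq_top_of_principal hM hcov hi hθ))
    obtain ⟨η, h1, h2, -⟩ := exists_ext_principal hM hcov hχ.isCharacter hθ e
    exact ⟨η, h1, h2⟩
  | succ c ih =>
    intro G _ _ N _ hc hi hcov θ hθ
    have := Fact.mk hq
    have := (IsPGroup.of_card hc : IsPGroup q (G ⧸ N)).isNilpotent
    have : Nontrivial (G ⧸ N) := Finite.one_lt_card_iff_nontrivial.1
      (hc.symm ▸ Nat.one_lt_pow c.succ_ne_zero hq.one_lt : 1 < N.index)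
    obtain ⟨K', hK', hK'p⟩ := exists_normal_index_prime (G ⧸ N)
    set K := K'.comap (QuotientGroup.mk' N) with hK
    have hNK : N ≤ K := QuotientGroup.le_comap_mk' N K'
    have hKi : K.index = K'.index :=
      K'.index_comap_of_surjective (QuotientGroup.mk'_surjective N)
    have hKq : K.index = q := (Nat.prime_dvd_prime_iff_eq (hKi ▸ hK'p) hq).1
      ((hKi ▸ hK'p).dvd_of_dvd_pow (hc ▸ Subgroup.index_dvd_of_le hNK))
    have hrel := Subgroup.relIndex_mul_index hNK
    have hi' : ¬ p ∣ N.relIndex K := fun h => hi (h.trans (Subgroup.relIndex_dvd_index_of_le hNK))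
    obtain ⟨η, hη, e⟩ := ih K (N.subgroupOf K) (Nat.eq_of_mul_eq_mul_right hq.pos
      (by rw [← pow_succ, ← hc, ← hrel, hKq]; rfl)) hi' (hcov.subgroupOf hNK) _
      (subOf_mem_principal hM hNK hθ)
    obtain ⟨χ, hχ, e'⟩ := exists_ext_of_isCyclic K (isCyclic_of_prime_card (p := q) hKq) η.2
      (inertia_eq_top_iff.1 (inertia_eq_top_of_principal hM (hcov.mono hM.1 hNK hi')
        (fun h => hi (h.trans (Subgroup.index_dvd_of_le hNK))) hη))
    obtain ⟨η, h1, h2, -⟩ := exists_ext_principal hM hcov hχ.isCharacter hθ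
      fun n => (e' ⟨n, hNK n.2⟩).trans (e ⟨⟨n, hNK n.2⟩, n.2⟩)
    exact ⟨η, h1, h2⟩

/-- A subgroup `J` such that `J / N` is a Sylow `q`-subgroup of `G / N`. -/
theorem exists_sylow_over (N : Subgroup G) [N.Normal] {q : ℕ} (hq : q.Prime) :
    ∃ J : Subgroup G, N ≤ J ∧ J.index.Coprime q ∧ ∃ c, N.relIndex J = q ^ c := by
  have := Fact.mk hq
  obtain ⟨S⟩ : Nonempty (Sylow q G) := inferInstance
  obtain ⟨k, hk⟩ := IsPGroup.iff_card.1 S.2
  obtain ⟨c, -, hc⟩ := (Nat.dvd_prime_pow hq).1 (hk ▸ N.relIndex_dvd_card S)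
  exact ⟨S ⊔ N, le_sup_right, ((Nat.coprime_comm.1 (hq.coprime_iff_not_dvd.2
    S.not_dvd_index)).coprime_dvd_left (Subgroup.index_dvd_of_le le_sup_left)), c,
    by rw [Subgroup.relIndex_sup_right, hc]⟩

theorem exists_ext_of_not_dvd_index (hM : IsPModular p M) (hcov : CosetCov p N)
    (hi : ¬ p ∣ N.index) {θ : IrrCharacter N} (hθ : θ ∈ principalBlock M N) :
    ∃ η ∈ principalBlock M G, ∀ n : N, η.1 n = θ.1 n := by
  obtain ⟨χ, hχ, e⟩ := exists_ext_of_sylow N θ.2
    (inertia_eq_top_iff.1 (inertia_eq_top_of_principal hM hcov hi hθ)) fun q hq => by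
      obtain ⟨J, hJ, h1, c, hc⟩ := exists_sylow_over N hq
      obtain ⟨η, -, e⟩ := exists_ext_of_index_pow hM hq c J (N.subgroupOf J) hc
        (fun h => hi (h.trans (Subgroup.relIndex_dvd_index_of_le hJ))) (hcov.subgroupOf hJ) _
        (subOf_mem_principal hM hJ hθ)
      exact ⟨J, hJ, η.1, h1, η.2, fun n => e ⟨⟨n, hJ n.2⟩, n.2⟩⟩
  obtain ⟨η, h1, h2, -⟩ := exists_ext_principal hM hcov hχ.isCharacter hθ e
  exact ⟨η, h1, h2⟩

theorem eq_of_principal_of_ext (hM : IsPModular p M) (hcov : CosetCov p N)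
    (hi : ¬ p ∣ N.index) [Fintype N] {χ η : IrrCharacter G} (hχ : χ ∈ principalBlock M G)
    (hη : η ∈ principalBlock M G) (hirr : IsIrrCharacter N fun n => η.1 n)
    (h : classInner (fun n : N => χ.1 n) (fun n => η.1 n) ≠ 0) : χ = η := by
  obtain ⟨β, hβ, hβN, e⟩ := gallagher_surj η.2.isCharacter hirr χ.2 h
  obtain ⟨γ, hγ, rfl⟩ := hβ.exists_quot N hβN
  have := Fintype.ofFinite (G ⧸ N)
  have h1 : γ = fun _ => 1 := by_contra fun h1 => by
    have h2 : ∑ σ, (γ σ / γ 1 - 1) ∈ (V M).nonunits := sum_mem fun σ _ => by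
      obtain ⟨g, rfl⟩ := QuotientGroup.mk_surjective σ
      obtain ⟨x, hx, hxp⟩ := hcov.exists_index hM.1 hi g
      have h3 := principal_apply_div_sub_one hM hχ hxp
      have h4 := principal_apply_div_sub_one hM hη hxp
      rw [← e, Pi.mul_apply, Pi.mul_apply, hx, mul_div_mul_comm] at h3
      refine mem_nonunits_of_mul_unit (u := η.1 x / η.1 1)
        (fun h5 => one_notMem_nonunits (by simpa using sub_mem h5 h4)) ?_
      convert sub_mem h3 h4 using 1
      simp only [QuotientGroup.mk_one]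
      ring
    rw [Finset.sum_sub_distrib, ← Finset.sum_div, hγ.sum_eq_zero h1, zero_div, zero_sub,
      neg_mem_iff, Finset.sum_const, nsmul_one, Finset.card_univ, Fintype.card_eq_nat_card,
      natCast_mem_nonunits_iff hM] at h2
    exact hi h2
  exact Subtype.ext (by rw [← e, h1]; exact one_mul _)

end CL.Blk
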