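import Cfsg.Agent.BLK.GAbove
import Cfsg.Agent.BLK.BlockOrth

/-! The commutator bicharacter of an invariant irreducible character of a normal subgroup, and
Gallagher's count of the irreducible characters lying over it. -/

set_option autoImplicit false
open Cfsg Subgroup
open scoped ComplexConjugate commutatorElement

namespace CL.OW
open CL.Char CL.Glb

theorem schur_sum {K H : Type*} [Group K] [Group H] [Fintype K] (ι : K →* H) {η : H → ℂ}
    (hη : IsCharacter H η) (hirr : IsIrrCharacter K fun k => η (ι k)) (g h : H) :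
    η 1 * ∑ k, η (g * (ι k * h * (ι k)⁻¹)) = Nat.card K * η g * η h := by
  obtain ⟨n, ρ, rfl⟩ := hη
  have : Representation.IsIrreducible (ρ.comp ι) := isIrreducible_of_character _ hirr
  have h1 := congrArg (fun f => LinearMap.trace ℂ _ (ρ g * f)) (sum_conj_eq_smul (ρ.comp ι) (ρ h))
  have h2 := rep_finrank_ne_zero (ρ.comp ι)
  simp only [Finset.mul_sum, map_sum, MonoidHom.comp_apply, ← map_mul, map_inv, mul_smul_comm,
    mul_one, map_smul, smul_eq_mul] at h1
  have h3 : ρ.character 1 = Module.finrank ℂ (Fin n → ℂ) := ρ.char_one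
  rw [h3]
  simp only [Representation.character, h1]
  field_simp

variable {Γ : Type*} [Group Γ]

theorem ext0_cj {K : Subgroup Γ} {θ : K → ℂ} {y : Γ} (hy : y ∈ stab K θ) (g : Γ) :
    extendByZero K θ (y * g * y⁻¹) = extendByZero K θ g := by
  by_cases hg : g ∈ K
  · rw [extendByZero_of_mem K θ hg, extendByZero_of_mem K θ (conj_mem_of_norm hy.1 hg)]
    exact hy.2 ⟨g, hg⟩ _ rfl
  · rw [extendByZero_of_not_mem K θ hg, extendByZero_of_not_mem K θ
      fun h => hg ((mem_normalizer_iff.mp hy.1 g).mpr h)]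

theorem sum_cj {K : Subgroup Γ} [Fintype K] {y : Γ} (hy : y ∈ normalizer (K : Set Γ))
    (F : Γ → ℂ) : ∑ k : K, F (y * k * y⁻¹) = ∑ k : K, F k :=
  Equiv.sum_comp (cjE K hy).toEquiv fun k => F k

theorem sum_mul_mem {K : Subgroup Γ} [Fintype K] {a : Γ} (ha : a ∈ K) (F : Γ → ℂ) :
    ∑ k : K, F (k * a) = ∑ k : K, F k :=
  Equiv.sum_comp (Equiv.mulRight (⟨a, ha⟩ : K)) fun k => F k

/-- The commutator bicharacter of `θ`. -/
noncomputable def bi (K : Subgroup Γ) [Fintype K] (θ : K → ℂ) (x y : Γ) : ℂ :=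
  θ 1 / (Nat.card K : ℂ) ^ 2 * ∑ k : K, ∑ k' : K, extendByZero K θ ⁅k * x, k' * y⁆

/-- The values on the coset `K x` of an extension of `θ`. -/
structure Ext (K : Subgroup Γ) [Fintype K] (θ : K → ℂ) (x : Γ) (f : Γ → ℂ) : Prop where
  schur : ∀ a ∈ K, ∀ b ∈ K, θ 1 * ∑ k : K, extendByZero K θ (a * x * (k * (b * x)⁻¹ * k⁻¹)) =
    Nat.card K * f (a * x) * conj (f (b * x))
  norm : ∑ k : K, f (k * x) * conj (f (k * x)) = Nat.card K
  cls : ∀ a ∈ K, f (x * (a * x) * x⁻¹) = f (a * x)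

variable {K : Subgroup Γ} [Fintype K] {θ : K → ℂ} {x y z : Γ} {f : Γ → ℂ}

theorem ext_of_char [Finite Γ] {H : Subgroup Γ} (h : K ≤ H) (hH : H ≤ normalizer (K : Set Γ))
    {η : H → ℂ} (hη : IsCharacter H η) (hθ : IsIrrCharacter K θ)
    (hres : ∀ k, η (inclusion h k) = θ k) (hx : x ∈ H) : Ext K θ x (extendByZero H η) := by
  obtain rfl : (fun k => η (inclusion h k)) = θ := funext hres
  have := inclusion_range_normal h hH
  refine ⟨fun a ha b hb => ?_, ?_, fun a ha => extendByZero_conj_mem H hη.isClassFunction hx _⟩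
  · have h1 := schur_sum (inclusion h) hη hθ ⟨a * x, mul_mem (h ha) hx⟩
      ⟨b * x, mul_mem (h hb) hx⟩⁻¹
    rw [hη.apply_inv] at h1
    rw [extendByZero_of_mem H η (mul_mem (h ha) hx), extendByZero_of_mem H η (mul_mem (h hb) hx),
      ← h1, map_one]
    congr 1
    refine Finset.sum_congr rfl fun k _ => ?_
    have h2 : a * x * (k * (b * x)⁻¹ * (k : Γ)⁻¹) ∈ K := by
      have := mul_mem (mul_mem ha (conj_mem_of_norm (hH hx) k.2)) (mul_mem (inv_mem hb)
        (inv_mem k.2))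
      convert this using 1
      group
    exact extendByZero_of_mem K _ h2
  · have h1 := tw_self (inclusion_injective h) hη hθ ⟨x, hx⟩
    rw [tw, classInner, inv_mul_eq_one₀ (card_ne_zero K)] at h1
    rw [h1]
    exact Finset.sum_congr rfl fun k _ => by
      rw [extendByZero_of_mem H η (mul_mem (h k.2) hx)]; rfl

omit [Fintype K] in
theorem exists_ext_char [Finite Γ] (hθ : IsIrrCharacter K θ) (hx : x ∈ stab K θ) :
    ∃ η : (K ⊔ zpowers x : Subgroup Γ) → ℂ, IsIrrCharacter _ η ∧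
      ∀ k, η (inclusion le_sup_left k) = θ k := by
  have hle : K ⊔ zpowers x ≤ stab K θ :=
    sup_le (le_stab_self K hθ.isClassFunction) (by rwa [zpowers_le])
  have := inclusion_range_normal (le_sup_left : K ≤ K ⊔ zpowers x) fun _ h => (hle h).1
  let e := MonoidHom.ofInjective (inclusion_injective (le_sup_left : K ≤ K ⊔ zpowers x))
  obtain ⟨η, hη, h⟩ := exists_ext_of_isCyclic _ (gen_inclusion hx.1).isCyclic
    (hθ.comp_mulEquiv e.symm) fun g n => by
      obtain ⟨n, rfl⟩ := e.surjective n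
      rw [e.symm_apply_apply]
      refine (hle g.2).2 _ _ ?_
      exact congrArg (fun a : (inclusion (le_sup_left : K ≤ K ⊔ zpowers x)).range => (a : Γ))
        (e.apply_symm_apply _)
  exact ⟨η, hη, fun k => (h (e k)).trans (by rw [e.symm_apply_apply])⟩

theorem exists_ext [Finite Γ] (hθ : IsIrrCharacter K θ) (hx : x ∈ stab K θ) :
    ∃ f, Ext K θ x f := by
  obtain ⟨η, hη, h⟩ := exists_ext_char hθ hx
  exact ⟨_, ext_of_char le_sup_left (sup_le le_normalizer (zpowers_le.2 hx.1)) hη.isCharacter hθ h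
    (mem_sup_right (mem_zpowers x))⟩

omit [Fintype K] in
theorem exists_conj_coset (hy : y ∈ normalizer (K : Set Γ)) (hxy : ⁅x, y⁆ ∈ K) {a : Γ}
    (ha : a ∈ K) : ∃ b ∈ K, y * (a * x) * y⁻¹ = b * x :=
  ⟨y * a * y⁻¹ * ⁅x, y⁆⁻¹, mul_mem (conj_mem_of_norm hy ha) (inv_mem hxy), by
    rw [commutatorElement_def]; group⟩

theorem Ext.bi_eq (hf : Ext K θ x f) (hy : y ∈ normalizer (K : Set Γ)) (hxy : ⁅x, y⁆ ∈ K) :
    Nat.card K * bi K θ x y = ∑ k : K, f (k * x) * conj (f (y * (k * x) * y⁻¹)) := by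
  have h1 : ∀ a : K, θ 1 * ∑ k : K, extendByZero K θ ⁅a * x, k * y⁆ =
      Nat.card K * (f (a * x) * conj (f (y * (a * x) * y⁻¹))) := fun a => by
    obtain ⟨b, hb, h⟩ := exists_conj_coset hy hxy a.2
    rw [h, ← mul_assoc, ← hf.schur a a.2 b hb, ← h]
    congr 1
    refine Finset.sum_congr rfl fun k _ => congrArg _ ?_
    rw [commutatorElement_def, coe_inv]; group
  have h2 := card_ne_zero K
  rw [bi, div_mul_eq_mul_div, Finset.mul_sum]
  simp only [h1, ← Finset.mul_sum]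
  field_simp

theorem Ext.eq_bi_mul (hf : Ext K θ x f) (hy : y ∈ stab K θ) (hxy : ⁅x, y⁆ ∈ K) {a : Γ}
    (ha : a ∈ K) : f (a * x) = bi K θ x y * f (y * (a * x) * y⁻¹) := by
  have h2 := card_ne_zero K
  have h1 : ∀ b : K, f (a * x) * conj (f (b * x)) =
      f (y * (a * x) * y⁻¹) * conj (f (y * (b * x) * y⁻¹)) := fun b => by
    obtain ⟨a', ha', h3⟩ := exists_conj_coset hy.1 hxy ha
    obtain ⟨b', hb', h4⟩ := exists_conj_coset hy.1 hxy b.2
    refine mul_left_cancel₀ h2 ?_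
    rw [h3, h4, ← mul_assoc, ← mul_assoc, ← hf.schur a ha b b.2, ← hf.schur a' ha' b' hb', ← h3,
      ← h4]
    congr 1
    simp only [coe_inv]
    rw [← sum_cj hy.1 fun k => extendByZero K θ
      (y * (a * x) * y⁻¹ * (k * (y * (b * x) * y⁻¹)⁻¹ * k⁻¹))]
    refine Finset.sum_congr rfl fun k _ => ?_
    rw [← ext0_cj hy]
    congr 1
    group
  refine mul_left_cancel₀ h2 ?_
  rw [← mul_assoc, hf.bi_eq hy.1 hxy, ← hf.norm, Finset.sum_mul, Finset.sum_mul]
  refine Finset.sum_congr rfl fun b _ => ?_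
  linear_combination f (b * x) * h1 b

theorem Ext.exists_ne_zero (hf : Ext K θ x f) : ∃ a ∈ K, f (a * x) ≠ 0 := by
  by_contra h
  push Not at h
  have h1 := hf.norm
  simp only [h _ (Subtype.prop _), zero_mul, Finset.sum_const_zero] at h1
  exact card_ne_zero K h1.symm

theorem Ext.eq_bi (hf : Ext K θ x f) (hy : y ∈ stab K θ) (hxy : ⁅x, y⁆ ∈ K) {c : ℂ}
    (hc : ∀ a ∈ K, f (a * x) = c * f (y * (a * x) * y⁻¹)) : bi K θ x y = c := by
  obtain ⟨a, ha, h⟩ := hf.exists_ne_zero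
  have h1 := hf.eq_bi_mul hy hxy ha
  have h2 : f (y * (a * x) * y⁻¹) ≠ 0 := fun h0 => h (by rw [h1, h0, mul_zero])
  exact mul_right_cancel₀ h2 (h1.symm.trans (hc a ha))

theorem bi_mul_left {a : Γ} (ha : a ∈ K) (x y : Γ) : bi K θ (a * x) y = bi K θ x y := by
  simp only [bi, ← mul_assoc]
  rw [sum_mul_mem ha fun k => ∑ k' : K, extendByZero K θ ⁅k * x, k' * y⁆]

theorem bi_mul_right {a : Γ} (ha : a ∈ K) (x y : Γ) : bi K θ x (a * y) = bi K θ x y := by
  simp only [bi, ← mul_assoc]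
  congr 1
  exact Finset.sum_congr rfl fun k _ => sum_mul_mem ha fun k' => extendByZero K θ ⁅k * x, k' * y⁆

theorem bi_symm (hθ : IsCharacter K θ) (x y : Γ) : bi K θ y x = conj (bi K θ x y) := by
  obtain ⟨d, hd⟩ := hθ.exists_nat_degree
  simp only [bi, hd, map_mul, map_div₀, map_natCast, map_pow, map_sum]
  rw [Finset.sum_comm]
  congr 1
  refine Finset.sum_congr rfl fun k _ => Finset.sum_congr rfl fun k' _ => ?_
  rw [← commutatorElement_inv, ← extendByZero_inv, ← extendByZero_conj]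
  simp only [hθ.apply_inv]

theorem bi_eq_zero (hx : x ∈ normalizer (K : Set Γ)) (hy : y ∈ normalizer (K : Set Γ))
    (hxy : ⁅x, y⁆ ∉ K) : bi K θ x y = 0 := by
  rw [bi, Finset.sum_eq_zero fun k _ => Finset.sum_eq_zero fun k' _ => ?_, mul_zero]
  refine extendByZero_of_not_mem K θ fun h => hxy ?_
  have := mul_mem (mul_mem (mul_mem (mul_mem (inv_mem (conj_mem_of_norm hx k'.2)) (inv_mem k.2)) h)
    k'.2) (conj_mem_of_norm hy k.2)
  convert this using 1
  simp only [commutatorElement_def]; group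

omit [Fintype K] in
theorem comm_mul_mem (hy : y ∈ normalizer (K : Set Γ)) (hxy : ⁅x, y⁆ ∈ K) (hxz : ⁅x, z⁆ ∈ K) :
    ⁅x, y * z⁆ ∈ K := by
  convert mul_mem hxy (conj_mem_of_norm hy hxz) using 1
  simp only [commutatorElement_def]; group

variable [Finite Γ]

theorem bi_self (hθ : IsIrrCharacter K θ) (hx : x ∈ stab K θ) : bi K θ x x = 1 := by
  obtain ⟨f, hf⟩ := exists_ext hθ hx
  exact hf.eq_bi hx (by simp) fun a ha => by rw [hf.cls a ha, one_mul]

theorem bi_one (hθ : IsIrrCharacter K θ) (hx : x ∈ stab K θ) : bi K θ x 1 = 1 := by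
  obtain ⟨f, hf⟩ := exists_ext hθ hx
  exact hf.eq_bi (one_mem _) (by simp) fun a ha => by simp

theorem bi_mul (hθ : IsIrrCharacter K θ) (hx : x ∈ stab K θ) (hy : y ∈ stab K θ)
    (hz : z ∈ stab K θ) (hxy : ⁅x, y⁆ ∈ K) (hxz : ⁅x, z⁆ ∈ K) :
    bi K θ x (y * z) = bi K θ x y * bi K θ x z := by
  obtain ⟨f, hf⟩ := exists_ext hθ hx
  refine hf.eq_bi (mul_mem hy hz) (comm_mul_mem hy.1 hxy hxz) fun a ha => ?_
  obtain ⟨b, hb, h⟩ := exists_conj_coset hz.1 hxz ha
  rw [hf.eq_bi_mul hz hxz ha, h, hf.eq_bi_mul hy hxy hb, ← h, ← mul_assoc, mul_comm (bi K θ x z)]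
  congr 2
  group

theorem bi_pow (hθ : IsIrrCharacter K θ) (hx : x ∈ stab K θ) (hy : y ∈ stab K θ)
    (hxy : ⁅x, y⁆ ∈ K) (n : ℕ) : ⁅x, y ^ n⁆ ∈ K ∧ bi K θ x (y ^ n) = bi K θ x y ^ n := by
  induction n with
  | zero => simp [bi_one hθ hx]
  | succ n ih =>
    rw [pow_succ', pow_succ', bi_mul hθ hx hy (pow_mem hy n) hxy ih.1, ih.2]
    exact ⟨comm_mul_mem hy.1 hxy ih.1, rfl⟩

/-- The bicharacter is unchanged by passing to an extension. -/
theorem bi_res {M : Subgroup Γ} [Fintype M] (h : K ≤ M) {ψ : M → ℂ} (hψ : IsIrrCharacter M ψ)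
    (hθ : IsIrrCharacter K θ) (hres : ∀ k, ψ (inclusion h k) = θ k)
    (hM : M ≤ normalizer (K : Set Γ)) (hx : x ∈ stab M ψ) (hy : y ∈ stab M ψ)
    (hx' : x ∈ normalizer (K : Set Γ)) (hy' : y ∈ normalizer (K : Set Γ)) (hxy : ⁅x, y⁆ ∈ K) :
    bi M ψ x y = bi K θ x y := by
  obtain ⟨η, hη, h1⟩ := exists_ext_char hψ hx
  have hxH : x ∈ M ⊔ zpowers x := mem_sup_right (mem_zpowers x)
  have h2 := ext_of_char le_sup_left (sup_le le_normalizer (zpowers_le.2 hx.1)) hη.isCharacter hψ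
    h1 hxH
  have h3 := ext_of_char (h.trans le_sup_left) (sup_le hM (zpowers_le.2 hx')) hη.isCharacter hθ
    (fun k => (h1 (inclusion h k)).trans (hres k)) hxH
  refine (h3.eq_bi ⟨hy', fun g g' hg => ?_⟩ hxy fun a ha => h2.eq_bi_mul hy (h hxy) (h ha)).symm
  rw [← hres, ← hres]
  exact hy.2 _ _ hg

theorem res_eq_of_IS {G : Subgroup Γ} {h : K ≤ G} (hθ : IsIrrCharacter K θ) (hG : G ≤ stab K θ)
    {χ : G → ℂ} (hχ : IsIrrCharacter G χ) (ho : Ov h χ θ) (k : K) :
    χ (inclusion h k) = classInner (fun k => χ (inclusion h k)) θ * θ k := by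
  have hN : G ≤ normalizer (K : Set Γ) := fun _ hg => (hG hg).1
  rw [(hχ.isClassFunction.comp (inclusion h)).apply_eq_sum k,
    Finset.sum_eq_single ⟨θ, hθ⟩ (fun φ _ hne => ?_) (by simp)]
  by_contra h0
  exact hne (Subtype.ext (eq_of_ov_of_IS hN hχ hθ φ.2 ho (left_ne_zero_of_mul h0)
    ((IS_iff_le_stab hN).2 hG)))

omit [Finite Γ] in
theorem sum_ext0 {G : Subgroup Γ} [Fintype G] (h : K ≤ G) (θ : K → ℂ) (F : G → ℂ) :
    ∑ g : G, extendByZero K θ g * F g = ∑ k, θ k * F (inclusion h k) := by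
  refine (Finset.sum_of_injOn (inclusion h) (inclusion_injective h).injOn (by simp)
    (fun g _ hg => ?_) fun k _ => ?_).symm
  · rw [extendByZero_of_not_mem K θ fun hk => hg ⟨⟨g, hk⟩, by simp, rfl⟩, zero_mul]
  · rw [coe_inclusion, extendByZero_coe]

/-- Gallagher's count of the irreducible characters over an invariant character. -/
theorem card_ov_mul {G : Subgroup Γ} [Fintype G] (h : K ≤ G) (hθ : IsIrrCharacter K θ)
    (hG : G ≤ stab K θ) : (Nat.card {χ : IrrCharacter G // Ov h χ.1 θ} : ℂ) * Nat.card G *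
      Nat.card K = ∑ x : G, ∑ y : G, bi K θ x y := by
  classical
  have hK := card_ne_zero K
  have hG0 := card_ne_zero G
  have h1 : ∑ x : G, ∑ y : G, bi K θ x y =
      θ 1 * ∑ x : G, ∑ y : G, extendByZero K θ (⁅x, y⁆ : G) := by
    have h2 : ∀ k k' : K, ∑ x : G, ∑ y : G, extendByZero K θ ⁅(k : Γ) * x, (k' : Γ) * y⁆ =
        ∑ x : G, ∑ y : G, extendByZero K θ (⁅x, y⁆ : G) := fun k k' =>
      Fintype.sum_equiv (Equiv.mulLeft (inclusion h k)) _ _ fun x =>
        Fintype.sum_equiv (Equiv.mulLeft (inclusion h k')) _ _ fun y => rfl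
    simp only [bi, ← Finset.mul_sum]
    rw [Finset.sum_congr rfl fun x _ => Finset.sum_comm, Finset.sum_comm,
      Finset.sum_congr rfl fun k _ => (Finset.sum_congr rfl fun x _ => Finset.sum_comm).trans
        Finset.sum_comm]
    simp only [h2, Finset.sum_const, Finset.card_univ, ← Nat.card_eq_fintype_card, nsmul_eq_mul]
    field_simp
  have hc : IsClassFunction G fun g => extendByZero K θ g := fun g x => ext0_cj (hG x.2) g
  have h3 : ∀ χ : IrrCharacter G, θ 1 * classInner (fun g : G => extendByZero K θ g) χ.1 =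
      if Ov h χ.1 θ then Nat.card K / Nat.card G * χ.1 1 else 0 := fun χ => by
    obtain ⟨m, hm⟩ := (χ.2.isCharacter.comp (inclusion h)).exists_nat_inner hθ.isCharacter
    have h4 : classInner (fun g : G => extendByZero K θ g) χ.1 = Nat.card K / Nat.card G * m := by
      have h5 := classInner_conj_symm (fun k => χ.1 (inclusion h k)) θ
      rw [hm, map_natCast, classInner] at h5
      rw [classInner, sum_ext0 h θ fun g => conj (χ.1 g), h5]
      field_simp
    rw [h4]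
    split_ifs with ho
    · rw [← map_one (inclusion h), res_eq_of_IS hθ hG χ.2 ho, hm]; ring
    · rw [Ov, not_not, hm] at ho
      rw [ho]; ring
  have h6 : ∀ χ : IrrCharacter G, χ.1 1 * ∑ x : G, ∑ y : G, χ.1 ⁅x, y⁆ = Nat.card G ^ 2 :=
    fun χ => by
    have h7 := χ.2.inner_self
    rw [classInner, inv_mul_eq_one₀ hG0] at h7
    rw [Finset.mul_sum, sq]
    nth_rewrite 2 [h7]
    rw [Finset.mul_sum]
    refine Finset.sum_congr rfl fun x _ => ?_
    rw [← χ.2.apply_inv, ← mul_assoc, ← CL.Blk.irr_mul_sum_conj χ.2]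
    simp only [commutatorElement_def, mul_assoc]
  rw [h1, Finset.sum_congr rfl fun x _ => Finset.sum_congr rfl fun y _ => hc.apply_eq_sum ⁅x, y⁆]
  rw [Finset.sum_congr rfl fun x _ => Finset.sum_comm, Finset.sum_comm]
  simp only [← Finset.mul_sum]
  rw [Finset.mul_sum]
  simp only [← mul_assoc, h3, ite_mul, zero_mul]
  simp only [mul_assoc, h6]
  rw [Finset.sum_ite, Finset.sum_const_zero, add_zero, Finset.sum_const, nsmul_eq_mul,
    Nat.card_eq_fintype_card (α := Subtype _), Fintype.card_subtype]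
  field_simp

omit [Finite Γ] [Fintype K] in
theorem sum_of_mul {G N K' : Subgroup Γ} [Fintype G] [Fintype N] (hK : K ≤ G) (hN : N ≤ G)
    (hG : ∀ g ∈ G, ∃ k ∈ K, ∃ n ∈ N, g = k * n) (hK' : K' = K ⊓ N) {F : Γ → ℂ}
    (hF : ∀ k ∈ K, ∀ g, F (k * g) = F g) :
    Nat.card K' * ∑ g : G, F g = Nat.card K * ∑ n : N, F n := by
  classical
  have h1 : ∀ g : G, (Finset.univ.filter fun n : N => (g : Γ) * (n : Γ)⁻¹ ∈ K).card =
      Nat.card K' := fun g => by
    obtain ⟨k, hk, n, hn, h⟩ := hG g g.2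
    rw [← Fintype.card_subtype, ← Nat.card_eq_fintype_card, hK']
    refine Nat.card_congr ⟨fun a => ⟨n * (a.1 : Γ)⁻¹, ?_, N.mul_mem hn (N.inv_mem a.1.2)⟩,
      fun a => ⟨⟨(a : Γ)⁻¹ * n, N.mul_mem (N.inv_mem a.2.2) hn⟩, ?_⟩, fun a => by simp,
      fun a => by simp⟩
    · simpa [h, mul_assoc] using K.mul_mem (K.inv_mem hk) a.2
    · simpa [h, mul_assoc] using K.mul_mem hk a.2.1
  have h2 : ∀ n : N, (Finset.univ.filter fun g : G => (g : Γ) * (n : Γ)⁻¹ ∈ K).card =
      Nat.card K := fun n => by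
    rw [← Fintype.card_subtype, ← Nat.card_eq_fintype_card]
    exact Nat.card_congr ⟨fun a => ⟨_, a.2⟩, fun a => ⟨⟨a * n, mul_mem (hK a.2) (hN n.2)⟩, by simp⟩,
      fun a => by simp, fun a => by simp⟩
  calc _ = ∑ g : G, ∑ n : N, if (g : Γ) * (n : Γ)⁻¹ ∈ K then F g else 0 := by
        simp only [Finset.sum_ite, Finset.sum_const_zero, add_zero, Finset.sum_const, h1,
          nsmul_eq_mul, Finset.mul_sum]
    _ = ∑ n : N, ∑ g : G, if (g : Γ) * (n : Γ)⁻¹ ∈ K then F n else 0 := by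
        rw [Finset.sum_comm]
        refine Finset.sum_congr rfl fun n _ => Finset.sum_congr rfl fun g _ => ?_
        split_ifs with h
        · rw [← hF _ h n, inv_mul_cancel_right]
        · rfl
    _ = _ := by
        simp only [Finset.sum_ite, Finset.sum_const_zero, add_zero, Finset.sum_const, h2,
          nsmul_eq_mul, Finset.mul_sum]

/-- Equal bicharacters give equal numbers of characters lying above. -/
theorem card_ov_eq {G N K' : Subgroup Γ} [Fintype K'] (hK : K ≤ G) (hN : N ≤ G) (hK'N : K' ≤ N)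
    (hG : ∀ g ∈ G, ∃ k ∈ K, ∃ n ∈ N, g = k * n) (hK' : K' = K ⊓ N) (hθ : IsIrrCharacter K θ)
    {ξ : K' → ℂ} (hξ : IsIrrCharacter K' ξ) (h1 : G ≤ stab K θ) (h2 : N ≤ stab K' ξ)
    (hb : ∀ x ∈ N, ∀ y ∈ N, bi K θ x y = bi K' ξ x y) :
    Nat.card {χ : IrrCharacter G // Ov hK χ.1 θ} = Nat.card {χ : IrrCharacter N // Ov hK'N χ.1 ξ} := by
  have := Fintype.ofFinite G
  have := Fintype.ofFinite N
  have h3 := card_ov_mul hK hθ h1
  have h4 := card_ov_mul hK'N hξ h2
  have h5 := sum_of_mul hK hN hG hK' (F := fun _ => 1) fun _ _ _ => rfl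
  have h6 := sum_of_mul hK hN hG hK' (F := fun x => ∑ y : G, bi K θ x y) fun k hk g => by
    simp only [bi_mul_left hk]
  have h7 : ∀ x, Nat.card K' * ∑ y : G, bi K θ x y = Nat.card K * ∑ y : N, bi K θ x y := fun x =>
    sum_of_mul hK hN hG hK' fun k hk g => bi_mul_right hk x g
  have h8 : Nat.card K' * ∑ x : N, ∑ y : G, bi K θ x y =
      Nat.card K * ∑ x : N, ∑ y : N, bi K' ξ x y := by
    simp only [Finset.mul_sum (s := Finset.univ (α := N)) (f := fun x => ∑ y : G, bi K θ x y), h7,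
      hb _ (Subtype.prop _) _ (Subtype.prop _), ← Finset.mul_sum]
  simp only [Finset.sum_const, Finset.card_univ, ← Nat.card_eq_fintype_card, nsmul_eq_mul,
    mul_one] at h5
  have hK0 := card_ne_zero K
  have hK1 := card_ne_zero K'
  have hN0 := card_ne_zero N
  refine Nat.cast_injective (R := ℂ) (mul_right_cancel₀ (mul_ne_zero (mul_ne_zero hN0 hK1)
    (mul_ne_zero hK0 hK0)) ?_)
  rw [← h3] at h6
  rw [← h4] at h8
  linear_combination Nat.card K' * h6 + Nat.card K * h8 -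
    (Nat.card {χ : IrrCharacter G // Ov hK χ.1 θ} * Nat.card K' * Nat.card K : ℂ) * h5

end CL.OW
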