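import Mathlib
import Cfsg.Agent.BLK.IBr
import Cfsg.Agent.BLK.Cover2

/-!
# The number of Brauer characters of a covered block
-/

set_option autoImplicit false

open Cfsg Finset Subgroup CL.Char MonoidAlgebra

namespace CL.Blk

variable {G : Type*} [Group G] [Finite G] {p : ℕ} {M : Ideal AlgInt} {N : Subgroup G} [N.Normal]

theorem BasicSet.IsBrauer.exists_conjN {b : Set (IrrCharacter N)} {S : BasicSet p b}
    (hS : S.IsBrauer M) (hb : ∀ g θ, irrCj N g θ ∈ b ↔ θ ∈ b) (g : G) (i : Fin S.l) :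
    ∃ m : Fin S.l → ℕ, conjN N g (S.Φ i) = ∑ j, (m j : ℂ) • S.Φ j := by
  have := Fintype.ofFinite N
  obtain ⟨E, h1, h2, -, -, h3⟩ := hS.prim i
  obtain ⟨m, hm⟩ := hS.idem (amb (conjEquiv N g⁻¹).toMonoidHom E) (by rw [← map_mul, h1]) (h2.amb _)
  refine ⟨m, ((S.isClassFunction_Φ i).conjN g).ext_inner (IsClassFunction.sum _ fun j _ =>
    (S.isClassFunction_Φ j).smul _) fun ψ hψ => ?_⟩
  rw [classInner_conjN_left, classInner_sum_left]
  simp only [classInner_smul_left, S.inner_Φ_irr ⟨ψ, hψ⟩]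
  refine (S.inner_Φ_irr (irrCj N g⁻¹ ⟨ψ, hψ⟩) i).trans ?_
  by_cases h : (⟨ψ, hψ⟩ : IrrCharacter N) ∈ b
  · rw [← hm _ h, charLin_amb, ← h3]
    rfl
  · simp [S.D_zero _ h, S.D_zero _ (mt (hb g⁻¹ _).1 h)]

theorem blockRank_le_index_mul (hM : IsPModular p M) {B : Set (IrrCharacter G)} (hB : IsPBlock M B)
    {b : Set (IrrCharacter N)} (hb : IsPBlock M b) (hcov : CovF N (eB M B) (eB M b)) :
    blockRank p b ≤ N.index * blockRank p B := by
  classical
  have := Fintype.ofFinite G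
  let b' : Set (IrrCharacter N) := {θ | ∃ x, irrCj N x θ ∈ b}
  have hb' : IsBlockUnion M b' := fun θ ⟨x, hx⟩ ψ h =>
    ⟨x, (isBlockUnion_of_block hM hb).irrCj hM x θ hx ψ h⟩
  have hinv : ∀ g θ, irrCj N g θ ∈ b' ↔ θ ∈ b' := fun g θ =>
    ⟨fun ⟨x, hx⟩ => ⟨g * x, by rwa [irrCj_mul]⟩, fun ⟨x, hx⟩ =>
      ⟨g⁻¹ * x, by rwa [irrCj_mul, irrCj_inv_irrCj]⟩⟩
  obtain ⟨S, hS⟩ := exists_isBrauer hM hb'
  choose m hm using hS.exists_conjN hinv
  let τ : G → (N → ℂ) →ₗ[ℂ] (N → ℂ) := fun g => LinearMap.funLeft ℂ ℂ (conjEquiv N g)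
  have hτ : ∀ g θ, τ g θ = conjN N g θ := fun _ _ => rfl
  let P : (N → ℂ) →ₗ[ℂ] (N → ℂ) := (Nat.card G : ℂ)⁻¹ • ∑ g, τ g
  have hG : (Nat.card G : ℂ) ≠ 0 := Nat.cast_ne_zero.2 Nat.card_pos.ne'
  have hP : ∀ θ, P θ = (Nat.card G : ℂ)⁻¹ • ∑ g, conjN N g θ := fun θ => by
    simp [P, LinearMap.sum_apply, hτ]
  have hPP : ∀ θ, P (P θ) = P θ := fun θ => by
    have h1 : ∀ g, conjN N g (P θ) = P θ := fun g => by
      rw [hP, conjN_smul, conjN_sum, ← Equiv.sum_comp (Equiv.mulRight g) fun x => conjN N x θ]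
      simp only [Equiv.coe_mulRight, conjN_mul]
    rw [hP (P θ)]
    simp only [h1, sum_const, card_univ, ← Nat.cast_smul_eq_nsmul ℂ, smul_smul,
      ← Nat.card_eq_fintype_card, inv_mul_cancel₀ hG, one_smul]
  let ι := Fintype.linearCombination ℂ S.Φ
  have hι : Function.Injective ι :=
    S.linearIndependent_Φ.fintypeLinearCombination_injective
  let A : Matrix (Fin S.l) (Fin S.l) ℂ := Matrix.of fun j i => (Nat.card G : ℂ)⁻¹ * ∑ g, m g i j
  have hA : ∀ c, ι (Matrix.toLin' A c) = P (ι c) := fun c => by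
    simp only [ι, A, Fintype.linearCombination_apply, Matrix.toLin'_apply, Matrix.mulVec,
      dotProduct, Matrix.of_apply, map_sum, map_smul]
    simp only [hP, hm, sum_smul, smul_sum, smul_smul, Nat.cast_sum, mul_sum, sum_mul]
    rw [sum_comm]
    refine sum_congr rfl fun i _ => ?_
    rw [sum_comm]
    exact sum_congr rfl fun _ _ => sum_congr rfl fun _ _ => by ring_nf
  have h1 := (LinearMap.IsIdempotentElem.isProj_range (Matrix.toLin' A)
    (LinearMap.ext fun c => hι (by rw [Module.End.mul_apply, hA, hA, hPP]))).trace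
  rw [Matrix.trace_toLin'_eq] at h1
  have h2 : ∑ g, ∑ i, m g i i = Nat.card G * Module.finrank ℂ (LinearMap.range (Matrix.toLin' A)) := by
    apply Nat.cast_injective (R := ℂ)
    rw [Nat.cast_mul, ← h1, sum_comm]
    simp [A, Matrix.trace, ← mul_sum, hG, -Nat.card_eq_fintype_card]
  have h3 : Nat.card N * S.l ≤ ∑ g, ∑ i, m g i i := by
    refine le_trans (le_of_eq ?_) (sum_le_sum_of_subset (subset_univ {g | g ∈ N}))
    rw [sum_congr rfl (g := fun _ => S.l) fun g hg => ?_, sum_const, smul_eq_mul,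
      Nat.card_eq_fintype_card, Fintype.card_subtype]
    have h4 : ∀ i, m g i i = 1 := fun i => by
      have h5 := hm g i
      rw [conjN_of_mem (S.isClassFunction_Φ i) (mem_filter.1 hg).2] at h5
      have h6 : ι (Pi.single i 1) = ι fun j => m g i j := by
        simpa [ι, Fintype.linearCombination_apply, Pi.single_apply] using h5
      exact_mod_cast (by simpa using congrFun (hι h6) i : (1 : ℂ) = m g i i).symm
    simp [h4]
  have h4 : Module.finrank ℂ (LinearMap.range (Matrix.toLin' A)) ≤ blockRank p B := by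
    rw [← LinearEquiv.finrank_eq (Submodule.equivMapOfInjective ι hι _).symm]
    refine (Submodule.finrank_mono ?_).trans
      (Submodule.finrank_map_le (LinearMap.funLeft ℂ ℂ N.subtype) _)
    rintro _ ⟨_, ⟨c, rfl⟩, rfl⟩
    rw [hA]
    simp only [ι, Fintype.linearCombination_apply, map_sum, map_smul]
    refine Submodule.sum_mem _ fun i _ => Submodule.smul_mem _ _ ?_
    rw [← S.reg_Φ, BasicSet.Φ, zcomb, pRegularPart_sum, map_sum]
    refine Submodule.sum_mem _ fun θ _ => ?_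
    by_cases hθ : θ ∈ b'
    swap
    · simp [S.D_zero _ hθ, pRegularPart_zero]
    rw [pRegularPart_smul, map_smul]
    refine Submodule.smul_mem _ _ ?_
    obtain ⟨x, hx⟩ := hθ
    obtain ⟨χ, hχ, h5⟩ := exists_over_of_covF hM (isBlockUnion_of_block hM hB) hb hcov hx
    rw [coe_irrCj, classInner_res_conjN χ.2.isClassFunction] at h5
    have h6 := clifford χ.2 θ.2 h5
    have h7 : ∀ g, conjN N g (pRegularPart p θ.1) = pRegularPart p (conjN N g θ.1) := fun g => by
      funext n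
      have : IsPRegular p (conjEquiv N g n) ↔ IsPRegular p n := by
        simp [IsPRegular]
      by_cases hn : IsPRegular p n
      · rw [pRegularPart_of hn, conjN_eq_comp, conjN_eq_comp]
        exact pRegularPart_of (this.2 hn)
      · rw [pRegularPart_of_not hn, conjN_eq_comp]
        exact pRegularPart_of_not (mt this.1 hn)
    rw [hP]
    simp only [h7]
    rw [← pRegularPart_sum, sum_conjN_eq θ.1 fun φ => φ, ← inv_smul_smul₀ h5 (∑ φ ∈ _, φ), ← h6,
      ← Nat.cast_smul_eq_nsmul ℂ, pRegularPart_smul, pRegularPart_smul, ← pRegularPart_res]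
    exact Submodule.smul_mem _ _ (Submodule.smul_mem _ _ (Submodule.smul_mem _ _
      ⟨_, Submodule.subset_span ⟨χ, hχ, rfl⟩, rfl⟩))
  have h5 : blockRank p b ≤ S.l := S.blockRank_eq ▸ Submodule.finrank_mono (Submodule.span_mono
    (Set.image_mono fun θ hθ => ⟨1, by rwa [show irrCj N 1 θ = θ from Subtype.ext (conjN_one _)]⟩))
  rw [h2, ← N.card_mul_index, mul_assoc] at h3
  exact h5.trans ((Nat.le_of_mul_le_mul_left h3 Nat.card_pos).trans (Nat.mul_le_mul_left _ h4))

end CL.Blk
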