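import Cfsg.Agent.FGS.SemiReg
import Cfsg.Agent.S3224

/-! Permutation groups in which every involution fixes exactly three points. -/

set_option autoImplicit false
open Cfsg Subgroup MulAction CL.SR

namespace CL.D1T

variable {G X : Type*} [Group G] [Finite G] [MulAction G X] [Finite X]

theorem exists_invol_fix {S : Subgroup G} (hS : IsPGroup 2 S) {g : G} (hg : g ∈ S) (h1 : g ≠ 1) :
    ∃ w ∈ S, orderOf w = 2 ∧ ∀ x : X, g • x = x → w • x = x := by
  have : Fact (Nat.Prime 2) := ⟨Nat.prime_two⟩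
  obtain ⟨k, hk⟩ := IsPGroup.iff_orderOf.1 hS ⟨g, hg⟩
  rw [orderOf_mk] at hk
  obtain ⟨⟨w, hw⟩, h2⟩ := exists_prime_orderOf_dvd_card' (G := zpowers g) 2 (by
    rw [Nat.card_zpowers, hk]
    exact dvd_pow_self 2 (by rintro rfl; exact h1 (orderOf_eq_one_iff.1 hk)))
  exact ⟨w, zpowers_le.2 hg hw, by rwa [orderOf_mk] at h2, fun x hx =>
    (zpowers_le (H := stabilizer G x)).2 hx hw⟩

variable (h3 : ∀ v : G, orderOf v = 2 → {x : X | v • x = x}.ncard = 3)
include h3

omit [Finite G] in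
theorem fix_eq {v g : G} (hv : orderOf v = 2) (hc : g * v = v * g) {α δ : X} (hα : v • α = α)
    (hδ : v • δ = δ) (hgα : g • α = α) (hgδ : g • δ ≠ δ) :
    {x : X | v • x = x} = {α, δ, g • δ} := by
  have h1 : α ≠ δ := by rintro rfl; exact hgδ hgα
  refine (Set.eq_of_subset_of_ncard_le ?_ ?_).symm
  · rintro x (rfl | rfl | rfl)
    exacts [hα, hδ, smul_mem_fixed_of_commute hc hδ]
  · rw [h3 v hv]
    exact (Set.ncard_eq_three.2 ⟨_, _, _, h1, fun e => h1 (smul_left_cancel g (hgα.trans e)),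
      hgδ.symm, rfl⟩).ge

omit [Finite G] in
theorem fix_subset {v w : G} (hv : orderOf v = 2) (hw : orderOf w = 2)
    (h : ∀ x : X, v • x = x → w • x = x) (x : X) (hx : w • x = x) : v • x = x :=
  (Set.eq_of_subset_of_ncard_le (s := {x : X | v • x = x}) (t := {x : X | w • x = x}) h
    (by rw [h3 v hv, h3 w hw])).ge hx

variable {S : Subgroup G} (hS : IsPGroup 2 S) {α : X} (hα : ∀ g ∈ S, g • α = α) {z : G}
  (hzS : z ∈ S) (hz : orderOf z = 2) (hc : ∀ g ∈ S, g * z = z * g)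
include hS hα hzS hz hc

theorem three (hd : ¬ Nat.card S ∣ Nat.card X - 3) :
    Nat.card S ∣ 2 * (Nat.card X - 3) ∧ ∃ v, ∃ hv : v ∈ S, orderOf v = 2 ∧
      Nat.card (centralizer ({⟨v, hv⟩} : Set S)) = 4 ∧ ∃ β : X, z • β = β ∧ v • β ≠ β := by
  have : Fact (Nat.Prime 2) := ⟨Nat.prime_two⟩
  have hT : {x : X | z • x ≠ x}.ncard = Nat.card X - 3 := by
    have := ncard_fixed_add_ncard_moved (X := X) z
    rw [h3 z hz] at this
    omega
  have hTi : ∀ g ∈ S, ∀ x ∈ {x : X | z • x ≠ x}, g • x ∈ {x : X | z • x ≠ x} :=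
    fun g hg x hx e => hx (smul_left_cancel g (by rw [← mul_smul, hc g hg, mul_smul]; exact e))
  obtain ⟨v, hv, h2, δ, hδ, hvδ⟩ : ∃ v ∈ S, orderOf v = 2 ∧ ∃ δ : X, z • δ ≠ δ ∧ v • δ = δ := by
    by_contra hn
    push Not at hn
    refine hd (hT ▸ card_dvd_ncard_of_free S _ hTi fun g hg x hx e => ?_)
    by_contra h1
    obtain ⟨w, hw, h4, h5⟩ := exists_invol_fix (X := X) hS hg h1
    exact hn w hw h4 x hx (h5 x e)
  obtain ⟨β, hβ, hvβ⟩ : ∃ β : X, z • β = β ∧ v • β ≠ β := by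
    by_contra hn
    push Not at hn
    exact hδ (fix_subset h3 hz h2 hn δ hvδ)
  have hF := fix_eq h3 hz (hc v hv) (hα z hzS) hβ (hα v hv) hvβ
  have hne : ∀ g ∈ S, ∀ x : X, x ≠ α → g • x ≠ α := fun g hg x hx e =>
    hx (smul_left_cancel g (e.trans (hα g hg).symm))
  have hβα : β ≠ α := by rintro rfl; exact hvβ (hα v hv)
  have hδα : δ ≠ α := by rintro rfl; exact hδ (hα z hzS)
  have hmem : ∀ g ∈ S, ∀ x ∈ ({β, v • β} : Set X), g • x ∈ ({β, v • β} : Set X) :=
    fun g hg x hx => by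
      have h4 : g • x ∈ {x : X | z • x = x} :=
        smul_mem_fixed_of_commute (hc g hg) (hF.ge (Or.inr hx))
      exact (hF.le h4).resolve_left (hne g hg x (by
        rcases hx with rfl | rfl
        exacts [hβα, hne v hv _ hβα]))
  have hfree : ∀ g ∈ S ⊓ stabilizer G β, ∀ x ∈ {x : X | z • x ≠ x}, g • x = x → g = 1 :=
    fun g hg x hx e => by
      by_contra h1
      obtain ⟨w, hw, h4, h5⟩ := exists_invol_fix (X := X) hS hg.1 h1
      refine hx (fix_subset h3 hz h4 (fun y hy => h5 y ?_) x (h5 x e))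
      rcases hF.le hy with rfl | rfl | rfl
      · exact hα g hg.1
      · exact hg.2
      · exact (hmem g hg.1 _ (Or.inr rfl)).resolve_left fun e =>
          hvβ (smul_left_cancel g (e.trans hg.2.symm))
  have hidx : ∀ H ≤ S, Nat.card H ∣ 2 * Nat.card (H ⊓ stabilizer G β : Subgroup G) :=
    fun H hH => by
      have h4 := (relIndex_stabilizer_le_ncard (H := H) (fun g hg => hmem g (hH hg))
        (Or.inl rfl)).trans (Set.ncard_pair hvβ.symm).le
      have h5 : (stabilizer G β).relIndex H ≠ 0 := index_ne_zero_of_finite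
      rw [← card_mul_index ((stabilizer G β).subgroupOf H), ← inf_subgroupOf_left,
        Nat.card_congr (subgroupOfEquivOfLe inf_le_left).toEquiv, inf_subgroupOf_left, mul_comm]
      refine mul_dvd_mul_right ?_ _
      change (stabilizer G β).relIndex H ∣ 2
      interval_cases (stabilizer G β).relIndex H <;> simp at h5 ⊢
  refine ⟨(hidx S le_rfl).trans (mul_dvd_mul_left 2 (hT ▸ card_dvd_ncard_of_free _ _
    (fun g hg => hTi g hg.1) hfree)), v, hv, h2, ?_, β, hβ, hvβ⟩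
  have hF' := fix_eq h3 h2 (hc v hv).symm (hα v hv) hvδ (hα z hzS) hδ
  have h4 : Nat.card (S ⊓ centralizer {v} ⊓ stabilizer G β : Subgroup G) ∣ 2 := by
    rw [← Set.ncard_pair hδ.symm]
    refine card_dvd_ncard_of_free _ _ (fun g hg x hx => ?_) fun g hg x hx =>
      hfree g ⟨hg.1.1, hg.2⟩ x ?_
    · have h4 : g • x ∈ {x : X | v • x = x} := smul_mem_fixed_of_commute
        (mem_centralizer_singleton_iff.1 hg.1.2) (hF'.ge (Or.inr hx))
      exact (hF'.le h4).resolve_left (hne g hg.1.1 x (by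
        rcases hx with rfl | rfl
        exacts [hδα, hne z hzS _ hδα]))
    · rcases hx with rfl | rfl
      exacts [hδ, hTi z hzS _ hδ]
  have h5 := (hidx _ (inf_le_left (b := centralizer {v}))).trans (mul_dvd_mul_left 2 h4)
  have h6 : centralizer ({⟨v, hv⟩} : Set S) = (S ⊓ centralizer {v}).subgroupOf S := by
    ext g
    simp [mem_centralizer_singleton_iff, mem_subgroupOf, Subtype.ext_iff]
  rw [h6, Nat.card_congr (subgroupOfEquivOfLe inf_le_left).toEquiv]
  have h7 : 3 ≤ Nat.card (S ⊓ centralizer {v} : Subgroup G) := by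
    rw [← (Set.ncard_eq_three (s := {1, z, v})).2 ⟨1, z, v, by rintro rfl; simp at hz,
      by rintro rfl; simp at h2, by rintro rfl; exact hδ hvδ, rfl⟩]
    refine Set.ncard_le_ncard (t := ((S ⊓ centralizer {v} : Subgroup G) : Set G)) ?_
    rintro y (rfl | rfl | rfl)
    exacts [one_mem _, ⟨hzS, mem_centralizer_singleton_iff.2 (hc v hv).symm⟩,
      ⟨hv, mem_centralizer_singleton_iff.2 rfl⟩]
  have h8 := Nat.le_of_dvd (by norm_num) h5
  generalize Nat.card (S ⊓ centralizer {v} : Subgroup G) = m at *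
  interval_cases m <;> simp at h5 ⊢

/-- `S` is semiregular outside the suborbit containing the fixed points of `z`. -/
theorem dvd_compl (hcj : ∀ v : G, orderOf v = 2 → IsConj z v)
    (hsym : ∀ a b : X, ∃ g : G, g • a = b ∧ g • b = a) {v : G} (hv : v ∈ S) {β : X}
    (hβ : z • β = β) (hvβ : v • β ≠ β) :
    Nat.card S ∣ {x | x ≠ α ∧ x ∉ orbit (stabilizer G α) β}.ncard := by
  have hF := fix_eq h3 hz (hc v hv) (hα z hzS) hβ (hα v hv) hvβ
  have hO : ∀ g ∈ S, ∀ x, x ∈ orbit (stabilizer G α) β → g • x ∈ orbit (stabilizer G α) β :=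
    fun g hg x hx => (smul_orbit (⟨g, hα g hg⟩ : stabilizer G α) β).le ⟨x, hx, rfl⟩
  have hI : ∀ g ∈ S, ∀ x ∈ {x | x ≠ α ∧ x ∉ orbit (stabilizer G α) β},
      g • x ∈ {x | x ≠ α ∧ x ∉ orbit (stabilizer G α) β} := fun g hg x hx =>
    ⟨fun e => hx.1 (smul_left_cancel g (e.trans (hα g hg).symm)), fun e =>
      hx.2 (by simpa using hO _ (inv_mem hg) _ e)⟩
  have hz' : ∀ x, z • x = x → x ≠ α → x ∈ orbit (stabilizer G α) β := fun x hx h1 => by
    rcases (hF.le hx).resolve_left h1 with rfl | rfl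
    exacts [mem_orbit_self _, hO v hv _ (mem_orbit_self _)]
  refine card_dvd_ncard_of_free _ _ hI fun g hg δ hδ e => ?_
  by_contra h1
  obtain ⟨w, hw, h4, h5⟩ := exists_invol_fix (X := X) hS hg h1
  have hF' := fix_eq h3 h4 (hc w hw).symm (hα w hw) (h5 δ e) (hα z hzS)
    fun e => hδ.2 (hz' δ e hδ.1)
  have hw' : ∀ x, w • x = x → x ≠ α → x ∉ orbit (stabilizer G α) β := fun x hx h1 => by
    rcases (hF'.le hx).resolve_left h1 with rfl | rfl
    exacts [hδ.2, (hI z hzS δ hδ).2]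
  obtain ⟨k, rfl⟩ := isConj_iff.1 (hcj w h4)
  have hk : ∀ x : X, z • x = x → (k * z * k⁻¹) • k • x = k • x := fun x hx => by
    simp [mul_smul, hx]
  have hβα : β ≠ α := by rintro rfl; exact hvβ (hα v hv)
  by_cases h6 : k • α = α
  · exact hw' _ (hk β hβ) (fun e => hβα (smul_left_cancel k (e.trans h6.symm))) ⟨⟨k, h6⟩, rfl⟩
  refine hw' _ (hk α (hα z hzS)) h6 ?_
  obtain ⟨⟨m, hm⟩, h7⟩ := hz' (k⁻¹ • α) (by
    have := hα _ hw
    rwa [mul_smul, mul_smul, ← eq_inv_smul_iff] at this) fun e => h6 (inv_smul_eq_iff.1 e).symm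
  obtain ⟨t, h8, h9⟩ := hsym α β
  have h10 : m • β = k⁻¹ • α := h7
  refine ⟨⟨k * m * t, ?_⟩, ?_⟩
  · rw [mem_stabilizer_iff, mul_smul, h8, mul_smul, h10, smul_inv_smul]
  · change (k * m * t) • β = k • α
    rw [mul_smul, h9, mul_smul, mem_stabilizer_iff.1 hm]

end CL.D1T
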