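import Cfsg.Agent.BLK.D1Perm
import Cfsg.Agent.BLK.D1Det
import Cfsg.Agent.CHAR.ClassMult
import Cfsg.Agent.FGS.PseudoSylow2

/-! Involutions in a simple group whose Sylow `p`-normalizer has order `2 p`. -/

set_option autoImplicit false
open Cfsg Subgroup CL.Char MulAction
open CL.Blk (SelfCent autIdx)
open scoped ComplexConjugate

namespace CL.D1T.E2

variable {G : Type*} [Group G] [Finite G] {p : ℕ} [hp : Fact p.Prime]
variable {x : G} {χ : IrrCharacter G} {δ : ℤ} {Y : Finset (IrrCharacter G)} (h : E2 p x χ δ Y)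
include h

theorem ord_of_mem {y : G} (hy : y ∈ zpowers x) (h1 : y ≠ 1) : orderOf y = p :=
  CL.Small.orderOf_eq_of_card_prime h.card hy h1

theorem not_mem_of_invol {u : G} (hu : orderOf u = 2) : u ∉ zpowers x := fun hm => by
  have h1 := h.ord_of_mem hm (by rintro rfl; simp at hu)
  have := h.five
  omega

theorem idx : (zpowers x).relIndex (normalizer (zpowers x : Set G)) = 2 := by
  have h1 := card_mul_index ((zpowers x).subgroupOf (normalizer (zpowers x : Set G)))
  rw [Nat.card_congr (subgroupOfEquivOfLe le_normalizer).toEquiv, h.card, h.nrm, mul_comm 2] at h1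
  exact Nat.eq_of_mul_eq_mul_left hp.out.pos h1

omit hp h [Finite G] in
theorem inv_of_mem {u y : G} (hu : u * x * u⁻¹ = x⁻¹) (hy : y ∈ zpowers x) :
    u * y * u⁻¹ = y⁻¹ := by
  obtain ⟨k, rfl⟩ := hy
  simp only [← conj_zpow, hu, inv_zpow]

omit hp h in
theorem mem_nrm {u : G} (hu : u * x * u⁻¹ = x⁻¹) : u ∈ normalizer (zpowers x : Set G) :=
  mem_normalizer_fintype fun y hy => by
    rw [inv_of_mem hu hy]; exact inv_mem (show y ∈ zpowers x from hy)

theorem exists_inv : ∃ u, orderOf u = 2 ∧ u * x * u⁻¹ = x⁻¹ := by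
  have : Fact (Nat.Prime 2) := ⟨Nat.prime_two⟩
  obtain ⟨⟨u, hu⟩, h2⟩ := exists_prime_orderOf_dvd_card' (G := normalizer (zpowers x : Set G)) 2
    (h.nrm ▸ dvd_mul_right 2 p)
  rw [orderOf_mk] at h2
  refine ⟨u, h2, ?_⟩
  have h3 : u * x * u⁻¹ ∈ zpowers x := (mem_normalizer_iff.1 hu x).1 (mem_zpowers x)
  have h4 : u * u = 1 := by rw [← pow_two, ← h2, pow_orderOf_eq_one]
  have h5 : x * (u * x * u⁻¹) = u * x * u⁻¹ * x :=
    (mem_centralizer_singleton_iff.1 (h.cent.ge h3)).symm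
  by_contra h6
  have h7 := mul_mem h3 (mem_zpowers x)
  have h8 : zpowers (u * x * u⁻¹ * x) = zpowers x := eq_of_le_of_card_ge (zpowers_le.2 h7) (by
    rw [Nat.card_zpowers, Nat.card_zpowers, h.ord,
      h.ord_of_mem h7 fun e => h6 (eq_inv_of_mul_eq_one_left e)])
  refine h.not_mem_of_invol h2 ?_
  rw [← h.centralizer_zpowers, ← h8, CL.Small.centralizer_zpowers_eq,
    mem_centralizer_singleton_iff]
  rw [inv_eq_of_mul_eq_one_right h4] at *
  calc u * (u * x * u * x) = (u * u) * x * u * x := by group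
    _ = x * (u * x * u) * u := by simp only [h4, one_mul, mul_assoc, mul_one]
    _ = _ := by rw [h5]

variable {u : G} (hu : orderOf u = 2) (hux : u * x * u⁻¹ = x⁻¹)
include hux

theorem isConj_mul {y : G} (hy : y ∈ zpowers x) : IsConj u (u * y) := by
  obtain ⟨k, hk⟩ := hp.out.odd_of_ne_two (by have := h.five; omega)
  have h1 : y ^ (k + 1) * y ^ (k + 1) = y := by
    rw [← pow_add, show k + 1 + (k + 1) = p + 1 by omega, pow_succ, ← h.card,
      show y ^ Nat.card (zpowers x) = 1 from congrArg Subtype.val (pow_card_eq_one' (x := ⟨y, hy⟩)),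
      one_mul]
  refine isConj_iff.2 ⟨(y ^ (k + 1))⁻¹, ?_⟩
  rw [inv_inv, ← inv_of_mem hux (pow_mem hy (k + 1)), inv_mul_cancel_right, mul_assoc, h1]

include hu

theorem mul_mem_of_nrm {g : G} (hg : g ∈ normalizer (zpowers x : Set G)) (hg' : g ∉ zpowers x) :
    u⁻¹ * g ∈ zpowers x :=
  (mul_mem_iff_of_index_two h.idx (a := ⟨u⁻¹, inv_mem (mem_nrm hux)⟩) (b := ⟨g, hg⟩)).2 (by
    simp only [mem_subgroupOf, inv_mem_iff, hg', h.not_mem_of_invol hu])

theorem isConj_of_nrm {g : G} (hg : g ∈ normalizer (zpowers x : Set G)) (hg' : g ∉ zpowers x) :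
    IsConj u g := by
  simpa using h.isConj_mul hux (h.mul_mem_of_nrm hu hux hg hg')

/-- The values of a character that is constant on the elements of order `p`. -/
theorem exists_nat_val {φ : G → ℂ} (hφ : IsCharacter G φ) {c : ℂ}
    (hc : ∀ y, orderOf y = p → φ y = c) : ∃ a : ℕ, φ 1 + (p - 1) * c + p * φ u = 2 * p * a := by
  classical
  have := Fintype.ofFinite (normalizer (zpowers x : Set G))
  obtain ⟨a, ha⟩ := (hφ.res (normalizer (zpowers x : Set G))).exists_nat_inner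
    isIrrCharacter_one.isCharacter
  refine ⟨a, ?_⟩
  have h0 : ((2 * p : ℕ) : ℂ) ≠ 0 := by have := hp.out.pos; exact_mod_cast by omega
  have h1 : (Finset.univ.filter fun g : normalizer (zpowers x : Set G) => g.1 ∈ zpowers x).card
      = p := by
    rw [← h.card, ← Nat.card_congr (subgroupOfEquivOfLe le_normalizer).toEquiv,
      Nat.card_eq_fintype_card, Fintype.card_subtype]
    rfl
  have h2 := Finset.card_filter_add_card_filter_not (s := Finset.univ)
    fun g : normalizer (zpowers x : Set G) => g.1 ∈ zpowers x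
  rw [h1, Finset.card_univ, ← Nat.card_eq_fintype_card, h.nrm] at h2
  rw [classInner_def, h.nrm, inv_mul_eq_iff_eq_mul₀ h0, Finset.sum_congr rfl
    (g := fun g => (if g = 1 then φ 1 - c else 0) + if g.1 ∈ zpowers x then c else φ u)
    fun g _ => ?_, Finset.sum_add_distrib, Finset.sum_ite_eq', Finset.sum_ite, Finset.sum_const,
    Finset.sum_const, h1, show Finset.card _ = p from (by omega : p = _).symm] at ha
  · simp only [Finset.mem_univ, if_true, nsmul_eq_mul] at ha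
    push_cast at ha
    linear_combination ha
  · by_cases h3 : g = 1
    · simp [h3]
    by_cases h4 : g.1 ∈ zpowers x
    · simp [h3, h4, hc _ (h.ord_of_mem h4 fun e => h3 (Subtype.ext e))]
    · simp [h3, h4, hφ.isClassFunction.eq_of_isConj (h.isConj_of_nrm hu hux g.2 h4)]

omit hu hux in
theorem pair_formula {a b : G} (ha : ¬ p ∣ orderOf a) (hb : ¬ p ∣ orderOf b) :
    (Nat.card {q : G × G // IsConj a q.1 ∧ IsConj b q.2 ∧ q.1 * q.2 = x} : ℂ) *
      (Nat.card G * (χ.1 1 * (χ.1 1 + δ))) = Nat.card {y // IsConj a y} *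
        Nat.card {y // IsConj b y} * ((χ.1 1 - χ.1 a) * (χ.1 1 - χ.1 b)) := by
  classical
  have := Fintype.ofFinite G
  obtain ⟨θ₀, hθ₀⟩ : Y.Nonempty := by
    rw [← Finset.card_pos]; have := h.card_Y; have := h.five; omega
  have h1 := CL.Blk.not_dvd_orderOf_one (G := G) hp.out
  have h2 : χ.1 1 + δ ≠ 0 := h.reg _ hθ₀ 1 h1 ▸ θ₀.2.one_ne_zero
  have h3 := χ.2.one_ne_zero
  have h4 : (Nat.card G : ℂ) ≠ 0 := card_ne_zero G
  have h5 := congrArg (starRingEnd ℂ) (h.sum x h.dvd_ord)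
  rw [map_sum, map_neg, map_intCast] at h5
  rw [card_class_mul_eq, ← Finset.sum_subset (Finset.subset_univ (insert (irrOne G) (insert χ Y)))
    fun ψ _ hψ => ?_, Finset.sum_insert (by simp [h.ne_one.symm, h.one_Y]),
    Finset.sum_insert h.χ_Y, Finset.sum_congr rfl (g := fun θ => (χ.1 a + δ) * (χ.1 b + δ) /
      (χ.1 1 + δ) * conj (θ.1 x)) fun θ hθ => ?_, ← Finset.mul_sum, h5, h.val x h.dvd_ord]
  · simp only [irrOne, map_one, map_intCast]
    field_simp
    linear_combination (χ.1 a * χ.1 b - χ.1 1 * (χ.1 a + χ.1 b + δ)) * h.sq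
  · rw [h.reg θ hθ a ha, h.reg θ hθ b hb, h.reg θ hθ 1 h1]; ring
  · simp only [Finset.mem_insert, not_or] at hψ
    simp [h.zero ψ hψ.1 hψ.2.1 hψ.2.2 x h.dvd_ord]

omit hp h [Finite G] hu hux in
theorem inv_of_mul_eq {s t : G} (hs : orderOf s = 2) (ht : orderOf t = 2) (e : s * t = x) :
    s * x * s⁻¹ = x⁻¹ := by
  have h1 : s * s = 1 := by rw [← pow_two, ← hs, pow_orderOf_eq_one]
  have h2 : t * t = 1 := by rw [← pow_two, ← ht, pow_orderOf_eq_one]
  rw [← e, mul_inv_rev, ← mul_assoc, h1, one_mul, inv_eq_of_mul_eq_one_right h2]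

omit hu hux in
theorem sub_ne_zero' {a : G} (ha : a ≠ 1) : χ.1 1 - χ.1 a ≠ 0 := fun e => by
  have := h.simple
  have h1 := χ.2.charKer_eq_bot_of_simple fun h1 => h.ne_one (eq_irrOne_iff.2 h1)
  exact ha (mem_bot.1 (h1 ▸ (χ.2.isCharacter.mem_charKer.2 (sub_eq_zero.1 e).symm)))

omit hu hux in
theorem not_dvd_two {a : G} (ha : orderOf a = 2) : ¬ p ∣ orderOf a := fun e => by
  have := Nat.le_of_dvd (by omega) (ha ▸ e)
  have := h.five
  omega

/-- All involutions are conjugate. -/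
theorem isConj_invol {v : G} (hv : orderOf v = 2) : IsConj u v := by
  by_contra hc
  have h1 := h.pair_formula (h.not_dvd_two hv) (h.not_dvd_two hv)
  have h2 : v ≠ 1 := by rintro rfl; simp at hv
  have : IsEmpty {q : G × G // IsConj v q.1 ∧ IsConj v q.2 ∧ q.1 * q.2 = x} :=
    ⟨fun ⟨q, h3, h4, h5⟩ => by
      have h6 := (CL.Small.orderOf_eq_of_isConj h3).trans hv
      exact hc ((h.isConj_of_nrm hu hux (mem_nrm (inv_of_mul_eq h6
        ((CL.Small.orderOf_eq_of_isConj h4).trans hv) h5)) (h.not_mem_of_invol h6)).trans h3.symm)⟩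
  have : Nonempty {y // IsConj v y} := ⟨⟨v, IsConj.refl v⟩⟩
  rw [Nat.card_of_isEmpty, Nat.cast_zero, zero_mul] at h1
  exact mul_ne_zero (mul_self_ne_zero.2 (Nat.cast_ne_zero.2 Nat.card_pos.ne'))
    (mul_ne_zero (h.sub_ne_zero' h2) (h.sub_ne_zero' h2)) h1.symm

omit hu hux in
theorem conj_invol {v w : G} (hv : orderOf v = 2) (hw : orderOf w = 2) : IsConj v w :=
  let ⟨_, hu, hux⟩ := h.exists_inv
  (h.isConj_invol hu hux hv).symm.trans (h.isConj_invol hu hux hw)

omit hu hux in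
/-- The order formula. -/
theorem order_formula {v : G} (hv : orderOf v = 2) : (Nat.card G : ℂ) * (χ.1 1 - χ.1 v) ^ 2 =
    p * Nat.card (centralizer ({v} : Set G)) ^ 2 * (χ.1 1 * (χ.1 1 + δ)) := by
  obtain ⟨u, hu, hux⟩ := h.exists_inv
  have e : ∀ y, IsConj v y ↔ IsConj u y := fun y =>
    ⟨(h.conj_invol hu hv).trans, (h.conj_invol hv hu).trans⟩
  have h1 := h.pair_formula (h.not_dvd_two hv) (h.not_dvd_two hv)
  have h2 : Nat.card {q : G × G // IsConj u q.1 ∧ IsConj u q.2 ∧ q.1 * q.2 = x} = p := by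
    have key : ∀ y : zpowers x, u * y * (u * (y * x)) = x := fun y => by
      have h3 : u * u = 1 := by rw [← pow_two, ← hu, pow_orderOf_eq_one]
      have h4 := inv_of_mem hux y.2
      rw [inv_eq_of_mul_eq_one_right h3] at h4
      rw [← mul_assoc, h4, inv_mul_cancel_left]
    rw [← h.card]
    refine (Nat.card_congr (Equiv.ofBijective (fun y : zpowers x => ⟨(u * y, u * (y * x)),
      h.isConj_mul hux y.2, h.isConj_mul hux (mul_mem y.2 (mem_zpowers x)), key y⟩)
      ⟨fun y z e => Subtype.ext (mul_left_cancel (a := u)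
        (congrArg Prod.fst (Subtype.ext_iff.1 e))), ?_⟩)).symm
    · rintro ⟨⟨s, t⟩, h3, h4, h5⟩
      have h6 := (CL.Small.orderOf_eq_of_isConj h3).trans hu
      have h7 : s * s = 1 := by rw [← pow_two, ← h6, pow_orderOf_eq_one]
      refine ⟨⟨u⁻¹ * s, h.mul_mem_of_nrm hu hux (mem_nrm (inv_of_mul_eq h6
        ((CL.Small.orderOf_eq_of_isConj h4).trans hu) h5)) (h.not_mem_of_invol h6)⟩, Subtype.ext ?_⟩
      simp only at h5
      simp [← h5, ← mul_assoc, h7]
  have h3 : (Nat.card {y // IsConj v y} : ℂ) * Nat.card (centralizer ({v} : Set G)) =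
      Nat.card G := by
    rw [card_isConj_eq_index, ← Nat.cast_mul, index_mul_card]
  simp only [e] at h1 h3
  rw [h2] at h1
  apply mul_left_cancel₀ (card_ne_zero G)
  rw [← h3] at h1 ⊢
  linear_combination (-(Nat.card (centralizer ({v} : Set G)) : ℂ) ^ 2) * h1

omit hu hux in
theorem nat_val {φ : G → ℂ} (hφ : IsCharacter G φ) {c : ℂ} (hc : ∀ y, orderOf y = p → φ y = c)
    {v : G} (hv : orderOf v = 2) : ∃ a : ℕ, φ 1 + (p - 1) * c + p * φ v = 2 * p * a := by
  obtain ⟨u, hu, hux⟩ := h.exists_inv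
  rw [hφ.isClassFunction.eq_of_isConj (h.conj_invol hv hu)]
  exact h.exists_nat_val hu hux hφ hc

omit hu hux in
theorem exists_center (S : Sylow 2 G) : ∃ z ∈ S, orderOf z = 2 ∧ (∀ g ∈ S, g * z = z * g) ∧
    ∃ j o o' : ℕ, Nat.card S = 2 ^ j ∧ Odd o ∧ Odd o' ∧ Nat.card G = 2 ^ j * o ∧
      Nat.card (centralizer ({z} : Set G)) = 2 ^ j * o' := by
  have : Fact (Nat.Prime 2) := ⟨Nat.prime_two⟩
  obtain ⟨j, hj⟩ := IsPGroup.iff_card.1 S.2
  have : Nontrivial S := Finite.one_lt_card_iff_nontrivial.1 (Nat.le_of_dvd Nat.card_pos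
    (S.dvd_card_of_dvd_card ((h.nrm ▸ dvd_mul_right 2 p).trans (card_subgroup_dvd_card _))))
  have := S.2.center_nontrivial
  obtain ⟨⟨z, hz⟩, h2⟩ := exists_prime_orderOf_dvd_card' (G := center S) 2
    ((S.2.to_subgroup _).card_eq_or_dvd.resolve_left Finite.one_lt_card.ne')
  have h3 : ∀ g ∈ S, g * z = z * g := fun g hg =>
    congrArg Subtype.val (mem_center_iff.1 hz ⟨g, hg⟩)
  have h4 : (S : Subgroup G) ≤ centralizer {z.1} := fun g hg =>
    mem_centralizer_singleton_iff.2 (h3 g hg)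
  have h5 : Odd (S : Subgroup G).index := Nat.not_even_iff_odd.1 (even_iff_two_dvd.not.2
    S.not_dvd_index)
  refine ⟨z, z.2, by rwa [orderOf_mk, ← orderOf_coe] at h2, h3, j, _, _, hj, h5,
    h5.of_dvd_nat (relIndex_dvd_index_of_le h4), by rw [← hj, card_mul_index], ?_⟩
  rw [← hj, ← Nat.card_congr (subgroupOfEquivOfLe h4).toEquiv, relIndex, card_mul_index]

omit hu hux in
theorem fix_cases (Ω : Type*) [MulAction G Ω] [Finite Ω] [IsPretransitive G Ω]
    (h3 : Nat.card Ω = 3 * p) : (∀ v : G, orderOf v = 2 → {a : Ω | v • a = a}.ncard = 1) ∨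
      ∀ v : G, orderOf v = 2 → {a : Ω | v • a = a}.ncard = 3 := by
  obtain ⟨u, hu, hux⟩ := h.exists_inv
  have h5 := h.five
  have : Nonempty Ω := (Nat.card_pos_iff.1 (by omega)).1
  have h1 := CL.PSyl.mul_ncard_fixed_le (X := Ω) h.card
    (h.centralizer_zpowers.symm ▸ h.not_mem_of_invol hu) (mem_nrm hux) (S := Set.univ)
    (fun _ _ _ _ => trivial) fun g hg a _ e => by
      by_contra h1
      have := h.fix_sing Ω (h3 ▸ dvd_mul_left p 3) g (h.ord_of_mem hg h1).symm.dvd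
      exact (Nat.card_ne_zero.2 ⟨⟨⟨a, e⟩⟩, inferInstance⟩) this
  simp only [Set.mem_univ, true_and, Set.ncard_univ, h3, mul_comm 3] at h1
  have h2 := Nat.le_of_mul_le_mul_left h1 hp.out.pos
  have h4 := CL.SR.ncard_fixed_add_ncard_moved (X := Ω) u
  have h6 := CL.SR.dvd_ncard_moved_of_orderOf (X := Ω) Nat.prime_two hu
  have h7 := Nat.odd_iff.1 (hp.out.odd_of_ne_two (by omega))
  have h8 : ∀ v : G, orderOf v = 2 → {a : Ω | v • a = a}.ncard = {a : Ω | u • a = a}.ncard :=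
    fun v hv => by
      obtain ⟨k, rfl⟩ := isConj_iff.1 (h.conj_invol hu hv)
      simpa using CL.SR.ncard_fixed_conj (X := Ω) u k⁻¹
  rcases (by omega : {a : Ω | u • a = a}.ncard = 1 ∨ {a : Ω | u • a = a}.ncard = 3) with e | e
  exacts [Or.inl fun v hv => (h8 v hv).trans e, Or.inr fun v hv => (h8 v hv).trans e]

end CL.D1T.E2
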