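import Cfsg.Agent.BLK.D1Half

/-! A module on which `x - 1` has small nilpotency class gives a map to `PGL₂`. -/

set_option autoImplicit false
open Subgroup Module Matrix CL.PGL2
open scoped MatrixGroups

namespace CL.D1T

variable {G : Type*} [Group G] {F : Type*} [Field F] {n : Type*} [Fintype n] [DecidableEq n]
  [Finite G] {p : ℕ} [hp : Fact p.Prime] [CharP F p] {x : G}

theorem P1.exists_small_rep_of_pow (h : P1 p x) (ρ : G →* Matrix n n F) (hx : ρ x ≠ 1) {s : ℕ}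
    (h1 : (ρ x - 1) ^ s = 0) (hd : 2 * s + 1 ≤ p) {H : Subgroup G} (hH : ¬ p ∣ Nat.card H)
    (hs : zpowers x ⊔ H = normalizer (zpowers x : Set G)) :
    (∃ b : G →* Matrix (Fin 2) (Fin 2) F, b x = !![1, 0; 1, 1]) ∨
    ∃ b : G →* Matrix (Fin 3) (Fin 3) F, b x = !![1, 0, 0; 1, 1, 0; 2⁻¹, 1, 1] ∧
      ∀ k ∈ H, ∃ c : F, c ≠ 0 ∧ b k = !![c⁻¹, 0, 0; 0, 1, 0; 0, 0, c] := by
  have := Fintype.ofFinite H
  have hN : ∀ k ∈ H, k ∈ normalizer (zpowers x : Set G) := fun k hk => hs.le (mem_sup_right hk)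
  obtain ⟨β, hβ, hβm, hβ0⟩ := h.exists_beta (F := F)
  obtain ⟨t, ht⟩ : ∃ t, ρ x = 1 + t := ⟨ρ x - 1, by simp⟩
  rw [ht, add_sub_cancel_left] at h1
  obtain ⟨m, hm, hm0, hm1⟩ : ∃ m, 2 * m + 5 ≤ p ∧ t ^ (m + 2) = 0 ∧ t ^ (m + 1) ≠ 0 := by
    have : Nontrivial (Matrix n n F) := ⟨_, _, hx⟩
    have e1 : nilpotencyClass t ≤ _ := Nat.sInf_le h1
    have e2 := pos_nilpotencyClass_iff.2 ⟨_, h1⟩
    have e3 : nilpotencyClass t ≠ 1 := fun e => hx (by simp [ht, eq_zero_of_nilpotencyClass_eq_one e])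
    exact ⟨nilpotencyClass t - 2, by omega, nilpotencyClass_eq_succ_iff.1 (by omega)⟩
  have hne : ∀ j : ℕ, 0 < j → j < p → (j : F) ≠ 0 := fun j a b e =>
    (Nat.le_of_dvd a ((CharP.cast_eq_zero_iff F p _).1 e)).not_gt b
  have hi : ∀ g, ρ g * ρ g⁻¹ = 1 := fun g => by rw [← map_mul, mul_inv_cancel, map_one]
  have hi' : ∀ g, ρ g⁻¹ * ρ g = 1 := fun g => by rw [← map_mul, inv_mul_cancel, map_one]
  have hc : Commute t (ρ x⁻¹) := by
    have : Commute (ρ x) (ρ x⁻¹) := (hi x).trans (hi' x).symm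
    simpa [ht] using this.sub_left (Commute.one_left _)
  obtain ⟨τ, hτ, h0⟩ : ∃ τ : Representation F G (Matrix n n F),
      (∀ g a, τ g a = ρ g * (a * ρ g⁻¹)) ∧ (τ x - 1) ^ (p - 1) = 0 := by
    refine ⟨lrRep F ρ (fun g => ρ g⁻¹) (by simp) (by simp), fun _ _ => rfl,
      lrRep_pow _ _ _ _ (i := m + 2) (j := m + 2) (by simp [ht, hm0]) ?_ (by omega)⟩
    have : ρ x⁻¹ - 1 = -(t * ρ x⁻¹) := by rw [← hi x, ht, add_mul, one_mul]; abel
    rw [this, neg_pow, hc.mul_pow, hm0, zero_mul, mul_zero]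
  obtain ⟨D, hD⟩ : ∃ D : End F (Matrix n n F), ∀ a, D a = t * a - a * t :=
    ⟨LinearMap.mulLeft F t - LinearMap.mulRight F t, fun _ => rfl⟩
  have hD' : ∀ a, D a * ρ x⁻¹ = D (a * ρ x⁻¹) := fun a => by
    simp only [hD, sub_mul, mul_assoc, hc.eq]
  have hT : ∀ a, (τ x - 1) a = D (a * ρ x⁻¹) := fun a => by
    rw [LinearMap.sub_apply, hτ, End.one_apply, ← hD', hD]
    nth_rw 2 [← mul_one a]
    rw [← hi x, ht]
    noncomm_ring
  have hH' : (Nat.card H : F) ≠ 0 := mt (CharP.cast_eq_zero_iff F p _).1 hH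
  obtain ⟨y, hy⟩ : ∃ y, y = avg τ H (fun k => (β k : F)⁻¹) t := ⟨_, rfl⟩
  obtain ⟨q, hq, hq'⟩ : y - t ∈ (LinearMap.ker D).map (LinearMap.mulLeft F (t ^ 2)) := by
    rw [← Submodule.Quotient.eq, hy]
    refine map_avg τ hH' (c := fun k => (β k : F)⁻¹) (m := t) (Submodule.mkQ _) fun k hk => ?_
    obtain ⟨q, hq, e⟩ := exists_one_add_pow (F := F) t (β k)
    rw [← ht, ← map_pow, ← hβ k (hN k hk), map_mul, map_mul, ht, mul_add, add_mul, mul_one, hi,
      add_assoc, add_right_inj, mul_assoc, ← hτ] at e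
    refine (Submodule.Quotient.eq _).2 ⟨(β k : F)⁻¹ • q, by simp [hD, hq.eq], ?_⟩
    simp [e, smul_smul, hβ0 k (hN k hk)]
  replace hq : Commute t q := sub_eq_zero.1 ((hD q).symm.trans hq)
  replace hq' : y = t + t ^ 2 * q := by rw [show t ^ 2 * q = y - t from hq']; abel
  have hty : Commute t y :=
    hq' ▸ (Commute.refl t).add_right (((Commute.refl t).pow_right 2).mul_right hq)
  refine (exists_small τ h h0 hH hs hβ hβm hβ0 (y := y) (fun k hk => ?_) ?_
    (hne 2 two_pos (by omega)) ?_ ?_).imp id fun ⟨b, e, e'⟩ =>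
      ⟨b, e, fun k hk => ⟨_, hβ0 k (hN k hk), e' k hk⟩⟩
  · rw [← inv_smul_eq_iff₀ (hβ0 k (hN k hk)), hy]
    exact avg_smul τ (c := fun k => (β k : F)⁻¹)
      (fun a ha b hb => by rw [hβm a (hN a ha) b (hN b hb), mul_inv]) t hk
  · rw [hT, ← hD', hD, hty.eq, sub_self, zero_mul]
  · by_contra h2
    obtain ⟨f, hf, hf'⟩ := Submodule.exists_dual_map_eq_bot_of_notMem h2 inferInstance
    obtain ⟨c, hc⟩ : ∃ c : Matrix n n F, ∀ a, f a = (a * c).trace :=
      ⟨Matrix.of fun i j => f (Matrix.single j i 1), fun a => by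
        nth_rw 1 [Matrix.matrix_eq_sum_single a]
        simp only [map_sum, Matrix.trace, Matrix.diag, Matrix.mul_apply, Matrix.of_apply,
          ← smul_eq_mul, ← map_smul, Matrix.smul_single]
        simp⟩
    have h3 : Commute t c := Matrix.ext_iff_trace_mul_left.2 fun a => by
      have : f ((τ x - 1) (a * ρ x)) = 0 := hf'.le ⟨_, ⟨_, rfl⟩, rfl⟩
      rw [hT, mul_assoc, hi, mul_one, hc, hD, sub_mul, Matrix.trace_sub, sub_eq_zero, mul_assoc,
        Matrix.trace_mul_comm, mul_assoc, mul_assoc] at this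
      exact this.symm
    refine hf ((hc y).trans (Matrix.isNilpotent_trace_of_isNilpotent ⟨m + 2, ?_⟩).eq_zero)
    exact (NilI.mul_right ⟨hty, 1 + t * q, by rw [hq']; noncomm_ring⟩ h3).pow_eq_zero hm0
  · rintro ⟨w, hw⟩
    obtain ⟨J, hJ⟩ : ∃ J, (t ^ (m + 1) * J).trace ≠ 0 := by
      by_contra! h2
      exact hm1 (Matrix.ext_iff_trace_mul_right.2 fun J => by simp [h2])
    obtain ⟨_, z, -, hz, hφ⟩ := exists_height J hD m
    simp only [hm0, pow_succ t (m + 2), zero_mul, mul_zero, smul_zero, add_zero, sub_zero] at hz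
    have h2 := (hφ (Matrix.traceLinearMap n F F ∘ₗ LinearMap.mulLeft F y) fun a => by
      simp only [LinearMap.comp_apply, LinearMap.mulLeft_apply, Matrix.traceLinearMap_apply]
      rw [← mul_assoc, Matrix.trace_mul_comm, ← mul_assoc, hty.eq, mul_assoc]).2
    simp only [LinearMap.comp_apply, LinearMap.mulLeft_apply, Matrix.traceLinearMap_apply] at h2
    have h3 : ∀ a b, (D a * b).trace = -(a * D b).trace := fun a b => by
      simp only [hD, sub_mul, mul_sub, Matrix.trace_sub, neg_sub, mul_assoc]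
      rw [Matrix.trace_mul_comm t, mul_assoc]
    have h4 : y * (t ^ m * J) = t ^ (m + 1) * J := by
      rw [hq', add_mul, mul_assoc, ← mul_assoc q, ← (hq.pow_left m).eq]
      simp only [← mul_assoc, ← pow_succ', ← pow_add, add_comm 2, hm0, zero_mul, add_zero]
    rw [h4, ← hw] at h2
    simp only [pow_succ, pow_zero, one_mul, End.mul_apply, hT, hD', h3, hz, mul_zero,
      Matrix.trace_zero, neg_zero] at h2
    have h5 := hne (m + 1) (by omega) (by omega)
    have h6 := hne (m + 2) (by omega) (by omega)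
    have h7 := hne (m + 3) (by omega) (by omega)
    push_cast at h5 h6 h7
    exact mul_ne_zero (mul_ne_zero (mul_ne_zero h5 h6) h7) (by simpa [pow_succ] using hJ) h2.symm

variable [IsAlgClosed F]

theorem P1.exists_pgl_of_pow (h : P1 p x) (ρ : G →* Matrix n n F) (hx : ρ x ≠ 1) {s : ℕ}
    (h1 : (ρ x - 1) ^ s = 0) (hd : 2 * s + 1 ≤ p) (h7 : 7 ≤ p) :
    ∃ π : G →* PGL(2, F), π x ≠ 1 := by
  have h2 : (2 : F) ≠ 0 := fun e => by
    have := Nat.le_of_dvd two_pos ((CharP.cast_eq_zero_iff F p 2).1 e)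
    omega
  obtain ⟨H, hH, hs⟩ := h.exists_compl
  rcases h.exists_small_rep_of_pow ρ hx h1 hd hH hs with ⟨b, hb⟩ | ⟨b, hb, hb'⟩
  · exact ⟨pglHom b, fun e => by simpa [hb] using ((ofMat_eq_one_iff _).1 e).2.1⟩
  have h3 : (b x - 1) ^ 3 = 0 := by simpa using h.pow_card b
  have h4 := h.fixed_of_pow (lrRep F b (fun g => (b g)ᵀ) (by simp) (by simp))
    (lrRep_pow _ _ _ _ h3 (j := 3) (by rw [← transpose_one, ← transpose_sub, ← transpose_pow, h3,
      transpose_zero]) (by omega)) (m := !![0, 0, -1; 0, 1, 0; -1, 0, 0])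
    (hs ▸ fixed_sup _ (by
      rw [lrRep_apply, hb]
      ext i j
      fin_cases i <;> fin_cases j <;>
        simp [Matrix.mul_apply, Fin.sum_univ_three, vecMul, dotProduct]
      field_simp; ring) fun k hk => by
      obtain ⟨c, hc, e⟩ := hb' k hk
      rw [lrRep_apply, e]
      ext i j
      fin_cases i <;> fin_cases j <;>
        simp [Matrix.mul_apply, Fin.sum_univ_three, vecMul, dotProduct, hc])
  choose g hg hg' using fun g => exists_sq2 h2 (h4 g)
  refine ⟨MonoidHom.mk' (fun a => ofMat (g a) (hg a)) fun a c => ?_, fun e => ?_⟩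
  · rw [ofMat_mul]
    exact ofMat_eq_of_sq2 h2 _ _ (by rw [sq2_mul h2, hg', hg', hg', map_mul])
  · obtain ⟨e1, e2, -⟩ := (ofMat_eq_one_iff _).1 e
    simpa [sq2, e2, e1, hb] using congrFun (congrFun (hg' x) 1) 0

omit [IsAlgClosed F] in
theorem P1.not_dvd_ker (h : P1 p x) {Q : Type*} [Group Q] {π : G →* Q} (hπ : π x ≠ 1) :
    ¬ p ∣ Nat.card π.ker ∧ P1 p (x : G ⧸ π.ker) := by
  have h1 : orderOf (π x) = p := orderOf_eq_prime (by rw [← map_pow, h.pow_p, map_one]) hπ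
  refine ⟨fun e => ?_, by
    rw [← h1, ← orderOf_injective _ (QuotientGroup.kerLift_injective π), QuotientGroup.kerLift_mk],
    fun e => h.sq (e.trans (card_quotient_dvd_card _))⟩
  obtain ⟨y, hy⟩ := exists_prime_orderOf_dvd_card' p e
  obtain ⟨c, j, hj, e⟩ := h.exists_conj_pow (y := y) ((orderOf_coe y).trans hy)
  exact hj (h1 ▸ orderOf_dvd_of_pow_eq_one (by
    rw [← map_pow, ← e, map_mul, map_mul, show π y = 1 from y.2]; simp))

theorem P1.of_pgl (h : P1 p x) {π : G →* PGL(2, F)} (hπ : π x ≠ 1)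
    (hc : ∀ k ∈ π.ker, Commute x k) (hn : ¬ (zpowers x).Normal) (h5 : 5 ≤ p) :
    p ≤ (expA p x).card + 1 ∨
      p ≤ 2 * (expA p x).card + 1 ∧ Nonempty (G ⧸ π.ker ≃* PSL(2, ZMod p)) := by
  obtain ⟨hK, hq⟩ := h.not_dvd_ker hπ
  have h2 : ∀ (g : G) (j : ℕ), (g * x * g⁻¹ : G ⧸ π.ker) = x ^ j → g * x * g⁻¹ = x ^ j :=
    fun g j e => by
    have e1 : (x ^ j)⁻¹ * (g * x * g⁻¹) ∈ π.ker := QuotientGroup.eq.1 e.symm
    have e2 := (zpowers x).mul_mem (inv_mem (pow_mem (mem_zpowers x) j)) (h.mem_of_commute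
      (y := g * x * g⁻¹) ⟨1, by simpa [h.ord] using (MulAut.conj g).orderOf_eq x⟩
      (by simpa using ((Commute.refl x).pow_right j).mul_right (hc _ e1)))
    exact (inv_mul_eq_one.1 (disjoint_def.1 (disjoint_of_coprime_natCard (by
      rw [h.card]; exact (Nat.Prime.coprime_iff_not_dvd hp.out).2 hK)) e2 e1)).symm
  have h3 : (expA p (x : G ⧸ π.ker)).card ≤ (expA p x).card := Finset.card_le_card fun a ha => by
    obtain ⟨g, hg⟩ := isConj_iff.1 (mem_expA.1 ha)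
    obtain ⟨g, rfl⟩ := QuotientGroup.mk_surjective g
    exact mem_expA.2 (isConj_iff.2 ⟨g, h2 g _ hg⟩)
  refine (hq.dickson (QuotientGroup.kerLift_injective π) (fun hn' => hn
    (normalizer_eq_top_iff.1 (top_unique fun g _ => ?_))) h5).imp (by omega) (And.imp_left (by omega))
  obtain ⟨j, hj⟩ := mem_powers_iff_mem_zpowers.2 (hn'.conj_mem _ (mem_zpowers _) g)
  rw [h.mem_normalizer_iff hp.out.not_dvd_one, pow_one, h2 g j hj.symm]
  exact pow_mem (mem_zpowers x) j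

end CL.D1T
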