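import Cfsg.Agent.PERM.PermAlg
import Cfsg.Agent.CHAR.PermRank
import Cfsg.Agent.S0717

/-! Rank 3 groups of degree `3 p` with constituents of degrees `2 p - 1` and `p`. -/

set_option autoImplicit false
open Cfsg MulAction CL.Char CL.PermAlg CL.PermMod

namespace CL.D1T

theorem srg_arith {p k r s : ℤ} (hp : 0 < p) (h0 : 0 < k) (h1 : k + 1 < 3 * p) (h2 : 0 ≤ k - r)
    (h3 : k - r ≤ 3 * p) (t1 : 0 = k + r * (2 * p - 1) + s * p)
    (t2 : 3 * p * k = k ^ 2 + r ^ 2 * (2 * p - 1) + s ^ 2 * p) :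
    ∃ ρ : ℤ, 2 * p = 6 * ρ ^ 2 + 3 * ρ + 1 ∧ (k = p + ρ ∨ k = 2 * p - 1 - ρ) := by
  obtain ⟨μ, rfl⟩ : ∃ μ, s = -μ - 2 * r := ⟨-s - 2 * r, by ring⟩
  obtain rfl : k = r + μ * p := by linear_combination -t1
  have h4 : p * (μ * (3 - μ)) = 6 * r ^ 2 + 6 * μ * r + μ ^ 2 - 3 * r := by
    apply mul_left_cancel₀ hp.ne'
    linear_combination t2
  have h5 : 0 ≤ μ := by by_contra h; nlinarith
  have h6 : μ ≤ 3 := by by_contra h; nlinarith
  interval_cases μ
  · exfalso; nlinarith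
  · exact ⟨r, by linarith, Or.inl (by ring)⟩
  · exact ⟨-1 - r, by linear_combination h4, Or.inr (by ring)⟩
  · exfalso; nlinarith

theorem srg {G : Type*} [Group G] [Finite G] {Ω : Type*} [Finite Ω] [MulAction G Ω]
    [IsPretransitive G Ω] {p : ℕ} (hp : 2 ≤ p) (hm : Nat.card Ω = 3 * p) {χ₁ χ₂ : G → ℂ}
    (h₁ : IsIrrCharacter G χ₁) (h₂ : IsIrrCharacter G χ₂)
    (hπ : ∀ g : G, (Nat.card (fixedBy Ω g) : ℂ) = 1 + χ₁ g + χ₂ g)
    (hd₁ : χ₁ 1 = 2 * p - 1) (hd₂ : χ₂ 1 = p) {x : G} (hx₁ : χ₁ x = -1) (hx₂ : χ₂ x = 0) :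
    (∀ a b : Ω, ∃ g : G, g • a = b ∧ g • b = a) ∧ ∀ a b : Ω, b ≠ a → ∃ ρ : ℤ,
      2 * (p : ℤ) = 6 * ρ ^ 2 + 3 * ρ + 1 ∧ ((orbit (stabilizer G a) b).ncard = p + ρ ∨
        (orbit (stabilizer G a) b).ncard = 2 * p - 1 - ρ) := by
  classical
  have := Fintype.ofFinite G
  have := Fintype.ofFinite Ω
  have : Nontrivial Ω := Finite.one_lt_card_iff_nontrivial.1 (by omega)
  have hπ' : pc G Ω = (fun _ => 1) + χ₁ + χ₂ := funext hπ
  have hin : ∀ χ, IsIrrCharacter G χ → classInner (pc G Ω) χ =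
      (if (fun _ => 1) = χ then 1 else 0) + (if χ₁ = χ then 1 else 0) +
        (if χ₂ = χ then 1 else 0) := fun χ hχ => by
    rw [hπ', classInner_add_left, classInner_add_left, isIrrCharacter_one.inner hχ, h₁.inner hχ,
      h₂.inner hχ]
  have n1 : χ₁ ≠ fun _ => 1 := fun h => by rw [h] at hx₁; norm_num at hx₁
  have n2 : χ₂ ≠ fun _ => 1 := fun h => by rw [h] at hx₂; norm_num at hx₂
  have n0 : χ₁ 1 ≠ χ₂ 1 := fun h => by
    have : ((2 * p : ℕ) : ℂ) = (p + 1 : ℕ) := by push_cast; linear_combination h - hd₁ + hd₂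
    rw [Nat.cast_inj] at this
    omega
  have n12 : χ₁ ≠ χ₂ := fun h => n0 (by rw [h])
  have i1 : classInner (pc G Ω) χ₁ = 1 := by rw [hin _ h₁]; simp [n1.symm, n12.symm]
  have i2 : classInner (pc G Ω) χ₂ = 1 := by rw [hin _ h₂]; simp [n2.symm, n12]
  have i3 : ∀ χ, IsIrrCharacter G χ → classInner (pc G Ω) χ ≠ 0 →
      χ = (fun _ => 1) ∨ χ = χ₁ ∨ χ = χ₂ := fun χ hχ h => by
    by_contra hc
    push Not at hc
    rw [hin _ hχ] at h
    simp [hc.1.symm, hc.2.1.symm, hc.2.2.symm] at h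
  have hsp : ∀ a b : Ω, ∃ g : G, g • a = b ∧ g • b = a := by
    refine Cfsg.Agent.S0717.result.2 fun χ hχ h => ?_
    have h6 := classInner_conj_conj (pc G Ω) χ
    have h7 : (fun g => (starRingEnd ℂ) (pc G Ω g)) = pc G Ω := by
      ext g
      simp
    rw [h7] at h6
    have h8 := i3 _ hχ.conj (by rwa [h6, _root_.map_ne_zero])
    have h9 : (fun g => (starRingEnd ℂ) (χ g)) = (fun _ => 1) → χ = fun _ => 1 := fun h => by
      ext g
      simpa using congrArg (starRingEnd ℂ) (congrFun h g)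
    rcases i3 χ hχ h with rfl | rfl | rfl
    · exact ⟨inner_pc_one, by simp⟩
    · refine ⟨i1, ?_⟩
      rcases h8 with h | h | h
      · exact absurd (h9 h) n1
      · exact congrFun h
      · exact absurd (hχ.isCharacter.conj_one.symm.trans (congrFun h 1)) n0
    · refine ⟨i2, ?_⟩
      rcases h8 with h | h | h
      · exact absurd (h9 h) n2
      · exact absurd (hχ.isCharacter.conj_one.symm.trans (congrFun h 1)).symm n0
      · exact congrFun h
  refine ⟨hsp, fun a₀ b hb => ?_⟩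
  have hsym : ∀ x y : Ω, cls G x y = cls G y x := fun x y => cls_eq_iff.2 (hsp y x)
  have expand : ∀ f : G → ℂ, IsClassFunction G f →
      (∀ χ, IsIrrCharacter G χ → classInner (pc G Ω) χ = 0 → classInner f χ = 0) → ∀ g,
      f g = classInner f (fun _ => 1) + classInner f χ₁ * χ₁ g + classInner f χ₂ * χ₂ g := by
    intro f hf h g
    rw [hf.apply_eq_sum g, ← Finset.sum_subset (Finset.subset_univ
      {⟨_, isIrrCharacter_one⟩, ⟨_, h₁⟩, ⟨_, h₂⟩}), Finset.sum_insert, Finset.sum_pair]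
    · simp [add_assoc]
    · simpa using n12
    · simp [n1.symm, n2.symm]
    · intro χ _ hχ
      rw [h χ χ.2, zero_mul]
      by_contra hc
      apply hχ
      simpa [Subtype.ext_iff] using i3 χ χ.2 hc
  have hd : ∀ x y : Ω, y ≠ a₀ → cls G x x ≠ cls G a₀ y := fun x y hy h =>
    hy (cls_eq_diag.1 h.symm).symm
  have k1 : (orbit (stabilizer G a₀) b).ncard + 1 < 3 * p := by
    have h1 : orbit (stabilizer G a₀) b ⊆ {a₀}ᶜ := by
      rintro _ ⟨⟨g, hg⟩, rfl⟩ e
      exact hb (smul_left_cancel g ((show g • b = a₀ from e).trans hg.symm))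
    have h2 := Set.ncard_add_ncard_compl ({a₀} : Set Ω)
    rw [Set.ncard_singleton, hm] at h2
    by_contra h3
    have h4 := Set.eq_of_subset_of_ncard_le h1 (by omega)
    have h5 : ∀ c d : Ω, c ≠ d → ∃ g : G, g • a₀ = c ∧ g • b = d := fun c d hcd => by
      obtain ⟨g, rfl⟩ := exists_smul_eq G a₀ c
      obtain ⟨⟨t, ht⟩, e⟩ := h4.ge (show g⁻¹ • d ∈ ({a₀}ᶜ : Set Ω) from fun e =>
        hcd (inv_smul_eq_iff.1 e).symm)
      exact ⟨g * t, by rw [mul_smul, mem_stabilizer_iff.1 ht],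
        by rw [mul_smul, show t • b = _ from e, smul_inv_smul]⟩
    have h6 := ((isIrr_perm_sub_one_iff (G := G) Ω).2 (is_two_pretransitive_iff.2
      fun {c d c' d'} h h' => by
        obtain ⟨g, rfl, rfl⟩ := h5 c d h
        obtain ⟨g', rfl, rfl⟩ := h5 c' d' h'
        exact ⟨g' * g⁻¹, by simp [mul_smul]⟩)).inner_self
    rw [show (fun g : G => (Nat.card (fixedBy Ω g) : ℂ) - 1) = χ₁ + χ₂ from
      funext fun g => by rw [hπ]; simp [add_assoc], classInner_add_left, classInner_add_right,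
      classInner_add_right, h₁.inner_self, h₂.inner_self, h₁.inner_of_ne h₂ n12,
      h₂.inner_of_ne h₁ n12.symm] at h6
    norm_num at h6
  have k2 : 0 < (orbit (stabilizer G a₀) b).ncard :=
    (Set.ncard_pos (Set.toFinite _)).2 ⟨b, mem_orbit_self b⟩
  set k := (orbit (stabilizer G a₀) b).ncard with hk
  have hk' : Nat.card (orbit (stabilizer G a₀) b) = k := rfl
  set A := adj ℂ (cls G a₀ b) with hA
  have hAi : InvMat G A := invMat_adj ℂ _
  have hA2 : InvMat G (A ^ 2) := by rw [pow_two]; exact hAi.mul hAi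
  have hdiag : ∀ x, (A ^ 2) x x = k := by
    intro x
    rw [← hk', ← sum_adj, ← hAi.row_sum x a₀, pow_two, Matrix.mul_apply]
    refine Finset.sum_congr rfl fun y _ => ?_
    simp only [hA, adj_apply, hsym y x]
    split_ifs <;> simp
  have spec : ∀ χ, IsIrrCharacter G χ → classInner (pc G Ω) χ = 1 →
      classInner (φ (A ^ 2)) χ = classInner (φ A) χ ^ 2 ∧ IsIntegral ℤ (classInner (φ A) χ) := by
    intro χ hχ h
    obtain ⟨s, hs', hs⟩ := exists_spectrum_mat hAi (adj_int _) hχ.isCharacter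
    have e0 := hs 0
    simp only [pow_zero, φ_one, Multiset.map_const', Multiset.sum_replicate, nsmul_eq_mul,
      mul_one, h] at e0
    obtain ⟨r, rfl⟩ := Multiset.card_eq_one.1 (by exact_mod_cast e0.symm)
    have e1 := hs 1
    rw [pow_one] at e1
    simpa [hs 2, e1] using hs'
  have spec0 : ∀ (j : ℕ) χ, IsIrrCharacter G χ → classInner (pc G Ω) χ = 0 →
      classInner (φ (A ^ j)) χ = 0 := by
    intro j χ hχ h
    obtain ⟨s, -, hs⟩ := exists_spectrum_mat hAi (adj_int _) hχ.isCharacter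
    have e0 := hs 0
    simp only [pow_zero, φ_one, Multiset.map_const', Multiset.sum_replicate, nsmul_eq_mul,
      mul_one, h] at e0
    obtain rfl := Multiset.card_eq_zero.1 (by exact_mod_cast e0.symm)
    simp [hs j]
  have t0 := expand _ (isClassFunction_φ hAi) (by simpa using spec0 1)
  have t2 := expand _ (isClassFunction_φ hA2) (spec0 2) 1
  rw [(spec _ isIrrCharacter_one inner_pc_one).1, (spec _ h₁ i1).1, (spec _ h₂ i2).1] at t2
  rw [inner_φ_one hAi a₀, sum_adj, hk'] at t0 t2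
  have t3 : φ A (1 : G) = 0 := Finset.sum_eq_zero fun x _ => by
    rw [one_smul, hA, adj_apply, if_neg (hd _ _ hb)]
  have t4 : φ (A ^ 2) (1 : G) = 3 * p * k := by
    simp [φ, hdiag, ← Nat.card_eq_fintype_card, hm]
  obtain ⟨N, hN, t5⟩ : ∃ N : ℕ, N ≤ 3 * p ∧ φ A x = N := by
    refine ⟨_, ?_, by simp only [φ, hA, adj_apply, Finset.sum_boole]; rfl⟩
    rw [← hm, Nat.card_eq_fintype_card]
    exact Finset.card_le_univ _
  have t1 := t0 1
  have t6 := t0 x
  rw [t3, hd₁, hd₂] at t1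
  rw [t4, hd₁, hd₂] at t2
  rw [t5, hx₁, hx₂] at t6
  have e1 : classInner (φ A) χ₁ = ((k - N : ℤ) : ℂ) := by push_cast; linear_combination t6
  have hp0 : (p : ℂ) ≠ 0 := Nat.cast_ne_zero.2 (by omega)
  obtain ⟨s, e2⟩ := exists_int_of_isIntegral_of_rat (spec _ h₂ i2).2
    ⟨-(k + (k - N) * (2 * p - 1)) / p, by
      rw [e1] at t1
      push_cast at t1 ⊢
      field_simp
      linear_combination -t1⟩
  rw [e1, e2] at t1 t2
  exact srg_arith (r := k - N) (s := s) (by omega) (by omega) (by omega) (by omega) (by omega)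
    (by exact_mod_cast t1) (by exact_mod_cast t2)

end CL.D1T
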