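import Cfsg.Agent.BLK.D1Inv
import Cfsg.Agent.BLK.D1Fix3
import Cfsg.Agent.BLK.D1Srg
import Cfsg.Agent.INV.GW.Cor2
import Cfsg.Agent.INV.Bender.Cons
import Cfsg.Agent.INV.SmallTI
import Cfsg.Agent.CLAS.UniGen
import Cfsg.Agent.S0254

/-! Simple groups of degree `3 p` whose Sylow `p`-normalizer has order `2 p`. -/

set_option autoImplicit false
open Cfsg Subgroup CL.Char MulAction CL.SR
open scoped MatrixGroups

namespace CL.D1T

variable {G : Type*} [Group G] [Finite G] {p : ℕ} [hp : Fact p.Prime]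

theorem dih_cases [IsSimpleGroup G] (hna : ¬ IsMulCommutative G) (hD : GW.D2 G) {z : G}
    (hz : orderOf z = 2) (hcj : ∀ v, orderOf v = 2 → IsConj z v) : Nat.card G = 2520 ∨
    ∃ (k q : ℕ) (e : ℤ), (e = 1 ∨ e = -1) ∧ Even k ∧ (q : ℤ) = 2 * k + e ∧ 3 < q ∧ GW.IsL2 G q ∧
      Nat.card (centralizer ({z} : Set G)) = 2 * k ∧
      (Nat.card G : ℤ) = (2 * k + e) * (k + e) * (2 * k) := by
  classical
  obtain ⟨q, hq, h3, F, _, _, hF, ⟨f⟩⟩ | ⟨⟨f⟩⟩ := GW.known_of_simple hna hD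
  swap
  · left
    rw [Nat.card_congr f.toEquiv, nat_card_alternatingGroup]
    simp [Nat.factorial]
  obtain ⟨k, e, he, hk, hq'⟩ : ∃ (k : ℕ) (e : ℤ), (e = 1 ∨ e = -1) ∧ Even k ∧
      (q : ℤ) = 2 * k + e := by
    rw [Nat.odd_iff] at hq
    by_cases h4 : q % 4 = 1
    · exact ⟨q / 4 + q / 4, 1, Or.inl rfl, ⟨_, rfl⟩, by omega⟩
    · exact ⟨q / 4 + 1 + (q / 4 + 1), -1, Or.inr rfl, ⟨_, rfl⟩, by omega⟩
  obtain ⟨g⟩ := GW.quotCenterEquiv (E := (⊤ : Subgroup G)) (by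
    rw [coe_top, centralizer_univ, CL.Small.center_eq_bot hna])
  obtain ⟨F', _, _, ⟨d⟩⟩ := GW.DF.exists_md (E := (⊤ : Subgroup G)) (k := k) (e := e)
    ⟨hD, CL.Small.commutator_eq_top hna, he, hk, q, hq', h3, F, _, _, hF,
      ⟨g.symm.trans (topEquiv.trans f)⟩⟩
  have h1 := d.card_inv
  rw [Nat.card_congr (Equiv.subtypeEquivRight (q := fun v => IsConj z v) fun v =>
    ⟨fun h => hcj v h.2, fun h => ⟨mem_top v, (CL.Small.orderOf_eq_of_isConj h).trans hz⟩⟩),
    card_isConj_eq_index] at h1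
  have h2 := CL.SL.gcd_mul_card_PSL_two (F := F)
  rw [← Nat.card_congr f.toEquiv, Nat.card_eq_fintype_card (α := F), hF,
    Nat.gcd_eq_left (by rw [Nat.odd_iff] at hq; omega)] at h2
  have h4 : (Nat.card G : ℤ) = (2 * k + e) * (k + e) * (2 * k) := by
    zify [Nat.one_le_pow 2 q (by omega)] at h2
    rw [hq'] at h2
    rcases he with rfl | rfl <;> linarith
  have h5 := (centralizer ({z} : Set G)).index_mul_card
  have h6 : (centralizer ({z} : Set G)).index ≠ 0 := index_ne_zero_of_finite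
  refine Or.inr ⟨k, q, e, he, hk, hq', h3, ⟨F, _, _, hF, ⟨f⟩⟩, mul_left_cancel₀ h6 ?_, h4⟩
  zify at h5 ⊢
  rw [h5, h4, h1]

theorem two_pow_eq {a b o o' : ℕ} (ho : Odd o) (ho' : Odd o') (h : 2 ^ a * o = 2 ^ b * o') :
    2 ^ a = 2 ^ b :=
  Nat.dvd_antisymm (((Nat.coprime_two_left.2 ho').pow_left a).dvd_of_dvd_mul_right ⟨_, h.symm⟩)
    (((Nat.coprime_two_left.2 ho).pow_left b).dvd_of_dvd_mul_right ⟨_, h⟩)

theorem sq_eq_one_sl {F : Type*} [Field F] (h2 : (2 : F) = 0) (k : ℕ) (g : SL(2, F))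
    (hg : g ^ 2 ^ k = 1) : g * g = 1 := by
  induction k generalizing g with
  | zero => rw [pow_zero, pow_one] at hg; simp [hg]
  | succ k ih =>
    have h1 := ih (g * g) (by rw [← pow_two, ← pow_mul, ← pow_succ', hg])
    have hd := g.det_coe
    have e0 := congrArg (fun m : SL(2, F) => m 0 0) h1
    have e1 := congrArg (fun m : SL(2, F) => m 1 1) h1
    simp only [Matrix.det_fin_two, Matrix.SpecialLinearGroup.coe_mul, Matrix.mul_apply,
      Fin.sum_univ_two, Matrix.SpecialLinearGroup.coe_one, Matrix.one_apply_eq] at hd e0 e1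
    have ht : g 0 0 + g 1 1 = 0 := pow_eq_zero_iff (n := 4) (by norm_num) |>.1 (by
      linear_combination e0 + e1 + (1 + 2 * (g 0 0 * g 1 1 - g 0 1 * g 1 0) * (g 0 0 + g 1 1) ^ 2
        - (g 0 0 * g 1 1 - g 0 1 * g 1 0) ^ 2) * h2)
    ext i j
    fin_cases i <;> fin_cases j <;> simp [Matrix.mul_apply, Fin.sum_univ_two]
    · linear_combination g 0 0 * ht - hd - h2
    · linear_combination g 0 1 * ht
    · linear_combination g 1 0 * ht
    · linear_combination g 1 1 * ht - hd - h2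

theorem d2_of_eight (S : Sylow 2 G) (hS : Nat.card S = 8) {v : G} (hv : v ∈ (S : Subgroup G))
    (h2 : orderOf v = 2) (h4 : Nat.card (centralizer ({⟨v, hv⟩} : Set S)) = 4) : GW.D2 G := by
  obtain ⟨n, ⟨e⟩⟩ | ⟨n, hn, h, -⟩ | h := Cfsg.Agent.S3224.result S.2 _ (by rwa [orderOf_mk]) h4
  · exact GW.d2_of_dihedral S e
  · have : 2 ^ 4 ≤ 2 ^ (n + 1) := Nat.pow_le_pow_right two_pos (by omega)
    omega
  · omega

omit hp in
theorem eq_five_of_dvd (hp : p.Prime) (h5 : 5 ≤ p) (h4 : p % 4 = 1) (hd : p ∣ 72 * 35) :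
    p = 5 := by
  rcases hp.dvd_mul.1 hd with h | h <;> have := Nat.le_of_dvd (by norm_num) h <;>
    interval_cases p <;> simp_all (config := {decide := true})

theorem arith_one {k m e ρ : ℤ} {l f : ℕ} (hl : l.Prime) (he : e = 1 ∨ e = -1) (hk : 0 < k)
    (hm : 4 ≤ m) (h : (2 * k + e) * (k + e) * (2 * k) * (2 * m) =
      (m + 1) * (2 * k) ^ 2 * (2 * m + 1)) (hq : ((l ^ f : ℕ) : ℤ) = 2 * k + e)
    (hρ : 2 * (m + 1) = 6 * ρ ^ 2 + 3 * ρ + 1) : m = 4 ∧ l ^ f = 9 := by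
  have h1 : (2 * k + e) * (k + e) * m = (m + 1) * (2 * m + 1) * k := by
    apply mul_left_cancel₀ (show 4 * k ≠ 0 by omega)
    linear_combination h
  have h2 : k ∣ m := IsCoprime.dvd_of_dvd_mul_left (x := k) (y := (2 * k + e) * (k + e))
    ⟨-(2 * k + 3 * e), 1, by rcases he with rfl | rfl <;> ring⟩ ⟨_, h1.trans (mul_comm _ _)⟩
  have h3 : m ∣ k := IsCoprime.dvd_of_dvd_mul_left (x := m) (y := (m + 1) * (2 * m + 1))
    ⟨-(2 * m + 3), 1, by ring⟩ ⟨_, h1.symm.trans (mul_comm _ _)⟩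
  obtain rfl : k = m := Int.dvd_antisymm hk.le (by omega) h2 h3
  obtain rfl : e = 1 := he.resolve_right (by rintro rfl; nlinarith)
  have h4 : ((l ^ f : ℕ) : ℤ) = ρ * (3 * (2 * ρ + 1)) := by linarith
  obtain ⟨i, -, hi⟩ := (Nat.dvd_prime_pow hl).1 (Int.natAbs_dvd_natAbs.2
    (show ρ ∣ ((l ^ f : ℕ) : ℤ) from ⟨_, h4⟩))
  obtain ⟨j, -, hj⟩ := (Nat.dvd_prime_pow hl).1 (Int.natAbs_dvd_natAbs.2
    (show 2 * ρ + 1 ∣ ((l ^ f : ℕ) : ℤ) from ⟨ρ * 3, by rw [h4]; ring⟩))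
  have h5 : ρ.natAbs = 1 ∨ (2 * ρ + 1).natAbs = 1 := by
    rcases i with _ | i
    · exact Or.inl hi
    rcases j with _ | j
    · exact Or.inr hj
    have a1 : (l : ℤ) ∣ ρ := Int.natCast_dvd.2 (hi ▸ dvd_pow_self l i.succ_ne_zero)
    have a2 : (l : ℤ) ∣ 2 * ρ + 1 := Int.natCast_dvd.2 (hj ▸ dvd_pow_self l j.succ_ne_zero)
    exact absurd (Int.natCast_dvd.1 ((dvd_add_right (a1.mul_left 2)).1 a2)) hl.not_dvd_one
  obtain rfl | rfl | rfl : ρ = 1 ∨ ρ = 0 ∨ ρ = -1 := by omega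
  all_goals omega

theorem arith_zero {k w : ℕ} {e : ℤ} (hp : (4 * w + 1).Prime) (he : e = 1 ∨ e = -1) (hk : 0 < k)
    (h : (2 * k + e) * (k + e) * (2 * k) * (12 * w) ^ 2 =
      (4 * w + 1) * (2 * k) ^ 2 * ((12 * w + 2) * (12 * w + 1))) : False := by
  have hw : 1 ≤ w := by by_contra h; exact hp.ne_one (by omega)
  have h1 : (2 * k + e) * (k + e) * (6 * w) ^ 2 =
      (4 * w + 1) * ((6 * w + 1) * (12 * w + 1)) * k := by
    apply mul_left_cancel₀ (show 8 * (k : ℤ) ≠ 0 by omega)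
    linear_combination h
  have h2 : IsCoprime (6 * w : ℤ) (4 * w + 1) := by
    have : Nat.Coprime (4 * w + 1) (6 * w) := (Nat.Prime.coprime_iff_not_dvd hp).2 fun h => by
      rcases hp.dvd_mul.1 h with h | h <;> have := Nat.le_of_dvd (by omega) h
      · obtain rfl : w = 1 := by omega
        norm_num at h
      · omega
    exact_mod_cast Nat.isCoprime_iff_coprime.2 this.symm
  obtain ⟨m, hm⟩ := IsCoprime.dvd_of_dvd_mul_left (x := (6 * w : ℤ) ^ 2) (z := k)
    (h2.mul_right (IsCoprime.mul_right ⟨-1, 1, by ring⟩ ⟨-2, 1, by ring⟩)).pow_left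
    ⟨_, h1.symm.trans (mul_comm _ _)⟩
  have h3 : (2 * k + e) * (k + e) = (4 * w + 1) * ((6 * w + 1) * (12 * w + 1)) * m := by
    apply mul_right_cancel₀ (show (6 * w : ℤ) ^ 2 ≠ 0 by positivity)
    rw [h1, hm]; ring
  have h4 : 0 < m := by by_contra h; nlinarith [sq_nonneg (6 * w : ℤ)]
  have h5 : (36 : ℤ) * w ^ 2 ≤ k := by nlinarith [sq_nonneg (6 * w : ℤ)]
  have h6 : (1 : ℤ) ≤ w := by omega
  have h7 : (k : ℤ) * k ≤ (2 * k + e) * (k + e) := by rcases he with rfl | rfl <;> nlinarith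
  have h8 : (4 * w + 1) * ((6 * w + 1) * (12 * w + 1)) < (6 * w : ℤ) ^ 2 * (36 * w ^ 2) := by
    nlinarith [mul_le_mul h6 h6 zero_le_one (by omega), pow_le_pow_left₀ zero_le_one h6 3,
      mul_le_mul_of_nonneg_left h6 (show (0 : ℤ) ≤ w ^ 2 by positivity),
      mul_le_mul_of_nonneg_left h6 (show (0 : ℤ) ≤ w ^ 3 by positivity)]
  have h9 := mul_le_mul_of_nonneg_left h5 (show (0 : ℤ) ≤ k by omega)
  nlinarith

namespace E2

variable {x : G} {χ : IrrCharacter G} {δ : ℤ} {Y : Finset (IrrCharacter G)} (h : E2 p x χ δ Y)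
  (Ω : Type*) [MulAction G Ω] [Finite Ω] [IsPretransitive G Ω] [FaithfulSMul G Ω]
  (h3 : Nat.card Ω = 3 * p)
include h h3

omit [FaithfulSMul G Ω] in
theorem exists_fix (S : Sylow 2 G) : ∃ α : Ω, ∀ g ∈ S, g • α = α := by
  have : Fact (Nat.Prime 2) := ⟨Nat.prime_two⟩
  have h7 := Nat.odd_iff.1 (hp.out.odd_of_ne_two (by have := h.five; omega))
  obtain ⟨α, -, hα⟩ := exists_fixed_of_isPGroup (X := Ω) S.2 Set.univ (fun _ _ _ _ => trivial)
    (by rw [Set.ncard_univ]; omega)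
  exact ⟨α, hα⟩

omit [FaithfulSMul G Ω] in
theorem not_prim (hd : charDegree χ.1 + 1 = p) : ¬ IsPreprimitive G Ω := fun hprim => by
  classical
  have : Fact (Nat.Prime 2) := ⟨Nat.prime_two⟩
  have := h.simple
  have h5 := h.five
  obtain ⟨a, F, _, _, ha, hF, ⟨f⟩⟩ := h.iso hd
  obtain ⟨S⟩ : Nonempty (Sylow 2 G) := inferInstance
  obtain ⟨α, hα⟩ := h.exists_fix Ω h3 S
  have h2 : (2 : F) = 0 := GL2.two_eq_zero_of_even (hF ▸ dvd_pow_self 2 (by rintro rfl; omega))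
  obtain ⟨m, hm⟩ : ∃ m, 2 ^ a = m + 1 := ⟨2 ^ a - 1, by omega⟩
  have hG : Nat.card G = 2 ^ a * (p * m) := by
    rw [Nat.card_congr f.toEquiv, CL.SL.card_SL_two, Nat.card_eq_fintype_card, hF, ha, hm]
    congr 1
    exact Nat.sub_eq_of_eq_add (by ring)
  have hsq : ∀ R : Sylow 2 G, ∀ g ∈ R, g * g = 1 := fun R g hg => by
    obtain ⟨k, hk⟩ := R.2 ⟨g, hg⟩
    apply f.injective
    rw [map_mul, map_one, sq_eq_one_sl h2 k _ (by
      rw [← map_pow, show g ^ 2 ^ k = 1 from congrArg Subtype.val hk, map_one])]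
  have hcm : ∀ R : Sylow 2 G, ∀ g ∈ R, (R : Subgroup G) ≤ centralizer {g} := fun R g hg y hy => by
    have := hsq R _ (mul_mem hy hg)
    rw [mem_centralizer_singleton_iff, ← inv_eq_of_mul_eq_one_right this, mul_inv_rev,
      inv_eq_of_mul_eq_one_right (hsq R g hg), inv_eq_of_mul_eq_one_right (hsq R y hy)]
  have hC : ∀ v : G, orderOf v = 2 → Nat.card (centralizer ({v} : Set G)) = 2 ^ a := fun v hv => by
    obtain ⟨u, hu, hux⟩ := h.exists_inv
    have h1 := h.order_formula hv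
    have hδ : δ = -1 := h.sign.resolve_left fun h1 => by
      have h2 := h.deg
      rw [h1, show (charDegree χ.1 : ℤ) - 1 = p - 2 by omega] at h2
      have := Int.le_of_dvd (by omega) h2
      omega
    rw [χ.2.isClassFunction.eq_of_isConj (h.conj_invol hv hu), eq_zero_of_degree h.toSelfCent
      (by rw [CL.Blk.autIdx, h.idx]; norm_num) χ.2 hd (mem_nrm hux) (h.not_mem_of_invol hu),
      χ.2.apply_one_eq_charDegree, show charDegree χ.1 = m + 1 by omega, hG, hδ, hm] at h1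
    have h4 : (m + 1) * (p * m) * (m + 1) ^ 2 =
        (m + 1) * (p * m) * Nat.card (centralizer ({v} : Set G)) ^ 2 := by
      have : (((m + 1) * (p * m) * (m + 1) ^ 2 : ℕ) : ℂ) =
        ((m + 1) * (p * m) * Nat.card (centralizer ({v} : Set G)) ^ 2 : ℕ) := by
        push_cast at h1 ⊢
        linear_combination h1
      exact_mod_cast this
    rw [hm]
    exact (pow_left_injective (n := 2) two_ne_zero (mul_left_cancel₀
      (Nat.mul_ne_zero (by omega) (Nat.mul_ne_zero (by omega) (by omega))) h4)).symm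
  have hS : ∀ R : Sylow 2 G, Nat.card R = 2 ^ a := fun R => by
    obtain ⟨z, -, -, -, j, o, o', h1, h4, -, h6, -⟩ := h.exists_center R
    rw [h1]
    refine two_pow_eq h4 ?_ (h6.symm.trans hG)
    have : Even (2 ^ a) := (Nat.even_pow' (by rintro rfl; omega)).2 even_two
    exact (hp.out.odd_of_ne_two (by omega)).mul (by rw [Nat.odd_iff]; rw [Nat.even_iff] at this; omega)
  have hTI : ∀ R : Sylow 2 G, R ≠ S → (S : Subgroup G) ⊓ R = ⊥ := fun R hR => by
    rw [eq_bot_iff]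
    intro g hg
    by_contra h1
    have h4 := orderOf_eq_prime (p := 2) (by rw [pow_two, hsq S g hg.1]) h1
    exact hR (Sylow.ext ((eq_of_le_of_card_ge (hcm R g hg.2) (by rw [hC g h4, hS])).trans
      (eq_of_le_of_card_ge (hcm S g hg.1) (by rw [hC g h4, hS])).symm))
  have hH := (stabilizer G α).card_mul_index
  rw [index_stabilizer_of_transitive, h3, hG] at hH
  have hle : stabilizer G α ≤ normalizer (S : Set G) := fun k hk => by
    by_contra h1
    have h4 := hTI (k • S) (mt Sylow.smul_eq_iff_mem_normalizer.1 h1)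
    have h6 : ∀ y ∈ k • S, y ∈ stabilizer G α := by
      rintro _ ⟨y, hy, rfl⟩
      exact mul_mem (mul_mem hk (hα y hy)) (inv_mem hk)
    have h7 := Nat.card_le_card_of_injective (fun q : S × (k • S : Sylow 2 G) =>
      (⟨q.1 * q.2, mul_mem (hα _ q.1.2) (h6 _ q.2.2)⟩ : stabilizer G α)) fun q q' e =>
        mul_injective_of_disjoint (disjoint_iff.2 h4) (congrArg Subtype.val e)
    rw [Nat.card_prod, hS, hS, hm] at h7
    rw [hm] at hH
    nlinarith
  have : Nontrivial Ω := Finite.one_lt_card_iff_nontrivial.1 (by omega)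
  have h6 := CL.Small.card_sylow_modEq_of_TI S hTI
  rw [S.card_eq_index_normalizer, hS] at h6
  rcases ((isCoatom_stabilizer_iff_preprimitive G α).2 hprim).le_iff.1 hle with h7 | h7
  · rcases (normalizer_eq_top_iff.1 h7).eq_bot_or_eq_top with h8 | h8
    · have := hS S
      rw [h8, card_bot] at this
      omega
    · have := hS S
      rw [h8, card_top, hG, mul_eq_left₀ (by omega)] at this
      exact hp.out.ne_one (Nat.eq_one_of_mul_eq_one_right this)
  · rw [h7, index_stabilizer_of_transitive, h3, ha] at h6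
    have h8 := (Nat.modEq_iff_dvd' (by omega)).1 h6.symm
    rw [show 3 * (2 ^ a + 1) - 1 = 2 ^ a * 3 + 2 by omega, Nat.dvd_add_right (dvd_mul_right _ _)]
      at h8
    have := Nat.le_of_dvd two_pos h8
    omega

theorem one_fix (h1 : ∀ v : G, orderOf v = 2 → {a : Ω | v • a = a}.ncard = 1) (S : Sylow 2 G) :
    Nat.card S + 1 = 3 * p ∧ ∃ (a : Ω) (t : G) (Q : Subgroup G), IsRankOneSetup G Ω a t Q := by
  have : Fact (Nat.Prime 2) := ⟨Nat.prime_two⟩
  have := h.simple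
  have h5 := h.five
  have : Nontrivial Ω := Finite.one_lt_card_iff_nontrivial.1 (by omega)
  obtain ⟨a⟩ : Nonempty Ω := inferInstance
  obtain ⟨u, hu, -⟩ := h.exists_inv
  obtain ⟨t, Q, hS, hQ⟩ := Bender.rankOneSetup (G := G) (fun v hv => by
    obtain ⟨b, hb⟩ := Set.ncard_eq_one.1 (h1 v hv)
    exact ⟨b, hb.ge rfl, fun c hc => hb.le hc⟩) (Bender.rank2_of_simple h.nc hu) a
  obtain ⟨R, hR⟩ := Bender.exists_sylow_eq hS hQ
  exact ⟨by rw [← h3, PS.card_omega hS, ← hR, Nat.card_congr (S.equiv R).toEquiv], a, t, Q, hS⟩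

omit [FaithfulSMul G Ω] in
theorem not_exc (h5 : p = 5) (hδ : δ = 1) (hn : charDegree χ.1 = 6)
    (hπ : ∀ g : G, (Nat.card (fixedBy Ω g) : ℂ) = 1 + ∑ θ ∈ Y, θ.1 g) : False := by
  obtain ⟨u, hu, -⟩ := h.exists_inv
  obtain ⟨b, hb⟩ := exists_four_mul h.perf χ.2.isCharacter
    (u := u) (by rw [← pow_two, ← hu, pow_orderOf_eq_one])
  have h1 : ({a : Ω | u • a = a}.ncard : ℂ) = _ := hπ u
  have h2 := h.card_Y
  rw [Finset.sum_congr rfl fun θ hθ => h.reg θ hθ u (h.not_dvd_two hu), Finset.sum_const,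
    show Y.card = 2 by omega, hδ] at h1
  rw [χ.2.apply_one_eq_charDegree, hn] at hb
  have h4 : (({a : Ω | u • a = a}.ncard + 8 * b : ℕ) : ℂ) = (15 : ℕ) := by
    simp only [nsmul_eq_mul] at h1
    push_cast at h1 hb ⊢
    linear_combination h1 - 2 * hb
  rw [Nat.cast_inj] at h4
  rcases h.fix_cases Ω h3 with h6 | h6 <;> have := h6 u hu <;> omega

theorem rank_three (hδ : δ = -1) (hn : charDegree χ.1 + 1 = 2 * p) {R : G → ℂ}
    (hR : IsIrrCharacter G R) (hRd : charDegree R = p)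
    (hπ : ∀ g : G, (Nat.card (fixedBy Ω g) : ℂ) = 1 + χ.1 g + R g) :
    p = 5 ∧ Nonempty (G ≃* alternatingGroup (Fin 6)) := by
  have := h.simple
  have h5 := h.five
  have : Nonempty Ω := (Nat.card_pos_iff.1 (by omega)).1
  obtain ⟨S⟩ : Nonempty (Sylow 2 G) := inferInstance
  obtain ⟨α, hα⟩ := h.exists_fix Ω h3 S
  obtain ⟨z, hzS, hz, hc, j, o, o', hS, ho, ho', hG, hC⟩ := h.exists_center S
  have hz2 : z * z = 1 := by rw [← pow_two, ← hz, pow_orderOf_eq_one]
  have hv : ∀ y : G, orderOf y = p → χ.1 y = -1 := fun y hy => by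
    rw [h.val y hy.symm.dvd, hδ]; simp
  have hv' : ∀ y : G, orderOf y = p → R y = 0 := fun y hy => by
    have := hπ y
    rw [h.fix_sing Ω (h3 ▸ dvd_mul_left p 3) y hy.symm.dvd, hv y hy] at this
    simpa using this.symm
  obtain ⟨m, rfl⟩ : ∃ m, p = m + 1 := ⟨p - 1, by omega⟩
  have hp0 : ((m + 1 : ℕ) : ℂ) ≠ 0 := Nat.cast_ne_zero.2 (by omega)
  have d1 : χ.1 1 = 2 * (m + 1 : ℕ) - 1 := by
    rw [χ.2.apply_one_eq_charDegree, eq_sub_iff_add_eq]; exact_mod_cast hn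
  have d2 : R 1 = (m + 1 : ℕ) := by rw [hR.apply_one_eq_charDegree, hRd]
  obtain ⟨a, ha⟩ := h.nat_val χ.2.isCharacter hv hz
  obtain ⟨a', ha'⟩ := h.nat_val hR.isCharacter hv' hz
  obtain ⟨b, hb⟩ := exists_four_mul h.perf χ.2.isCharacter hz2
  obtain ⟨b', hb'⟩ := exists_four_mul h.perf hR.isCharacter hz2
  have e1 : χ.1 z = 2 * a - 1 := mul_left_cancel₀ hp0 (by linear_combination ha - d1)
  have e2 : R z = 2 * a' - 1 := mul_left_cancel₀ hp0 (by linear_combination ha' - d2)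
  have e3 : {a : Ω | z • a = a}.ncard + 1 = 2 * a + 2 * a' := by
    have : (({a : Ω | z • a = a}.ncard + 1 : ℕ) : ℂ) = (2 * a + 2 * a' : ℕ) := by
      have : ({a : Ω | z • a = a}.ncard : ℂ) = _ := hπ z
      push_cast; linear_combination this + e1 + e2
    exact_mod_cast this
  have e4 : 2 * (m + 1) = 4 * b + 2 * a := by
    have : ((2 * (m + 1) : ℕ) : ℂ) = (4 * b + 2 * a : ℕ) := by
      push_cast at d1 ⊢; linear_combination hb - d1 + e1
    exact_mod_cast this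
  have e5 : m + 2 = 4 * b' + 2 * a' := by
    have : ((m + 2 : ℕ) : ℂ) = (4 * b' + 2 * a' : ℕ) := by
      push_cast at d2 ⊢; linear_combination hb' - d2 + e2
    exact_mod_cast this
  have hfc := h.fix_cases Ω h3
  obtain rfl : a = 1 := by rcases hfc with h6 | h6 <;> have := h6 z hz <;> omega
  have hord : Nat.card G * (2 * m) =
      (m + 1) * Nat.card (centralizer ({z} : Set G)) ^ 2 * (2 * m + 1) := by
    have h1 := h.order_formula hz
    rw [e1, d1, hδ] at h1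
    have h2 : ((Nat.card G * (2 * m) * (2 * m) : ℕ) : ℂ) = ((m + 1) *
        Nat.card (centralizer ({z} : Set G)) ^ 2 * (2 * m + 1) * (2 * m) : ℕ) := by
      push_cast at h1 ⊢; linear_combination h1
    exact Nat.eq_of_mul_eq_mul_right (by omega) (Nat.cast_inj.1 h2)
  obtain ⟨w, hw, hw'⟩ : ∃ w, Odd w ∧ 2 * m = 2 ^ j * w := by
    have h1 : o * (2 * m) = 2 ^ j * ((m + 1) * o' ^ 2 * (2 * m + 1)) := by
      apply Nat.eq_of_mul_eq_mul_left (Nat.two_pow_pos j)
      rw [← mul_assoc, ← hG, hord, hC]; ring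
    obtain ⟨w, hw⟩ := ((Nat.coprime_two_left.2 ho).pow_left j).dvd_of_dvd_mul_left ⟨_, h1⟩
    nth_rw 1 [hw] at h1
    rw [mul_left_comm, Nat.mul_right_inj (Nat.two_pow_pos j).ne'] at h1
    refine ⟨w, Odd.of_dvd_nat ?_ ⟨o, (mul_comm _ _).trans h1 |>.symm⟩, hw⟩
    exact (((hp.out.odd_of_ne_two (by omega)).mul ho'.pow).mul (odd_two_mul_add_one m))
  rcases hfc with h6 | h6
  · have h7 := (h.one_fix Ω h3 h6 S).1
    have := Nat.le_of_dvd (by omega) ⟨w, hw'⟩
    omega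
  obtain rfl : a' = 1 := by have := h6 z hz; omega
  obtain ⟨-, v, hvS, hv2, h4, β, hβ, hvβ⟩ := three h6 S.2 hα hzS hz hc (by
    rw [hS, h3, show 3 * (m + 1) - 3 = 3 * m by omega]
    intro h7
    obtain ⟨c, hc⟩ := (Nat.Coprime.pow_left j (by norm_num)).dvd_of_dvd_mul_left h7
    rw [hc, mul_left_comm, Nat.mul_right_inj (Nat.two_pow_pos j).ne'] at hw'
    exact Nat.not_even_iff_odd.2 hw ⟨c, by omega⟩)
  obtain ⟨hsym, hρ⟩ := srg (by omega) h3 χ.2 hR hπ d1 d2 (hv x h.ord) (hv' x h.ord)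
  have hβα : β ≠ α := by rintro rfl; exact hvβ (hα v hvS)
  obtain ⟨ρ, hρ, hk⟩ := hρ α β hβα
  have h7 := dvd_compl h6 S.2 hα hzS hz hc (fun _ => h.conj_invol hz) hsym hvS hβ hvβ
  have h8 : {x | x ≠ α ∧ x ∉ orbit (stabilizer G α) β}.ncard +
      ((orbit (stabilizer G α) β).ncard + 1) = 3 * (m + 1) := by
    rw [← h3, ← Set.ncard_insert_of_notMem (a := α), add_comm, ← Set.ncard_add_ncard_compl]
    · congr 2
      ext y
      simp
    · rintro ⟨⟨g, hg⟩, e⟩
      exact hβα (smul_left_cancel g ((show g • β = α from e).trans hg.symm))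
  have h9 : 2 ^ j = 8 := by
    have h10 : 2 ^ 3 ∣ 2 ^ j := ((Nat.coprime_two_left.2 hw).pow_left 3).dvd_of_dvd_mul_right
      (hw' ▸ ⟨b', by omega⟩)
    rw [Nat.pow_dvd_pow_iff_le_right one_lt_two] at h10
    by_contra h11
    have h12 : 2 ^ 4 ∣ 2 ^ j := pow_dvd_pow 2 (by
      by_contra h12
      exact h11 (by rw [show j = 3 by omega]; rfl))
    obtain ⟨c, hc⟩ := h12.trans (hS ▸ h7)
    obtain ⟨c', hc'⟩ := h12.trans ⟨w, hw'⟩
    push_cast at hρ hk
    rcases hk with hk | hk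
    · obtain ⟨r, rfl⟩ : ∃ r, ρ = 16 * r + 1 := ⟨ρ / 16, by generalize ρ ^ 2 = t at *; omega⟩
      rw [show (16 * r + 1) ^ 2 = 16 * (16 * r ^ 2 + 2 * r) + 1 by ring] at hρ
      generalize 16 * r ^ 2 + 2 * r = t at *
      omega
    · obtain ⟨r, rfl⟩ : ∃ r, ρ = 8 * r - 1 := ⟨(ρ + 1) / 8, by generalize ρ ^ 2 = t at *; omega⟩
      rw [show (8 * r - 1) ^ 2 = 16 * (4 * r ^ 2 - r) + 1 by ring] at hρ
      generalize 4 * r ^ 2 - r = t at *
      omega
  obtain h10 | ⟨k, q, e, he, -, hq, h3q, ⟨F, _, _, hF, ⟨f⟩⟩, hk, hG'⟩ := dih_cases h.nc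
    (d2_of_eight S (hS.trans h9) hvS hv2 h4) hz fun _ => h.conj_invol hz
  · have h11 := eq_five_of_dvd hp.out h5 (by omega)
      (h.ord.symm.dvd.trans ((orderOf_dvd_natCard x).trans h10.dvd))
    obtain rfl : m = 4 := by omega
    rw [h10] at hord
    have h12 : Nat.card (centralizer ({z} : Set G)) ^ 2 = 448 := by omega
    generalize Nat.card (centralizer ({z} : Set G)) = c at h12
    have : c ≤ 22 := by nlinarith
    interval_cases c <;> omega
  obtain ⟨l, _, n, hl, hn⟩ := FiniteField.card' F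
  obtain ⟨h11, h12⟩ := arith_one (k := k) (m := m) (f := n) hl he (by omega) (by omega)
    (by rw [← hG']; exact_mod_cast hk ▸ hord) (by rw [← hn, hF, hq]) (by exact_mod_cast hρ)
  obtain ⟨g⟩ := Cfsg.Agent.S0254.result (hn.trans h12)
  exact ⟨by omega, ⟨f.trans g⟩⟩

theorem not_two (hδ : δ = -1) (hn : charDegree χ.1 + 1 = 3 * p)
    (hπ : ∀ g : G, (Nat.card (fixedBy Ω g) : ℂ) = 1 + χ.1 g) : False := by
  have := h.simple
  have h5 := h.five
  obtain ⟨S⟩ : Nonempty (Sylow 2 G) := inferInstance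
  obtain ⟨α, hα⟩ := h.exists_fix Ω h3 S
  obtain ⟨z, hzS, hz, hc, j, o, o', hS, ho, ho', hG, hC⟩ := h.exists_center S
  have e1 : ({a : Ω | z • a = a}.ncard : ℂ) = _ := hπ z
  have h1 := h.order_formula hz
  obtain ⟨b, hb⟩ := exists_four_mul h.perf χ.2.isCharacter
    (u := z) (by rw [← pow_two, ← hz, pow_orderOf_eq_one])
  rw [χ.2.apply_one_eq_charDegree] at h1 hb
  rw [hδ] at h1
  rcases h.fix_cases Ω h3 with h6 | h6
  · obtain ⟨h7, a, t, Q, hS'⟩ := h.one_fix Ω h3 h6 S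
    obtain ⟨s, hs⟩ : ∃ s, 2 ^ j = s + 1 := ⟨2 ^ j - 1, by omega⟩
    have h8 : o = p * o' ^ 2 * s := by
      rw [h6 z hz, Nat.cast_one, left_eq_add] at e1
      rw [e1, hG, hC, show charDegree χ.1 = s + 1 by omega, hs] at h1
      have h2 : (((s + 1) ^ 3 * o : ℕ) : ℂ) = ((s + 1) ^ 3 * (p * o' ^ 2 * s) : ℕ) := by
        push_cast at h1 ⊢; linear_combination h1
      exact Nat.eq_of_mul_eq_mul_left (by positivity) (Nat.cast_inj.1 h2)
    have key : ∀ i d r : ℕ, Odd d → Odd r → i ≠ 0 →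
        d * Nat.card G = 2 ^ i * ((2 ^ i + 1) * r) → 3 * r = d * o' ^ 2 * (2 ^ i - 1) := by
      intro i d r hd hr hi e
      rw [hG, mul_left_comm] at e
      have h2 := two_pow_eq (hd.mul ho) ((((Nat.even_pow' hi).2 even_two).add_one).mul hr) e
      rw [← h2, Nat.mul_right_inj (Nat.two_pow_pos j).ne', hs, h8] at e
      rw [← h2, hs, Nat.add_sub_cancel]
      apply Nat.eq_of_mul_eq_mul_left hp.out.pos
      rw [show s + 1 + 1 = 3 * p by omega] at e
      linarith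
    have hodd : ∀ i : ℕ, i ≠ 0 → Odd (2 ^ i - 1) := fun i hi =>
      Nat.Even.sub_odd Nat.one_le_two_pow ((Nat.even_pow' hi).2 even_two) odd_one
    have h0 : 1 ≤ o' ^ 2 := Nat.one_le_pow _ _ ho'.pos
    obtain ⟨n, hn2, ⟨F, _, _, _, hF, ⟨f⟩⟩ | ⟨-, -, k, hk, hG'⟩ | ⟨F, _, _, hF, ⟨f⟩⟩⟩ :=
      PS.suzuki_simple hS'
    · have h2 := CL.SL.gcd_mul_card_PSL_two (F := F)
      rw [← Nat.card_congr f.toEquiv, Nat.card_eq_fintype_card (α := F), hF,
        Nat.coprime_two_left.2 (hodd n (by omega)), ← one_pow 2, Nat.sq_sub_sq, one_pow] at h2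
      have h9 := Nat.eq_of_mul_eq_mul_right (hodd n (by omega)).pos
        (key n 1 _ odd_one (hodd n (by omega)) (by omega) h2)
      have : o' ≤ 2 := by nlinarith
      interval_cases o' <;> omega
    · have h9 := key ((2 * k + 1) * 2) 1 _ odd_one (hodd (2 * k + 1) (by omega)) (by omega)
        (by rw [one_mul, hG', pow_mul, mul_assoc])
      have : 2 ^ 3 ≤ 2 ^ (2 * k + 1) := Nat.pow_le_pow_right two_pos (by omega)
      rw [pow_mul] at h9
      obtain ⟨q, hq⟩ : ∃ q, 2 ^ (2 * k + 1) = q + 1 := ⟨2 ^ (2 * k + 1) - 1, by omega⟩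
      rw [hq, show (q + 1) ^ 2 - 1 = q * (q + 2) from Nat.sub_eq_of_eq_add (by ring)] at h9
      rw [hq] at this
      simp only [Nat.add_sub_cancel] at h9
      nlinarith [Nat.mul_le_mul_right (q * (q + 2)) h0]
    · have h2 := CL.Uni.card_PSU hF (n := 3) (by norm_num)
      have h9 := key (n * 3) (Nat.gcd 3 (2 ^ n + 1)) (2 ^ (n * 2) - 1)
        (Odd.of_dvd_nat (by decide) (Nat.gcd_dvd_left _ _)) (hodd _ (by omega)) (by omega) (by
          apply Nat.eq_of_mul_eq_mul_left (Nat.succ_pos (2 ^ n))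
          rw [mul_left_comm, Nat.card_congr f.toEquiv, h2]
          simp [CL.Uni.guOrder, Finset.prod_range_succ, pow_mul, Nat.even_add_one]
          ring)
      have : 2 ^ 2 ≤ 2 ^ n := Nat.pow_le_pow_right two_pos hn2
      have h10 : 1 ≤ Nat.gcd 3 (2 ^ n + 1) * o' ^ 2 := Nat.mul_pos (Nat.gcd_pos_of_pos_left _ (by
        norm_num)) h0
      rw [pow_mul, pow_mul] at h9
      generalize 2 ^ n = q at *
      have h11 := Nat.mul_le_mul_right (q ^ 3 - 1) h10
      have h12 : 4 * q ^ 2 ≤ q ^ 3 := by rw [pow_succ' q 2]; exact Nat.mul_le_mul_right _ this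
      have h13 : 0 < q ^ 2 := by positivity
      omega
  have e2 : χ.1 z = 2 := by rw [h6 z hz] at e1; push_cast at e1; linear_combination -e1
  have e3 : charDegree χ.1 = 4 * b + 2 := by
    have : ((charDegree χ.1 : ℕ) : ℂ) = (4 * b + 2 : ℕ) := by push_cast; linear_combination hb + e2
    exact_mod_cast this
  obtain ⟨w, rfl⟩ : ∃ w, p = 4 * w + 1 := ⟨p / 4, by omega⟩
  have hord : Nat.card G * (12 * w) ^ 2 = (4 * w + 1) *
      Nat.card (centralizer ({z} : Set G)) ^ 2 * ((12 * w + 2) * (12 * w + 1)) := by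
    rw [e2, show charDegree χ.1 = 12 * w + 2 by omega] at h1
    refine Nat.cast_injective (R := ℂ) ?_
    push_cast at h1 ⊢; linear_combination h1
  obtain ⟨i, u, hu, hw⟩ := Nat.exists_eq_two_pow_mul_odd (n := w) (by omega)
  obtain rfl : j = 2 * i + 3 := by
    have h2 := two_pow_eq (a := j + (2 * i + 4)) (b := j + (j + 1)) (o := o * (3 * u) ^ 2)
      (o' := (4 * w + 1) * o' ^ 2 * ((6 * w + 1) * (12 * w + 1)))
      (ho.mul (Odd.mul (by decide) hu).pow) ((Odd.mul ⟨2 * w, by ring⟩ ho'.pow).mul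
        (Odd.mul ⟨3 * w, by ring⟩ ⟨6 * w, by ring⟩)) (by
        rw [hG, hC] at hord
        nth_rw 1 [hw] at hord
        linear_combination hord)
    have := Nat.pow_right_injective le_rfl h2
    omega
  have h7 : ∀ k, 2 ^ (2 * i + 3) ∣ 2 ^ k * (3 * u) → 2 * i + 3 ≤ k := fun k hk =>
    (Nat.pow_dvd_pow_iff_le_right one_lt_two).1 (((Nat.coprime_two_left.2
      (Odd.mul (by decide) hu)).pow_left _).dvd_of_dvd_mul_right hk)
  obtain ⟨h8, v, hvS, hv2, h4, -⟩ := three h6 S.2 hα hzS hz hc (by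
    rw [hS, h3, show 3 * (4 * w + 1) - 3 = 2 ^ (i + 2) * (3 * u) by
      rw [Nat.sub_eq_iff_eq_add (by omega), hw]; ring]
    exact fun h => by have := h7 _ h; omega)
  rw [hS, h3, show 2 * (3 * (4 * w + 1) - 3) = 2 ^ (i + 3) * (3 * u) by
    rw [show 3 * (4 * w + 1) - 3 = 12 * w by omega, hw]; ring] at h8
  obtain rfl : i = 0 := by have := h7 _ h8; omega
  obtain h10 | ⟨k, q, e, he, -, hq, h3q, -, hk, hG'⟩ := dih_cases h.nc
    (d2_of_eight S hS hvS hv2 h4) hz fun _ => h.conj_invol hz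
  · have h11 := eq_five_of_dvd hp.out h5 (by omega)
      (h.ord.symm.dvd.trans ((orderOf_dvd_natCard x).trans h10.dvd))
    obtain rfl : w = 1 := by omega
    omega
  · exact arith_zero (k := k) hp.out he (by omega) (by rw [← hG']; exact_mod_cast hk ▸ hord)

theorem deg_of_not_prim (hn : ¬ IsPreprimitive G Ω) : charDegree χ.1 + 1 = p := by
  have := h.simple
  have h5 := h.five
  have : Nontrivial Ω := Finite.one_lt_card_iff_nontrivial.1 (by omega)
  obtain ⟨α⟩ : Nonempty Ω := inferInstance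
  have hH := index_stabilizer_of_transitive G α
  obtain ⟨M, h1, h2⟩ : ∃ M, stabilizer G α < M ∧ M ≠ ⊤ := by
    by_contra hc
    push Not at hc
    exact hn ((isCoatom_stabilizer_iff_preprimitive G α).1 ⟨fun e => by
      rw [e, index_top] at hH; omega, hc⟩)
  have h4 := index_dvd_of_le h1.le
  have h6 := index_strictAnti h1
  have h7 := index_eq_one.not.2 h2
  rw [hH, h3] at h4 h6
  by_cases h8 : p ∣ M.index
  · obtain ⟨k, hk⟩ := h8
    have h9 : M.index = p := by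
      rw [hk, mul_comm 3] at h4 h6
      rcases (Nat.dvd_prime Nat.prime_three).1 (Nat.dvd_of_mul_dvd_mul_left hp.out.pos h4) with
        rfl | rfl <;> omega
    have h10 := h.two_le
    rcases h.perm_cases (G ⧸ M) h9.symm.dvd (h9.le.trans (by omega)) with
      h1 | ⟨-, d, -, h1, -⟩ | h1
    · exact h1
    · rcases d with _ | d
      · exact h1.symm.trans h9
      · rw [mul_add, ← index, h9] at h1; omega
    · rw [← index, h9] at h1; omega
  · have h9 := Nat.le_of_dvd three_pos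
      (((Nat.Prime.coprime_iff_not_dvd hp.out).2 h8).symm.dvd_of_dvd_mul_right h4)
    have h10 := (h.ord.symm.dvd.trans (orderOf_dvd_natCard x)).trans
      ((dvd_mul_left _ 2).trans (CL.Small.two_mul_card_dvd_factorial h.nc M h2))
    have := hp.out.dvd_factorial.1 h10
    omega

end E2

end CL.D1T
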