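import Cfsg.Agent.BLK.GOver

/-! Invariant irreducible characters above an invariant character under coprime action. -/

set_option autoImplicit false
open Cfsg Subgroup
open scoped ComplexConjugate commutatorElement

namespace CL.Glb
open CL.Char

variable {Γ : Type*} [Group Γ]

theorem norm_of_relFix {G N L : Subgroup Γ} (hNL : N ≤ L) (hLG : L ≤ G) {x : Γ}
    (hx : ∀ g ∈ G, x * g * x⁻¹ * g⁻¹ ∈ N) (hx' : ∀ g ∈ G, x⁻¹ * g * x⁻¹⁻¹ * g⁻¹ ∈ N) :
    x ∈ normalizer (L : Set Γ) := by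
  rw [mem_normalizer_iff]
  refine fun g => ⟨fun hg => ?_, fun hg => ?_⟩
  · simpa using mul_mem (hNL (hx g (hLG hg))) hg
  · simpa [mul_assoc] using mul_mem (hNL (hx' _ (hLG hg))) hg

/-- An element acting trivially on `G / N`, coprimely, and fixing the constituents of `χ` on `N`
fixes `χ`. -/
theorem mem_stab_of_relFix [Finite Γ] {G N : Subgroup Γ} [Fintype N] (h : N ≤ G)
    (hN : G ≤ normalizer (N : Set Γ)) {x : Γ} (hxG : x ∈ normalizer (G : Set Γ))
    (hxN : x ∈ normalizer (N : Set Γ)) (hx : ∀ g ∈ G, x * g * x⁻¹ * g⁻¹ ∈ N) {q n : ℕ}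
    (hqn : q.Coprime n) (hq : x ^ q ∈ N) (hG : ∀ g ∈ G, g ^ n ∈ N) {χ : G → ℂ}
    (hχ : IsCharacter G χ) (hθ : ∀ θ, IsIrrCharacter N θ → Ov h χ θ → x ∈ stab N θ) :
    x ∈ stab G χ := by
  refine ⟨hxG, fun g g' hg' => ?_⟩
  let L := N ⊔ zpowers (g : Γ)
  have := Fintype.ofFinite L
  have hNL : N ≤ L := le_sup_left
  have hLG : L ≤ G := sup_le h (by rw [zpowers_le]; exact g.2)
  have hxL : x ∈ normalizer (L : Set Γ) := norm_of_relFix hNL hLG hx fun y hy =>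
    (inv_mem (show x ∈ relFix N y from ⟨hxN, hx y hy⟩)).2
  let l : L := ⟨g, mem_sup_right (mem_zpowers _)⟩
  have hgen : Gen (inclusion hNL) l := gen_inclusion (hN g.2)
  have := inclusion_range_normal hNL (hLG.trans hN)
  have hcf := (hχ.comp (inclusion hLG)).isClassFunction
  have h1 : g' = inclusion hLG (cjE L hxL l) := Subtype.ext hg'
  have h2 : g = inclusion hLG l := rfl
  rw [h1, h2, hcf.apply_eq_sum, hcf.apply_eq_sum]
  refine Finset.sum_congr rfl fun η _ => ?_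
  by_cases h3 : classInner (fun y => χ (inclusion hLG y)) η.1 = 0
  · rw [h3, zero_mul, zero_mul]
  congr 1
  have h4 : ∀ y : L, cjE L hxL y = inclusion hNL ⟨_, hx y (hLG y.2)⟩ * y := fun y =>
    Subtype.ext (by simp [coe_cjE])
  by_cases h5 : ∀ m, η.1 (inclusion hNL m * l) = 0
  · rw [h4, h5, ← one_mul l, ← map_one (inclusion hNL), h5]
  push Not at h5
  obtain ⟨m, hm⟩ := h5
  have hirr := irr_res_of_ne_zero (inclusion_injective hNL) hgen η.2 hm
  have h6 : x ∈ stab N fun m => η.1 (inclusion hNL m) :=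
    hθ _ hirr (Ov.trans (h := hNL) (h' := hLG) hχ η.2 hirr.isCharacter h3
      (by rw [Ov, hirr.inner_self]; exact one_ne_zero))
  obtain ⟨lam, hl1, hl2⟩ := exists_hom_mul (inclusion_injective hNL) η.2.isCharacter
    (η.2.comp_mulEquiv (cjE L hxL)).isCharacter hirr fun m =>
      (h6.2 m (cjE N hxN m) rfl).symm
  have h7 : ∀ y, lam (cjE L hxL y) = lam y := fun y => by rw [h4, map_mul, hl1, one_mul]
  have h8 : ∀ (k : ℕ) (y : L), η.1 y = lam y ^ k * η.1 (cjE L (pow_mem hxL k) y) := by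
    intro k
    induction k with
    | zero => intro y; rw [pow_zero, one_mul]; exact congrArg η.1 (Subtype.ext (by simp [coe_cjE]))
    | succ k ih =>
      intro y
      rw [hl2 y, ih (cjE L hxL y), h7, pow_succ', mul_assoc]
      congr 2
      refine congrArg η.1 (Subtype.ext ?_)
      simp only [coe_cjE, pow_succ]
      group
  have h9 : (lam l : ℂ) ^ q = 1 := by
    have := h8 q (inclusion hNL m * l)
    rw [(le_stab_self L η.2.isClassFunction (hNL hq)).2 _ _ (coe_cjE L _ _), map_mul, hl1,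
      one_mul] at this
    exact (mul_right_cancel₀ hm (this.symm.trans (one_mul _).symm))
  have h10 : (lam l : ℂ) ^ n = 1 := by
    rw [← Units.val_pow_eq_pow_val, ← map_pow,
      show l ^ n = inclusion hNL ⟨_, hG g g.2⟩ from rfl, hl1, Units.val_one]
  have h11 : (lam l : ℂ) = 1 := by
    rw [← pow_one (lam l : ℂ), ← hqn.gcd_eq_one]
    exact pow_gcd_eq_one.mpr ⟨h9, h10⟩
  rw [hl2 l, h11, one_mul]

theorem eq_of_ov_of_IS [Finite Γ] {N G : Subgroup Γ} [Fintype N] {h : N ≤ G}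
    (hN : G ≤ normalizer (N : Set Γ)) {χ : G → ℂ} (hχ : IsIrrCharacter G χ) {θ φ : N → ℂ}
    (hθ : IsIrrCharacter N θ) (hφ : IsIrrCharacter N φ) (h1 : Ov h χ θ) (h2 : Ov h χ φ)
    (hi : IS G N θ) : φ = θ := by
  obtain ⟨g, hg, h3⟩ := exists_cj_of_ov hN hχ hθ hφ h1 h2
  rw [h3, hi.cj hg]

theorem exists_IS_ov_aux [Finite Γ] {S N : Subgroup Γ} [Fintype N]
    (hSN : S ≤ normalizer (N : Set Γ)) {q n : ℕ} (hqn : q.Coprime n) (hS : ∀ s ∈ S, s ^ q ∈ N)
    (hs : SolvMod S N) {θ : N → ℂ} (hθ : IsIrrCharacter N θ) (hi : IS S N θ) (G : Subgroup Γ)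
    (h : N ≤ G) (hN : G ≤ normalizer (N : Set Γ)) (hSG : S ≤ normalizer (G : Set Γ))
    (hG : ∀ g ∈ G, g ^ n ∈ N) (hiG : IS G N θ) :
    ∃ χ, IsIrrCharacter G χ ∧ Ov h χ θ ∧ IS S G χ := by
  induction G using WellFoundedLT.induction with
  | ind G ih =>
  have hK : ∀ χ, IsIrrCharacter G χ → Ov h χ θ → actKer S G N ≤ stab G χ := by
    intro χ hχ h1 x hx
    rw [mem_actKer hSN] at hx
    refine mem_stab_of_relFix h hN (hSG hx.1) (hSN hx.1) hx.2 hqn (hS x hx.1) hG hχ.isCharacter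
      fun φ hφ h2 => ?_
    rw [eq_of_ov_of_IS hN hχ hθ hφ h1 h2 hiG]
    exact (IS_iff_le_stab hSN).mp hi hx.1
  by_cases hle : S ≤ actKer S G N
  · obtain ⟨χ, hχ, h1⟩ := exists_ov h hθ
    exact ⟨χ, hχ, h1, (IS_iff_le_stab hSG).mpr (hle.trans (hK χ hχ h1))⟩
  have := actKer_normal hSN hSG
  have hNK : ∀ s ∈ S, s ∈ N → s ∈ actKer S G N := fun s hs hsN =>
    (mem_actKer hSN).mpr ⟨hs, fun g hg => by
      have := mul_mem hsN (conj_mem_of_norm (hN hg) (inv_mem hsN))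
      simpa only [mul_assoc] using this⟩
  obtain ⟨p, P, hp, hP, hPS, hPK, hPn⟩ := exists_p_normal_mod hs hNK hle
  have hpn : ¬ p ∣ n := fun hd => hPK fun t ht => by
    obtain ⟨a, ha⟩ := hP ⟨t, ht⟩
    have h1 : t ^ p ^ a = 1 := congrArg Subtype.val ha
    exact mem_of_coprime_pow_mem _ (Nat.Coprime.pow_right a (hqn.coprime_dvd_right hd))
      (hNK _ (pow_mem (hPS ht) q) (hS t (hPS ht))) (h1 ▸ one_mem _)
  let B := relCent G N hN P
  have := Fintype.ofFinite B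
  have hBG : B ≤ G := relCent_le
  have hSB : S ≤ normalizer (B : Set Γ) := le_norm_relCent hN hSN hSG hPn
  have hlt : B < G := lt_of_le_of_ne hBG fun h => hPK fun t ht =>
    (mem_actKer hSN).mpr ⟨hPS ht, fun g hg => (h.ge hg).2 t ht⟩
  have hNB : N ≤ B := fun m hm => ⟨h hm, fun t ht =>
    mul_mem (conj_mem_of_norm (hSN (hPS ht)) hm) (inv_mem hm)⟩
  obtain ⟨ξ, hξ, h1, h2⟩ := ih B hlt hNB (hBG.trans hN) hSB (fun g hg => hG g (hBG hg))
    (hiG.mono hBG)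
  have hc := corr_pgroup hp hP hpn (hPS.trans hSN) G hN (hPS.trans hSG) hG (C := B)
    (fun _ => Iff.rfl) hBG
  obtain ⟨χ, hχ, h3, h4⟩ := hc.surj ξ hξ (h2.mono hPS)
  have h5 : Ov h χ θ := Ov.trans hχ.isCharacter hξ hθ.isCharacter h4.ov h1
  refine ⟨χ, hχ, h5, IS_of_cj hSG fun x hx => hc.inj _ _ (hχ.comp_mulEquiv _) ?_ hχ h3 ξ hξ
    (h2.mono hPS) ?_ h4⟩
  · intro t ht g g' hg
    obtain ⟨k, hk, t', ht', h6⟩ := hPn x⁻¹ (inv_mem hx) t ht
    refine (mul_mem (hK χ hχ h5 hk) ((IS_iff_le_stab (hPS.trans hSG)).mp h3 ht')).2 _ _ ?_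
    rw [coe_cjE, coe_cjE, hg, ← h6]
    group
  · have := h4.cj (hSG hx) (hSB hx)
    rwa [h2.cj hx] at this

theorem le_norm_stab {S G N : Subgroup Γ} (hSG : S ≤ normalizer (G : Set Γ))
    (hSN : S ≤ normalizer (N : Set Γ)) {θ : N → ℂ} (hi : IS S N θ) :
    S ≤ normalizer ((G ⊓ stab N θ : Subgroup Γ) : Set Γ) :=
  le_norm_of_conj fun _ hs _ hg => ⟨conj_mem_of_norm (hSG hs) hg.1,
    (stab N θ).mul_mem (mul_mem ((IS_iff_le_stab hSN).mp hi hs) hg.2)
      (inv_mem ((IS_iff_le_stab hSN).mp hi hs))⟩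

theorem exists_IS_ov_left [Finite Γ] {S G N : Subgroup Γ} [Fintype N] (h : N ≤ G)
    (hN : G ≤ normalizer (N : Set Γ)) (hSG : S ≤ normalizer (G : Set Γ))
    (hSN : S ≤ normalizer (N : Set Γ)) {q n : ℕ} (hqn : q.Coprime n) (hS : ∀ s ∈ S, s ^ q ∈ N)
    (hG : ∀ g ∈ G, g ^ n ∈ N) (hs : SolvMod S N) {θ : N → ℂ} (hθ : IsIrrCharacter N θ)
    (hi : IS S N θ) : ∃ χ, IsIrrCharacter G χ ∧ Ov h χ θ ∧ IS S G χ := by
  let T := G ⊓ stab N θ
  have := Fintype.ofFinite T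
  have hTG : T ≤ G := inf_le_left
  have hNT : N ≤ T := le_inf h (le_stab_self N hθ.isClassFunction)
  have hST : S ≤ normalizer (T : Set Γ) := le_norm_stab hSG hSN hi
  obtain ⟨ψ, hψ, h1, h2⟩ := exists_IS_ov_aux hSN hqn hS hs hθ hi T hNT (hTG.trans hN) hST
    (fun g hg => hG g (hTG hg)) ((IS_iff_le_stab (hTG.trans hN)).mpr inf_le_right)
  obtain ⟨χ, hχ, h3, h4⟩ := exists_unique_ov hTG hN hθ le_rfl hψ h1
  refine ⟨χ, hχ, Ov.trans hχ.isCharacter hψ hθ.isCharacter h3 h1,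
    IS_of_cj hSG fun x hx => h4 _ (hχ.comp_mulEquiv _) ?_⟩
  have := h3.cj (hSG hx) (hST hx)
  rwa [h2.cj hx] at this

theorem exists_hom_mul_of_ov [Finite Γ] {M G : Subgroup Γ} [Fintype M] {h : M ≤ G}
    (hM : ⁅G, G⁆ ≤ M) {χ χ' : G → ℂ} (hχ : IsIrrCharacter G χ) (hχ' : IsIrrCharacter G χ')
    {ψ : M → ℂ} (hψ : IsIrrCharacter M ψ) (h1 : Ov h χ ψ) (h2 : Ov h χ' ψ) :
    ∃ lam : G →* ℂˣ, (∀ g : G, (g : Γ) ∈ M → lam g = 1) ∧ χ' = fun g => lam g * χ g := by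
  classical
  have := Fintype.ofFinite (M.subgroupOf G)
  have := Fintype.ofFinite G
  have hc : commutator G ≤ M.subgroupOf G := by
    rw [commutator_def, commutator_le]
    exact fun a _ b _ => hM (commutator_mem_commutator a.2 b.2)
  have : (M.subgroupOf G).Normal := ⟨fun a ha g => by
    have := mul_mem (hc (commutator_mem_commutator (mem_top g) (mem_top a))) ha
    simpa [commutatorElement_def] using this⟩
  have h3 : classInner (fun n : M.subgroupOf G => χ' n) (fun n => χ n) ≠ 0 := by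
    have h4 := inner_comp_ne_zero_of_constituent (MonoidHom.id M) (hχ'.isCharacter.comp
      (inclusion h)) hψ h2 (hχ.isCharacter.comp (inclusion h))
      (fun h0 => h1 (classInner_eq_zero_comm.mp h0))
    exact fun h0 => h4 ((classInner_subOf h _ _).symm.trans h0)
  rw [← classInner_indFun_right _ hχ'.isClassFunction, indFun_res _ hχ.isClassFunction,
    indFun_one_normal_eq_sum, Finset.mul_sum, classInner_sum_right] at h3
  obtain ⟨μ, hμ, h4⟩ := Finset.exists_ne_zero_of_sum_ne_zero h3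
  have hk := (Finset.mem_filter.mp hμ).2
  have h5 : (μ : G → ℂ) 1 = 1 := μ.2.one_eq_one_of_commutator fun n hn => hk n (hc hn)
  rw [h5, one_smul] at h4
  obtain ⟨lam, hlam⟩ := μ.2.isCharacter.exists_hom h5
  refine ⟨lam, fun g hg => Units.ext ?_, ?_⟩
  · have := hk g hg
    rw [h5, hlam] at this
    exact this
  · rw [hχ'.eq_of_inner_ne_zero (hχ.mul_linear μ.2.isCharacter h5) h4, hlam]
    funext g
    exact mul_comm _ _

/-- Multiplication by linear characters as a permutation action. -/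
noncomputable def mulPerm (G : Type*) [Group G] [Finite G] :
    (G →* ℂˣ) →* Equiv.Perm (IrrCharacter G) where
  toFun := irrMulHom
  map_one' := Equiv.ext fun χ => Subtype.ext (funext fun g => by simp [irrMulHom_apply])
  map_mul' a b := Equiv.ext fun χ => Subtype.ext (funext fun g => by
    simp [irrMulHom_apply, mul_assoc])

theorem mulPerm_apply {G : Type*} [Group G] [Finite G] (lam : G →* ℂˣ) (χ : IrrCharacter G)
    (g : G) : (mulPerm G lam χ).1 g = lam g * χ.1 g := irrMulHom_apply lam χ g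

theorem exists_IS_ov_abelian [Finite Γ] {S G M : Subgroup Γ} [Fintype M] (h : M ≤ G)
    (hM : ⁅G, G⁆ ≤ M) (hSG : S ≤ normalizer (G : Set Γ)) (hSM : S ≤ normalizer (M : Set Γ))
    {q n : ℕ} (hqn : q.Coprime n) (hS : ∀ s ∈ S, s ^ q ∈ G) (hG : ∀ g ∈ G, g ^ n ∈ M)
    {ψ : M → ℂ} (hψ : IsIrrCharacter M ψ) (hi : IS S M ψ) :
    ∃ χ, IsIrrCharacter G χ ∧ Ov h χ ψ ∧ IS S G χ := by
  obtain ⟨χ, hχ, h1⟩ := exists_ov h hψ
  have := finite_hom (G := G)
  let Λ : Subgroup (G →* ℂˣ) := (MonoidHom.domRestrictHom (M.subgroupOf G) ℂˣ).ker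
  have hΛ : ∀ lam : G →* ℂˣ, lam ∈ Λ ↔ ∀ g : G, (g : Γ) ∈ M → lam g = 1 := fun lam =>
    ⟨fun h2 g hg => DFunLike.congr_fun h2 ⟨g, hg⟩, fun h2 => MonoidHom.ext fun g => h2 g g.2⟩
  obtain ⟨k, hk⟩ := fixed_point_of_exp (irrPerm hSG) ((mulPerm G).comp Λ.subtype) (fun a k =>
      ⟨⟨k.1.comp (cjE G (hSG a⁻¹.2)).toMonoidHom, (hΛ _).mpr fun g hg =>
        (hΛ _).mp k.2 _ (conj_mem_of_norm (hSM a⁻¹.2) hg)⟩, by
        rw [← map_inv]
        refine Equiv.ext fun φ => Subtype.ext (funext fun m => ?_)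
        simp only [Equiv.Perm.mul_apply, irrPerm_apply, MonoidHom.comp_apply, coe_subtype,
          mulPerm_apply, MulEquiv.coe_toMonoidHom]
        congr 1
        refine congrArg φ.1 (Subtype.ext ?_)
        simp only [coe_cjE, coe_inv]
        group⟩) hqn
    (fun a => by rw [← map_pow]; exact irrPerm_eq_one _ (hS a a.2))
    (fun a => by
      rw [← map_pow, show a ^ n = 1 from Subtype.ext (MonoidHom.ext fun g => ?_), map_one]
      rw [coe_pow, MonoidHom.pow_apply, ← map_pow]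
      exact (hΛ _).mp a.2 _ (hG g g.2))
    (Or.inr (Group.isSolvable_of_comm (by
      rintro ⟨_, a, rfl⟩ ⟨_, b, rfl⟩
      apply Subtype.ext
      simp only [coe_mul, ← map_mul, mul_comm a b]))) ⟨χ, hχ⟩ (fun a => by
      have h2 := h1.cj (hSG a⁻¹.2) (hSM a⁻¹.2)
      rw [hi.cj a⁻¹.2] at h2
      obtain ⟨lam, h3, h4⟩ := exists_hom_mul_of_ov hM hχ (hχ.comp_mulEquiv _) hψ h1 h2
      exact ⟨⟨lam, (hΛ _).mpr h3⟩, Subtype.ext h4⟩)
  refine ⟨_, (mulPerm G k ⟨χ, hχ⟩).2, ?_, (IS_iff_irrPerm hSG _).mpr hk⟩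
  have : (fun m => (mulPerm G k ⟨χ, hχ⟩).1 (inclusion h m)) = fun m => χ (inclusion h m) :=
    funext fun m => by rw [mulPerm_apply, (hΛ _).mp k.2 _ m.2, Units.val_one, one_mul]
  rwa [Ov, this]

theorem le_norm_commutator {S G : Subgroup Γ} (hSG : S ≤ normalizer (G : Set Γ)) :
    S ≤ normalizer ((⁅G, G⁆ : Subgroup Γ) : Set Γ) := by
  refine le_norm_of_conj fun s hs c hc => ?_
  have h1 : G.map (MulAut.conj s).toMonoidHom ≤ G := by
    rintro _ ⟨g, hg, rfl⟩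
    exact conj_mem_of_norm (hSG hs) hg
  have h2 := commutator_mono h1 h1
  rw [← map_commutator] at h2
  exact h2 ⟨c, hc, rfl⟩

theorem sup_commutator_lt {G N : Subgroup Γ} (h : N ≤ G) (hN : G ≤ normalizer (N : Set Γ))
    (hs : SolvMod G N) (hne : ¬ G ≤ N) : N ⊔ ⁅G, G⁆ < G := by
  have := (normal_subgroupOf_iff_le_normalizer h).mpr hN
  let π := QuotientGroup.mk' (N.subgroupOf G)
  have hπ : ∀ s : G, π s = 1 ↔ (s : Γ) ∈ N := fun s =>
    QuotientGroup.eq_one_iff (N := N.subgroupOf G) s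
  have hsurj : Function.Surjective π := QuotientGroup.mk'_surjective _
  have : Group.IsSolvable (G ⧸ N.subgroupOf G) := hs.isSolvable π hsurj fun s h => (hπ s).mpr h
  have : Nontrivial (G ⧸ N.subgroupOf G) := by
    rw [QuotientGroup.nontrivial_iff, Ne, subgroupOf_eq_top]
    exact hne
  refine lt_of_le_of_ne (sup_le h (commutator_le_self G)) fun he =>
    (Group.IsSolvable.commutator_lt_top_of_nontrivial (G ⧸ N.subgroupOf G)).ne ?_
  have h1 : N ⊔ ⁅G, G⁆ ≤ ((commutator _).comap π).map G.subtype := by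
    refine sup_le (fun m hm => ⟨⟨m, h hm⟩, ?_, rfl⟩) (commutator_le.mpr fun a ha b hb =>
      ⟨⁅(⟨a, ha⟩ : G), ⟨b, hb⟩⁆, ?_, rfl⟩)
    · change π _ ∈ commutator _
      rw [(hπ _).mpr hm]
      exact one_mem _
    · change π _ ∈ commutator _
      rw [map_commutatorElement]
      exact commutator_mem_commutator (mem_top _) (mem_top _)
  rw [eq_top_iff]
  intro y _
  obtain ⟨g, rfl⟩ := hsurj y
  obtain ⟨g', hg', h2⟩ := h1 (he.ge g.2)
  rwa [← show g' = g from Subtype.ext h2]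

theorem exists_IS_ov_right [Finite Γ] {S N : Subgroup Γ} [Fintype N]
    (hSN : S ≤ normalizer (N : Set Γ)) {q n : ℕ} (hqn : q.Coprime n) (hS : ∀ s ∈ S, s ^ q ∈ N)
    {θ : N → ℂ} (hθ : IsIrrCharacter N θ) (hi : IS S N θ) (G : Subgroup Γ) (h : N ≤ G)
    (hN : G ≤ normalizer (N : Set Γ)) (hSG : S ≤ normalizer (G : Set Γ))
    (hG : ∀ g ∈ G, g ^ n ∈ N) (hs : SolvMod G N) :
    ∃ χ, IsIrrCharacter G χ ∧ Ov h χ θ ∧ IS S G χ := by
  induction G using WellFoundedLT.induction with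
  | ind G ih =>
  by_cases hle : G ≤ N
  · obtain rfl : N = G := le_antisymm h hle
    exact ⟨θ, hθ, fun h0 => one_ne_zero (hθ.inner_self.symm.trans h0), hi⟩
  have hlt := sup_commutator_lt h hN hs hle
  have := Fintype.ofFinite (N ⊔ ⁅G, G⁆ : Subgroup Γ)
  have hSM : S ≤ normalizer ((N ⊔ ⁅G, G⁆ : Subgroup Γ) : Set Γ) :=
    (le_inf hSN (le_norm_commutator hSG)).trans (normalizer_inf_normalizer_le_normalizer_sup _ _)
  obtain ⟨ψ, hψ, h1, h2⟩ := ih _ hlt le_sup_left (hlt.le.trans hN) hSM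
    (fun g hg => hG g (hlt.le hg)) (hs.mono hlt.le)
  obtain ⟨χ, hχ, h3, h4⟩ := exists_IS_ov_abelian hlt.le le_sup_right hSG hSM hqn
    (fun s hs => h (hS s hs)) (fun g hg => mem_sup_left (hG g hg)) hψ h2
  exact ⟨χ, hχ, Ov.trans hχ.isCharacter hψ hθ.isCharacter h3 h1, h4⟩

/-- An invariant character has an invariant irreducible character above it. -/
theorem exists_IS_ov [Finite Γ] {S G N : Subgroup Γ} [Fintype N] (h : N ≤ G)
    (hN : G ≤ normalizer (N : Set Γ)) (hSG : S ≤ normalizer (G : Set Γ))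
    (hSN : S ≤ normalizer (N : Set Γ)) {q n : ℕ} (hqn : q.Coprime n) (hS : ∀ s ∈ S, s ^ q ∈ N)
    (hG : ∀ g ∈ G, g ^ n ∈ N) (hs : SolvMod S N ∨ SolvMod G N) {θ : N → ℂ}
    (hθ : IsIrrCharacter N θ) (hi : IS S N θ) :
    ∃ χ, IsIrrCharacter G χ ∧ Ov h χ θ ∧ IS S G χ :=
  hs.elim (fun hs => exists_IS_ov_left h hN hSG hSN hqn hS hG hs hθ hi)
    fun hs => exists_IS_ov_right hSN hqn hS hθ hi G h hN hSG hG hs

end CL.Glb
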