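import Mathlib
import Cfsg.Agent.BLK.Sixteen

/-! Height zero characters: tools, and defect groups with commutator subgroup of order two. -/

set_option autoImplicit false

open Cfsg MonoidAlgebra Subgroup CL.Char
open scoped CL.MSS ComplexConjugate

namespace CL.Blk

universe u

variable {G : Type u} [Group G] [Finite G] {p : ℕ} {M : Ideal AlgInt} {B : Set (IrrCharacter G)}
  {P Q R : Subgroup G} {e : (F M)[G]} {u v g : G}

theorem two_mul_card_le_of_lt (h : Q < R) : 2 * Nat.card Q ≤ Nat.card R := by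
  obtain ⟨k, hk⟩ := card_dvd_of_le h.le
  have := card_lt_of_lt' h
  rw [hk, mul_comm] at this ⊢
  exact Nat.mul_le_mul_left _ ((Nat.lt_mul_iff_one_lt_left Nat.card_pos).1 this)

theorem four_mul_card_center_le (h : u * v ≠ v * u) : 4 * Nat.card (center G) ≤ Nat.card G := by
  have h1 := two_mul_card_le_of_lt (lt_of_le_not_ge (center_le_centralizer {u}) fun e =>
    h (mem_center_iff.1 (e (mem_centralizer_singleton_iff.2 rfl)) v).symm)
  have h2 := two_mul_card_le_of_lt (lt_top_iff_ne_top.2 fun e : centralizer {u} = ⊤ =>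
    h (mem_centralizer_singleton_iff.1 (e ▸ mem_top v)).symm)
  rw [card_top] at h2
  omega

open scoped IsMulCommutative in
theorem sq_mem_zpowers_of_card {A : Type*} [Group A] [IsMulCommutative A] [Finite A]
    (hA : Nat.card A ≤ 8) {w c : A}
    (hw : w ^ 2 ≠ 1) (hw' : (w ^ 2) ^ 2 = 1) (hc : (c ^ 2) ^ 2 = 1) : c ^ 2 ∈ zpowers (w ^ 2) := by
  by_contra h
  have h1 := two_mul_card_le_of_lt (bot_lt_iff_ne_bot.2 (mt zpowers_eq_bot.1 hw))
  have h2 := two_mul_card_le_of_lt (R := (powMonoidHom 2 : A →* A).ker)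
    (lt_of_le_not_ge (zpowers_le.2 hw') fun e => h (e hc))
  have h3 := two_mul_card_le_of_lt (R := (zpowers (w ^ 2)).comap (powMonoidHom 2))
    (lt_of_le_not_ge (ker_le_comap _ _) fun e => hw (e (mem_zpowers _)))
  have h4 := two_mul_card_le_of_lt (lt_top_iff_ne_top.2
    fun e : (zpowers (w ^ 2)).comap (powMonoidHom 2) = ⊤ => h (e.ge (mem_top c)))
  rw [card_top] at h4
  rw [card_bot] at h1
  omega

theorem cP_le_card (P : Subgroup G) (u : G) : cP P u ≤ Nat.card P := card_le_of_le inf_le_left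

theorem comm_of_card_le_cP (h : Nat.card P ≤ cP P u) : ∀ y ∈ P, Commute y u := fun _ hy =>
  (mem_cent_zpowers.1 ((eq_of_le_of_card_ge inf_le_left h).ge hy).2).symm

theorem PFus.cP_le (hg : PFus p P e Q g) (hQ : P ⊓ cZ v ≤ Q) : cP P v ≤ cP P (g * v * g⁻¹) := by
  rw [cP, ← MSS.card_cj g]
  exact card_le_of_le (le_inf ((MSS.cj_mono g hQ).trans hg.cj_le)
    ((MSS.cj_mono g inf_le_right).trans (cj_cent_zpowers g v).le))

namespace MaxP

theorem exists_fConj_max (h : MaxP p M B P e) (hu : u ∈ P) :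
    ∃ v, FConj p P e u v ∧ ∀ w, FConj p P e v w → cP P w ≤ cP P v := by
  obtain ⟨v, hv, h1⟩ := Set.exists_max_image {v | FConj p P e u v} (cP P) (Set.toFinite _)
    ⟨u, h.fConj_refl hu⟩
  exact ⟨v, hv, fun w hw => h1 w (h.fConj_trans hv hw)⟩

theorem exists_pow_eq (h : MaxP p M B P e) (huv : FConj p P e u v) {k : ℕ}
    (hc : ∀ y ∈ P, Commute y (u ^ k)) : ∃ w ∈ P, w ^ k = u ^ k ∧ cP P v ≤ cP P w := by
  obtain ⟨g, hg, h1⟩ := h.exists_pFus_of_comm (h.fConj_pow huv k).symm hc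
  exact ⟨_, (h.fConj_of_pFus hg ⟨huv.right, mem_cent_zpowers.2 (Commute.pow_self v k)⟩).right,
    conj_pow.trans h1, hg.cP_le (inf_le_inf_left _ fun y hy =>
      mem_cent_zpowers.2 ((mem_cent_zpowers.1 hy).pow_left k))⟩

theorem card_cent_le_of_normal (h : MaxP p M B P e) (hg : PFus p P e R g)
    (hN : P ≤ normalizer (R : Set G)) :
    Nat.card (P ⊓ centralizer ((g •ᶜ R : Subgroup G) : Set G) : Subgroup G) ≤
      Nat.card (P ⊓ centralizer (R : Set G) : Subgroup G) := by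
  have := Fact.mk h.prime
  obtain ⟨𝓕, h1⟩ := h.pair.exists_isPairFus h.prime h.hF
  exact (Fus.fullyCentralized_of_fullyNormalized h.pgroup (h1.isSaturated h.prime h.hF h.isSB h.rel
    h.sdef) (Fus.fullyNormalized_of_normal 𝓕 hg.le hN)).2 _ (h1.isConj_iff.2 ⟨g, hg, rfl⟩)

theorem k0_le_of_class (h : MaxP 2 M B P e) (hP : Nat.card P ≤ 32) (hu : u ∈ P) (h1 : u ≠ 1)
    {n : ℕ} (H : ∀ v, FConj 2 P e u v → (∀ w, FConj 2 P e v w → cP P w ≤ cP P v) → cP P v ≤ n) :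
    k0 2 B ≤ n := by
  obtain ⟨v, hv, h2⟩ := h.exists_fConj_max hu
  have h3 : 2 ≤ orderOf v := by
    have := mt orderOf_eq_one_iff.1 h1
    have := orderOf_pos u
    rw [hv.orderOf_eq]
    omega
  have := cP_le_card P v
  exact (h.k0_le_of_le hv.right h2 (by omega)).trans (H v hv h2)

theorem exists_not_fConj_of_dz (h : MaxP 2 M B P e) (hP : Nat.card P ≤ 32) {z : P} (H : DZ z) :
    ∃ u ∉ center P, ∀ v : P, FConj 2 P e u v → v ∉ center P := by
  by_contra hcon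
  push Not at hcon
  have h1 : ∀ x : P, ∃ c ∈ center P, c ^ 2 = x ^ 2 := fun x => by
    by_cases hx : x ∈ center P
    · exact ⟨x, hx, rfl⟩
    obtain ⟨v, hv, hv'⟩ := hcon x hx
    obtain ⟨w, hw, h1, h2⟩ := h.exists_pow_eq hv (k := 2) fun y hy =>
      congrArg Subtype.val (mem_center_iff.1 (H.sq_mem x) ⟨y, hy⟩)
    rw [cP_of_comm fun y hy => congrArg Subtype.val (mem_center_iff.1 hv' ⟨y, hy⟩)] at h2
    exact ⟨⟨w, hw⟩, mem_center_iff.2 fun y => Subtype.ext (comm_of_card_le_cP h2 y y.2),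
      Subtype.ext h1⟩
  obtain ⟨x, y, hxy⟩ := H.nc
  obtain ⟨w, hw, h2⟩ : ∃ w ∈ center P, w ^ 2 = z := by
    obtain ⟨a, ha, h2⟩ := h1 x
    obtain ⟨b, hb, h3⟩ := h1 y
    obtain ⟨c, hc, h4⟩ := h1 (x * y)
    refine ⟨c * (a * b)⁻¹, mul_mem hc (inv_mem (mul_mem ha hb)), ?_⟩
    rw [Commute.mul_pow (mem_center_iff.1 hc _).symm, inv_pow,
      Commute.mul_pow (mem_center_iff.1 hb a), h2, h3, h4, H.mul_sq hxy, mul_inv_cancel_right]
  have h3 : ∀ c : P, (c ^ 2) ^ 2 = 1 → c ^ 2 ∈ zpowers z := fun c h3 => by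
    obtain ⟨c, hc, h4⟩ := h1 c
    rw [← h4] at h3 ⊢
    have := four_mul_card_center_le hxy
    obtain ⟨k, hk⟩ := sq_mem_zpowers_of_card (A := center P) (by omega) (w := ⟨w, hw⟩)
      (c := ⟨c, hc⟩) (fun e => H.ne (h2 ▸ congrArg Subtype.val e))
      (Subtype.ext ((congrArg (· ^ 2) h2).trans ((pow_two z).trans H.sq))) (Subtype.ext h3)
    exact ⟨k, h2 ▸ congrArg Subtype.val hk⟩
  obtain ⟨v, hv, hv'⟩ := hcon x (H.not_mem_center hxy)
  obtain ⟨g, hg, h4⟩ := hv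
  have h6 : ∀ a : P, a ∈ zpowers z → (a : G) ∈ zpowers (z : G) := fun a ⟨k, hk⟩ =>
    ⟨k, congrArg Subtype.val hk⟩
  obtain ⟨n, hn, h5⟩ := h.exists_mem_pairStab_of_chain (Z := zpowers (z : G))
    (fun a ha b hb => h6 _ (H.commutator_mem ⟨a, ha⟩ ⟨b, hb⟩))
    (fun a ha b ⟨k, hk⟩ => hk ▸ Commute.zpow_right (congrArg Subtype.val (H.zc ⟨a, ha⟩)) k)
    (fun R k hk _ hR _ a _ ⟨i, hi⟩ => by
      have h7 := hk.cj_le (MSS.conj_mem_cj (hR ⟨w.2, fun b hb =>
        congrArg Subtype.val (mem_center_iff.1 hw ⟨b, hk.le hb⟩)⟩))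
      have h8 : (k * w * k⁻¹) ^ 2 = k * z * k⁻¹ := by rw [conj_pow, ← h2]; rfl
      rw [← hi, ← conj_zpow, ← h8]
      refine zpow_mem (h6 _ (h3 ⟨_, h7⟩ (Subtype.ext ?_))) i
      rw [Subgroup.coe_pow, Subgroup.coe_pow, h8, conj_pow, ← Subgroup.coe_pow, pow_two, H.sq]
      simp) hg
  exact H.not_mem_center hxy (conj_mem_center (⟨n, hn⟩⁻¹) (x := v) (by
    rw [← h4, ← h5 _ (mem_zpowers _)]; simp [mul_assoc]) hv')

theorem k0_le_of_dz (h : MaxP 2 M B P e) (hP : Nat.card P ≤ 32)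
    (h2 : Nat.card (commutator P) = 2) : k0 2 B ≤ (commutator P).index := by
  obtain ⟨z, H⟩ := exists_dz h2
  obtain ⟨u, hu, h1⟩ := h.exists_not_fConj_of_dz hP H
  refine h.k0_le_of_class hP u.2 (fun e => hu (by rw [show u = 1 from Subtype.ext e]; simp))
    fun v hv _ => ?_
  have h3 := cP_eq_of_index (H.index_cent (h1 ⟨v, hv.right⟩ hv))
  have h4 := (commutator P).card_mul_index
  rw [h2, ← h3] at h4
  exact (Nat.eq_of_mul_eq_mul_left two_pos h4).ge

end MaxP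

end CL.Blk
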