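import Mathlib
import Cfsg.Agent.BLK.OlsA
import Cfsg.Agent.FUS.AbIndex

/-! Groups of order thirty-two with commutator subgroup of order four. -/

set_option autoImplicit false

open Cfsg Subgroup
open scoped commutatorElement

namespace CL.Blk

universe u

variable {S : Type u} [Group S] [Finite S] {A : Subgroup S} {a s x v : S}

theorem eq_of_le_of_card_le {H K : Subgroup S} (h : H ≤ K) (h' : Nat.card K < 2 * Nat.card H) :
    H = K := h.eq_or_lt.resolve_right fun e => (two_mul_card_le_of_lt e).not_gt h'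

/-- `A` is an abelian subgroup of index two. -/
structure Ab32 (A : Subgroup S) : Prop extends Fus.AbIdx 2 A where
  card : Nat.card S = 32
  card_comm : Nat.card (commutator S) = 4

namespace Ab32
variable (h : Ab32 A)
include h

omit [Finite S] in
theorem card_A : Nat.card A = 16 := by
  have := A.card_mul_index
  rw [h.idx, h.card] at this
  omega

omit [Finite S] in
theorem exists_not_mem : ∃ s, s ∉ A := not_forall.1 fun e => by
  have := h.idx
  rw [(eq_top_iff' A).2 e, index_top] at this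
  omega

theorem card_center : Nat.card (center S) = 4 := by
  obtain ⟨s, hs⟩ := h.exists_not_mem
  have := (h.delta s).ker.card_mul_index
  rw [index_ker, h.ker_delta hs, h.range_delta hs, h.card_comm, h.card_A,
    Nat.card_congr (subgroupOfEquivOfLe h.center_le).toEquiv] at this
  omega

theorem card_cent (hx : x ∉ A) : Nat.card (centralizer {x}) = 8 := by
  rw [h.card_eq (mem_centralizer_singleton_iff.2 rfl) hx, show A ⊓ centralizer {x} = center S from
    le_antisymm (fun a ha => h.mem_center ha.1 hx (mem_centralizer_singleton_iff.1 ha.2))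
      (le_inf h.center_le (center_le_centralizer _)), h.card_center]

omit [Finite S] in
theorem cent_eq (ha : a ∈ A) (ha' : a ∉ center S) : centralizer {a} = A :=
  le_antisymm (fun _ hy => by_contra fun e =>
    ha' (h.mem_center ha e (mem_centralizer_singleton_iff.1 hy).symm))
      fun _ hy => mem_centralizer_singleton_iff.2 (h.comm hy ha)

theorem card_cent_le (hx : x ∉ center S) : Nat.card (centralizer {x}) ≤ 16 := by
  by_cases h1 : x ∈ A
  · rw [h.cent_eq h1 hx, h.card_A]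
  · simp [h.card_cent h1]

omit [Finite S] in
theorem mul_inv_mem_center (hx : x ∉ A) (hs : s ∉ A) (hc : Commute x s) : s * x⁻¹ ∈ center S :=
  h.mem_center ((mul_mem_iff_of_index_two h.idx).2 (by simp [hx, hs])) hx
    (hc.symm.mul_left (Commute.refl x).inv_left)

omit [Finite S] in
theorem comm_of_comm (hx : x ∉ A) (hs : Commute x s) (hv : Commute x v) : Commute s v := by
  by_cases h1 : s ∈ A
  · exact (mem_center_iff.1 (h.mem_center h1 hx hs.symm) v).symm
  · rw [← inv_mul_cancel_right s x]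
    exact Commute.mul_left (mem_center_iff.1 (h.mul_inv_mem_center hx h1 hs) v).symm hv

theorem exists_eq (hs : s ∉ A) (hx : x ∈ commutator S) : ∃ a ∈ A, ⁅a, s⁆ = x := by
  obtain ⟨a, ha⟩ := (h.range_delta hs).ge hx
  exact ⟨a, a.2, ha⟩

theorem conj_eq_inv (hs : s ∉ A) (hx : x ∈ commutator S) : s * x * s⁻¹ = x⁻¹ := by
  obtain ⟨a, -, rfl⟩ := h.exists_eq hs hx
  calc s * ⁅a, s⁆ * s⁻¹ = s * a * s⁻¹ * (s ^ 2 * a⁻¹) * (s ^ 2)⁻¹ := by
        rw [commutatorElement_def]; group
    _ = _ := by rw [← mem_center_iff.1 (h.pow_mem_center hs), commutatorElement_def]; group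

theorem exists_c (hn : ¬ commutator S ≤ center S) (H : ∀ u ∉ A, ∃ a ∈ A, a ^ 2 = u ^ 2) :
    ∃ c ∈ A, orderOf c = 8 ∧ ∃ r, (r = 7 ∨ r = 3) ∧ ∀ s ∉ A, s * c * s⁻¹ = c ^ r := by
  obtain ⟨s, hs⟩ := h.exists_not_mem
  obtain ⟨x, hx, h1⟩ := SetLike.not_le_iff_exists.1 hn
  obtain ⟨c, hc, h2⟩ := h.exists_eq hs hx
  have h3 : x ∈ A := h2 ▸ h.comm_mem hc s
  have h4 := h.conj_eq_inv hs hx
  have h5 : x ^ 2 ≠ 1 := fun e => h1 (h.mem_center h3 hs (by
    rw [inv_eq_of_mul_eq_one_right ((pow_two x).symm.trans e), mul_inv_eq_iff_eq_mul] at h4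
    exact h4.symm))
  have h6 : x ^ 4 = 1 := congrArg Subtype.val (h.card_comm ▸ pow_card_eq_one' (x := (⟨x, hx⟩ :
    commutator S)))
  have h7 : orderOf x = 4 := orderOf_eq_prime_pow (p := 2) (n := 1) h5 h6
  have h8 : zpowers x = commutator S :=
    eq_of_le_of_card_ge (zpowers_le.2 hx) (by rw [Nat.card_zpowers, h7, h.card_comm])
  have h9 : x ^ 2 * x ^ 2 = 1 := by rw [← pow_add, h6]
  have h10 : x ^ 2 ∈ center S := h.mem_center (pow_mem h3 2) hs (by
    rw [eq_comm, ← mul_inv_eq_iff_eq_mul, ← conj_pow, h4, inv_pow, inv_eq_of_mul_eq_one_right h9])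
  have h11 : ∀ w ∈ center S, w ^ 2 ∈ zpowers (x ^ 2) := fun w hw =>
    sq_mem_of_index_two (Fus.relIndex_eq_of_card (zpowers_le.2 h10) (by
      rw [h.card_center, Nat.card_zpowers, orderOf_eq_prime ((pow_two _).trans h9) h5])) ⟨w, hw⟩
  have h12 : ∀ u ∉ A, u ^ 2 = 1 ∨ u ^ 2 = x ^ 2 := fun u hu => by
    obtain ⟨a, ha, h12⟩ := H u hu
    rw [← mem_zpowers_iff_of_sq h9, ← h12]
    have h13 : ∀ a : A, h.delta s a = 1 ↔ (a : S) ∈ center S := fun a => by
      rw [← MonoidHom.mem_ker, h.ker_delta hs, mem_subgroupOf]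
    have h14 : h.delta s ⟨a, ha⟩ ^ 2 = 1 := by
      rw [← map_pow, h13]
      exact (h12.symm ▸ h.pow_mem_center hu : a ^ 2 ∈ center S)
    have h15 := (mem_zpowers_sq_or h.pg (h8.ge ((h.range_delta hs).le ⟨⟨a, ha⟩, rfl⟩))).resolve_right
      fun ⟨k, hk⟩ => h5 (by rw [← hk, ← zpow_natCast, ← zpow_mul, mul_comm, zpow_mul, zpow_natCast,
        h14, one_zpow])
    rcases (mem_zpowers_iff_of_sq h9).1 h15 with h16 | h16
    · exact h11 a ((h13 _).1 h16)
    have h17 : (a * x⁻¹) ^ 2 ∈ _ := h11 _ ((h13 (⟨a, ha⟩ * ⟨x, h3⟩⁻¹)).1 (by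
      rw [map_mul, map_inv, h16, h.delta_apply, commutatorElement_def, mul_assoc, mul_assoc,
        ← mul_assoc s, h.conj_eq_inv hs (inv_mem hx), inv_inv, pow_two, mul_inv_cancel]))
    rw [Commute.mul_pow (h.comm ha (inv_mem h3)), inv_pow] at h17
    exact (Subgroup.mul_mem_cancel_right _ (inv_mem (mem_zpowers _))).1 h17
  have h13 : s * c * s⁻¹ = c * x⁻¹ := by
    rw [← h.comm (inv_mem h3) hc, ← h2, commutatorElement_def]; group
  have h14 : (c * s) ^ 2 = c ^ 2 * x⁻¹ * s ^ 2 := by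
    rw [pow_two c, mul_assoc c, ← h13, pow_two, pow_two]; group
  have h15 : c ^ 2 = x ∨ c ^ 2 = x⁻¹ := by
    have h15 := h12 (c * s) (mt (A.mul_mem_cancel_left hc).1 hs)
    rw [h14] at h15
    rcases h12 s hs with e | e <;> rw [e] at h15 <;> rcases h15 with e' | e'
    · exact Or.inl (by simpa [mul_inv_eq_one] using e')
    · exact Or.inr (by
        rw [mul_one, mul_inv_eq_iff_eq_mul] at e'
        rw [e', eq_inv_iff_mul_eq_one, ← h6]; group)
    · exact Or.inr (by rw [eq_inv_iff_mul_eq_one, ← e']; group)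
    · exact Or.inl (by simpa [mul_inv_eq_one] using e')
  have h16 : ∀ t ∉ A, t * c * t⁻¹ = c * x⁻¹ := fun t ht => by
    have h16 : t * s⁻¹ ∈ A := (mul_mem_iff_of_index_two h.idx).2 (by simp [ht, hs])
    calc t * c * t⁻¹ = t * s⁻¹ * (s * c * s⁻¹) * (t * s⁻¹)⁻¹ := by group
      _ = _ := by rw [h13, h.comm h16 (mul_mem hc (inv_mem h3)), mul_inv_cancel_right]
  have h17 : c ^ 8 = 1 := by
    rw [pow_mul c 2 4]
    rcases h15 with e | e <;> simp [e, h6]
  refine ⟨c, hc, orderOf_eq_prime_pow (p := 2) (n := 2) ?_ h17, ?_⟩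
  · rw [pow_two 2, pow_mul]
    rcases h15 with e | e <;> simpa [e] using h5
  rcases h15 with e | e
  · exact ⟨7, Or.inl rfl, fun t ht => by
      rw [h16 t ht, ← e, mul_inv_eq_iff_eq_mul, ← pow_add, pow_succ, h17, one_mul]⟩
  · exact ⟨3, Or.inr rfl, fun t ht => by rw [h16 t ht, ← e, ← pow_succ']⟩

end Ab32

section noAb
variable (hA : ∀ A : Subgroup S, IsMulCommutative A → Nat.card A ≤ 8)
include hA

theorem mem_of_comm {E : Subgroup S} (hE : IsMulCommutative E) (h8 : 4 < Nat.card E)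
    (hx : ∀ y ∈ E, y * x = x * y) : x ∈ E := by_contra fun e => by
  have h1 := two_mul_card_le_of_lt (lt_sup_zpowers e)
  have h2 := hA _ (PG.isMulCommutative_sup_zpowers hE hx)
  omega

theorem card_cent_le_of_lt (hv : 4 < orderOf v) : Nat.card (centralizer {v}) ≤ 8 :=
  (card_le_of_le (K := zpowers v) fun x hx => mem_of_comm hA inferInstance
    (by rwa [Nat.card_zpowers]) fun _ ⟨k, hk⟩ =>
      hk ▸ (Commute.zpow_left (mem_centralizer_singleton_iff.1 hx).symm k).eq).trans
        (hA _ inferInstance)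

theorem card_cent_le_of_exp (h32 : Nat.card S = 32) (hc : Nat.card (commutator S) = 4)
    (h4 : ∀ x : S, x ^ 4 = 1) (hv : v ^ 2 ≠ 1) : Nat.card (centralizer {v}) ≤ 8 := by
  by_contra h8
  set C := centralizer {v}
  have hC : ∀ {x}, x ∈ C → v * x = x * v := fun hx => (mem_centralizer_singleton_iff.1 hx).symm
  have hvC : v ∈ C := mem_centralizer_singleton_iff.2 rfl
  have h1 : C.index ∣ 2 := by
    have h1 := C.card_mul_index
    have h2 : C.index ≤ 3 := by nlinarith
    have := C.index_ne_zero_of_finite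
    interval_cases C.index <;> omega
  have hn : C.Normal := by
    rcases (Nat.dvd_prime Nat.prime_two).1 h1 with e | e
    · rw [index_eq_one.1 e]; infer_instance
    · exact normal_of_index_eq_two e
  have h2 : ∀ x : S, (x ^ 2) ^ 2 = 1 := fun x => by rw [← pow_mul, h4]
  have h3 : ∀ {x}, x ∈ C → IsMulCommutative (zpowers v ⊔ zpowers x : Subgroup S) := fun hx =>
    PG.isMulCommutative_sup_zpowers inferInstance fun _ ⟨k, hk⟩ =>
      hk ▸ (Commute.zpow_left (hC hx) k).eq
  have h5 : ∀ x ∈ C, x ^ 2 ∈ zpowers (v ^ 2) := fun x hx => by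
    have := h3 hx
    obtain ⟨k, hk⟩ := sq_mem_zpowers_of_card (hA _ this) (w := ⟨v, mem_sup_left (mem_zpowers v)⟩)
      (c := ⟨x, mem_sup_right (mem_zpowers x)⟩) (fun e => hv (congrArg Subtype.val e))
      (Subtype.ext (h2 v)) (Subtype.ext (h2 x))
    exact ⟨k, congrArg Subtype.val hk⟩
  have h6 : ∀ {x}, x ∈ zpowers (v ^ 2) ↔ x = 1 ∨ x = v ^ 2 :=
    mem_zpowers_iff_of_sq ((pow_two _).symm.trans (h2 v))
  have h7 : zpowers (v ^ 2) ≤ center S := zpowers_le.2 (mem_center_iff.2 fun g => by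
    have := h6.1 (h5 _ (hn.conj_mem v hvC g))
    rw [conj_pow] at this
    exact mul_inv_eq_iff_eq_mul.1 (this.resolve_left (by simpa using hv)))
  have := CL.Char.normal_of_le_center' h7
  let π := QuotientGroup.mk' (zpowers (v ^ 2))
  have hπ : ∀ {x}, π x = 1 ↔ x ∈ zpowers (v ^ 2) := QuotientGroup.eq_one_iff _
  have h9 : ∀ x ∈ C, (π x)⁻¹ = π x := fun x hx => inv_eq_of_mul_eq_one_right (by
    rw [← map_mul, ← pow_two, hπ]; exact h5 x hx)
  have h10 : ∀ x ∈ C, ∀ y ∈ C, π x * π y = π y * π x := fun x hx y hy => by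
    rw [← h9 x hx, ← h9 y hy, ← mul_inv_rev, ← map_mul, h9 _ (mul_mem hy hx), map_mul, h9 x hx,
      h9 y hy]
  obtain ⟨a, ha, t, h11⟩ : ∃ a ∈ C, ∃ t, π a * π t ≠ π t * π a := by
    by_contra e
    push Not at e
    have h11 := card_le_of_le (H := commutator S) (K := zpowers (v ^ 2)) (commutator_le.2 fun g _ k _ => hπ.1 (by
      rw [map_commutatorElement, commutatorElement_eq_one_iff_mul_comm]
      by_cases hg : g ∈ C
      · exact e g hg k
      by_cases hk : k ∈ C
      · exact (e k hk g).symm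
      have := e (g * k⁻¹) ((mul_mem_iff_of_index_two (((Nat.dvd_prime Nat.prime_two).1 h1).resolve_left
        fun e' => hg (index_eq_one.1 e' ▸ mem_top g))).2 (by simp [hg, hk])) k
      rwa [map_mul, map_inv, inv_mul_cancel_right, ← mul_assoc, eq_mul_inv_iff_mul_eq] at this))
    rw [hc, Nat.card_zpowers, orderOf_eq_prime (h2 v) hv] at h11
    omega
  have ht : t ∉ C := fun e => h11 (h10 a ha t e)
  obtain ⟨x, h12⟩ : ∃ x, t * a * t⁻¹ = a * x := ⟨_, (mul_inv_cancel_left a _).symm⟩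
  have hx : x ∈ C := (C.mul_mem_cancel_left ha).1 (h12 ▸ hn.conj_mem a ha t)
  have h13 : x ∉ zpowers (v ^ 2) := fun e => h11 (by
    rw [eq_comm, ← mul_inv_eq_iff_eq_mul, ← map_inv, ← map_mul, ← map_mul, h12, map_mul, hπ.2 e,
      mul_one])
  have h14 : x * a * x = a := by
    have h14 : (a * x) ^ 2 = a ^ 2 := by
      rw [← h12, conj_pow, mem_center_iff.1 (h7 (h5 a ha)), mul_inv_cancel_right]
    rwa [pow_two, pow_two, mul_assoc, mul_right_inj, ← mul_assoc] at h14
  have ho : orderOf v = 4 := orderOf_eq_prime_pow (p := 2) (n := 1) hv (h4 v)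
  have h15 : ∀ y ∈ zpowers v, y ^ 2 = 1 → y ∈ zpowers (v ^ 2) := fun y hy e =>
    (mem_zpowers_sq_or (IsPGroup.of_card (n := 5) h32) hy).resolve_right fun ⟨k, hk⟩ => hv (by
      rw [← hk, ← zpow_natCast, ← zpow_mul, mul_comm, zpow_mul, zpow_natCast, e, one_zpow])
  have h16 : x ∉ zpowers v := fun e => h13 (h15 x e (by
    obtain ⟨k, hk⟩ := e
    rw [(hk ▸ Commute.zpow_left (hC ha) k : Commute x a).eq, mul_assoc, mul_eq_left] at h14
    exact (pow_two x).trans h14))
  have h17 := two_mul_card_le_of_lt (lt_sup_zpowers h16)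
  rw [Nat.card_zpowers, ho] at h17
  have h18 : t * v * t⁻¹ ∈ zpowers v := by_contra fun e => by
    have h18 := two_mul_card_le_of_lt (lt_sup_zpowers e)
    have h19 := h3 (hn.conj_mem v hvC t)
    rw [Nat.card_zpowers, ho] at h18
    refine h8 ((card_le_of_le fun c hc => mem_of_comm hA h19 (by omega) ?_).trans (hA _ h19))
    refine fun y hy => mem_centralizer_singleton_iff.1 (sup_le (zpowers_le.2 ?_) (zpowers_le.2 ?_) hy)
    · exact mem_centralizer_singleton_iff.2 (hC hc)
    · have := hC (hn.conj_mem' c hc t)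
      rw [mem_centralizer_singleton_iff]
      calc t * v * t⁻¹ * c = t * (v * (t⁻¹ * c * t)) * t⁻¹ := by group
        _ = _ := by rw [this]; group
  have h19 : t ^ 2 ∈ C := sq_mem_of_index_two (((Nat.dvd_prime Nat.prime_two).1 h1).resolve_left
    fun e' => ht (index_eq_one.1 e' ▸ mem_top t)) t
  have h20 : ∀ {y}, y ∈ (centralizer {π t}).comap π ↔ π (t * y * t⁻¹) = π y := by
    simp [mem_centralizer_singleton_iff, mul_inv_eq_iff_eq_mul, eq_comm (a := π t * _)]
  have h21 : zpowers v ⊔ zpowers x = C ⊓ (centralizer {π t}).comap π := by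
    have h21 := two_mul_card_le_of_lt (inf_lt_left.2 fun e : C ≤ (centralizer {π t}).comap π =>
      h11 (mem_centralizer_singleton_iff.1 (e ha)))
    have h22 := two_mul_card_le_of_lt (lt_top_iff_ne_top.2 fun e : C = ⊤ => ht (e ▸ mem_top t))
    rw [card_top] at h22
    refine eq_of_le_of_card_le (sup_le (zpowers_le.2 ⟨hvC, h20.2 ?_⟩) (zpowers_le.2 ⟨hx, h20.2 ?_⟩))
      (by omega)
    · rw [← mul_inv_eq_one, ← map_inv, ← map_mul, hπ]
      refine h15 _ (mul_mem h18 (inv_mem (mem_zpowers v))) ?_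
      rw [Commute.mul_pow (Commute.inv_right (hC (hn.conj_mem v hvC t)).symm), conj_pow,
        mem_center_iff.1 (h7 (mem_zpowers _)), mul_inv_cancel_right, inv_pow, mul_inv_cancel]
    · have : t * x * t⁻¹ = (t * a * t⁻¹)⁻¹ * (t ^ 2 * a * (t ^ 2)⁻¹) := by
        rw [← inv_mul_cancel_left a x, ← h12]; group
      rw [this, h12, map_mul, map_mul, map_mul, h10 _ h19 a ha, map_inv, map_inv, map_mul]
      simp [h9 x hx]
  have h22 : Commute x (t ^ 2) := AbM.comm_of_mem (h3 hx) (mem_sup_right (mem_zpowers x))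
    (h21.ge ⟨h19, h20.2 (by group)⟩)
  have h23 : x ^ 2 = 1 := by
    have h23 := h2 (t * a)
    have h24 : (t * a) ^ 2 = a ^ 2 * (a⁻¹ * (x * t ^ 2) * a⁻¹⁻¹) := by
      rw [pow_two a, ← inv_mul_cancel_left a x, ← h12, pow_two, pow_two]; group
    rw [h24, Commute.mul_pow (mem_center_iff.1 (h7 (h5 a ha)) _).symm, h2, conj_pow, h22.mul_pow,
      h2] at h23
    simpa [-inv_inv] using h23
  refine h11 (mem_centralizer_singleton_iff.1 (h21.le (mem_of_comm hA (h3 hx) (by omega)
    fun y hy => mem_centralizer_singleton_iff.1 (sup_le (zpowers_le.2 ?_) (zpowers_le.2 ?_) hy))).2)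
  · exact mem_centralizer_singleton_iff.2 (hC ha)
  · rw [mem_centralizer_singleton_iff, ← mul_inv_eq_iff_eq_mul,
      inv_eq_of_mul_eq_one_right ((pow_two x).symm.trans h23), h14]

end noAb

end CL.Blk
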