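import Mathlib
import Cfsg.Agent.BLK.OlsB
import Cfsg.Agent.PLOC.DQS

/-! Two-generated 2-groups with small commutator subgroup. -/

set_option autoImplicit false

open Cfsg Subgroup
open scoped commutatorElement

namespace CL.Blk

universe u

variable {S : Type u} [Group S] {a b c x y z w s t : S}

theorem exists_gen_of_index (h : zpowers a ⊔ zpowers b = ⊤) {M : Subgroup S} (hM : M.index = 2) :
    ∃ x ∉ M, ∃ y ∈ M, zpowers x ⊔ zpowers y = ⊤ := by
  by_cases ha : a ∈ M <;> by_cases hb : b ∈ M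
  · rw [top_le_iff.1 (h.ge.trans (sup_le (zpowers_le.2 ha) (zpowers_le.2 hb))), index_top] at hM
    omega
  · exact ⟨b, hb, a, ha, (sup_comm _ _).trans h⟩
  · exact ⟨a, ha, b, hb, h⟩
  refine ⟨a, ha, a * b, (mul_mem_iff_of_index_two hM).2 (by simp [ha, hb]), top_le_iff.1 (h.ge.trans
    (sup_le le_sup_left (zpowers_le.2 ?_)))⟩
  exact (Subgroup.mul_mem_cancel_left _ (mem_sup_left (mem_zpowers a))).1
    (mem_sup_right (mem_zpowers _))

theorem mem_center_of_gen (h : zpowers x ⊔ zpowers y = ⊤) (hx : Commute x w) (hy : Commute y w) :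
    w ∈ center S := mem_center_iff.2 fun g => mem_centralizer_singleton_iff.1
  (sup_le (zpowers_le.2 (mem_centralizer_singleton_iff.2 hx))
    (zpowers_le.2 (mem_centralizer_singleton_iff.2 hy)) (h.ge (mem_top g)))

theorem gen_map {T : Type*} [Group T] {π : S →* T} (hπ : Function.Surjective π)
    (h : zpowers x ⊔ zpowers y = ⊤) : zpowers (π x) ⊔ zpowers (π y) = ⊤ := by
  rw [← MonoidHom.map_zpowers, ← MonoidHom.map_zpowers, ← Subgroup.map_sup, h,
    map_top_of_surjective _ hπ]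

theorem center_eq_top_of_gen (h : zpowers x ⊔ zpowers y = ⊤) (hc : Commute x y) : center S = ⊤ :=
  top_le_iff.1 (h.ge.trans (sup_le (zpowers_le.2 (mem_center_of_gen h (.refl x) hc.symm))
    (zpowers_le.2 (mem_center_of_gen h hc (.refl y)))))

theorem commutator_le_of_gen (h : zpowers x ⊔ zpowers y = ⊤) {N : Subgroup S} [N.Normal]
    (hc : ⁅x, y⁆ ∈ N) : commutator S ≤ N := commutator_le.2 fun g _ k _ => by
  have h1 := center_eq_top_of_gen (gen_map (QuotientGroup.mk'_surjective N) h)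
    (commutatorElement_eq_one_iff_commute.1 (by
      rwa [← map_commutatorElement, QuotientGroup.mk'_apply, QuotientGroup.eq_one_iff]))
  rw [← QuotientGroup.eq_one_iff, ← QuotientGroup.mk'_apply, map_commutatorElement,
    commutatorElement_eq_one_iff_mul_comm]
  exact mem_center_iff.1 (h1.ge (mem_top _)) _

theorem commutator_eq_of_gen (h : zpowers x ⊔ zpowers y = ⊤) [(zpowers ⁅x, y⁆).Normal] :
    commutator S = zpowers ⁅x, y⁆ := le_antisymm (commutator_le_of_gen h (mem_zpowers _))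
  (zpowers_le.2 (commutator_mem_commutator (mem_top x) (mem_top y)))

theorem comm_mem (x y : S) : ⁅x, y⁆ ∈ commutator S :=
  commutator_mem_commutator (mem_top x) (mem_top y)

theorem comm_not_mem_center (h : zpowers x ⊔ zpowers y = ⊤) (hc : ¬ IsCyclic (commutator S)) :
    ⁅x, y⁆ ∉ center S := fun e => hc (by
  have := CL.Char.normal_of_le_center' (zpowers_le.2 e)
  rw [commutator_eq_of_gen h]
  infer_instance)

/-- The commutator subgroup is the four-group `{1, z, c, c z}` with `z` central and `c` not. -/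
structure K4 (z c : S) : Prop where
  cen : z ∈ center S
  nc : c ∉ center S
  ne : z ≠ 1
  mem : ∀ k, k ∈ commutator S ↔ k = 1 ∨ k = z ∨ k = c ∨ k = c * z
  sq : ∀ k ∈ commutator S, k * k = 1

theorem exists_k4 [Finite S] (hS : IsPGroup 2 S) (h : zpowers x ⊔ zpowers y = ⊤)
    (h4 : Nat.card (commutator S) = 4) (hc : ¬ IsCyclic (commutator S)) : ∃ z c : S, K4 z c := by
  have h1 : ∀ k ∈ commutator S, k * k = 1 := fun k hk => by
    have h1 := orderOf_dvd_natCard (⟨k, hk⟩ : commutator S)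
    have h2 := mt (isCyclic_of_orderOf_eq_card (⟨k, hk⟩ : commutator S)) hc
    rw [h4, Subgroup.orderOf_mk] at h1 h2
    obtain ⟨i, hi, h3⟩ := (Nat.dvd_prime_pow Nat.prime_two (m := 2)).1 h1
    have : i ≠ 2 := fun e => h2 (by rw [h3, e]; rfl)
    rw [← pow_two, ← orderOf_dvd_iff_pow_eq_one, h3]
    exact pow_dvd_pow 2 (show i ≤ 1 by omega)
  have := hS.isNilpotent
  obtain ⟨z, ⟨hz, h2⟩, h3⟩ := (bot_or_exists_ne_one _).resolve_left
    (inf_center_ne_bot_of_isNilpotent (commutator S) fun e => by simp [e] at h4)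
  have h5 := comm_not_mem_center h hc
  refine ⟨z, _, h2, h5, h3, fun k => ⟨fun hk => ?_, ?_⟩, h1⟩
  · have h6 : (zpowers z).relIndex (commutator S) = 2 := Fus.relIndex_eq_of_card (zpowers_le.2 hz)
      (by rw [h4, Nat.card_zpowers, orderOf_eq_prime ((pow_two z).trans (h1 z hz)) h3])
    by_cases h7 : k ∈ zpowers z
    · exact ((mem_zpowers_iff_of_sq (h1 z hz)).1 h7).imp_right Or.inl
    have h8 := (mul_mem_iff_of_index_two h6 (a := ⟨_, comm_mem x y⟩⁻¹) (b := ⟨k, hk⟩)).2 (by
      simp [mem_subgroupOf, h7, mt (zpowers_le.2 h2 ·) h5])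
    exact Or.inr (Or.inr (((mem_zpowers_iff_of_sq (h1 z hz)).1 h8).imp
      (fun e => (inv_mul_eq_one.1 e).symm) fun e => inv_mul_eq_iff_eq_mul.1 e))
  · rintro (rfl | rfl | rfl | rfl)
    exacts [one_mem _, hz, comm_mem x y, mul_mem (comm_mem x y) hz]

namespace K4
variable (h : K4 z c)
include h

theorem z_mem : z ∈ commutator S := (h.mem z).2 (by simp)

theorem c_mem : c ∈ commutator S := (h.mem c).2 (by simp)

theorem zz : z * z = 1 := h.sq z h.z_mem

theorem zc (x : S) : x * z = z * x := mem_center_iff.1 h.cen x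

theorem mem_iff : x ∈ zpowers z ↔ x = 1 ∨ x = z := mem_zpowers_iff_of_sq h.zz

theorem eq_of_not {k : S} (hk : k ∈ commutator S) (hk' : k ∉ center S) : k = c ∨ k = c * z := by
  rcases (h.mem k).1 hk with rfl | rfl | e
  exacts [(hk' (one_mem _)).elim, (hk' h.cen).elim, e]

theorem mem_zpowers_of {k : S} (hk : k ∈ commutator S) (hk' : k ∈ center S) : k ∈ zpowers z := by
  rcases (h.mem k).1 hk with rfl | rfl | rfl | rfl
  exacts [one_mem _, mem_zpowers _, (h.nc hk').elim,
    (h.nc ((Subgroup.mul_mem_cancel_right _ h.cen).1 hk')).elim]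

theorem conj_c (hx : x ∉ centralizer {c}) : x * c * x⁻¹ = c * z :=
  (h.eq_of_not (Normal.conj_mem inferInstance c h.c_mem x) fun e => h.nc (by
    simpa [mul_assoc] using Normal.conj_mem inferInstance _ e x⁻¹)).resolve_left fun e =>
      hx (mem_centralizer_singleton_iff.2 (mul_inv_eq_iff_eq_mul.1 e))

theorem conj_k (hx : x ∉ centralizer {c}) {k : S} (hk : k ∈ commutator S) (hk' : k ∉ center S) :
    x * k * x⁻¹ = k * z := by
  rcases h.eq_of_not hk hk' with rfl | rfl
  · exact h.conj_c hx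
  · rw [← mul_assoc, mul_assoc _ z, ← h.zc, ← mul_assoc, h.conj_c hx]

theorem comm_k (hy : y ∈ centralizer {c}) {k : S} (hk : k ∈ commutator S) : Commute y k := by
  have h1 : Commute y c := mem_centralizer_singleton_iff.1 hy
  rcases (h.mem k).1 hk with rfl | rfl | rfl | rfl
  exacts [.one_right y, h.zc y, h1, h1.mul_right (h.zc y)]

theorem index_cent : (centralizer {c}).index = 2 := by
  obtain ⟨y, hy⟩ := not_forall.1 (mt mem_center_iff.2 h.nc)
  replace hy := mt mem_centralizer_singleton_iff.1 hy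
  refine index_eq_two_iff.2 ⟨y, fun b => (em (b ∈ centralizer {c})).elim (fun hb => Or.inr ⟨hb,
    mt (Subgroup.mul_mem_cancel_left _ hb).1 hy⟩) fun hb => Or.inl ⟨?_, hb⟩⟩
  rw [mem_centralizer_singleton_iff, ← mul_inv_eq_iff_eq_mul]
  calc _ = b * (y * c * y⁻¹) * b⁻¹ := by group
    _ = c := by rw [h.conj_c hy, h.conj_k hb (mul_mem h.c_mem h.z_mem)
      (mt (Subgroup.mul_mem_cancel_right _ h.cen).1 h.nc), mul_assoc, h.zz, mul_one]

theorem comm_sq (hy : y ∈ centralizer {c}) (x : S) : Commute x (y ^ 2) := by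
  have h1 : x * y * x⁻¹ = ⁅x, y⁆ * y := by rw [commutatorElement_def]; group
  rw [Commute, SemiconjBy, ← mul_inv_eq_iff_eq_mul, ← conj_pow, h1,
    (h.comm_k hy (comm_mem x y)).symm.mul_pow, pow_two, h.sq _ (comm_mem x y), one_mul]

theorem sq_conj (hx : x ∉ centralizer {c}) (hn : ⁅x, y⁆ ∉ center S) :
    x ^ 2 * y * (x ^ 2)⁻¹ = z * y :=
  calc _ = x * ⁅x, y⁆ * x⁻¹ * ⁅x, y⁆ * y := by rw [commutatorElement_def, pow_two]; group
    _ = _ := by rw [h.conj_k hx (comm_mem x y) hn, h.zc, mul_assoc z, h.sq _ (comm_mem x y), mul_one]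

theorem not_comm (hx : x ∉ centralizer {c}) (hn : ⁅x, y⁆ ∉ center S) : ¬ Commute (x ^ 2) y :=
  fun e => h.ne (by simpa [e.eq] using (h.sq_conj hx hn).symm)

end K4

theorem mul_inv_mem_of_relIndex {H L : Subgroup S} (h : H.relIndex L = 2) (hs : s ∈ L) (ht : t ∈ L)
    (hs' : s ∉ H) (ht' : t ∉ H) : s * t⁻¹ ∈ H :=
  (mul_mem_iff_of_index_two h (a := ⟨s, hs⟩) (b := ⟨t, ht⟩⁻¹)).2 (by simp [mem_subgroupOf, hs', ht'])

/-- The groups of order thirty-two generated by two elements with non-cyclic commutator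
subgroup; `Φ` is the Frattini subgroup. -/
structure G7 (z c : S) (Φ : Subgroup S) : Prop extends K4 z c where
  char : Φ.Characteristic
  K_le : commutator S ≤ Φ
  Φ_le : Φ ≤ centralizer {c}
  card : Nat.card S = 32
  card_K : Nat.card (commutator S) = 4
  card_Φ : Nat.card Φ = 8
  comm_Φ : ∀ s ∈ Φ, ∀ t : S, ⁅t, s⁆ ∈ zpowers z
  nz : ∀ s ∉ centralizer {c}, ∀ t ∈ centralizer {c}, t ∉ Φ → ⁅s, t⁆ ∉ center S
  nc2 : ∀ s ∈ Φ, s ∉ commutator S → ∀ t ∈ centralizer {c}, t ∉ Φ → ¬ Commute s t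
  ab : ∀ s ∈ Φ, ∀ t ∈ Φ, Commute s t

theorem lt_index_commutator [Finite S] {n : ℕ} (h : Nat.card S = 2 ^ (n + 3))
    (hc : ¬ IsCyclic (commutator S)) : 8 ≤ (commutator S).index ∧ 4 ≤ Nat.card (commutator S) := by
  obtain ⟨k, -, hk⟩ := (Nat.dvd_prime_pow Nat.prime_two).1 (h ▸ (commutator S).index_dvd_card)
  obtain ⟨m, -, hm⟩ :=
    (Nat.dvd_prime_pow Nat.prime_two).1 (h ▸ (commutator S).card_subgroup_dvd_card)
  rw [hk, hm]
  refine ⟨Nat.pow_le_pow_right (i := 3) two_pos (by_contra fun e => hc ?_),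
    Nat.pow_le_pow_right (i := 2) two_pos (by_contra fun e => hc ?_)⟩
  · obtain ⟨a, b, h1⟩ := PCyc.exists_isDQS_of_index_commutator h
      (hk ▸ Nat.pow_le_pow_right (j := 2) two_pos (by omega))
    rw [h1.commutator_eq]
    infer_instance
  · exact isCyclic_of_card_dvd_prime' Nat.prime_two (hm ▸ pow_dvd_pow 2 (show m ≤ 1 by omega))

theorem exists_g7 [Finite S] (h32 : Nat.card S = 32) (h : zpowers a ⊔ zpowers b = ⊤)
    (hc : ¬ IsCyclic (commutator S)) : ∃ (z c : S) (Φ : Subgroup S), G7 z c Φ := by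
  have h4 : Nat.card (commutator S) = 4 := by
    have := lt_index_commutator (n := 2) h32 hc
    have := (commutator S).card_mul_index
    nlinarith
  obtain ⟨z, c, H⟩ := exists_k4 (IsPGroup.of_card (n := 5) h32) h h4 hc
  obtain ⟨x, hx, y, hy, h1⟩ := exists_gen_of_index h H.index_cent
  have h2 := H.not_comm hx (comm_not_mem_center h1 hc)
  have h3 := sq_mem_of_index_two H.index_cent x
  have h5 : x ^ 2 ∉ commutator S := fun e => h2 (H.comm_k hy e).symm
  have h6 : commutator S ≤ centralizer {c} := fun k hk => mem_centralizer_singleton_iff.2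
    (H.comm_k (mem_centralizer_singleton_iff.2 rfl) hk).symm
  set Φ := commutator S ⊔ zpowers (x ^ 2)
  have h7 : Φ ≤ centralizer {c} := sup_le h6 (zpowers_le.2 h3)
  have h8 : ∀ s ∈ Φ, ∀ t ∈ Φ, Commute s t := fun s hs t ht => AbM.comm_of_mem
    (PG.isMulCommutative_sup_zpowers ⟨⟨fun a b => Subtype.ext (H.comm_k (h6 a.2) b.2)⟩⟩
      fun k hk => (H.comm_k h3 hk).symm) hs ht
  have hx2 : x ^ 2 ∈ Φ := mem_sup_right (mem_zpowers _)
  have h9 : y ∉ Φ := fun e => h2 (h8 _ hx2 y e)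
  have h10 : Nat.card (centralizer {c}) = 16 := by
    have := (centralizer {c}).card_mul_index
    rw [H.index_cent, h32] at this
    omega
  have h11 : Nat.card Φ = 8 := by
    have h11 : _ ≤ Nat.card Φ := two_mul_card_le_of_lt (lt_sup_zpowers h5)
    have := two_mul_card_le_of_lt (lt_of_le_not_ge h7 fun e => h9 (e hy))
    omega
  have h12 := Fus.relIndex_eq_of_card (m := 2) h7 (by omega)
  have h13 := Fus.relIndex_eq_of_card (K := Φ) (m := 2) le_sup_left (by omega)
  have := CL.Char.normal_of_le_center' (zpowers_le.2 H.cen)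
  let π := QuotientGroup.mk' (zpowers z)
  have hπ : ∀ {s t}, ⁅s, t⁆ ∈ zpowers z ↔ Commute (π s) (π t) := fun {s t} => by
    rw [← commutatorElement_eq_one_iff_commute, ← map_commutatorElement]
    exact (QuotientGroup.eq_one_iff _).symm
  have h14 : Φ ≤ (center _).comap π := by
    refine sup_le (fun k hk => mem_center_iff.2 fun g => ?_) (zpowers_le.2 (mem_center_of_gen
      (gen_map (QuotientGroup.mk'_surjective _) h1) ((Commute.self_pow x 2).map π) (hπ.1 ?_).symm))
    · obtain ⟨g, rfl⟩ := QuotientGroup.mk'_surjective _ g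
      by_cases hg : g ∈ centralizer {c}
      · exact (H.comm_k hg hk).map π
      by_cases hk' : k ∈ center S
      · exact Commute.map (mem_center_iff.1 hk' g) π
      exact hπ.1 (by simp [commutatorElement_def, H.conj_k hg hk hk', H.zc k])
    · simp [commutatorElement_def, H.sq_conj hx (comm_not_mem_center h1 hc)]
  have h15 : ∀ s ∈ centralizer {c}, Commute (π s) (π y) := fun s hs => by
    by_cases hs' : s ∈ Φ
    · exact (mem_center_iff.1 (h14 hs') _).symm
    rw [← inv_mul_cancel_right s y, map_mul]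
    exact Commute.mul_left
      (mem_center_iff.1 (h14 (mul_inv_mem_of_relIndex h12 hs hy hs' h9)) _).symm (.refl _)
  have h16 : ∀ s ∉ centralizer {c}, ∀ t ∈ centralizer {c}, t ∉ Φ → ⁅s, t⁆ ∉ center S := by
    refine fun s hs t ht ht' e => comm_not_mem_center h1 hc (zpowers_le.2 H.cen (hπ.2 ?_))
    have h16 := (Commute.inv_right (mem_center_iff.1 (h14 (mul_inv_mem_of_relIndex h12 ht hy ht' h9))
      (π s))).mul_right (hπ.1 (H.mem_zpowers_of (comm_mem s t) e))
    have h17 := (h15 _ ((mul_mem_iff_of_index_two H.index_cent (a := x) (b := s⁻¹)).2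
      (by simp [hx, hs]))).mul_left (by simpa using h16 : Commute (π s) (π y))
    simpa using h17
  refine ⟨z, c, Φ, H, ?_, le_sup_left, h7, h32, h4, h11, fun s hs t => hπ.2
    (mem_center_iff.1 (h14 hs) _), h16, fun s hs hs' t ht ht' e => h2 ?_, h8⟩
  · rw [show Φ = Subgroup.upperCentralSeries S 2 from Subgroup.ext fun s => Iff.trans
      ⟨fun hs g => zpowers_le.2 H.cen (hπ.2 (mem_center_iff.1 (h14 hs) _).symm), fun hs =>
        by_contra fun e => (em (s ∈ centralizer {c})).elim (fun h0 => h16 x hx s h0 e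
          (by simpa using inv_mem (hs x))) fun h0 => h16 s h0 y hy h9 (hs y)⟩
            Fus.mem_ucs_two.symm]
    infer_instance
  · have h17 := (h8 s hs _ (mul_inv_mem_of_relIndex h12 ht hy ht' h9)).inv_right.mul_right e
    have h18 := (H.comm_k hy (mul_inv_mem_of_relIndex h13 hx2 hs h5 hs')).symm.mul_left
      (by simpa using h17 : Commute s y)
    simpa using h18

theorem K4.index_cent' (h : K4 z c) (hs : s ∉ center S) (H : ∀ t : S, ⁅t, s⁆ ∈ zpowers z) :
    (centralizer {s}).index = 2 := by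
  have h1 : ∀ t ∉ centralizer {s}, t * s * t⁻¹ = z * s := fun t ht =>
    mul_inv_eq_iff_eq_mul.1 ((h.mem_iff.1 (H t)).resolve_left fun e =>
      ht (mem_centralizer_singleton_iff.2 (commutatorElement_eq_one_iff_mul_comm.1 e)))
  obtain ⟨y, hy⟩ := not_forall.1 (mt mem_center_iff.2 hs)
  replace hy := mt mem_centralizer_singleton_iff.1 hy
  refine index_eq_two_iff.2 ⟨y, fun b => (em (b ∈ centralizer {s})).elim (fun hb => Or.inr ⟨hb,
    mt (Subgroup.mul_mem_cancel_left _ hb).1 hy⟩) fun hb => Or.inl ⟨?_, hb⟩⟩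
  rw [mem_centralizer_singleton_iff, ← mul_inv_eq_iff_eq_mul]
  calc _ = b * (y * s * y⁻¹) * b⁻¹ := by group
    _ = z * (b * s * b⁻¹) := by rw [h1 y hy, ← mul_assoc, h.zc]; group
    _ = s := by rw [h1 b hb, ← mul_assoc, h.zz, one_mul]

namespace G7
variable [Finite S] {Φ H : Subgroup S} (h : G7 z c Φ)
include h

omit [Finite S] in
theorem card_M : Nat.card (centralizer {c}) = 16 := by
  have := (centralizer {c}).card_mul_index
  rw [h.index_cent, h.card] at this
  omega

theorem idx_K : (commutator S).relIndex Φ = 2 :=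
  Fus.relIndex_eq_of_card h.K_le (by rw [h.card_K, h.card_Φ])

theorem idx_Φ : Φ.relIndex (centralizer {c}) = 2 :=
  Fus.relIndex_eq_of_card h.Φ_le (by rw [h.card_M, h.card_Φ])

omit [Finite S] in
theorem exists_x : ∃ x, x ∉ centralizer {c} := not_forall.1 (mt (fun e => mem_center_iff.2
  fun g => mem_centralizer_singleton_iff.1 (e g)) h.nc)

theorem exists_y : ∃ y ∈ centralizer {c}, y ∉ Φ :=
  SetLike.not_le_iff_exists.1 (mt relIndex_eq_one.2 (by rw [h.idx_Φ]; omega))

omit [Finite S] in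
theorem sq_mem (hx : x ∉ centralizer {c}) : x ^ 2 ∈ Φ := by_contra fun e =>
  h.nz x hx _ (sq_mem_of_index_two h.index_cent x) e (by
    simp [commutatorElement_eq_one_iff_commute.2 (Commute.self_pow x 2)])

theorem sq_not_mem (hx : x ∉ centralizer {c}) : x ^ 2 ∉ commutator S := fun e => by
  obtain ⟨y, hy, hy'⟩ := h.exists_y
  exact h.not_comm hx (h.nz x hx y hy hy') (h.comm_k hy e).symm

theorem mem_K (hw : w ∈ centralizer {c}) (H : ∀ t ∈ centralizer {c}, Commute t w) :
    w ∈ commutator S := by_contra fun e => by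
  obtain ⟨x, hx⟩ := h.exists_x
  obtain ⟨y, hy, hy'⟩ := h.exists_y
  exact h.nc2 w (by_contra fun e' => h.nc2 _ (h.sq_mem hx) (h.sq_not_mem hx) w hw e'
    (H _ (h.Φ_le (h.sq_mem hx)))) e y hy hy' (H y hy).symm

theorem center_eq : center S = zpowers z := le_antisymm (fun _ hw => h.mem_zpowers_of
  (h.mem_K (center_le_centralizer _ hw) fun t _ => mem_center_iff.1 hw t) hw) (zpowers_le.2 h.cen)

theorem mem_M_iff : t ∈ centralizer {c} ↔ t ^ 2 ∈ zpowers z := by
  refine ⟨fun ht => h.center_eq.le (mem_center_iff.2 fun g => h.comm_sq ht g), fun ht =>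
    by_contra fun e => h.sq_not_mem e (zpowers_le.2 h.z_mem ht)⟩

theorem le_of_index (hH : H.index = 2) : Φ ≤ H := fun s hs => by
  obtain ⟨x, hx⟩ := h.exists_x
  have h1 : commutator S ≤ H := commutator_le.2 fun a _ b _ => by
    simp [commutatorElement_def, mul_mem_iff_of_index_two hH]; tauto
  by_cases h2 : s ∈ commutator S
  · exact h1 h2
  exact (H.mul_mem_cancel_right (inv_mem (sq_mem_of_index_two hH x))).1
    (h1 (mul_inv_mem_of_relIndex h.idx_K hs (h.sq_mem hx) h2 (h.sq_not_mem hx)))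

theorem idx_of_index (hH : H.index = 2) : Φ.relIndex H = 2 := by
  have h1 := H.card_mul_index
  rw [hH, h.card] at h1
  exact Fus.relIndex_eq_of_card (h.le_of_index hH) (by rw [h.card_Φ]; omega)

theorem comm_mem_of_index (hH : H.index = 2) (ha : a ∈ H) (hb : b ∈ H) : ⁅a, b⁆ ∈ zpowers z := by
  by_cases h1 : b ∈ Φ
  · exact h.comm_Φ b h1 a
  by_cases h2 : a ∈ Φ
  · simpa using inv_mem (h.comm_Φ a h2 b)
  have := inv_mem (h.comm_Φ _ (mul_inv_mem_of_relIndex (h.idx_of_index hH) ha hb h2 h1) b)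
  simpa [commutatorElement_def, mul_assoc] using this

theorem exists_eq_of_index (hH : H.index = 2) : ∃ a ∈ H, ∃ b ∈ H, ⁅a, b⁆ = z := by
  obtain ⟨t, ht, h1⟩ :=
    SetLike.not_le_iff_exists.1 (mt relIndex_eq_one.2 (by rw [h.idx_of_index hH]; omega))
  obtain ⟨s, hs, h2⟩ : ∃ s ∈ Φ, ¬ Commute s t := by
    by_cases h2 : t ∈ centralizer {c}
    · obtain ⟨x, hx⟩ := h.exists_x
      exact ⟨_, h.sq_mem hx, h.nc2 _ (h.sq_mem hx) (h.sq_not_mem hx) t h2 h1⟩
    · exact ⟨c, h.K_le h.c_mem, fun e => h2 (mem_centralizer_singleton_iff.2 e.symm)⟩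
  exact ⟨s, h.le_of_index hH hs, t, ht, (h.mem_iff.1 (h.comm_mem_of_index hH (h.le_of_index hH hs)
    ht)).resolve_left (mt commutatorElement_eq_one_iff_commute.1 h2)⟩

omit [Finite S] in
theorem exists_conj (hy : y ∈ centralizer {c}) (hy' : y ∉ Φ) {k : S} (hk : k ∈ commutator S) :
    ∃ s, s * y * s⁻¹ = k * y := by
  obtain ⟨x, hx⟩ := h.exists_x
  have h1 := h.nz x hx y hy hy'
  have h2 : x * y * x⁻¹ = ⁅x, y⁆ * y := by rw [commutatorElement_def]; group
  have h3 : x * x ^ 2 * y * (x * x ^ 2)⁻¹ = ⁅x, y⁆ * z * y :=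
    calc _ = x * (x ^ 2 * y * (x ^ 2)⁻¹) * x⁻¹ := by group
      _ = z * (x * y * x⁻¹) := by rw [h.sq_conj hx h1, ← mul_assoc, h.zc]; group
      _ = _ := by rw [h2, h.zc, mul_assoc]
  rcases (h.mem k).1 hk with rfl | rfl | h4
  · exact ⟨1, by simp⟩
  · exact ⟨_, h.sq_conj hx h1⟩
  rcases h4 with rfl | rfl <;> rcases h.eq_of_not (comm_mem x y) h1 with e | e <;> rw [e] at h2 h3
  exacts [⟨_, h2⟩, ⟨_, by rwa [mul_assoc k, h.zz, mul_one] at h3⟩, ⟨_, h3⟩, ⟨_, h2⟩]

theorem mem_of_comm (hy : y ∈ centralizer {c}) (hy' : y ∉ Φ) (hc : Commute s y) :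
    s ∈ commutator S ∨ s * y⁻¹ ∈ commutator S := by
  have h1 : s ∈ centralizer {c} := by_contra fun e => h.nz s e y hy hy' (by
    simp [commutatorElement_eq_one_iff_commute.2 hc])
  refine (em (s ∈ Φ)).imp (fun e => by_contra fun e' => h.nc2 s e e' y hy hy' hc) fun e =>
    by_contra fun e' => h.nc2 _ (mul_inv_mem_of_relIndex h.idx_Φ h1 hy e hy') e' y hy hy'
      (hc.mul_left (Commute.refl y).inv_left)

end G7

end CL.Blk
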