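import Mathlib
import Cfsg.Agent.BLK.Gen2

/-! Two-generated groups of order sixty-four. -/

set_option autoImplicit false

open Cfsg Subgroup
open scoped commutatorElement

namespace CL.Blk

universe u

variable {S : Type u} [Group S] {a b c d k x y z w : S}

theorem normal_zpowers_of_isCyclic {K : Subgroup S} [hK : K.Normal] (hc : IsCyclic K) (hk : k ∈ K) :
    (zpowers k).Normal := by
  obtain ⟨c, rfl⟩ := (Subgroup.isCyclic_iff_exists_zpowers_eq_top K).1 hc
  obtain ⟨i, rfl⟩ := hk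
  refine ⟨?_⟩
  rintro _ ⟨j, rfl⟩ g
  obtain ⟨m, hm⟩ := hK.conj_mem c (mem_zpowers c) g
  refine ⟨j * m, ?_⟩
  simp only at hm ⊢
  rw [← conj_zpow, ← conj_zpow, ← hm, ← zpow_mul, ← zpow_mul, ← zpow_mul]
  congr 1
  ring

theorem exists_eq_of_mem_sup (hz : z ∈ center S) (h2 : z ^ 2 = 1) (h : y ∈ zpowers k ⊔ zpowers z) :
    ∃ t ∈ zpowers k, y = t ∨ y = t * z := by
  have := CL.Char.normal_of_le_center' (zpowers_le.2 hz)
  obtain ⟨t, ht, s, hs, rfl⟩ := mem_sup_of_normal_right.1 h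
  exact ⟨t, ht, ((mem_zpowers_iff_of_sq ((pow_two z).symm.trans h2)).1 hs).imp (by simp +contextual)
    (by simp +contextual)⟩

variable [Finite S]

theorem conj_eq_inv_of_four (hd : orderOf d = 4) [hn : (zpowers d).Normal]
    (hx : x ∉ centralizer {d}) (hk : k ∈ zpowers d) : x * k * x⁻¹ = k⁻¹ := by
  classical
  obtain ⟨j, rfl⟩ := hk
  obtain ⟨i, hi, h1⟩ := Finset.mem_image.1
    (mem_zpowers_iff_mem_range_orderOf.1 (hn.conj_mem d (mem_zpowers d) x))
  have h2 : d ^ 4 = 1 := hd ▸ pow_orderOf_eq_one d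
  have h3 : (d ^ i) ^ 2 ≠ 1 := by
    rw [h1, conj_pow]
    simpa using pow_ne_one_of_lt_orderOf (x := d) two_ne_zero (by omega)
  rw [hd, Finset.mem_range] at hi
  simp only
  rw [← conj_zpow, ← h1, ← inv_zpow]
  interval_cases i
  · simp at h3
  · exact (hx (mem_centralizer_singleton_iff.2 (mul_inv_eq_iff_eq_mul.1 (by rw [← h1, pow_one])))).elim
  · exact (h3 (by rw [← pow_mul, h2])).elim
  · rw [eq_inv_of_mul_eq_one_left ((pow_succ d 3).symm.trans h2)]

theorem index_cent_of_four (hd : orderOf d = 4) [(zpowers d).Normal] (hz : d ∉ center S) :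
    (centralizer {d}).index = 2 := by
  obtain ⟨y, hy⟩ := not_forall.1 (mt mem_center_iff.2 hz)
  replace hy := mt mem_centralizer_singleton_iff.1 hy
  refine index_eq_two_iff.2 ⟨y, fun b => (em (b ∈ centralizer {d})).elim (fun hb => Or.inr ⟨hb,
    mt (Subgroup.mul_mem_cancel_left _ hb).1 hy⟩) fun hb => Or.inl ⟨?_, hb⟩⟩
  rw [mem_centralizer_singleton_iff, ← mul_inv_eq_iff_eq_mul]
  calc _ = b * (y * d * y⁻¹) * b⁻¹ := by group
    _ = d := by rw [conj_eq_inv_of_four hd hy (mem_zpowers d),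
      conj_eq_inv_of_four hd hb (inv_mem (mem_zpowers d)), inv_inv]

theorem exists_metacyclic_quot (h : zpowers a ⊔ zpowers b = ⊤) (h8 : ∀ x : S, x ^ 8 = 1)
    (h2 : ∀ w ∈ center S, w ^ 2 = 1) (hc : IsCyclic (commutator S)) :
    ∃ z ∈ center S, ∀ (T : Type u) [Group T] (π : S →* T), Function.Surjective π → π z = 1 →
      IsMetacyclic T := by
  have h1 : ∀ x y : S, (zpowers ⁅x, y⁆).Normal := fun x y =>
    normal_zpowers_of_isCyclic hc (comm_mem x y)
  by_cases h3 : ⁅a, b⁆ ∈ center S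
  · refine ⟨_, h3, fun T _ π hπ e => ?_⟩
    have h4 := center_eq_top_of_gen (gen_map hπ h)
      (commutatorElement_eq_one_iff_commute.1 ((map_commutatorElement π a b).symm.trans e))
    have := CL.Char.normal_of_le_center' (K := zpowers (π a)) (h4 ▸ le_top)
    exact metacyclic_of_sup (gen_map hπ h)
  have h4 : ⁅a, b⁆ ^ 2 ≠ 1 := fun e => h3 (mem_center_iff.2 fun g => mul_inv_eq_iff_eq_mul.1
    (((mem_zpowers_iff_of_sq ((pow_two _).symm.trans e)).1 ((h1 a b).conj_mem _ (mem_zpowers _)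
      g)).resolve_left fun e' => h3 (by simp [show ⁅a, b⁆ = 1 by simpa using e'])))
  have h5 : ∀ {x y : S}, zpowers x ⊔ zpowers y = ⊤ → zpowers ⁅x, y⁆ = zpowers ⁅a, b⁆ := fun e =>
    (commutator_eq_of_gen e).symm.trans (commutator_eq_of_gen h)
  by_cases h6 : ⁅a, b⁆ ^ 4 = 1
  · have h7 : orderOf ⁅a, b⁆ = 4 := orderOf_eq_prime_pow (p := 2) (n := 1) h4 h6
    obtain ⟨x, hx, y, hy, h9⟩ := exists_gen_of_index h (index_cent_of_four h7 h3)
    have h10 := (h5 h9).le (mem_zpowers _)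
    have h11 := conj_eq_inv_of_four h7 hx h10
    have h12 : Commute y ⁅x, y⁆ := by
      obtain ⟨i, hi⟩ := h10
      exact hi ▸ Commute.zpow_right (mem_centralizer_singleton_iff.1 hy) i
    have h13 : x * y * x⁻¹ = ⁅x, y⁆ * y := by rw [commutatorElement_def]; group
    generalize ⁅x, y⁆ = c at h11 h12 h13
    refine ⟨c * y ^ 2, mem_center_of_gen h9 (mul_inv_eq_iff_eq_mul.1 ?_)
      (h12.mul_right (.self_pow y 2)), fun T _ π hπ e => ?_⟩
    · rw [← conj_mul, ← conj_pow, h11, h13, h12.symm.mul_pow, pow_two c]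
      group
    have h14 : π x * π y * (π x)⁻¹ = (π y)⁻¹ := by
      rw [← map_inv, ← map_mul, ← map_mul, h13, eq_inv_iff_mul_eq_one, ← map_mul, mul_assoc,
        ← pow_two, e]
    have : (zpowers (π y)).Normal := normalizer_eq_top_iff.1 (top_le_iff.1 ((gen_map hπ h9).ge.trans
      (sup_le (zpowers_le.2 ?_) le_normalizer)))
    · exact metacyclic_of_sup ((sup_comm _ _).trans (gen_map hπ h9))
    rw [MSS.mem_normalizer_iff_cj, MSS.cj_zpowers, h14, zpowers_inv]
  exfalso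
  have h7 : orderOf (⁅a, b⁆ ^ 2) = 4 := orderOf_eq_prime_pow (p := 2) (n := 1)
    (by rwa [← pow_mul]) (by rw [← pow_mul]; exact h8 _)
  have := normal_zpowers_of_isCyclic hc (pow_mem (comm_mem a b) 2)
  obtain ⟨x, hx, y, hy, h9⟩ := exists_gen_of_index h (index_cent_of_four h7 fun e =>
    h6 (by rw [← h2 _ e, ← pow_mul]))
  have h10 : ∀ k ∈ zpowers ⁅a, b⁆, k ^ 2 ∈ zpowers (⁅a, b⁆ ^ 2) := by
    rintro _ ⟨i, rfl⟩
    exact ⟨i, by simp only; rw [← zpow_natCast, ← zpow_natCast, zpow_comm]⟩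
  have h11 := conj_eq_inv_of_four h7 hx (h10 _ ((h5 h9).le (mem_zpowers _)))
  have h12 : ∀ k ∈ zpowers ⁅x, y⁆, Commute y (k ^ 2) := fun k hk => by
    obtain ⟨i, hi⟩ := h10 k ((h5 h9).le hk)
    exact hi ▸ Commute.zpow_right (mem_centralizer_singleton_iff.1 hy) i
  have h13 : x * y * x⁻¹ = ⁅x, y⁆ * y := by rw [commutatorElement_def]; group
  have h14 : ⁅x, y⁆ ^ 4 ≠ 1 := fun e => h6 (by
    obtain ⟨i, hi⟩ := (h5 h9).ge (mem_zpowers _)
    rw [← hi, ← zpow_natCast, zpow_comm, zpow_natCast, e, one_zpow])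
  have h15 := (h1 x y).conj_mem _ (mem_zpowers _) y
  generalize ⁅x, y⁆ = c at h11 h12 h13 h14 h15
  have h16 := h12 c (mem_zpowers c)
  have h17 : Commute c (y * c * y⁻¹) := by
    obtain ⟨i, hi⟩ := h15
    exact hi ▸ Commute.self_zpow c i
  have h21 : (c * (y * c * y⁻¹)) ^ 2 = c ^ 2 * c ^ 2 := by
    rw [h17.mul_pow, conj_pow, h16.eq, mul_inv_cancel_right]
  have h18 : Commute y (c * (y * c * y⁻¹)) := by
    rcases mem_zpowers_sq_or (fun x => ⟨3, h8 x⟩) (mul_mem (mem_zpowers c) h15) with ⟨i, hi⟩ | ⟨i, hi⟩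
    · exact hi ▸ h16.zpow_right i
    refine (h14 ?_).elim
    rw [← hi, ← zpow_natCast, zpow_comm, zpow_natCast, pow_mul _ 2 2, h21, ← pow_add, ← pow_mul, h8,
      one_zpow]
  have h19 : x * y ^ 4 * x⁻¹ = c ^ 2 * c ^ 2 * y ^ 4 := by
    rw [← conj_pow, h13, pow_mul _ 2 2, show (c * y) ^ 2 = c * (y * c * y⁻¹) * y ^ 2 by
      simp [pow_two, mul_assoc], (h18.symm.pow_right 2).mul_pow, h21, ← pow_mul y]
  have h20 := h2 (c ^ 2 * y ^ 4) (mem_center_of_gen h9 (mul_inv_eq_iff_eq_mul.1 (by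
    rw [← conj_mul, h11, h19]; group)) (h16.mul_right (.self_pow y 4)))
  rw [(h16.symm.pow_right 4).mul_pow, ← pow_mul, ← pow_mul, h8, mul_one] at h20
  exact h14 h20

theorem exists_not_le_sup (h64 : Nat.card S = 64) (h : zpowers a ⊔ zpowers b = ⊤)
    (h2 : ∀ w ∈ center S, w ^ 2 = 1) (hc : ¬ IsCyclic (commutator S)) :
    ∃ z ∈ center S, z ≠ 1 ∧ ∀ k ∈ commutator S, ¬ commutator S ≤ zpowers k ⊔ zpowers z := by
  have hS : IsPGroup 2 S := .of_card (n := 6) h64
  have h1 : ∀ k ∈ commutator S, ¬ commutator S ≤ zpowers k := fun k hk e =>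
    hc (le_antisymm e (zpowers_le.2 hk) ▸ inferInstance)
  by_cases h4 : Nat.card (commutator S) = 4
  · obtain ⟨z, c, H⟩ := exists_k4 hS h h4 hc
    obtain ⟨x, hx, y, hy, h3⟩ := exists_gen_of_index h H.index_cent
    obtain ⟨w, hw, h5⟩ : ∃ w ∈ center S, w ∉ commutator S := by
      refine SetLike.not_le_iff_exists.1 fun e => ?_
      let π := QuotientGroup.mk' (commutator S)
      have hπ : ∀ t n, t ^ n ∈ center S → Nat.card (zpowers (π t)) ∣ n := fun t n ht => by
        rw [Nat.card_zpowers, orderOf_dvd_iff_pow_eq_one, ← map_pow]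
        exact (QuotientGroup.eq_one_iff _).2 (e ht)
      have h5 := Nat.le_of_dvd two_pos
        (hπ y 2 (mem_center_of_gen h3 (H.comm_sq hy x) (.self_pow y 2)))
      have h6 := Nat.le_of_dvd (by norm_num) (hπ x 4 (mem_center_of_gen h3 (.self_pow x 4)
        (Commute.symm (mul_inv_eq_iff_eq_mul.1 ?_))))
      · have h7 := gen_map (QuotientGroup.mk'_surjective (commutator S)) h3
        have := CL.Char.normal_of_le_center' (K := zpowers (π x)) (center_eq_top_of_gen h7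
          (commutatorElement_eq_one_iff_commute.1 ((map_commutatorElement π x y).symm.trans
            ((QuotientGroup.eq_one_iff _).2 (comm_mem x y)))) ▸ le_top)
        have h8 := Nat.le_of_dvd Nat.card_pos (relIndex_dvd_card (zpowers (π x)) (zpowers (π y)))
        have h9 := (zpowers (π x)).card_mul_index
        have h10 := (commutator S).card_mul_index
        rw [← relIndex_sup_left, h7, relIndex_top_right] at h8
        rw [← index_eq_card] at h9
        nlinarith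
      have h7 := H.sq_conj hx (comm_not_mem_center h3 hc)
      calc _ = x ^ 2 * (x ^ 2 * y * (x ^ 2)⁻¹) * (x ^ 2)⁻¹ := by group
        _ = z * (x ^ 2 * y * (x ^ 2)⁻¹) := by
          conv_lhs => rw [h7, ← mul_assoc, H.zc]
          group
        _ = y := by rw [h7, ← mul_assoc, H.zz, one_mul]
    refine ⟨w, hw, fun e => h5 (e ▸ one_mem _), fun k hk e => h1 k hk fun s hs => ?_⟩
    obtain ⟨t, ht, rfl | rfl⟩ := exists_eq_of_mem_sup hw (h2 w hw) (e hs)
    · exact ht
    · exact (h5 ((Subgroup.mul_mem_cancel_left _ (zpowers_le.2 hk ht)).1 hs)).elim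
  have h8 : Nat.card (commutator S) = 8 := by
    obtain ⟨h5, h6⟩ := lt_index_commutator (n := 3) h64 hc
    have h7 := (commutator S).card_mul_index
    have h8 : Nat.card (commutator S) ≤ 8 := by nlinarith
    interval_cases Nat.card (commutator S) <;> omega
  have := hS.isNilpotent
  obtain ⟨z, ⟨hz, h3⟩, h5⟩ := (bot_or_exists_ne_one _).resolve_left
    (inf_center_ne_bot_of_isNilpotent (commutator S) fun e => by simp [e] at h8)
  by_cases h6 : ∀ k ∈ commutator S, ¬ commutator S ≤ zpowers k ⊔ zpowers z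
  · exact ⟨z, h3, h5, h6⟩
  push Not at h6
  obtain ⟨k, hk, h6⟩ := h6
  have h7 : ∀ s ∈ commutator S, s ^ 2 ∈ zpowers (k ^ 2) := fun s hs => by
    obtain ⟨_, ⟨i, rfl⟩, h7⟩ := exists_eq_of_mem_sup h3 (h2 z h3) (h6 hs)
    refine ⟨i, ?_⟩
    simp only at h7 ⊢
    rcases h7 with rfl | rfl
    · rw [← zpow_natCast, ← zpow_natCast, zpow_comm]
    · rw [Commute.mul_pow (mem_center_iff.1 h3 _), h2 z h3, mul_one, ← zpow_natCast,
        ← zpow_natCast, zpow_comm]
  have h9 : k ^ 2 * k ^ 2 = 1 := by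
    have h9 := orderOf_dvd_natCard (⟨k, hk⟩ : commutator S)
    have h10 := mt (isCyclic_of_orderOf_eq_card (⟨k, hk⟩ : commutator S)) hc
    rw [h8, Subgroup.orderOf_mk] at h9 h10
    obtain ⟨i, hi, h11⟩ := (Nat.dvd_prime_pow Nat.prime_two (m := 3)).1 h9
    have : i ≠ 3 := fun e => h10 (by rw [h11, e]; rfl)
    rw [← pow_add, ← orderOf_dvd_iff_pow_eq_one, h11]
    exact pow_dvd_pow 2 (show i ≤ 2 by omega)
  have h10 : ∀ s, s ^ 2 = 1 → ∀ w ∈ center S, w ^ 2 = 1 → ¬ commutator S ≤ zpowers s ⊔ zpowers w :=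
    fun s hs w hw hw' e => by
      classical
      have h10 := Set.ncard_le_ncard (t := {1, s, w, s * w}) (fun t ht => by
        obtain ⟨r, hr, h10⟩ := exists_eq_of_mem_sup hw hw' (e ht)
        rcases (mem_zpowers_iff_of_sq ((pow_two s).symm.trans hs)).1 hr with rfl | rfl <;>
          rcases h10 with rfl | rfl <;> simp) (Set.toFinite _)
      have := Finset.card_le_four (a := 1) (b := s) (c := w) (d := s * w)
      rw [← Nat.card_coe_set_eq] at h10
      rw [← Set.ncard_coe_finset] at this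
      exact absurd (h8.ge.trans (h10.trans (by simpa using this))) (by norm_num : ¬ 8 ≤ 4)
  have h11 : k ^ 2 ≠ 1 := fun e => h10 k e z h3 (h2 z h3) h6
  have h12 : k ^ 2 ∈ center S := mem_center_iff.2 fun g => mul_inv_eq_iff_eq_mul.1
    (conj_pow.symm.trans (((mem_zpowers_iff_of_sq h9).1 (h7 _ (Normal.conj_mem inferInstance k hk
      g))).resolve_left (by simpa [conj_pow] using h11)))
  refine ⟨_, h12, h11, fun s hs e => ((mem_zpowers_iff_of_sq h9).1 (h7 s hs)).elim
    (fun e' => h10 s e' _ h12 (h2 _ h12) e) fun e' => h1 s hs (e.trans (sup_le le_rfl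
      (zpowers_le.2 (e' ▸ pow_mem (mem_zpowers s) 2))))⟩

end CL.Blk
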