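import Mathlib
import Cfsg.Agent.BLK.Princ3
import Cfsg.Agent.PLOC.Gruen
import Cfsg.Agent.PLOC.Tate
import Cfsg.Agent.CHAR.Faithful

/-!
# Extension of characters of a Sylow normalizer (Isaacs–Smith)
-/

set_option autoImplicit false

open Cfsg CL.Char Subgroup
open scoped ComplexConjugate commutatorElement

namespace CL.Blk

variable {G : Type*} [Group G] [Finite G] {p : ℕ}

theorem hasNPC_of_normalizer_le_sup [Fact p.Prime] (P : Sylow p G) (K : Subgroup G) [hK : K.Normal]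
    (h1 : ⁅(P : Subgroup G), (P : Subgroup G)⁆ ≤ K)
    (h2 : normalizer ((P : Subgroup G) : Set G) ≤ K ⊔ P)
    (h3 : K ⊓ P ≤ ⁅(P : Subgroup G), (P : Subgroup G)⁆) : HasNormalPComplement p G := by
  have hc : ⁅K ⊔ (P : Subgroup G), K ⊔ (P : Subgroup G)⁆ ≤ K := by
    rw [← (QuotientGroup.ker_mk' K), ← Subgroup.map_eq_bot_iff, map_commutator,
      QuotientGroup.ker_mk', Subgroup.map_sup, (Subgroup.map_eq_bot_iff _).2 (by simp), bot_sup_eq,
      ← map_commutator, Subgroup.map_eq_bot_iff, QuotientGroup.ker_mk']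
    exact h1
  have h4 : (P : Subgroup G) ⊓ commutator G = (P : Subgroup G) ⊓ ⁅(P : Subgroup G), (P : Subgroup G)⁆ := by
    refine le_antisymm (le_inf inf_le_left (le_trans ?_ h3))
      (inf_le_inf_left _ (commutator_mono le_top le_top))
    rw [CL.Tr.gruen_first]
    refine sup_le ?_ (iSup_le fun z => ?_)
    · exact le_inf (inf_le_right.trans ((commutator_mono h2 h2).trans hc)) inf_le_left
    · refine le_inf (inf_le_right.trans ?_) inf_le_left
      rintro _ ⟨x, hx, rfl⟩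
      exact hK.conj_mem _ (h1 hx) z
  have h5 := (CL.Tr.tate_commutator_iff P le_rfl).1 h4
  rw [CL.pResidual_eq_bot_of_isPGroup P.isPGroup', subgroupOf_eq_bot] at h5
  exact (CL.hasNPC_iff_sylow_inf_pResidual P).2 h5.symm.eq_bot

theorem exists_normal_subgroupOf_eq (H : Subgroup G) (X : Subgroup H) [X.Normal]
    (h : ∀ θ : IrrCharacter H, (∀ x ∈ X, θ.1 x = θ.1 1) →
      ∃ χ : IrrCharacter G, ∀ x : H, χ.1 x = θ.1 x) :
    ∃ K : Subgroup G, K.Normal ∧ K.subgroupOf H = X := by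
  refine ⟨blockKerSub {χ | ∀ x ∈ X, χ.1 (x : G) = χ.1 1}, inferInstance, le_antisymm ?_ ?_⟩
  · intro x hx
    rw [mem_subgroupOf, mem_blockKerSub] at hx
    refine (mem_normal_iff_irr X).2 fun θ hθ hk => ?_
    obtain ⟨χ, hχ⟩ := h ⟨θ, hθ⟩ hk
    have := hx χ fun y hy => by rw [hχ]; exact (hk y hy).trans (hχ 1).symm
    exact (hχ x).symm.trans (this.trans (hχ 1))
  · intro x hx
    rw [mem_subgroupOf, mem_blockKerSub]
    exact fun χ hχ => hχ x hx

theorem charDegree_dvd_index_of_commutator_ker (Q : Subgroup G) [Q.Normal] {θ : G → ℂ}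
    (hθ : IsIrrCharacter G θ) (h : ∀ x ∈ ⁅Q, Q⁆, θ x = θ 1) : charDegree θ ∣ Q.index := by
  have := Fintype.ofFinite Q
  obtain ⟨φ, hφ, hne⟩ := hθ.exists_under_res Q
  refine hθ.charDegree_dvd_index_of_linear_under Q hφ ?_ hne
  rw [← hφ.commutator_le_charKer_iff]
  refine le_trans (fun x hx => ?_) ((hθ.isCharacter.res Q).charKer_le_of_inner_ne_zero hφ hne)
  rw [(hθ.isCharacter.res Q).mem_charKer]
  refine h x ?_
  rw [← Subgroup.map_subtype_commutator]
  exact mem_map_of_mem _ hx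

/-- If the characters of `N(P) / P'O` extend to `G`, then `N(P)` has a normal `p'`-supplement. -/
theorem exists_normal_of_ext [hp : Fact p.Prime] (P : Sylow p G)
    (O : Subgroup (normalizer ((P : Subgroup G) : Set G))) [O.Normal] (hO : ¬ p ∣ Nat.card O)
    (h : ∀ θ : IrrCharacter (normalizer ((P : Subgroup G) : Set G)), ¬ p ∣ charDegree θ.1 →
      (∀ x ∈ O, θ.1 x = θ.1 1) → ∃ χ : IrrCharacter G, ∀ x, χ.1 x.1 = θ.1 x) :
    ∃ L : Subgroup G, L.Normal ∧ ¬ p ∣ Nat.card L ∧ (L ⊔ (P : Subgroup G)).Normal ∧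
      L ⊔ normalizer ((P : Subgroup G) : Set G) = ⊤ ∧
      L.subgroupOf (normalizer ((P : Subgroup G) : Set G)) ≤
        (P : Subgroup G).subgroupOf (normalizer ((P : Subgroup G) : Set G)) ⊔ O := by
  have hPN : (P : Subgroup G) ≤ normalizer ((P : Subgroup G) : Set G) := le_normalizer
  let Q := (P : Subgroup G).subgroupOf (normalizer ((P : Subgroup G) : Set G))
  have hQ : Q.Normal := normal_in_normalizer
  have hQi : ¬ p ∣ Q.index := (P.subtype hPN).not_dvd_index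
  have hext : ∀ θ : IrrCharacter (normalizer ((P : Subgroup G) : Set G)),
      (∀ x ∈ ⁅Q, Q⁆ ⊔ O, θ.1 x = θ.1 1) → ∃ χ : IrrCharacter G, ∀ x, χ.1 x.1 = θ.1 x :=
    fun θ hθ => h θ (fun hd => hQi (hd.trans (charDegree_dvd_index_of_commutator_ker Q θ.2
      fun x hx => hθ x (mem_sup_left hx)))) fun x hx => hθ x (mem_sup_right hx)
  have hle : ⁅Q, Q⁆ ⊔ O ≤ Q ⊔ O := sup_le_sup_right (commutator_le_left Q Q) O
  obtain ⟨K₁, hK₁, e₁⟩ := exists_normal_subgroupOf_eq _ (Q ⊔ O)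
    fun θ hθ => hext θ fun x hx => hθ x (hle hx)
  obtain ⟨K₂, hK₂, e₂⟩ := exists_normal_subgroupOf_eq _ (⁅Q, Q⁆ ⊔ O) hext
  have hPK : (P : Subgroup G) ≤ K₁ := fun x hx => by
    have : (⟨x, hPN hx⟩ : normalizer ((P : Subgroup G) : Set G)) ∈ K₁.subgroupOf _ :=
      e₁ ▸ mem_sup_left hx
    exact this
  have hQQ : (⁅Q, Q⁆).map (Subgroup.subtype _) = ⁅(P : Subgroup G), (P : Subgroup G)⁆ := by
    rw [map_commutator, subgroupOf_map_subtype, inf_eq_left.2 hPN]
  have hPP : ((⁅(P.subtype hPK : Subgroup K₁), (P.subtype hPK : Subgroup K₁)⁆ : Subgroup K₁)).map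
      K₁.subtype = ⁅(P : Subgroup G), (P : Subgroup G)⁆ := by
    rw [map_commutator, Sylow.coe_subtype, subgroupOf_map_subtype, inf_eq_left.2 hPK]
  have hnpc : HasNormalPComplement p K₁ := by
    refine hasNPC_of_normalizer_le_sup (P.subtype hPK) (K₂.subgroupOf K₁) ?_ ?_ ?_
    · intro x hx
      have h1 : (x : G) ∈ (⁅Q, Q⁆).map (Subgroup.subtype _) := by
        rw [hQQ, ← hPP]; exact mem_map_of_mem _ hx
      obtain ⟨y, hy, e⟩ := h1
      have : y ∈ K₂.subgroupOf _ := e₂ ▸ mem_sup_left hy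
      rw [mem_subgroupOf, ← e]; exact this
    · intro x hx
      rw [Sylow.coe_subtype, ← subgroupOf_normalizer_eq hPK, mem_subgroupOf] at hx
      have h1 : (⟨x, hx⟩ : normalizer ((P : Subgroup G) : Set G)) ∈ Q ⊔ O := e₁ ▸ x.2
      rw [sup_comm] at h1
      obtain ⟨a, ha, b, hb, e⟩ := (mem_sup_of_normal_left).1 h1
      have ha1 : a ∈ K₁.subgroupOf _ := e₁ ▸ mem_sup_right ha
      have ha2 : a ∈ K₂.subgroupOf _ := e₂ ▸ mem_sup_right ha
      have : x = ⟨a, ha1⟩ * ⟨b, hPK hb⟩ := Subtype.ext (congrArg Subtype.val e).symm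
      rw [this]
      exact mul_mem (mem_sup_left ha2) (mem_sup_right hb)
    · rintro x ⟨hx1, hx2⟩
      have hxP : (x : G) ∈ (P : Subgroup G) := hx2
      have h1 : (⟨x, hPN hxP⟩ : normalizer ((P : Subgroup G) : Set G)) ∈ ⁅Q, Q⁆ ⊔ O := e₂ ▸ hx1
      obtain ⟨a, ha, b, hb, e⟩ := (mem_sup_of_normal_right).1 h1
      have hb1 : b ∈ Q ⊓ O := ⟨by
        rw [eq_inv_mul_of_mul_eq e]
        exact Q.mul_mem (Q.inv_mem (commutator_le_left Q Q ha)) hxP, hb⟩
      rw [CL.inf_eq_bot_of_isPGroup_of_coprime (p := p) (H := Q) (P.subtype hPN).isPGroup'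
        ((Nat.Prime.coprime_iff_not_dvd hp.out).2 hO).symm, mem_bot] at hb1
      rw [hb1, mul_one] at e
      have h2 : (x : G) ∈ ⁅(P : Subgroup G), (P : Subgroup G)⁆ := by
        rw [← hQQ]; exact ⟨a, ha, congrArg Subtype.val e⟩
      rw [← hPP] at h2
      obtain ⟨y, hy, e'⟩ := h2
      rwa [← Subtype.ext e']
  have hsup : (pResidual p K₁).map K₁.subtype ⊔ (P : Subgroup G) = K₁ := by
    have := congrArg (Subgroup.map K₁.subtype) (CL.pResidual_sup_sylow (P.subtype hPK))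
    rwa [Subgroup.map_sup, Sylow.coe_subtype, subgroupOf_map_subtype, inf_eq_left.2 hPK,
      ← MonoidHom.range_eq_map, range_subtype] at this
  refine ⟨(pResidual p K₁).map K₁.subtype, inferInstance, ?_, hsup.symm ▸ hK₁, ?_, ?_⟩
  · rw [card_map_of_injective K₁.subtype_injective]
    exact CL.hasNPC_iff_not_dvd_card_pResidual.1 hnpc
  · have : normalizer ((P : Subgroup G) : Set G) ⊔ K₁ = ⊤ := P.normalizer_sup_eq_top' hPK
    rw [← hsup, sup_comm, sup_assoc, sup_eq_right.2 hPN] at this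
    exact this
  · intro x hx
    change x ∈ Q ⊔ O
    rw [← e₁]
    exact map_subtype_le (H := K₁) _ hx

end CL.Blk
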