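import Cfsg.Agent.BLK.VChar
import Cfsg.Agent.BLK.GRoots
import Cfsg.Agent.CHAR.Faithful
import Cfsg.Agent.FGS.ClassSize

/-! Knörr's criterion for the `k(GV)` problem. -/

set_option autoImplicit false
open Cfsg Subgroup
open scoped ComplexConjugate

namespace CL.VCh
open CL.Char CL.Blk

theorem sum_norm_inner_sq {H : Type*} [Group H] [Fintype H] {f : H → ℂ}
    (hf : IsClassFunction H f) :
    ∑ φ : IrrCharacter H, ‖classInner f φ.1‖ ^ 2 = (Nat.card H : ℝ)⁻¹ * ∑ h, ‖f h‖ ^ 2 := by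
  have h := inner_eq_sum_of_right f hf
  rw [classInner_self_eq] at h
  simp only [Complex.mul_conj'] at h
  exact_mod_cast h.symm

theorem sum_card_centralizer (H : Type*) [Group H] [Fintype H] :
    ∑ h : H, (Nat.card (centralizer ({h} : Set H)) : ℝ) =
      Nat.card H * Nat.card (ConjClasses H) := by
  simp only [← sum_norm_sq_eq_card_centralizer]
  rw [Finset.sum_comm, ← card_irr, Nat.card_eq_fintype_card (α := IrrCharacter H),
    Fintype.card_eq_sum_ones, Nat.cast_sum, Finset.mul_sum]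
  refine Finset.sum_congr rfl fun φ _ => ?_
  have h := φ.2.inner_self
  rw [classInner_self_eq] at h
  have h' : (Nat.card H : ℝ)⁻¹ * ∑ g, ‖φ.1 g‖ ^ 2 = 1 := by exact_mod_cast h
  have h0 : (Nat.card H : ℝ) ≠ 0 := by exact_mod_cast Nat.card_pos.ne'
  field_simp at h'
  simpa using h'

variable {X : Type*} [Group X] [Finite X] {p : ℕ} {V G : Subgroup X}

theorem card_centralizer_le [hN : V.Normal] (hab : ∀ a ∈ V, ∀ b ∈ V, a * b = b * a)
    (hGV : IsComplement' V G) (hcop : (Nat.card V).Coprime (Nat.card G)) {v : X} (hv : v ∈ V)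
    (h : ↥(G ⊓ centralizer {v})) : Nat.card (centralizer ({v * h} : Set X)) ≤
      Nat.card ↥(V ⊓ centralizer {(h : X)}) *
        Nat.card (centralizer ({h} : Set ↥(G ⊓ centralizer {v}))) := by
  have hc : Commute v h := (mem_centralizer_singleton_iff.1 h.2.2).symm
  rw [CL.CS.cen_mul_of_coprime hc ((hcop.coprime_dvd_left (V.orderOf_dvd_natCard hv)
    ).coprime_dvd_right (G.orderOf_dvd_natCard h.2.1)), ← Nat.card_prod]
  refine Nat.card_le_card_of_surjective (fun q : ↥(V ⊓ centralizer {(h : X)}) ×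
      centralizer ({h} : Set ↥(G ⊓ centralizer {v})) => (⟨q.1 * q.2.1, mul_mem
      ⟨mem_centralizer_singleton_iff.2 (hab _ q.1.2.1 v hv), q.1.2.2⟩
      ⟨q.2.1.2.2, mem_centralizer_singleton_iff.2
        (congrArg Subtype.val (mem_centralizer_singleton_iff.1 q.2.2))⟩⟩ :
      ↥(centralizer {v} ⊓ centralizer {(h : X)}))) ?_
  rintro ⟨x, hx1, hx2⟩
  obtain ⟨⟨w, g⟩, rfl⟩ := hGV.existsUnique x |>.exists
  have hw : (w : X) ∈ centralizer {v} := mem_centralizer_singleton_iff.2 (hab _ w.2 v hv)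
  have hg : (g : X) ∈ centralizer {v} := ((centralizer {v}).mul_mem_cancel_left hw).1 hx1
  have h1 : (w : X) * g * h = h * (w * g) := mem_centralizer_singleton_iff.1 hx2
  have h2 : (g : X) * h * (g : X)⁻¹ * (h : X)⁻¹ = 1 := by
    refine Subgroup.disjoint_def.1 hGV.disjoint ?_
      (mul_mem (mul_mem (mul_mem g.2 h.2.1) (inv_mem g.2)) (inv_mem h.2.1))
    have := mul_mem (inv_mem w.2) (hN.conj_mem _ w.2 h)
    convert this using 1
    rw [← mul_left_cancel_iff (a := (w : X)), ← mul_assoc, ← mul_assoc, ← mul_assoc, h1]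
    group
  have h3 : (g : X) * h = h * g := by
    rw [mul_assoc, ← mul_inv_rev, mul_inv_eq_one] at h2; exact h2
  have h4 : (g : X) ∈ centralizer {(h : X)} := mem_centralizer_singleton_iff.2 h3
  exact ⟨(⟨w, w.2, ((centralizer {(h : X)}).mul_mem_cancel_right h4).1 hx2⟩,
    ⟨⟨g, g.2, hg⟩, mem_centralizer_singleton_iff.2 (Subtype.ext h3)⟩), rfl⟩

/-- Knörr's criterion. -/
theorem knorr [V.Normal] {M : Ideal AlgInt} (hM : IsPModular p M) (hVp : IsPGroup p V)
    (hidx : ¬ p ∣ V.index) (hab : ∀ a ∈ V, ∀ b ∈ V, a * b = b * a) (hGV : IsComplement' V G)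
    {v : X} (hv : v ∈ V) {ψ : ↥(G ⊓ centralizer {v}) → ℂ} (hψ : ψ ∈ VC _) {n : ℕ} (hn : n ≠ 0)
    (hnX : Nat.card X ∣ n) (hfix : ∀ h, ψ h ∈ Fix n)
    (hle : ∀ (σ : ℂ →+* ℂ) h, ‖σ (ψ h)‖ ^ 2 * Nat.card ↥(V ⊓ centralizer {(h : X)}) ≤ Nat.card V)
    (h1 : red M (ψ 1) ≠ 0) (h0 : ∀ h, h ≠ 1 → red M (ψ h) = 0) :
    Nat.card (ConjClasses X) ≤ Nat.card V := by
  classical
  have hp : p.Prime := hM.1
  have := Fact.mk hp
  let H := G ⊓ centralizer {v}
  have := Fintype.ofFinite H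
  have := NeZero.mk hn
  have hG : ¬ p ∣ Nat.card G := by rwa [← hGV.symm.index_eq_card]
  have hH : ¬ p ∣ Nat.card H := fun h => hG (h.trans (card_dvd_of_le inf_le_left))
  have hcop : (Nat.card V).Coprime (Nat.card G) := by
    obtain ⟨k, hk⟩ := hVp.exists_card_eq
    rw [hk]; exact ((hp.coprime_iff_not_dvd).2 hG).pow_left _
  have hXn : ∀ x : X, x ^ n = 1 := fun x =>
    orderOf_dvd_iff_pow_eq_one.1 ((orderOf_dvd_natCard x).trans hnX)
  obtain ⟨σ, hσ⟩ := exists_family n
  let f : IrrCharacter X → H → ℂ := fun χ => ψ * fun h : H => χ.1 (v * H.subtype h)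
  have hf : ∀ χ, f χ ∈ VC H := fun χ => mul_mem hψ (shift_mem χ.2.isCharacter v H.subtype
    fun h => mem_centralizer_singleton_iff.1 h.2.2)
  have ha : ∀ (χ : IrrCharacter X) (φ : IrrCharacter H), (Fintype.card (ZMod n)ˣ : ℝ) ≤
      ∑ u, ‖σ u (classInner (f χ) φ.1)‖ ^ 2 := fun χ φ => by
    refine hσ _ (isIntegral_inner (hf χ) φ.2.isCharacter) ?_ fun hz => ?_
    · rw [classInner_def]
      refine mul_mem (inv_mem (natCast_mem _ _)) (sum_mem fun h _ => mul_mem (mul_mem (hfix h)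
        (char_mem_fix hn χ.2.isCharacter (hXn _))) ?_)
      rw [← φ.2.apply_inv]
      exact char_mem_fix hn φ.2.isCharacter (Subtype.ext (hXn _))
    · have h2 := card_mul_classInner (f χ) φ.1
      have hV : ∀ h, ψ h ∈ Blk.V M := fun h => mem_V_of_isIntegral (isIntegral_apply hψ h)
      have hV' : ∀ h : H, χ.1 (v * h) * conj (φ.1 h) ∈ Blk.V M := fun h => mem_V_of_isIntegral
        ((χ.2.isIntegral _).mul (Char.isIntegral_conj (φ.2.isIntegral h)))
      rw [hz, mul_zero] at h2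
      have h3 := congrArg (red M) h2
      simp only [f, Pi.mul_apply, mul_assoc, coe_subtype] at h3
      rw [red_zero, red_sum _ fun h _ => mul_mem (hV h) (hV' h), Finset.sum_eq_single 1
        (fun h _ hh => by rw [red_mul (hV h) (hV' h), h0 h hh, zero_mul]) (by simp),
        red_mul (hV 1) (hV' 1), OneMemClass.coe_one, mul_one, φ.2.isCharacter.conj_one,
        red_mul (mem_V_of_isIntegral (χ.2.isIntegral _)) (mem_V_of_isIntegral (φ.2.isIntegral _))]
        at h3
      obtain ⟨a, ha⟩ := hVp ⟨v, hv⟩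
      rw [CL.Glb.red_char_eq hM χ.2.isCharacter (congrArg Subtype.val ha),
        χ.2.apply_one_eq_charDegree, φ.2.apply_one_eq_charDegree] at h3
      refine mul_ne_zero h1 (mul_ne_zero ?_ ?_) h3.symm
      · rw [Ne, red_natCast_eq_zero_iff hM]
        exact fun h => hidx (h.trans (χ.2.charDegree_dvd_index_of_abelian V hab))
      · rw [Ne, red_natCast_eq_zero_iff hM]
        exact fun h => hH (h.trans φ.2.charDegree_dvd_card)
  have hH0 : (0 : ℝ) < Nat.card H := by exact_mod_cast Nat.card_pos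
  have hb : ∀ τ : ℂ ≃+* ℂ, ∑ χ : IrrCharacter X, ∑ φ : IrrCharacter H,
      ‖τ (classInner (f χ) φ.1)‖ ^ 2 ≤ Nat.card V * Nat.card (ConjClasses H) := fun τ => by
    have h2 : ∀ χ : IrrCharacter X, ∑ φ : IrrCharacter H, ‖τ (classInner (f χ) φ.1)‖ ^ 2 =
        (Nat.card H : ℝ)⁻¹ * ∑ h : H, ‖τ (ψ h)‖ ^ 2 * ‖(galIrr X τ χ).1 (v * h)‖ ^ 2 := fun χ => by
      have h3 := sum_norm_inner_sq ((isClassFunction (hf χ)).gal τ)
      rw [← Equiv.sum_comp (galIrr H τ)] at h3
      simp only [f, Pi.mul_apply, map_mul, norm_mul, mul_pow, coe_subtype] at h3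
      simp only [galIrr_apply]
      rw [← h3]
      refine Finset.sum_congr rfl fun φ _ => ?_
      have h4 := classInner_gal (f χ) φ.2.isGen τ.toRingHom
      simp only [f, Pi.mul_apply, map_mul, coe_subtype] at h4
      rw [coe_galIrr]
      exact congrArg (fun z => ‖z‖ ^ 2) h4.symm
    simp only [h2]
    rw [← Finset.mul_sum, Finset.sum_comm, inv_mul_le_iff₀ hH0, ← mul_assoc, mul_comm (Nat.card H : ℝ),
      mul_assoc, ← sum_card_centralizer, Finset.mul_sum]
    refine Finset.sum_le_sum fun h _ => ?_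
    rw [← Finset.mul_sum, Equiv.sum_comp (galIrr X τ) (fun χ => ‖χ.1 (v * h)‖ ^ 2),
      sum_norm_sq_eq_card_centralizer]
    have h3 : (Nat.card (centralizer ({v * h} : Set X)) : ℝ) ≤
        Nat.card ↥(V ⊓ centralizer {(h : X)}) * Nat.card (centralizer ({h} : Set H)) := by
      exact_mod_cast card_centralizer_le hab hGV hcop hv h
    calc _ ≤ ‖τ (ψ h)‖ ^ 2 * (Nat.card ↥(V ⊓ centralizer {(h : X)}) *
        Nat.card (centralizer ({h} : Set H))) := by gcongr
      _ ≤ _ := by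
        rw [← mul_assoc]
        gcongr
        exact hle τ.toRingHom h
  have hc := Finset.sum_le_sum fun χ (_ : χ ∈ Finset.univ) =>
    Finset.sum_le_sum fun φ (_ : φ ∈ Finset.univ) => ha χ φ
  have hd := Finset.sum_le_sum fun u (_ : u ∈ Finset.univ) => hb (σ u)
  rw [Finset.sum_comm] at hd
  simp only [Finset.sum_comm (s := (Finset.univ : Finset (ZMod n)ˣ))] at hd
  have he := hc.trans hd
  simp only [Finset.sum_const, Finset.card_univ, nsmul_eq_mul] at he
  rw [← Nat.card_eq_fintype_card (α := IrrCharacter X),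
    ← Nat.card_eq_fintype_card (α := IrrCharacter H), card_irr, card_irr] at he
  have hU : (0 : ℝ) < Fintype.card (ZMod n)ˣ := by exact_mod_cast Fintype.card_pos
  have hk : (0 : ℝ) < Nat.card (ConjClasses H) := by exact_mod_cast Nat.card_pos
  have : (Nat.card (ConjClasses X) : ℝ) ≤ Nat.card V :=
    le_of_mul_le_mul_right (by linarith) (mul_pos hk hU)
  exact_mod_cast this

end CL.VCh
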