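import Cfsg.Agent.BLK.Knorr
import Cfsg.Agent.BLK.GPgroup
import Cfsg.Agent.FGS.HHB
import Mathlib.NumberTheory.GaussSum
import Mathlib.NumberTheory.MulChar.Lemmas
import Mathlib.FieldTheory.Finite.GaloisField

/-! Knörr's function for abelian point stabilisers, through Gauss sums. -/

set_option autoImplicit false
open Cfsg Subgroup

namespace CL.VCh
open CL.Char CL.Blk CL.Glb

theorem exists_gauss {p k : ℕ} [hp : Fact p.Prime] (hk : k ≠ 0) :
    ∃ (ι : Type) (_ : Fintype ι) (c : ι → ℂ) (l : ι → ℕ), (∀ i, c i ^ p = 1) ∧ ∑ i, c i = -1 ∧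
      ∀ ζ : ℂ, ζ ^ (p ^ k - 1) = 1 → ζ ≠ 1 → ∑ i, ζ ^ l i = 0 ∧
        ∀ σ : ℂ →+* ℂ, ‖σ (∑ i, ζ ^ l i * c i)‖ ^ 2 = p ^ k := by
  classical
  let F := GaloisField p k
  have := Fintype.ofFinite F
  have hF : Fintype.card F = p ^ k := by
    rw [← Nat.card_eq_fintype_card]; exact GaloisField.card p k hk
  obtain ⟨g, hg⟩ := IsCyclic.exists_generator (α := Fˣ)
  have hg' : ∀ x : Fˣ, ∃ j : ℕ, g ^ j = x := fun x => (mem_powers_iff_mem_zpowers.2 (hg x))
  choose l hl using hg'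
  let e := AddChar.FiniteField.primitiveChar_to_Complex F
  have he : e.IsPrimitive := AddChar.FiniteField.primitiveChar_to_Complex_isPrimitive F
  have hsum : ∀ (χ : MulChar F ℂ) (e : AddChar F ℂ), gaussSum χ e = ∑ x : Fˣ, χ x * e x :=
    fun χ e => by
    rw [gaussSum, ← Finset.add_sum_erase _ _ (Finset.mem_univ 0), MulChar.map_zero, zero_mul,
      zero_add]
    exact (Finset.sum_bij (fun (x : Fˣ) _ => (x : F)) (fun x _ => by simp)
      (fun x _ y _ h => Units.ext h) (fun y hy => ⟨Units.mk0 y (by simpa using hy), by simp, rfl⟩)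
      fun _ _ => rfl).symm
  have hχ : ∀ ζ : ℂ, ζ ^ (p ^ k - 1) = 1 → ζ ≠ 1 → ∃ χ : MulChar F ℂ, χ ≠ 1 ∧
      ∀ x : Fˣ, χ x = ζ ^ l x := fun ζ h h1 => by
    have h0 : ζ ≠ 0 := by
      rintro rfl
      rw [zero_pow (Nat.sub_ne_zero_of_lt (Nat.one_lt_pow hk hp.out.one_lt))] at h
      exact zero_ne_one h
    have hm : Units.mk0 ζ h0 ∈ rootsOfUnity (Fintype.card Fˣ) ℂ := by
      rw [mem_rootsOfUnity, Fintype.card_units, hF]
      exact Units.ext (by simpa using h)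
    have h2 := MulChar.ofRootOfUnity_spec hm hg
    refine ⟨MulChar.ofRootOfUnity hm hg, fun h3 => h1 ?_, fun x => ?_⟩
    · rw [h3, MulChar.one_apply_coe] at h2
      exact h2.symm
    · conv_lhs => rw [← hl x, Units.val_pow_eq_pow_val, map_pow, h2]
      rfl
  refine ⟨Fˣ, inferInstance, fun x => e x, l, fun x => ?_, ?_, fun ζ h h1 => ⟨?_, fun σ => ?_⟩⟩
  · rw [← AddChar.map_nsmul_eq_pow, nsmul_eq_mul, CharP.cast_eq_zero, zero_mul,
      AddChar.map_zero_eq_one]
  · have := gaussSum_one_left (ψ := e) (by simpa using he one_ne_zero)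
    rw [hsum] at this
    simpa only [MulChar.one_apply_coe, one_mul] using this
  · obtain ⟨χ, h2, h3⟩ := hχ ζ h h1
    have := gaussSum_one_right h2
    rw [hsum] at this
    simpa only [h3, AddChar.one_apply, mul_one] using this
  · obtain ⟨χ, h2, h3⟩ := hχ (σ ζ) (by rw [← map_pow, h, map_one])
      (fun h4 => h1 (σ.injective (by rw [h4, map_one])))
    have h4 := gaussSum_mul_gaussSum_eq_card h2
      (he.compMulHom_of_isPrimitive (f := σ.toMonoidHom) σ.injective)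
    rw [← star_gaussSum_eq, hsum, hF] at h4
    have h5 : σ (∑ x : Fˣ, ζ ^ l x * e x) =
        ∑ x : Fˣ, χ x * (σ.toMonoidHom.compAddChar e) x := by
      simp only [map_sum, map_mul, map_pow, h3]; rfl
    rw [h5]
    rw [Complex.star_def, Complex.mul_conj'] at h4
    exact_mod_cast h4

variable {X : Type*} [Group X] [Finite X] {p : ℕ} {M : Ideal AlgInt}

/-- The properties required in Knörr's criterion, relative to the subgroup `W`. -/
structure Good (M : Ideal AlgInt) (n : ℕ) (H W : Subgroup X) (ψ : H → ℂ) : Prop where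
  mem : ψ ∈ VC H
  fix : ∀ h, ψ h ∈ Fix n
  le : ∀ (σ : ℂ →+* ℂ) h, ‖σ (ψ h)‖ ^ 2 * Nat.card ↥(W ⊓ centralizer {(h : X)}) ≤ Nat.card W
  one : red M (ψ 1) ≠ 0
  zero : ∀ h : H, (h : X) ∉ centralizer (W : Set X) → red M (ψ h) = 0

theorem exists_good_of_comm (hM : IsPModular p M) {H : Subgroup X} [IsMulCommutative H]
    (hH : ¬ p ∣ Nat.card H) (W : Subgroup X) : IsPGroup p W → (∀ a ∈ W, ∀ b ∈ W, a * b = b * a) →
    H ≤ normalizer (W : Set X) → ∃ ψ, Good M (p * Nat.card X) H W ψ := by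
  classical
  have hp : p.Prime := hM.1
  have := Fact.mk hp
  induction W using WellFoundedLT.induction with
  | ind W ih =>
  intro hWp hab hHW
  rcases eq_or_ne W ⊥ with rfl | hW
  · exact ⟨1, one_mem _, fun _ => one_mem _, fun σ h => by simp, by simp [red_one],
      fun h hh => (hh (by simp [mem_centralizer_iff])).elim⟩
  obtain ⟨W₀, -, hlt, hH0, hmax⟩ := CL.exists_maximal_invariant H W ⊥ hW.bot_lt (by
    rw [normalizer_eq_top]; exact le_top)
  obtain ⟨ψ, hψ⟩ := ih W₀ hlt (hWp.to_le hlt.le) (fun a ha b hb => hab a (hlt.le ha) b (hlt.le hb)) hH0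
  have hW0 : W ≤ normalizer (W₀ : Set X) := le_norm_of_conj fun s hs g hg => by
    rwa [hab s hs g (hlt.le hg), mul_inv_cancel_right]
  have hcop : (Nat.card H).Coprime (Nat.card W) := by
    obtain ⟨k, hk⟩ := hWp.exists_card_eq
    rw [hk]; exact ((hp.coprime_iff_not_dvd).2 hH).symm.pow_right _
  have hcomm : ∀ a ∈ H, ∀ b ∈ H, a * b = b * a := fun a ha b hb =>
    congrArg Subtype.val (mul_comm' (⟨a, ha⟩ : H) ⟨b, hb⟩)
  have hfix : ∀ h ∈ H, ∀ w ∈ W, h * w = w * h → w ∈ W₀ ∨ h ∈ actKer H W W₀ := fun h hh w hw hc => by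
    rcases hmax (relCent W W₀ hW0 {h}) (fun x hx => ⟨hlt.le hx, fun t ht => by
        rw [Set.mem_singleton_iff.1 ht]
        exact mul_mem (conj_mem_of_norm (hH0 hh) hx) (inv_mem hx)⟩) relCent_le
      (le_norm_relCent hW0 hH0 hHW fun x hx t ht => ⟨1, one_mem _, h, rfl, by
        rw [Set.mem_singleton_iff.1 ht, mul_assoc, ← hcomm x hx h hh]; simp⟩) with h1 | h1
    · refine Or.inl (h1.le ⟨hw, fun t ht => ?_⟩)
      rw [Set.mem_singleton_iff.1 ht, hc]; simp
    · exact Or.inr ((mem_actKer hH0).2 ⟨hh, fun g hg => (h1.ge hg).2 h rfl⟩)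
  have hKn := actKer_normal hH0 hHW
  set K := (actKer H W W₀).subgroupOf H with hK
  obtain ⟨a, ha⟩ : ∃ a : H, ∀ x : H ⧸ K, x ∈ zpowers (a : H ⧸ K) := by
    by_contra hcon
    refine hlt.not_ge (CL.coprime_le_of_forall_cyclic_quotient H W W₀ hHW hcop fun B a hB w hw => ?_)
    by_contra hw0
    have haH : a ∈ H := hB.le (mem_sup_right (mem_zpowers a))
    refine hcon ⟨⟨a, haH⟩, fun x => ?_⟩
    obtain ⟨y, rfl⟩ := QuotientGroup.mk_surjective x
    have h1 : H ≤ ((zpowers ((⟨a, haH⟩ : H) : H ⧸ K)).comap (QuotientGroup.mk' K)).map H.subtype := by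
      refine hB.ge.trans (sup_le (fun b hb => ?_) (zpowers_le.2 ⟨⟨a, haH⟩, mem_zpowers _, rfl⟩))
      have hbH : b ∈ H := hB.le (mem_sup_left hb)
      refine ⟨⟨b, hbH⟩, ?_, rfl⟩
      have : ((⟨b, hbH⟩ : H) : H ⧸ K) = 1 := (QuotientGroup.eq_one_iff _).2
        ((hfix b hbH w hw.1 (hw.2 b hb)).resolve_left hw0)
      show ((⟨b, hbH⟩ : H) : H ⧸ K) ∈ zpowers _
      rw [this]; exact one_mem _
    obtain ⟨z, hz, hz'⟩ := h1 y.2
    rwa [← Subtype.ext hz']
  have : IsCyclic (H ⧸ K) := ⟨⟨a, ha⟩⟩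
  obtain ⟨μ, hμ⟩ := exists_injective_hom_of_isCyclic (G := H ⧸ K)
  let lam : H →* ℂˣ := μ.comp (QuotientGroup.mk' K)
  have hlam : ∀ h : H, (lam h : ℂ) = 1 ↔ (h : X) ∈ actKer H W W₀ := fun h => by
    rw [Units.val_eq_one]
    exact (map_eq_one_iff μ hμ).trans (QuotientGroup.eq_one_iff _)
  obtain ⟨k, hk⟩ := IsPGroup.index hWp (W₀.subgroupOf W)
  have hk' : W₀.relIndex W = p ^ k := hk
  have hk0 : k ≠ 0 := by
    rintro rfl
    exact hlt.not_ge (relIndex_eq_one.1 hk')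
  have hd : Nat.card (H ⧸ K) ∣ p ^ k - 1 := by
    rw [← hk']
    refine CL.HH.dvd_relIndex_sub_one hlt.le (hHW a.2) (hH0 a.2)
      (hcop.coprime_dvd_left K.index_dvd_card) fun u hu i hc => ?_
    refine (hfix _ (pow_mem a.2 i) u hu hc.eq).imp_right fun h => ?_
    rw [← orderOf_eq_card_of_forall_mem_zpowers ha]
    exact orderOf_dvd_of_pow_eq_one ((QuotientGroup.eq_one_iff (a ^ i)).2 h)
  have hq : ∀ h : H, (lam h : ℂ) ^ (p ^ k - 1) = 1 := fun h => by
    obtain ⟨c, hc⟩ := hd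
    rw [hc, pow_mul]
    exact (congrArg (· ^ c) (hom_pow_card μ h)).trans (one_pow c)
  obtain ⟨ι, _, c, l, hc, hc1, hΓ⟩ := exists_gauss (p := p) hk0
  let Γ : H → ℂ := fun h => ∑ i, (lam h : ℂ) ^ l i * c i
  have hci : ∀ i, IsIntegral ℤ (c i) := fun i => IsIntegral.of_pow hp.pos (hc i ▸ isIntegral_one)
  have hΓm : Γ ∈ VC H := by
    have : Γ = ∑ i, c i • (fun h => (lam h : ℂ)) ^ l i := by
      funext h; simp [Γ, mul_comm]
    rw [this]
    exact Subalgebra.sum_mem _ fun i _ =>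
      smul_mem (pow_mem (mem_of_char (irrOfHom lam).2.isCharacter) _) (hci i)
  have hΓ1 : ∀ h, (lam h : ℂ) = 1 → Γ h = -1 := fun h h1 => by simp [Γ, h1, hc1]
  have hV : ∀ {f : H → ℂ}, f ∈ VC H → ∀ h, f h ∈ Blk.V M := fun hf h =>
    mem_V_of_isIntegral (isIntegral_apply hf h)
  have hcard : (Nat.card W : ℝ) = p ^ k * Nat.card W₀ := by
    rw [← (W₀.subgroupOf W).index_mul_card, hk,
      Nat.card_congr (subgroupOfEquivOfLe hlt.le).toEquiv]
    push_cast; rfl
  refine ⟨ψ * Γ, mul_mem hψ.mem hΓm, fun h => mul_mem (hψ.fix h) (sum_mem fun i _ => mul_mem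
    (pow_mem (root_mem_fix ?_) _) (root_mem_fix (by rw [pow_mul, hc, one_pow]))), fun σ h => ?_,
    ?_, fun h hh => ?_⟩
  · obtain ⟨d, hd⟩ := H.card_subgroup_dvd_card
    rw [hd, mul_comm p, mul_assoc, pow_mul, hom_pow_card, one_pow]
  · rw [Pi.mul_apply, map_mul, norm_mul, mul_pow, hcard]
    have h1 := hψ.le σ h
    by_cases h2 : (lam h : ℂ) = 1
    · rw [hΓ1 h h2, map_neg, map_one, norm_neg, norm_one, one_pow, mul_one]
      have h3 : Nat.card ↥(W ⊓ centralizer {(h : X)}) ≤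
          p ^ k * Nat.card ↥(W₀ ⊓ centralizer {(h : X)}) := by
        have h4 : W₀.relIndex (W ⊓ centralizer {(h : X)}) ≤ W₀.relIndex W :=
          relIndex_le_of_le_right inf_le_left (by rw [hk']; exact pow_ne_zero _ hp.ne_zero)
        have h5 := (W₀.subgroupOf (W ⊓ centralizer {(h : X)})).index_mul_card
        rw [← inf_subgroupOf_right, Nat.card_congr (subgroupOfEquivOfLe inf_le_right).toEquiv,
          inf_subgroupOf_right, ← inf_assoc, inf_eq_left.2 hlt.le] at h5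
        rw [← h5, ← hk']
        exact Nat.mul_le_mul_right _ h4
      have h3' : (Nat.card ↥(W ⊓ centralizer {(h : X)}) : ℝ) ≤
          p ^ k * Nat.card ↥(W₀ ⊓ centralizer {(h : X)}) := by exact_mod_cast h3
      calc _ ≤ ‖σ (ψ h)‖ ^ 2 * (p ^ k * Nat.card ↥(W₀ ⊓ centralizer {(h : X)})) := by gcongr
        _ = p ^ k * (‖σ (ψ h)‖ ^ 2 * Nat.card ↥(W₀ ⊓ centralizer {(h : X)})) := by ring
        _ ≤ _ := by gcongr
    · have h3 : W ⊓ centralizer {(h : X)} = W₀ ⊓ centralizer {(h : X)} :=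
        le_antisymm (fun w hw => ⟨(hfix h h.2 w hw.1 (mem_centralizer_singleton_iff.1 hw.2).symm
          ).resolve_right fun h4 => h2 ((hlam h).2 h4), hw.2⟩) (inf_le_inf_right _ hlt.le)
      rw [((hΓ _ (hq h) h2).2 σ :), h3, mul_right_comm, mul_comm]
      gcongr
  · rw [Pi.mul_apply, red_mul (hV hψ.mem _) (hV hΓm _), hΓ1 1 (by simp), red_neg, red_one]
    simpa using hψ.one
  · rw [Pi.mul_apply, red_mul (hV hψ.mem _) (hV hΓm _)]
    by_cases h2 : (lam h : ℂ) = 1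
    · rw [hψ.zero h fun h3 => hh ?_, zero_mul]
      have h4 := CL.coprime_le_centralizer_of_trivial_on_factors (zpowers (h : X)) W W₀
        (zpowers_le.2 (hH0 h.2)) ((hcop.coprime_dvd_right (card_dvd_of_le hlt.le)).coprime_dvd_left
          (card_dvd_of_le (zpowers_le.2 h.2))) (le_centralizer_iff.1 (zpowers_le.2 h3))
        (commutator_le.2 fun w hw x hx => by
          have := ((mem_actKer hH0).1 (zpowers_le.2 ((hlam h).1 h2) hx)).2 w hw
          rw [← commutatorElement_inv]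
          exact inv_mem this)
      exact le_centralizer_iff.1 h4 (mem_zpowers _)
    · have h3 : ∀ i, (lam h : ℂ) ^ l i ∈ Blk.V M := fun i => pow_mem
        (hV (mem_of_char (irrOfHom lam).2.isCharacter) h) _
      have h4 : red M (Γ h) = red M (∑ i, (lam h : ℂ) ^ l i) := by
        rw [red_sum _ fun i _ => mul_mem (h3 i) (mem_V_of_isIntegral (hci i)),
          red_sum _ fun i _ => h3 i]
        refine Finset.sum_congr rfl fun i _ => ?_
        rw [red_mul (h3 i) (mem_V_of_isIntegral (hci i)),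
          red_eq_one_of_pow_p_pow hM (ζ := c i) (k := 1) (by rw [pow_one, hc]), mul_one]
      rw [h4, (hΓ _ (hq h) h2).1, red_zero, mul_zero]

end CL.VCh
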