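import Cfsg.Agent.BLK.LinD

/-! Feit's theorem: a linear group of degree `< p - 1` without normal Sylow `p`-subgroup has
central quotient of order prime to `p ^ 2`. -/

set_option autoImplicit false
set_option linter.unusedSectionVars false
open Cfsg Subgroup CL.Char CL.D1T Multiset
open scoped commutatorElement

namespace CL.Lin

variable {G : Type*} [Group G] {p : ℕ} {χ φ : G → ℂ} {x g u v : G} {c : ℂ}

theorem PE.mul {M : Type*} [Monoid M] {a b : M} (ha : PE p a) (hb : PE p b) (h : Commute a b) :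
    PE p (a * b) := by
  obtain ⟨i, hi⟩ := ha
  obtain ⟨j, hj⟩ := hb
  exact ⟨i + j, by rw [h.mul_pow, pow_add, pow_mul, hi, mul_comm, pow_mul, hj]; simp⟩

theorem PE.pow {M : Type*} [Monoid M] {a : M} (ha : PE p a) (n : ℕ) : PE p (a ^ n) :=
  ha.imp fun k hk => by rw [pow_right_comm, hk, one_pow]

theorem PE.inv {M : Type*} [DivisionMonoid M] {a : M} (ha : PE p a) : PE p a⁻¹ :=
  ha.imp fun k hk => by rw [inv_pow, hk, inv_one]

theorem commutator_le_of_closure (h : closure {u, v} = ⊤) {N : Subgroup G} [N.Normal]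
    (huv : ⁅u, v⁆ ∈ N) : commutator G ≤ N := commutator_le.2 fun a _ b _ => by
  have h1 : ∀ a b : G, ⁅a, b⁆ ∈ N ↔ Commute (QuotientGroup.mk' N a) (QuotientGroup.mk' N b) :=
    fun a b => by rw [← commutatorElement_eq_one_iff_commute, ← map_commutatorElement,
      QuotientGroup.mk'_apply, QuotientGroup.eq_one_iff]
  rw [h1] at huv ⊢
  refine closure_induction₂ (p := fun a b _ _ =>
    Commute (QuotientGroup.mk' N a) (QuotientGroup.mk' N b)) ?_ (by simp) (by simp)
    (fun _ _ _ _ _ _ h h' => map_mul (QuotientGroup.mk' N) _ _ ▸ h.mul_left h')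
    (fun _ _ _ _ _ _ h h' => map_mul (QuotientGroup.mk' N) _ _ ▸ h.mul_right h')
    (fun _ _ _ _ h => map_inv (QuotientGroup.mk' N) _ ▸ h.inv_left)
    (fun _ _ _ _ h => map_inv (QuotientGroup.mk' N) _ ▸ h.inv_right) (h.ge trivial) (h.ge trivial)
  rintro _ _ (rfl | rfl) (rfl | rfl)
  exacts [.refl _, huv, huv.symm, .refl _]

variable [Finite G] [hp : Fact p.Prime]

theorem PE.dvd {M : Type*} [Monoid M] {a : M} (ha : PE p a) (h1 : a ≠ 1) {n : ℕ} (hn : a ^ n = 1) :
    p ∣ n := by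
  obtain ⟨k, hk⟩ := ha
  by_contra h
  have := pow_gcd_eq_one.2 ⟨hk, hn⟩
  rw [((hp.out.coprime_iff_not_dvd.2 h).pow_left k).gcd_eq_one, pow_one] at this
  exact h1 this

theorem mem_commutator_of_closure (h : closure {u, v} = ⊤) (hu : PE p u) (hv : PE p v) {n : ℕ}
    (hn : ¬ p ∣ n) (hg : g ^ n = 1) : g ∈ commutator G := by
  have h1 : PE p (Abelianization.of g) := by
    refine closure_induction (p := fun a _ => PE p (Abelianization.of a)) ?_ ⟨0, by simp⟩
      (fun _ _ _ _ h h' => by rw [map_mul]; exact h.mul h' (.all _ _))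
      (fun _ _ h => by rw [map_inv]; exact h.inv) (h.ge trivial)
    rintro _ (rfl | rfl)
    exacts [hu.map _, hv.map _]
  exact Abelianization.ker_of G ▸ by_contra fun h2 => hn (h1.dvd h2 (by rw [← map_pow, hg, map_one]))

theorem PE.mem_pCore (h : PE p x) (hz : x ∈ center G) : x ∈ pCore p G := by
  have : (zpowers x).Normal := ⟨fun a ha g => by
    rwa [mem_center_iff.1 (zpowers_le.2 hz ha) g, mul_inv_cancel_right]⟩
  exact le_pCore h.isPGroup (mem_zpowers x)

theorem PE.of_eig (hχ : IsCharacter G χ) (hk : charKer χ = ⊥) (h : ∀ c ∈ eig χ g, PE p c) :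
    PE p g := by
  choose! k hk' using h
  refine ⟨((eig χ g).map k).sum, mem_bot.1 (hk.le (mem_charKer_iff.2 fun y => ?_))⟩
  rw [scalar_of_eig hχ (c := 1) (fun a ha => ?_), one_mul]
  obtain ⟨b, hb, rfl⟩ := mem_map.1 (eig_pow hχ g _ ▸ ha)
  obtain ⟨j, hj⟩ := Nat.exists_eq_add_of_le (single_le_sum (fun _ _ => Nat.zero_le _) _
    (mem_map_of_mem k hb))
  rw [hj, pow_add, pow_mul, hk' b hb, one_pow]

theorem eig_mul_ker (hφ : IsCharacter G φ) (hg : g ∈ charKer φ) (u : G) :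
    eig φ (u * g) = eig φ u := by
  rw [eig_of_smul hφ (h := u) (c := 1) fun y => by
    rw [mul_assoc, hφ.isClassFunction.mul_comm, mul_assoc, hg, hφ.isClassFunction.mul_comm, one_mul]]
  simp

/-- A minimal counterexample. -/
structure Min (p : ℕ) (χ : G → ℂ) : Prop where
  irr : IsIrrCharacter G χ
  ker : charKer χ = ⊥
  deg : charDegree χ + 1 < p
  five : 5 ≤ p
  ih : ∀ H : Subgroup G, H ≠ ⊤ → ∀ ψ : H → ℂ, IsIrrCharacter H ψ → charDegree ψ + 1 < p →
    Bad p ψ → ¬ p ^ 2 ∣ (charCenter ψ).index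
  core : pCore p G = ⊥

namespace Min

variable (h : Min p χ)
include h

theorem cent_ne (hx : x ∉ center G) : centralizer {x} ≠ ⊤ := fun e => hx
  (mem_center_iff.2 fun g => mem_centralizer_singleton_iff.1 (e.ge (mem_top g)))

theorem not_center (hx : PE p x) (h1 : x ≠ 1) : x ∉ center G := fun e =>
  h1 (mem_bot.1 (h.core.le (hx.mem_pCore e)))

theorem blich {α β : ℂ} (h1 : ∀ c ∈ eig χ g, c = α ∨ c = β) (ha : α ∈ eig χ g)
    (hb : β ∈ eig χ g) (pa : PE p (α ^ 2)) (pb : PE p (β ^ 2))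
    (hn : ∀ n, 0 < n → n < 7 → (α / β) ^ n ≠ 1) : False := by
  have hχ := h.irr.isCharacter
  have h2 : (α / β) ^ orderOf g = 1 := by
    rw [div_pow, pow_of_mem hχ ha (pow_orderOf_eq_one g), pow_of_mem hχ hb (pow_orderOf_eq_one g),
      div_one]
  have h3 := (isOfFinOrder_iff_pow_eq_one.2 ⟨_, orderOf_pos g, h2⟩).orderOf_pos
  have h4 := IsPrimitiveRoot.orderOf (α / β)
  generalize orderOf (α / β) = n at h3 h4
  have h5 : 7 ≤ n := not_lt.1 fun e => hn n h3 e h4.pow_eq_one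
  have : NeZero n := ⟨h3.ne'⟩
  have h6 := Complex.isPrimitiveRoot_exp n h3.ne'
  obtain ⟨j, -, hj⟩ := h4.eq_pow_of_pow_eq_one h6.pow_eq_one
  have h7 : 1 / 2 < ((α / β) ^ j).re := by
    have h8 : (7 : ℝ) ≤ n := by exact_mod_cast h5
    rw [hj, show 2 * Real.pi * Complex.I / n = (2 * Real.pi / n : ℝ) * Complex.I by push_cast; ring,
      Complex.exp_ofReal_mul_I_re, ← Real.cos_pi_div_three]
    refine Real.cos_lt_cos_of_nonneg_of_le_pi (by positivity) (by linarith [Real.pi_pos]) ?_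
    rw [div_lt_div_iff₀ (by positivity) (by norm_num)]
    nlinarith [Real.pi_pos]
  have h8 : ∀ a ∈ eig χ g, a ≠ 0 := fun a ha e => by simpa [e] using norm_of_mem hχ ha
  obtain ⟨k, hk⟩ : PE p ((g ^ j) ^ 2) := .of_eig hχ h.ker fun c hc => by
    rw [pow_right_comm, ← pow_mul, eig_pow hχ] at hc
    obtain ⟨a, h9, rfl⟩ := mem_map.1 hc
    rcases h1 a h9 with rfl | rfl <;> rw [pow_mul]
    exacts [pa.pow j, pb.pow j]
  have h9 := mem_bot.1 (h.core.le (CL.Lin.mem_pCore _ G rfl χ hχ h.ker (g ^ j) (fun a ha' b hb' => by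
    obtain ⟨a, a1, rfl⟩ := mem_map.1 (eig_pow hχ g j ▸ ha')
    obtain ⟨b, b1, rfl⟩ := mem_map.1 (eig_pow hχ g j ▸ hb')
    rw [← div_pow]
    rcases h1 a a1 with rfl | rfl <;> rcases h1 b b1 with rfl | rfl
    · rw [div_self (h8 _ ha)]; norm_num
    · exact h7
    · rwa [← inv_div b, inv_pow, Complex.inv_re, Complex.normSq_eq_norm_sq, norm_pow, norm_div,
        norm_of_mem hχ a1, norm_of_mem hχ b1, div_one, one_pow, one_pow, div_one]
    · rw [div_self (h8 _ hb)]; norm_num) hk))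
  rw [← pow_mul] at h9
  have := Nat.le_of_dvd two_pos (h6.dvd_of_pow_eq_one 2 (by
    rw [← hj, ← pow_mul, div_pow, pow_of_mem hχ ha h9, pow_of_mem hχ hb h9, div_one]))
  omega

theorem split₀ {H : Subgroup G} (hH : H ≠ ⊤) {u v : H} (hu : PE p u) (hv : PE p v) {ξ : H → ℂ}
    (hξ : IsCharacter H ξ) (hd : charDegree ξ + 1 < p) (huv : ⁅u, v⁆ ∉ charKer ξ) : ∃ ψ φ,
    IsIrrCharacter H ψ ∧ IsCharacter H φ ∧ ξ = ψ + φ ∧ ⁅u, v⁆ ∉ charKer ψ ∧
      charDegree ψ + charDegree φ = charDegree ξ ∧ ¬ p ^ 2 ∣ (charCenter ψ).index ∧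
      p ≤ 2 * charDegree ψ + 1 := by
  obtain ⟨ψ, φ, h1, h2, rfl, h3⟩ := exists_split hξ huv
  have h4 := charDegree_add h1.isCharacter h2
  have h5 := h.ih H hH ψ h1 (by omega) ⟨u, v, hu, hv, h3⟩
  exact ⟨ψ, φ, h1, h2, rfl, h3, h4.symm, h5, (Bad.spec h1 (by omega) h5 ⟨u, v, hu, hv, h3⟩).1⟩

theorem notMem_ker {H : Subgroup G} {u v : H} (huv : ¬ Commute (u : G) v) :
    ⁅u, v⁆ ∉ charKer fun g : H => χ g := fun e => by
  rw [h.irr.isCharacter.charKer_res, h.ker, mem_subgroupOf, mem_bot] at e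
  exact huv (commutatorElement_eq_one_iff_commute.1 e)

theorem split (hu : PE p u) (hv : PE p v) (huv : ¬ Commute u v) (hH : closure {u, v} ≠ ⊤) :
    ∃ (a : G) (c : ℂ) (s t : Multiset ℂ), eig χ u = s + t ∧ s.Nodup ∧ p ≤ 2 * s.card + 1 ∧
      PE p c ∧ eig χ a = replicate s.card c + t ∧ (2 * s.card + 1 = p → c ∉ s) ∧
      (s.card = 2 → ∃ b, eig χ b = replicate 2 (-c) + t) := by
  let u' : closure {u, v} := ⟨u, subset_closure (by simp)⟩
  let v' : closure {u, v} := ⟨v, subset_closure (by simp)⟩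
  have h0 : closure {u', v'} = ⊤ := by
    rw [← closure_closure_coe_preimage]
    congr 1
    ext; simp [Subtype.ext_iff, u', v']
  have hu' : PE p u' := PE.coe.1 hu
  have hv' : PE p v' := PE.coe.1 hv
  have hd := h.deg
  obtain ⟨ψ, φ, h1, h2, h3, h4, h5, h6, h7⟩ := h.split₀ hH hu' hv' (h.irr.isCharacter.res _) hd
    (h.notMem_ker huv)
  rw [charDegree_res] at h5
  have := h2.charKer_normal
  have h8 : commutator _ ≤ charKer φ := commutator_le_of_closure h0 (by_contra fun e => by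
    obtain ⟨_, _, -, -, -, -, _, -, _⟩ := h.split₀ hH hu' hv' h2 (by omega) e
    omega)
  obtain ⟨a1, y, hy, c, a2, a3, a4⟩ := (Bad.spec h1 (by omega) h6 ⟨_, _, hu', hv', h4⟩).2 u' hu'
    fun e => h4 (h1.isClassFunction.commutator_mem_charKer e _)
  have h9 : ∀ g : closure {u, v}, eig χ g = eig ψ g + eig φ g := fun g => by
    rw [← eig_res, h3, eig_add h1.isCharacter h2]
  have h10 := card_eig h1.isCharacter u'
  refine ⟨(u' * y⁻¹ :), c, _, _, h9 u', a1, h10 ▸ h7, a2, by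
    rw [h9, eig_scalar h1.isCharacter a3, eig_mul_ker h2 (inv_mem (h8 hy)), h10], h10 ▸ a4,
    fun e => ?_⟩
  rw [h10] at e
  obtain ⟨z, hz⟩ := exists_prime_orderOf_dvd_card' 2 (hp := ⟨Nat.prime_two⟩)
    (e ▸ h1.charDegree_dvd_card)
  have z1 := hz ▸ pow_orderOf_eq_one z
  have z2 := mem_commutator_of_closure h0 hu' hv' (fun e => by
    have := Nat.le_of_dvd two_pos e; have := h.five; omega) z1
  obtain ⟨a, b, hab⟩ := card_eq_two.1 ((card_eig h1.isCharacter z).trans e)
  have z3 : a * b = 1 := by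
    have := prod_eig h1.isCharacter z
    rwa [hab, ← detHom_apply, hom_apply_of_mem_commutator _ z2, insert_eq_cons, prod_cons,
      prod_singleton] at this
  have z4 : ∀ g, ψ (z * g) = a * ψ g := scalar_of_eig h1.isCharacter fun w hw => by
    have := pow_of_mem h1.isCharacter (c := a) (by simp [hab]) z1
    rcases (by simpa [hab] using hw : w = a ∨ w = b) with rfl | rfl
    exacts [rfl, by linear_combination a * z3 - w * this]
  rcases sq_eq_one_iff.1 (pow_of_mem h1.isCharacter (c := a) (by simp [hab]) z1) with rfl | rfl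
  · have : z ∈ charKer (ψ + φ) := h1.isCharacter.charKer_add h2 ▸
      ⟨mem_charKer_iff.2 (by simpa using z4), h8 z2⟩
    rw [← h3, h.irr.isCharacter.charKer_res, h.ker, bot_subgroupOf, mem_bot] at this
    simp [this] at hz
  exact ⟨(u' * y⁻¹ * z :), by
    rw [h9, eig_scalar h1.isCharacter (c := -c) fun g => by rw [mul_assoc, a3, z4]; ring,
      eig_mul_ker h2 (h8 z2), eig_mul_ker h2 (inv_mem (h8 hy)), e]⟩

theorem exists_conj (hx : PE p x) (h1 : x ≠ 1) : ∃ g, ¬ Commute x (g * x * g⁻¹) := by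
  by_contra! h2
  have h3 : normalClosure {x} ≤ centralizer {x} := (closure_le _).2 fun y hy => by
    obtain ⟨_, rfl, hy'⟩ := Group.mem_conjugatesOfSet_iff.1 hy
    obtain ⟨g, rfl⟩ := isConj_iff.1 hy'
    exact mem_centralizer_singleton_iff.2 (h2 g).symm
  exact h1 (mem_bot.1 (h.core.le ((map_pCore_of_normal (normalClosure {x})).le
    ⟨⟨x, subset_normalClosure rfl⟩, (PE.coe.1 hx).mem_pCore (mem_center_iff.2 fun g =>
      Subtype.ext (mem_centralizer_singleton_iff.1 (h3 g.2))), rfl⟩).1))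

/-- No `p`-element has a large eigenspace. -/
theorem count_lt (hx : PE p x) (h1 : x ≠ 1) (c : ℂ) : 2 * (eig χ x).count c + 1 < p := by
  by_contra! h2
  obtain ⟨g, hg⟩ := h.exists_conj hx h1
  have hχ := h.irr.isCharacter
  have hd := h.deg
  have h5 := h.five
  have ho := hp.out.odd_of_ne_two (by omega)
  obtain ⟨a, c', s, t, e1, a1, a2, a3, e2, a4, a5⟩ := h.split hx (hx.conj g) hg fun e =>
    h.not_center hx h1 (h.irr.charCenter_eq_center h.ker ▸ mem_charCenter_of_closure h.irr e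
      (c := c) (c' := c) (by rw [eig_conj hχ.isClassFunction]; obtain ⟨k, rfl⟩ := ho; omega))
  have b1 := card_eig hχ x
  have b2 := nodup_iff_count_le_one.1 a1 c
  have b3 := count_le_card c t
  rw [e1, count_add] at h2
  rw [e1, card_add] at b1
  obtain ⟨k, hk⟩ := ho
  have b4 : c ∈ s := count_pos.1 (by omega)
  have b5 : c ∈ t := count_pos.1 (by omega)
  have b6 : ∀ b ∈ t, b = c := fun b hb => (count_eq_card.1 (by omega) b hb).symm
  have b7 : PE p c := hx.imp fun k => pow_of_mem hχ (e1 ▸ mem_add.2 (Or.inl b4))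
  have b8 : c ≠ 0 := fun e => by
    have := norm_of_mem hχ (e1 ▸ mem_add.2 (Or.inl b4))
    simp [e] at this
  have b9 : PE p (c' / c) := div_eq_mul_inv c' c ▸ a3.mul b7.inv (.all _ _)
  have b10 : c' / c ≠ 1 := fun e => a4 (by omega) ((div_eq_one_iff_eq b8).1 e ▸ b4)
  have b11 : ∀ {b α n}, n ≠ 0 → eig χ b = replicate n α + t → PE p (α ^ 2) →
      ¬ ∀ n, 0 < n → n < 7 → (α / c) ^ n ≠ 1 := fun hn e pa => h.blich (fun w hw =>
    (mem_add.1 (e ▸ hw)).imp eq_of_mem_replicate (b6 w)) (by simp [e, hn, mem_replicate]) (by simp [e, b5]) pa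
      (b7.pow 2)
  by_cases h7 : p = 5
  · obtain ⟨b, hb⟩ := a5 (by omega)
    refine b11 two_ne_zero hb (neg_sq c' ▸ a3.pow 2) fun n n0 n7 e => ?_
    have := h7 ▸ b9.dvd b10 (n := 2 * n) (by
      rw [pow_mul, ← neg_sq, ← neg_div, pow_right_comm, e, one_pow])
    obtain rfl : n = 5 := by omega
    have := h7 ▸ (b9.pow 5).dvd (n := 2) (fun e1 => by
      rw [neg_div, Odd.neg_pow (by decide), e1] at e; norm_num at e)
      (by rw [pow_right_comm, ← neg_sq, ← neg_div, pow_right_comm, e, one_pow])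
    omega
  exact b11 (by omega) e2 (a3.pow 2) fun n n0 n7 e => by
    have := Nat.le_of_dvd n0 (b9.dvd b10 e); omega

theorem eq_one_of_scalar {H : Subgroup G} {ψ φ : H → ℂ} (h1 : IsIrrCharacter H ψ)
    (h2 : IsCharacter H φ) (h3 : (fun g : H => χ g) = ψ + φ) (h4 : p ≤ 2 * charDegree ψ + 1) {w : H}
    (hw : PE p w) (h5 : w ∈ charCenter ψ) : w = 1 := by
  obtain ⟨c, -, hc⟩ := h5
  by_contra h6
  have := h.count_lt (PE.coe.2 hw) (by simpa) c
  rw [← eig_res, h3, eig_add h1.isCharacter h2, eig_scalar h1.isCharacter hc, count_add,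
    count_replicate_self] at this
  omega

theorem commute (hx : PE p x) (h1 : x ≠ 1) (hu : PE p u) (hv : PE p v) (xu : Commute u x)
    (xv : Commute v x) : Commute u v := by
  by_contra h2
  obtain ⟨ψ, φ, a1, a2, a3, -, -, -, a4⟩ := h.split₀ (h.cent_ne (h.not_center hx h1))
    (u := ⟨u, mem_centralizer_singleton_iff.2 xu⟩) (v := ⟨v, mem_centralizer_singleton_iff.2 xv⟩)
    (PE.coe.1 hu) (PE.coe.1 hv) (h.irr.isCharacter.res _) h.deg (h.notMem_ker h2)
  exact h1 (congrArg Subtype.val (h.eq_one_of_scalar a1 a2 a3 a4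
    (w := ⟨x, mem_centralizer_singleton_iff.2 rfl⟩) (PE.coe.1 hx) (a1.center_le_charCenter
      (mem_center_iff.2 fun g => Subtype.ext (mem_centralizer_singleton_iff.1 g.2)))))

theorem comm (P : Sylow p G) (hu : u ∈ (P : Subgroup G)) (hv : v ∈ (P : Subgroup G)) :
    Commute u v :=
  comm_of_isPGroup_of_degree_lt h.irr.isCharacter h.ker (by have := h.deg; omega) P.2 hu hv

theorem mem_sylow (P : Sylow p G) (hx : x ∈ (P : Subgroup G)) (h1 : x ≠ 1) (hu : PE p u)
    (hc : Commute u x) : u ∈ (P : Subgroup G) :=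
  ((hu.isPGroup.inf_normalizer_sylow P).le ⟨mem_zpowers u, centralizer_le_normalizer _ fun _ hw =>
    (h.commute (.of_mem P.2 hx) h1 hu (.of_mem P.2 hw) hc (h.comm P hw hx)).symm⟩).2

theorem not_sq_dvd (hG : ∀ M : Subgroup G, M.Normal → (∀ x, PE p x → x ∈ M) → M = ⊤)
    (hb : Bad p χ) : ¬ p ^ 2 ∣ Nat.card G := fun hsq => by
  classical
  obtain ⟨P⟩ : Nonempty (Sylow p G) := inferInstance
  have hχ := h.irr.isCharacter
  have hd := h.deg
  have hP := P.pow_dvd_card_of_pow_dvd_card hsq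
  have key := feit_thompson_bound' (P : Subgroup G) (eq_bot_iff.2 fun z hz => by_contra fun e =>
    h.not_center (.of_mem P.2 hz.1) e hz.2) ?_ (fun a ha b hb => h.comm P ha hb) (fun M hM e =>
      hG M hM fun x hx => ?_) h.irr fun e => ?_
  · have := Nat.le_of_dvd Nat.card_pos hP
    have := Nat.pow_le_pow_left (show 1 + charDegree χ ≤ p by omega) 2
    omega
  rotate_left
  · obtain ⟨Q, hQ⟩ := hx.isPGroup.exists_le_sylow
    obtain ⟨g, rfl⟩ := MulAction.exists_smul_eq G P Q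
    obtain ⟨y, hy, rfl⟩ := hQ (mem_zpowers x)
    exact hM.conj_mem _ (e hy) g
  · obtain ⟨u, v, -, -, huv⟩ := hb
    exact huv (h.irr.commutator_le_charKer_iff.2 e (commutator_mem_commutator trivial trivial))
  intro g hg t ht x hx y hy x1 y1 e e'
  have px : PE p x := .of_mem P.2 hx
  have py : PE p (g⁻¹ * y * g⁻¹⁻¹) := (PE.of_mem P.2 hy).conj _
  have yt : g⁻¹ * y * g⁻¹⁻¹ ∈ centralizer {t} := mem_centralizer_singleton_iff.2 (by
    calc _ = g⁻¹ * (y * (g * t * g⁻¹)) * g := by group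
      _ = _ := by rw [← e']; group)
  have xt : x ∈ centralizer {t} := mem_centralizer_singleton_iff.2 e.symm
  have h1 : ¬ Commute x (g⁻¹ * y * g⁻¹⁻¹) := fun e1 => hg (inv_mem_iff.1 (mem_normalizer_fintype
    fun w hw => h.mem_sylow P (h.mem_sylow P hx x1 py e1.symm) (mt conj_eq_one_iff.1 y1) ((PE.of_mem P.2 hw).conj _)
      ((h.comm P hw hy).map (MulAut.conj g⁻¹))))
  obtain ⟨a, c, s, r, e1, a1, a2, a3, e2, a4, -⟩ := h.split px py h1 fun e1 =>
    h.cent_ne ht (top_unique (e1.ge.trans ((closure_le _).2 (Set.pair_subset xt yt))))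
  have h5 := h.five
  have h2 : a = 1 := by_contra fun h2 => by
    have := h.count_lt (.of_eig hχ h.ker fun w hw => (mem_add.1 (e2 ▸ hw)).elim
      (fun e => by rwa [eq_of_mem_replicate e]) fun e =>
        px.imp fun k => pow_of_mem hχ (e1 ▸ mem_add.2 (Or.inr e))) h2 c
    rw [e2, count_add, count_replicate_self] at this
    omega
  rw [h2, eig_one hχ] at e2
  have h3 : ∀ w ∈ replicate s.card c + r, w = 1 := fun w hw => eq_of_mem_replicate (e2 ▸ hw)
  obtain rfl := h3 c (mem_add.2 (Or.inl (mem_replicate.2 ⟨by omega, rfl⟩)))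
  have h4 : p ≤ 2 * (s.toFinset.erase 1).card + 1 := by
    by_cases h4 : 1 ∈ s
    · have := mt a4 (not_not.2 h4)
      obtain ⟨k, hk⟩ := hp.out.odd_of_ne_two (by omega)
      rw [Finset.card_erase_of_mem (mem_toFinset.2 h4), toFinset_card_of_nodup a1]
      omega
    · rwa [Finset.erase_eq_of_notMem (by simpa), toFinset_card_of_nodup a1]
  have h6 : (P : Subgroup G) ≤ centralizer {t} := fun w hw => by_contra fun h6 => by
    let w' : centralizer {x} := ⟨w, mem_centralizer_singleton_iff.2 (h.comm P hw hx)⟩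
    let t' : centralizer {x} := ⟨t, mem_centralizer_singleton_iff.2 e⟩
    have h7 := card_le_count (hχ.res _) (h := ⟨x, mem_centralizer_singleton_iff.2 rfl⟩)
      (mem_center_iff.2 fun g => Subtype.ext (mem_centralizer_singleton_iff.1 g.2))
      (commutator_mem_commutator (mem_top w') (mem_top t')) (s.toFinset.erase 1) fun c hc => by
        obtain ⟨c1, c2⟩ := Finset.mem_erase.1 hc
        rw [eig_res, e1, count_add, count_eq_one_of_mem a1 (mem_toFinset.1 c2),
          count_eq_zero.2 fun e => c1 (h3 c (mem_add.2 (Or.inr e)))]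
    have := h.count_lt (x := ⁅w, t⁆) (.of_mem P.2 (by
      rw [commutatorElement_def, mul_assoc, mul_assoc, ← mul_assoc t]
      exact mul_mem hw (h.mem_sylow P hx x1 ((PE.of_mem P.2 hw).inv.conj t)
        (mem_centralizer_singleton_iff.1 (t' * w'⁻¹ * t'⁻¹).2)))) (fun e => h6
      (mem_centralizer_singleton_iff.2 (commutatorElement_eq_one_iff_mul_comm.1 e))) 1
    rw [eig_res] at h7
    exact absurd (h4.trans (by gcongr; exact h7)) this.not_ge
  obtain ⟨ψ, φ, b1, b2, b3, -, -, b4, b5⟩ := h.split₀ (h.cent_ne ht) (u := ⟨_, xt⟩) (v := ⟨_, yt⟩)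
    (PE.coe.1 px) (PE.coe.1 py) (hχ.res _) hd (h.notMem_ker h1)
  have := b1.charCenter_normal
  refine b4 (.trans ?_ (relIndex_dvd_index_of_normal _ ((P : Subgroup G).subgroupOf _)))
  rwa [← inf_relIndex_right, (eq_bot_iff_forall _).2 fun w hw => h.eq_one_of_scalar b1 b2 b3 b5
    (PE.coe.1 (.of_mem P.2 (mem_inf.1 hw).2)) (mem_inf.1 hw).1, relIndex_bot_left,
    Nat.card_congr (subgroupOfEquivOfLe h6).toEquiv]

end Min

universe u in
theorem not_sq_dvd (n : ℕ) : ∀ (G : Type u) [Group G] [Finite G], Nat.card G = n → ∀ χ : G → ℂ,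
    IsIrrCharacter G χ → charDegree χ + 1 < p → Bad p χ → ¬ p ^ 2 ∣ (charCenter χ).index := by
  induction n using Nat.strong_induction_on with
  | _ n ih =>
  intro G _ _ hn χ hχ hd hb hsq
  have h1 : ∀ ψ : G → ℂ, IsIrrCharacter G ψ → charDegree ψ + 1 < p → Bad p ψ →
      p ^ 2 ∣ (charCenter ψ).index → charKer ψ = ⊥ := fun ψ hψ hd ⟨u, v, hu, hv, huv⟩ hsq => by
    obtain ⟨N, _, ξ, hN, a1, a2, rfl, a3⟩ := exists_faithful hψ
    by_contra h1
    refine ih _ (hn ▸ card_quotient_lt (hN ▸ h1)) (G ⧸ N) rfl ξ a1 hd ⟨_, _,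
      hu.map (QuotientGroup.mk' N), hv.map (QuotientGroup.mk' N), by
        rwa [a1.isCharacter.charKer_comp, mem_comap, map_commutatorElement] at huv⟩ ?_
    rwa [a3, index_comap_of_surjective _ (QuotientGroup.mk'_surjective N),
      ← a1.charCenter_eq_center a2] at hsq
  have hk := h1 χ hχ hd hb hsq
  obtain ⟨u, v, hu, hv, huv⟩ := id hb
  have h2 : ∀ H : Subgroup G, H ≠ ⊤ → ∀ ψ : H → ℂ, IsIrrCharacter H ψ → charDegree ψ + 1 < p →
      Bad p ψ → ¬ p ^ 2 ∣ (charCenter ψ).index := fun H hH =>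
    ih _ (hn ▸ card_lt_of_ne_top hH) H rfl
  have h3 : ∀ M : Subgroup G, M.Normal → (∀ x, PE p x → x ∈ M) → M = ⊤ := fun M _ hM => by
    by_contra h3
    have := Fintype.ofFinite M
    obtain ⟨ψ, φ, a1, a2, a3, a4⟩ := exists_split (hχ.isCharacter.res M)
      (g := ⁅(⟨u, hM u hu⟩ : M), (⟨v, hM v hv⟩ : M)⁆) (by rwa [hχ.isCharacter.charKer_res])
    have a5 := charDegree_add a1.isCharacter a2
    rw [← a3, charDegree_res] at a5
    have a6 := h2 M h3 ψ a1 (by omega) ⟨_, _, PE.coe.1 hu, PE.coe.1 hv, a4⟩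
    have a7 := (Bad.spec a1 (by omega) a6 ⟨_, _, PE.coe.1 hu, PE.coe.1 hv, a4⟩).1
    obtain ⟨e, he⟩ := a2.exists_nat_inner a1.isCharacter
    have a8 : classInner (fun g : M => χ g) ψ = (e + 1 : ℕ) := by
      rw [a3, classInner_add_left, he, a1.inner_self]; push_cast; ring
    have a9 := clifford_degree hχ a1 (a8 ▸ Nat.cast_ne_zero.2 e.succ_ne_zero)
    rw [a8, hχ.apply_one_eq_charDegree, a1.apply_one_eq_charDegree] at a9
    norm_cast at a9
    have b1 : charDegree φ = 0 := by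
      generalize (e + 1) * (inertia M ψ).index = m at a9
      rcases m with _ | _ | m <;> [omega; omega; (nlinarith)]
    rw [a2.eq_zero_of_one (by rw [a2.apply_one_eq_charDegree, b1, Nat.cast_zero]), add_zero] at a3
    rw [← a3, show charCenter (fun g : M => χ g) = _ from
      hχ.isCharacter.charCenter_comp M.subtype] at a6
    obtain ⟨P⟩ : Nonempty (Sylow p G) := inferInstance
    have := hχ.charCenter_normal
    rw [← relIndex_mul_index (le_sup_right : _ ≤ M ⊔ charCenter χ), relIndex_sup_right] at hsq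
    exact a6 (((hp.out.coprime_iff_not_dvd.2 fun e => P.not_dvd_index (e.trans (index_dvd_of_le
      fun x hx => mem_sup_left (hM x (.of_mem P.2 hx))))).pow_left 2).dvd_of_dvd_mul_right hsq)
  have h4 : 2 ≤ charDegree χ := by
    by_contra h4
    exact huv (hχ.commutator_le_charKer_iff.2 (hχ.isCharacter.charDegree_eq_one_iff.1
      (by have := hχ.charDegree_pos; omega)) (commutator_mem_commutator trivial trivial))
  refine Min.not_sq_dvd ⟨hχ, hk, hd, ?_, h2, by_contra fun h5 => ?_⟩ h3 hb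
    (hsq.trans (index_dvd_card _))
  · have : p ≠ 4 := by rintro rfl; exact absurd hp.out (by norm_num)
    omega
  obtain ⟨z, hz, z1⟩ := CL.Small.exists_mem_orderOf_eq_prime (pCore p G) p
    (((isPGroup_pCore p G).card_eq_or_dvd).resolve_left (mt card_eq_one.1 h5))
  have z2 : z ∈ center G := mem_center_iff.2 fun g => ((h3 (centralizer (pCore p G)) inferInstance
    fun x hx w hw => by
      obtain ⟨Q, hQ⟩ := hx.isPGroup.exists_le_sylow
      exact comm_of_isPGroup_of_degree_lt hχ.isCharacter hk (by omega) Q.2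
        ((isPGroup_pCore p G).le_sylow_of_normal Q hw) (hQ (mem_zpowers x))).ge (mem_top g) z hz).symm
  obtain ⟨c, hc, z3⟩ := hχ.center_le_charCenter z2
  obtain ⟨m, -, hm⟩ := Nat.exists_mul_mod_eq_one_of_coprime (k := p) (n := charDegree χ)
    (Nat.coprime_of_lt_prime (by omega) (by omega) hp.out).symm hp.out.one_lt
  have z4 := det_pow_eq hχ z3 (z1 ▸ pow_orderOf_eq_one z) (mul_comm m _ ▸ hm)
  generalize detHom χ ^ m = μ at z4
  have z5 := hχ.hom_mul μ⁻¹
  have z6 : charDegree (fun g => μ⁻¹ g * χ g) = charDegree χ := by simp [charDegree]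
  have z7 := h1 _ z5 (z6 ▸ hd) ⟨u, v, hu, hv, by
    rwa [z5.mem_charKer, hom_apply_of_mem_commutator _ (commutator_mem_commutator trivial trivial),
      map_one, Units.val_one, one_mul, one_mul, ← hχ.mem_charKer]⟩ (by
    convert hsq using 2
    ext g
    rw [z5.mem_charCenter, hχ.mem_charCenter, z6, norm_mul, norm_hom, one_mul])
  have z8 : c ≠ 0 := by rintro rfl; simp at hc
  rw [mem_bot.1 (z7.le (z5.mem_charKer.2 (by simpa [z4, z8, inv_mul_eq_iff_eq_mul₀] using z3 1) : z ∈ _)),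
    orderOf_one] at z1
  exact hp.out.one_lt.ne z1

end CL.Lin
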