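import Cfsg.Agent.BLK.Lin7
import Cfsg.Agent.BLK.LinF

/-! There is no linear group of degree sixteen with non-normal Sylow `19`-subgroup. -/

set_option autoImplicit false
set_option linter.unusedSectionVars false
open Cfsg Subgroup CL.Char CL.D1T CL.M1 CL.D1 Finset

namespace CL.Lin

variable {G : Type*} [Group G] [Finite G] {χ N : G → ℂ} {x y g : G}

theorem neg_le_of_rat (hχ : IsCharacter G χ) {q : ℕ} (hq : q.Prime) (hg : q ∣ orderOf g) {a : ℤ}
    (ha : ∀ i, ¬ q ∣ i → χ (g ^ i) = a) : 0 ≤ (q - 1) * a + charDegree χ := by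
  classical
  have := Fintype.ofFinite (zpowers g)
  obtain ⟨n, hn⟩ := hg
  obtain ⟨m, hm⟩ := (hχ.res (zpowers g)).exists_nat_inner isCharacter_one
  have h1 := card_mul_classInner (fun g : zpowers g => χ g) fun _ => 1
  simp only [hm, map_one, mul_one] at h1
  have h2 := congrArg Complex.re (h1.trans (CL.D1T.sum_zpowers rfl χ))
  have h3 := congrArg Complex.re (sum_ite_dvd hq.pos n)
  simp only [Complex.re_sum, apply_ite Complex.re, Complex.one_re, Complex.zero_re,
    Complex.natCast_re, ← Nat.cast_mul, hn] at h2 h3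
  have h4 := sum_le_sum (s := range (q * n)) (f := fun i => (χ (g ^ i)).re)
    (g := fun i => a + (charDegree χ - a) * if q ∣ i then 1 else 0) fun i _ => by
      split_ifs with h
      · simpa using hχ.re_le _
      · simp [ha i h]
  rw [← h2, sum_add_distrib, ← mul_sum, h3, sum_const, card_range, nsmul_eq_mul] at h4
  have h5 : (0 : ℝ) < n := Nat.cast_pos.2 (Nat.pos_of_mul_pos_left (hn ▸ orderOf_pos g))
  have h6 : (0 : ℝ) ≤ (q - 1) * a + charDegree χ := le_of_mul_le_mul_left (by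
    have := (Nat.cast_nonneg _).trans h4; push_cast at this; linarith) h5
  exact_mod_cast h6

theorem E3.nineteen [Fact (Nat.Prime 19)] {b : ZMod 19} {t : ℕ} (h : E3 19 x y b t N)
    (h0 : ∀ g, 0 ≤ (N g).re) (hN : ∀ g, PE 11 g → g ≠ 1 → N g = 25) : False := by
  classical
  have := Fintype.ofFinite G
  have := h.simple
  have : Fact (Nat.Prime 11) := ⟨by norm_num⟩
  obtain ⟨-, -, θ, -, -, n3, eθ, -, -, -, ⟨h4, -⟩ | ⟨-, d3⟩⟩ := h.core
  · omega
  have hθ : Sg 19 x y b 3 t θ.1 1 := ⟨h.toEx, θ.2, eθ, by simp, by norm_num⟩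
  obtain ⟨g, hg⟩ := exists_prime_orderOf_dvd_card' (G := G) 11
    (.trans (by simp [d3]) θ.2.charDegree_dvd_card)
  have h1 : P1 11 g := ⟨hg, fun e => by
    obtain ⟨Q⟩ : Nonempty (Sylow 11 G) := inferInstance
    have := card_dvd_prod h.chr Q {25} fun g hg g1 => ⟨25, by simp, hN g (.of_mem Q.2 hg) g1⟩
    rw [h.deg] at this
    exact absurd ((Int.natCast_dvd_natCast.2 (Q.pow_dvd_card_of_pow_dvd_card e)).trans this)
      (by decide)⟩
  obtain ⟨C, hC⟩ : ∃ C, C = centralizer {g} := ⟨_, rfl⟩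
  have h2 : ∀ w : C, Commute g w := fun w => CL.Small.mem_centralizer_singleton_iff'.1 (hC.le w.2)
  have hγ := isCharacter_avg θ.2.isCharacter (zpowers g) C fun a ha w hw => by
    obtain ⟨i, rfl⟩ := ha; exact ((h2 ⟨w, hw⟩).zpow_left i :)
  have h3 : ∀ w : C, ¬ 11 ∣ orderOf w → (Nat.card (zpowers g) : ℂ)⁻¹ * ∑ a : zpowers g, θ.1 (a * w) =
      θ.1 w / 11 := fun w hw => by
    rw [h1.card, sum_eq_single 1 (fun a _ a1 => by
      obtain ⟨i, hi⟩ := mem_powers_iff_mem_zpowers.2 a.2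
      exact θ.2.eq_zero_of_defect_zero (k := 1) (by norm_num) h1.sq (by simp [d3]) (hi ▸
        h1.dvd_orderOf_mul (fun e => a1 (Subtype.ext (hi ▸ h1.pow_eq_one_iff.2 e))) (h2 w)
          (by simpa))) (by simp)]
    simp [div_eq_inv_mul]
  generalize hγ' : (fun w : C => (Nat.card (zpowers g) : ℂ)⁻¹ * ∑ a : zpowers g, θ.1 (a * w)) = γ
    at hγ
  replace h3 : ∀ w : C, ¬ 11 ∣ orderOf w → γ w = θ.1 w / 11 := hγ' ▸ h3
  have h4 : γ 1 = (2 : ℕ) := by
    rw [h3 1 (by simp), OneMemClass.coe_one, θ.2.apply_one_eq_charDegree, d3]; norm_num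
  have h5 : ∀ w : C, ¬ 11 ∣ orderOf w → w ≠ 1 → ∃ v : ℤ, |v| < 2 ∧ γ w = v ∧ θ.1 w = (11 * v : ℤ) :=
    fun w hw w1 => by
    obtain ⟨a, ha⟩ := hθ.exists_int (g := (w : G)) (by
      rw [h.center_eq, card_bot, mul_one, Nat.coprime_comm, Nat.Prime.coprime_iff_not_dvd (by norm_num)]
      intro e
      obtain ⟨z, hz, z1⟩ := CL.Small.exists_mem_orderOf_eq_prime (zpowers (w : G)) 19
        (by rwa [Nat.card_zpowers])
      obtain ⟨i, rfl⟩ := hz
      have := orderOf_dvd_natCard _ (mem_centralizer_singleton_iff.2 ((h2 w).zpow_right i))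
      rw [h.card_C z1, hg] at this
      omega)
    obtain ⟨v, rfl⟩ := dvd_of_isIntegral_div (a := a) (d := 11) (by norm_num) (by
      simpa [h3 w hw, ha] using hγ.isIntegral w)
    have := abs_lt.1 (abs_lt_deg h.center_eq n3 (by simpa) ha)
    exact ⟨v, abs_lt.2 (by omega), by rw [h3 w hw, ha]; simp, ha⟩
  have h6 : Nat.card C ∣ 33 := card_dvd_of_sylow (by norm_num) fun q hq Q => by
    by_cases e : q = 11
    · subst e
      rw [P1.card_sylow (x := ⟨g, hC.ge (mem_centralizer_singleton_iff.2 rfl)⟩) ⟨by simpa, fun e =>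
        h1.sq (e.trans (card_subgroup_dvd_card _))⟩ Q]
      norm_num
    have := card_dvd_prod hγ Q {-1} fun w hw w1 => by
      obtain ⟨k, hk⟩ := PE.of_mem Q.2 hw
      have w2 : ∀ {u : C} {n}, u ^ q ^ n = 1 → ¬ 11 ∣ orderOf u := fun hu e' => e
        ((Nat.prime_dvd_prime_iff_eq (by norm_num) hq.out).1 (Nat.Prime.dvd_of_dvd_pow (by norm_num)
          (e'.trans (orderOf_dvd_of_pow_eq_one hu)))).symm
      obtain ⟨v, v1, v2, -⟩ := h5 w (w2 hk) w1
      have v3 := (hγ.isGen.int_modEq_one hq.out hk v2 (n := 2) h4).dvd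
      have v4 : q ≠ 2 := by
        rintro rfl
        obtain ⟨u, hu⟩ := exists_prime_orderOf_dvd_card' 2 (PE.dvd (.of_mem Q.2 hw) w1
          (pow_card_eq_one' (x := w)))
        obtain ⟨v, v1, -, v2⟩ := h5 u (by omega) (by rintro rfl; simp at hu)
        obtain ⟨j, hj⟩ := exists_four_mul h.perf θ.2.isCharacter (u := u) (by
          rw [← Subgroup.coe_mul, ← sq, ← hu, pow_orderOf_eq_one, Subgroup.coe_one])
        rw [v2, θ.2.apply_one_eq_charDegree, d3] at hj
        have : (22 : ℕ) - 11 * v = 4 * j := by exact_mod_cast hj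
        have := abs_lt.1 v1
        omega
      refine ⟨-1, by simp, v2.trans (congrArg _ ?_)⟩
      have := abs_lt.1 v1
      have := hq.out.two_le
      obtain rfl | rfl | rfl : v = -1 ∨ v = 0 ∨ v = 1 := by omega
      exacts [rfl, by have := Int.le_of_dvd (by norm_num) v3; omega,
        by have := Int.le_of_dvd (by norm_num) v3; omega]
    rw [charDegree_eq_of_apply_one h4, prod_singleton] at this
    exact (Int.natCast_dvd_natCast.1 (this.trans (by norm_num)))
  have h7 := sum_sing h.toEx (f := fun g => (N g).re) (fun g c => by rw [h.chr.isClassFunction g c])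
    fun z hz g => by rw [mem_bot.1 (h.center_eq.le hz), one_mul]
  have h8 := congrArg Complex.re h.sum
  have h9 := congrArg Complex.re (card_mul_classInner N fun _ => 1)
  simp only [h.one, map_one, mul_one, Complex.re_sum, Complex.natCast_re, Complex.sub_re] at h8 h9
  rw [h8] at h7
  rw [← sum_filter_add_sum_filter_not _ fun g => 19 ∣ orderOf g] at h9
  have h10 : ∑ w with IsConj g w, (N w).re ≤ ∑ w with ¬ 19 ∣ orderOf w, (N w).re :=
    sum_le_sum_of_subset_of_nonneg (fun w hw => by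
      simp [CL.Small.orderOf_eq_of_isConj (mem_filter.1 hw).2, hg]) fun w _ _ => h0 w
  rw [sum_congr rfl (g := fun _ => 25) fun w hw => by
    rw [← h.chr.isClassFunction.eq_of_isConj (mem_filter.1 hw).2, hN g ⟨1, h1.pow_p⟩ h1.ne_one]
    simp, sum_const, ← Fintype.card_subtype, ← Nat.card_eq_fintype_card, card_isConj_eq_index,
    ← hC, nsmul_eq_mul] at h10
  have h11 : (Nat.card G : ℝ) ≤ 33 * C.index := by
    rw [← C.card_mul_index]
    exact_mod_cast Nat.mul_le_mul_right _ (Nat.le_of_dvd (by norm_num) h6)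
  have h12 : (0 : ℝ) < Nat.card G := Nat.cast_pos.2 Nat.card_pos
  norm_num [-Nat.card_eq_fintype_card] at h7
  linarith

end CL.Lin
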