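import Cfsg.Agent.BLK.LinE3
import Cfsg.Agent.BLK.D1Half
import Cfsg.Agent.INV.Def1Spec
import Cfsg.Agent.CLAS.U3Syl
import Cfsg.Agent.S0482

/-! Linear groups of degree four with order divisible by seven. -/

set_option autoImplicit false
set_option linter.unusedSectionVars false
open Cfsg Subgroup CL.Char CL.D1T CL.M1 CL.D1 Finset
open scoped MatrixGroups

namespace CL.Lin

variable {G : Type*} [Group G] [Finite G] {χ N : G → ℂ} {x y g : G}

theorem card_dvd_prod (hχ : IsCharacter G χ) (H : Subgroup G) (L : Finset ℤ)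
    (h : ∀ g ∈ H, g ≠ 1 → ∃ a ∈ L, χ g = a) : (Nat.card H : ℤ) ∣ ∏ a ∈ L, (charDegree χ - a) :=
  card_dvd_of_vanish (φ := ∏ a ∈ L, (χ - (a : ℂ) • fun _ => 1)) (prod_induction _ _
    (fun _ _ => .mul) isGen_one fun a _ => hχ.isGen.sub (isGen_one.intCast_smul a)) H
    (fun g hg h1 => by
      obtain ⟨a, ha, e⟩ := h g hg h1
      rw [Finset.prod_apply]
      exact prod_eq_zero ha (by simp [e])) (by simp [hχ.apply_one_eq_charDegree])

theorem abs_lt_deg [IsSimpleGroup G] (hZ : center G = ⊥) {χ : IrrCharacter G} (h1 : χ ≠ irrOne G)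
    (hg : g ≠ 1) {a : ℤ} (ha : χ.1 g = a) : |a| < charDegree χ.1 := by
  have h2 := (χ.2.isCharacter.norm_le g).lt_of_ne fun e => hg (mem_bot.1 (hZ ▸
    χ.2.charCenter_eq_center (χ.2.charKer_eq_bot_of_simple fun e => h1 (eq_irrOne_iff.2 e)) ▸
      χ.2.mem_charCenter.2 e))
  rw [ha, Complex.norm_intCast] at h2
  exact_mod_cast h2

theorem alt7 [IsSimpleGroup G] (hG : ¬ IsMulCommutative G) (h2 : PRankLE 2 2 G)
    (h : Nat.card G ∣ 39916800) (h35 : 35 ∣ Nat.card G) :
    Nonempty (G ≃* alternatingGroup (Fin 7)) := by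
  have h3 : ∀ {q d r : ℕ}, Odd q → 1 < q → d ∣ 3 → d * Nat.card G = q ^ 3 * r → q = 3 :=
    fun {q d r} ho h1 hd e => by
    have h4 : q ^ 3 ∣ 3 * 39916800 := (Dvd.intro _ e.symm).trans (mul_dvd_mul hd h)
    refine (by decide +kernel : ∀ q < 500, q ^ 3 ∣ 3 * 39916800 → q % 2 = 1 → 1 < q → q = 3) q
      (lt_of_pow_lt_pow_left₀ 3 (by norm_num) ((Nat.le_of_dvd (by norm_num) h4).trans_lt
        (by norm_num))) h4 (Nat.odd_iff.1 ho) h1
  have h0 : ∀ {F : Type} [Field F] [Fintype F] {q : ℕ}, Fintype.card F = q ^ 2 → G ≃* PSU 3 F q →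
      Nat.gcd 3 (q + 1) * Nat.card G = q ^ 3 * ((q ^ 2 - 1) * (q ^ 3 + 1)) := fun hF e => by
    rw [← CL.U3.card_SU3 hF, ← CL.Uni.card_center_SU hF (n := 3) (by norm_num), mul_comm,
      Nat.card_congr e.toEquiv]
    exact (card_eq_card_quotient_mul_card_subgroup _).symm
  rcases Cfsg.Agent.S0482.result hG h2 with ⟨F, _, _, ho, h5, ⟨e⟩⟩ | ⟨F, _, _, ho, ⟨e⟩⟩ |
    ⟨F, _, _, q, hF, ho, ⟨e⟩⟩ | ⟨F, _, _, hF, ⟨e⟩⟩ | e | h
  · have h4 := CL.SL.gcd_mul_card_PSL_two (F := F)
    rw [← Nat.card_congr e.toEquiv, Nat.card_eq_fintype_card (α := F)] at h4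
    have h6 := h4 ▸ mul_dvd_mul (Nat.gcd_dvd_left 2 _) h
    have h7 := h4 ▸ h35.mul_left _
    obtain ⟨r, _, n, hr, hn⟩ := FiniteField.card' F
    have h8 : ∀ {a b}, a.Prime → b.Prime → a * b = Fintype.card F → a = b := fun ha hb e => by
      rw [(Nat.prime_dvd_prime_iff_eq ha hr).1 (ha.dvd_of_dvd_pow (hn ▸ Dvd.intro _ e)),
        (Nat.prime_dvd_prime_iff_eq hb hr).1 (hb.dvd_of_dvd_pow (hn ▸ Dvd.intro_left _ e))]
    generalize Fintype.card F = q at *
    have h9 := Nat.le_of_dvd (by norm_num) h6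
    rcases (by decide +kernel : ∀ q < 500, q * (q ^ 2 - 1) ∣ 2 * 39916800 ∧ 35 ∣ q * (q ^ 2 - 1) ∧
      q % 2 = 1 → q = 15 ∨ q = 21 ∨ q = 55) q (not_le.1 fun e => by
        have := Nat.mul_le_mul e (Nat.sub_le_sub_right (Nat.pow_le_pow_left e 2) 1); omega)
        ⟨h6, h7, Nat.odd_iff.1 ho⟩ with rfl | rfl | rfl
    exacts [absurd (h8 (a := 3) (b := 5) (by norm_num) (by norm_num) rfl) (by norm_num),
      absurd (h8 (a := 3) (b := 7) (by norm_num) (by norm_num) rfl) (by norm_num),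
      absurd (h8 (a := 5) (b := 11) (by norm_num) (by norm_num) rfl) (by norm_num)]
  · have h4 := CL.SL.card_SL_mul (F := F) 3 (by norm_num)
    have h5 := CL.SL.card_center_mul_card_PSL (ι := Fin 3) (R := F)
    have h6 : 1 < Fintype.card F := Fintype.one_lt_card
    rw [CL.SL.card_center_SL, Nat.card_eq_fintype_card (α := F), ← Nat.card_congr e.toEquiv] at h5
    simp only [Fin.prod_univ_three, ← h5, Fintype.card_fin, Fin.val_zero, Fin.val_one, Fin.val_two,
      pow_zero] at h4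
    generalize Fintype.card F = q at *
    obtain rfl := h3 ho h6 (Nat.gcd_dvd_left 3 (q - 1)) (r := (q ^ 3 - 1) * (q ^ 2 - 1))
      (Nat.eq_of_mul_eq_mul_left (show 0 < q - 1 by omega) (h4.trans (by
        have := @Nat.pow_le_pow_right q h6.le
        zify [h6.le, Nat.one_le_pow _ _ (zero_lt_one.trans h6), @this 1 3 (by norm_num),
          @this 2 3 (by norm_num)]
        ring)))
    norm_num at h4
    omega
  · have h4 := h0 hF e
    obtain rfl := h3 ho (by
      have : 1 < q ^ 2 := hF ▸ Fintype.one_lt_card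
      exact lt_of_pow_lt_pow_left₀ 2 (by omega) this) (Nat.gcd_dvd_left 3 (q + 1)) h4
    norm_num at h4
    omega
  · have h4 := h0 (q := 4) hF e
    norm_num at h4
    omega
  · exact e
  · have := h.2; omega

theorem E3.seven [Fact (Nat.Prime 7)] {b : ZMod 7} {t : ℕ} (h : E3 7 x y b t N)
    (hN : ∀ u, orderOf u = 2 → ∃ k : ℤ, N u = k ^ 2) :
    Nonempty (G ≃* PSL(2, ZMod 7)) ∨ Nonempty (G ≃* alternatingGroup (Fin 7)) := by
  classical
  have := h.simple
  obtain ⟨χ₁, χ₂, θ, n1, n2, n3, -, h1, h2, h3, ⟨-, h4 | ⟨d1, d2, d3, rfl⟩⟩ | ⟨h4, -⟩⟩ := h.core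
  · obtain ⟨-, ⟨e⟩⟩ := half h.dvd h.sq (fun H hH e => by
      rcases hH.eq_bot_or_eq_top with rfl | rfl
      · simp at e
      · have := isCyclic_of_prime_card (card_top.symm.trans e)
        exact h.ncomm IsCyclic.isMulCommutative) θ.2.isCharacter
      (θ.2.isCharacter.charKer_eq_bot_iff.1
        (θ.2.charKer_eq_bot_of_simple fun e => n3 (eq_irrOne_iff.2 e))) (by omega)
    exact Or.inl ⟨(QuotientGroup.quotientBot.symm.trans
      (QuotientGroup.quotientMulEquivOfEq h.center_eq.symm)).trans e⟩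
  swap
  · omega
  have h4 := exists_int_of_unique d2 fun ψ hψ => by
    rcases h3 ψ (by omega) with rfl | rfl | rfl | e
    · simp [irrOne_coe, charDegree_const_one] at hψ
    exacts [by omega, rfl, by omega]
  have h5 : ∀ u, orderOf u = 2 → χ₁.1 u = -1 ∧ (χ₂.1 u = 2 ∨ χ₂.1 u = -2) := fun u hu => by
    obtain ⟨k, hk⟩ := hN u hu
    obtain ⟨j, hj⟩ := exists_four_mul h.perf χ₂.2.isCharacter (u := u) (by
      rw [← sq, ← hu, pow_orderOf_eq_one])
    obtain ⟨a, ha⟩ := h4 u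
    have a1 := abs_lt.1 (abs_lt_deg h.center_eq n2 (by rintro rfl; simp at hu) ha)
    have a2 := h2 u u hu hu
    rw [χ₂.2.apply_one_eq_charDegree, d2, ha] at hj
    have a3 : (6 : ℕ) - a = 4 * j := by exact_mod_cast hj
    rw [h1 u (h.not_dvd hu), ha, (by simpa using eq_sub_of_add_eq' hk : χ₁.1 u = k ^ 2 - 1)] at a2
    simp only [IsIrrCharacter.apply_one_eq_charDegree (Subtype.prop _), d1, d2, d3] at a2
    have a4 : 30 + 2 * (k ^ 2 - 1) ^ 2 - 5 * a ^ 2 = 3 * (k ^ 2 - a) ^ 2 := by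
      rw [← Int.cast_inj (α := ℂ)]; push_cast at a2 ⊢; linear_combination 30 * a2
    have a5 : k ^ 2 = 0 := by
      have : k ^ 2 ≠ 8 := fun e => by
        have := abs_lt.1 (abs_lt_of_sq_lt_sq (a := k) (b := 3) (by omega) (by norm_num))
        obtain ⟨_, _⟩ := this
        interval_cases k <;> omega
      have := sq_nonneg k
      generalize k ^ 2 = m at *
      obtain rfl | rfl : a = 2 ∨ a = -2 := by omega
      · exact (mul_eq_zero.1 (show m * (m - 8) = 0 by linarith)).resolve_right (by omega)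
      · exact (mul_eq_zero.1 (show m * (m + 16) = 0 by linarith)).resolve_right (by omega)
    refine ⟨by simpa [pow_eq_zero_iff two_ne_zero |>.1 a5] using eq_sub_of_add_eq' hk, ?_⟩
    obtain rfl | rfl : a = 2 ∨ a = -2 := by omega
    all_goals simp [ha]
  refine Or.inr (alt7 h.ncomm (fun A _ hA => ?_) ?_ (Nat.Coprime.mul_dvd_of_dvd_of_dvd (m := 5)
    (n := 7) (by norm_num) (.trans (by simp [d1]) χ₁.2.charDegree_dvd_card) h.dvd))
  · rcases eq_or_ne A ⊥ with rfl | h6
    · simp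
    obtain ⟨⟨u, hu⟩, u1⟩ := ne_bot_iff_exists_ne_one.1 h6
    have u2 := orderOf_eq_prime (hA u hu) fun e => u1 (Subtype.ext e)
    have := Fintype.ofFinite A
    obtain ⟨m, hm⟩ := (χ₂.2.isCharacter.res A).exists_nat_inner isCharacter_one
    have h7 := card_mul_classInner (fun g : A => χ₂.1 g) fun _ => 1
    rw [hm, ← add_sum_erase _ _ (mem_univ 1), sum_congr rfl (g := fun _ => χ₂.1 u) fun v hv => by
      have v2 := orderOf_eq_prime (hA v v.2) fun e => ne_of_mem_erase hv (Subtype.ext e)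
      have := h2 u v u2 v2
      rw [h1 u (h.not_dvd u2), h1 v (h.not_dvd v2), (h5 u u2).1, (h5 v v2).1] at this
      simp only [IsIrrCharacter.apply_one_eq_charDegree (Subtype.prop _), d1, d2, d3] at this
      rcases (h5 u u2).2 with e | e <;> rcases (h5 v v2).2 with e' | e' <;> rw [e, e'] at this ⊢ <;>
        first | (norm_num at this; done) | simp, sum_const, card_erase_of_mem (mem_univ _), card_univ,
      ← Nat.card_eq_fintype_card] at h7
    have h8 : 1 ≤ Nat.card A := Nat.card_pos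
    simp only [OneMemClass.coe_one, χ₂.2.apply_one_eq_charDegree, d2, map_one, mul_one,
      nsmul_eq_mul, Nat.cast_sub h8] at h7
    generalize Nat.card A = n at *
    rcases (h5 u u2).2 with e | e <;> rw [e] at h7
    · have : n * m = 2 * n + 4 := by
        rw [← Nat.cast_inj (R := ℂ)]; push_cast at h7 ⊢; linear_combination h7
      exact Nat.le_of_dvd (by norm_num) ((Nat.dvd_add_right (dvd_mul_left n 2)).1 ⟨m, this.symm⟩)
    · have : n * m + 2 * n = 8 := by
        rw [← Nat.cast_inj (R := ℂ)]; push_cast at h7 ⊢; linear_combination h7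
      omega
  · have := card_dvd_prod χ₂.2.isCharacter ⊤ (Icc (-5) 5) fun g _ hg => by
      obtain ⟨a, ha⟩ := h4 g
      have := abs_lt.1 (abs_lt_deg h.center_eq n2 hg ha)
      exact ⟨a, mem_Icc.2 (by omega), ha⟩
    rw [card_top, d2, show ∏ a ∈ Icc (-5 : ℤ) 5, ((6 : ℕ) - a) = (39916800 : ℕ) by decide] at this
    exact_mod_cast this

end CL.Lin
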