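import Cfsg.Agent.BLK.M1Exc
import Cfsg.Agent.BLK.D1Feit

/-! Faithful characters of degree `< p - 1` of groups with a Sylow subgroup of order `p`. -/

set_option autoImplicit false
set_option linter.unusedSectionVars false
open Cfsg Module Finset Subgroup CL.D1T CL.Blk CL.Char Polynomial
open scoped MatrixGroups

namespace CL.M1

variable {G : Type*} [Group G] {p : ℕ} [hp : Fact p.Prime] [Finite G] {x y : G} {b : ZMod p}
  {e t : ℕ} {ε : AddChar (ZMod p) ℂ} {ζ θ ω : G → ℂ} {s : ℂ} {M : Ideal AlgInt}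

theorem isConj_iff' (h : P1 p x) {i j : ZMod p} (hi : i ≠ 0) :
    IsConj (x ^ i.val) (x ^ j.val) ↔ j / i ∈ expA p x := by
  rw [mem_expA]
  refine ⟨fun e => ?_, fun e => ?_⟩
  · have := e.pow (i⁻¹).val
    rwa [← h.pow_val_mul, ← h.pow_val_mul, mul_inv_cancel₀ hi, ZMod.val_one, pow_one,
      ← div_eq_mul_inv] at this
  · have := e.pow i.val
    rwa [← h.pow_val_mul, div_mul_cancel₀ _ hi] at this

theorem card_cls (h : P1 p x) : Nat.card {c : ConjClasses G // ∃ g : G, ConjClasses.mk g = c ∧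
    orderOf g = p} * #(expA p x) + 1 = p := by
  classical
  have := Fintype.ofFinite {c : ConjClasses G // ∃ g : G, ConjClasses.mk g = c ∧ orderOf g = p}
  have h1 := card_eq_sum_card_fiberwise (f := fun j : ZMod p => ConjClasses.mk (x ^ j.val))
    (s := univ.erase 0) (t := univ.map (Function.Embedding.subtype
      fun c : ConjClasses G => ∃ g : G, ConjClasses.mk g = c ∧ orderOf g = p)) fun j hj => by
    simpa using ⟨_, rfl, h.orderOf_pow (P1.not_dvd_val (ne_of_mem_erase hj))⟩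
  rw [sum_map, sum_congr rfl (g := fun _ => #(expA p x)), sum_const, card_univ, smul_eq_mul,
    ← Nat.card_eq_fintype_card] at h1
  · rw [← h1, card_erase_zero]
  rintro ⟨_, g, rfl, hg⟩ -
  obtain ⟨c, j, hj, e⟩ := h.exists_conj_pow hg
  have h2 : (j : ZMod p) ≠ 0 := by rwa [Ne, ZMod.natCast_eq_zero_iff]
  have h3 : ConjClasses.mk g = ConjClasses.mk (x ^ (j : ZMod p).val) :=
    ConjClasses.mk_eq_mk_iff_isConj.2 (isConj_iff.2 ⟨c⁻¹, by rw [inv_inv, e, h.pow_val_cast]⟩)
  refine card_nbij' (· / j) (· * j) (fun i hi => ?_) (fun a ha => ?_) (fun i _ => by simp [h2])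
    fun i _ => by simp [h2]
  · exact (isConj_iff' h h2).1 (ConjClasses.mk_eq_mk_iff_isConj.1
      (h3.symm.trans (mem_filter.1 hi).2.symm))
  · exact mem_filter.2 ⟨by simp [h2, h.ne_zero_of_mem ha], (h3.trans
      (ConjClasses.mk_eq_mk_iff_isConj.2 ((isConj_iff' h h2).2 (by simpa [h2] using ha)))).symm⟩

theorem red_pow_eq_zero (h : P1 p x) (hM : IsPModular p M) {n : Type} [Fintype n] [DecidableEq n]
    {σ : G →* Matrix n n (V M)} {f : ℂ}
    (hσ : ∀ j : ZMod p, ((σ (x ^ j.val)).trace : ℂ) = f * per x ε j) :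
    ((res M).mapMatrix (σ x) - 1) ^ #(expA p x) = 0 := by
  have h1 : ∀ a, ε a ^ p = 1 := fun a => by simp [← AddChar.map_nsmul_eq_pow]
  have hp0 : (p : ℂ) ≠ 0 := Nat.cast_ne_zero.2 hp.out.ne_zero
  obtain ⟨q, hq⟩ : ∃ q : (V M)[X], q = ∏ a ∈ expA p x,
    (X - C ⟨ε a, mem_V_of_pow_eq_one hp.out.ne_zero (h1 a)⟩) := ⟨_, rfl⟩
  have h2 : aeval (σ x) q = 0 := lin_injective (inc M) Subtype.val_injective (by
    rw [map_aeval_eq_aeval_map (φ := inc M) (RingHom.ext fun c => by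
      simp [Algebra.algebraMap_eq_smul_one, lin_smul]), map_zero]
    by_contra h3
    obtain ⟨v, hv⟩ := Function.ne_iff.1 (DFunLike.coe_injective.ne h3)
    have hY : lin (inc M) (σ x) ^ p = 1 := by rw [← map_pow, ← map_pow, h.pow_p, map_one, map_one]
    obtain ⟨w, -, w1, c, w2⟩ := exists_weight hp0 hY (S := ⊤) (S' := LinearMap.ker _) (by simp)
      trivial hv
    rw [LinearMap.mem_ker, End.aeval_apply_of_mem_apply_eq_smul w2, smul_eq_zero, not_or] at w1
    have hc := pow_eq_one_of_apply hY w2 w1.2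
    have hc0 : c ≠ 0 := fun e => by simp [e, hp.out.ne_zero] at hc
    have h4 := trace_idem (pr_idem (inv_mul_cancel₀ hp0) (smul_pow_eq_one hY hc))
    rw [pr, map_smul, map_sum, sum_congr rfl (g := fun i => f * ∑ a ∈ expA p x, (c⁻¹ * ε a) ^ i)
      fun i _ => by
        rw [_root_.smul_pow, map_smul, ← map_pow, trace_lin, ← map_pow, ← h.pow_val_cast]
        simp only [ValuationSubring.coe_subtype, hσ, per, mul_pow, ← mul_sum,
          ← AddChar.map_nsmul_eq_pow, nsmul_eq_mul, mul_comm (i : ZMod p), smul_eq_mul]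
        ring, ← mul_sum, sum_comm, sum_eq_zero fun a ha => by
      simpa using (geom_one (m := 1) (by rw [mul_pow, inv_pow, hc, h1]; simp) fun e => w1.1 (by
        rw [hq, Polynomial.map_prod, eval_prod]
        exact prod_eq_zero ha (by simp [(inv_mul_eq_one₀ hc0).1 e]))).1, mul_zero, smul_zero,
      eq_comm, Nat.cast_eq_zero, Submodule.finrank_eq_zero, LinearMap.range_eq_bot] at h4
    exact w1.2 ((prE_of_eq hp0 hc0 w2).symm.trans (LinearMap.congr_fun h4 w)))
  have h3 := map_aeval_eq_aeval_map (φ := res M) (ψ := (res M).mapMatrix) (RingHom.ext fun c => by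
    ext i j; simp [Matrix.algebraMap_matrix_apply, apply_ite (res M)]) q (σ x)
  rw [h2, map_zero, hq, Polynomial.map_prod, prod_congr rfl (g := fun _ => X - 1) fun a _ => by
    simp [← red_coe, red_eq_one_of_pow_p_pow hM (k := 1) (by rw [pow_one, h1 a])], prod_const] at h3
  simpa using h3.symm

theorem psl_of_pgl (h : PZ p x) (hn : ¬ (zpowers x).Normal) (hζ : IsCharacter G ζ)
    (hf : ∀ g, ζ g = ζ 1 → g = 1) (hd : charDegree ζ + 1 < p) {F : Type*} [Field F] [CharP F p]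
    [IsAlgClosed F] {π : G →* PGL(2, F)} (hπ : π x ≠ 1) (h5 : 5 ≤ p) (he : #(expA p x) + 1 < p) :
    p ≤ 2 * #(expA p x) + 1 ∧ Nonempty (G ⧸ center G ≃* PSL(2, ZMod p)) := by
  obtain ⟨hK, hq⟩ := h.not_dvd_ker hπ
  have hc := fun k => h.commute_of_normal hζ hf hd π.ker hK (k := k)
  obtain ⟨h1, ⟨e⟩⟩ := (h.of_pgl hπ hc hn h5).resolve_left (by omega)
  refine ⟨h1, ⟨(QuotientGroup.quotientMulEquivOfEq (le_antisymm ?_ fun k hk =>
    h.mem_center_of_reg (hc k hk) fun e => hK (e.trans (π.ker.orderOf_dvd_natCard hk)))).trans e⟩⟩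
  have := Matrix.ProjectiveSpecialLinearGroup.rank_two_simple (F := ZMod p) (by simp; omega)
  have := e.isSimpleGroup
  rw [← QuotientGroup.ker_mk' π.ker, ← Subgroup.map_eq_bot_iff]
  refine ((normal_of_characteristic _).map _
    (QuotientGroup.mk'_surjective _)).eq_bot_or_eq_top.resolve_right fun e1 => ?_
  obtain ⟨z, hz, e2⟩ := e1.ge (mem_top (x : G ⧸ π.ker))
  exact h.not_dvd_of_center hz (hq.ord ▸ e2 ▸ orderOf_map_dvd _ z)

theorem main (h : P1 p x) (hn : ¬ (zpowers x).Normal) (h7 : 7 < p) (hζ : IsIrrCharacter G ζ)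
    (hf : ∀ g, ζ g = ζ 1 → g = 1) (hd : charDegree ζ + 1 < p) :
    (Nonempty (G ⧸ center G ≃* PSL(2, ZMod p)) ∧ (2 * charDegree ζ = p + 1 ∨
      2 * charDegree ζ = p - 1) ∧ 2 * #(expA p x) + 1 = p) ∨ ∃ y b e t, Ex p x y b e t ∧ 3 ≤ t ∧
        charDegree ζ + e = p ∧ Exc p x ζ (-1) := by
  obtain ⟨M, hM⟩ := CL.BS.exists_isPModular p hp.out
  have := charP_F hM
  have := isAlgClosed_F (M := M)
  have := Fintype.ofFinite G
  obtain ⟨h1, ε, hε, ⟨f, h2, h3⟩ | ⟨h2, h3, h4⟩⟩ :=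
    h.exc_small hζ (hζ.isCharacter.charKer_eq_bot_iff.2 hf) hd
  · have hnn : ∀ H : Subgroup G, H.Normal → Nat.card H ≠ p := fun H hH e => hn (by
      obtain ⟨P, hP⟩ := h.exists_sylow
      have h4 : IsPGroup p H := .of_card (e.trans (pow_one p).symm)
      rwa [← eq_of_le_of_card_ge (H := H) (K := zpowers x) (hP ▸ h4.le_sylow_of_normal P)
        (by rw [h.card, e])])
    obtain ⟨σ, hσ⟩ := exists_matrix_rep (V M) hζ.isCharacter
    obtain ⟨π, hπ⟩ := h.exists_pgl_of_pow ((res M).mapMatrix.toMonoidHom.comp σ)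
      (fun e => hnn _ (MonoidHom.normal_ker ((res M).mapMatrix.toMonoidHom.comp σ)) (by
        obtain ⟨P, hP⟩ := h.exists_sylow
        rw [P.3 (Q := MonoidHom.ker _) (fun g => ?_) (hP ▸ zpowers_le.2 e), h.card_sylow]
        obtain ⟨u, y, e1, hc, ⟨k, hu⟩, hy⟩ := exists_isPPart hp.out g
        have h1 : y ^ p ^ k = g ^ p ^ k := by
          rw [← e1, hc.mul_pow, ← hu, pow_orderOf_eq_one, one_mul]
        refine ⟨k, h1 ▸ Subtype.ext (hf _ ?_)⟩
        rw [← hσ, ← hσ, eq_one_of_red hM σ (fun e => hy (e.trans ((orderOf_coe (y ^ p ^ k)).dvd.trans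
          (orderOf_pow_dvd _)))) (y ^ p ^ k).2, map_one]))
      (red_pow_eq_zero h hM fun j => (hσ _).trans (h3 j)) h1 h7.le
    have h4 := h.of_pgl hπ (fun k => h.commute_of_normal hζ.isCharacter hf hd π.ker
      (h.not_dvd_ker hπ).1) hn (by omega)
    have h5 : f ≤ 1 := by
      by_contra! h5
      have := Nat.mul_le_mul_right #(expA p x) h5
      omega
    have h6 := Nat.mul_le_mul_right #(expA p x) h5
    obtain ⟨h7, h8⟩ := half h.dvd h.sq hnn hζ.isCharacter hf (by omega)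
    exact Or.inl ⟨h8, by omega, by omega⟩
  obtain ⟨y, b, t, h5⟩ := exists_ex h3
  have h6 := h5.te
  rcases (show t ≤ 1 ∨ t = 2 ∨ 3 ≤ t by omega) with h8 | rfl | h8
  · have := Nat.mul_le_mul_right #(expA p x) h8
    omega
  · obtain ⟨σ, v, μ, B⟩ := h5.exists_blk1 hM hζ h2
    have : #(expA p x) ≠ 4 := fun e => by
      rw [e] at h6; exact absurd (h6 ▸ hp.out) (by norm_num)
    obtain ⟨π, hπ⟩ := h5.exists_pgl_two hM h2 rfl (by omega) B hζ
    exact Or.inl ⟨(psl_of_pgl h3 hn hζ.isCharacter hf hd hπ (by omega) (by omega)).2, by omega, h6⟩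
  · exact Or.inr ⟨y, b, _, t, h5, h8, h2, ε, hε, fun j hj => by rw [h4 j hj, neg_one_mul]; rfl⟩

theorem coprime_two_add {N j : ℕ} (hN : N ≠ 0) (hj : Odd j) :
    (2 + j * ordCompl[2] N).Coprime N := by
  have h1 := Nat.coprime_ordCompl Nat.prime_two hN
  conv_rhs => rw [← Nat.ordProj_mul_ordCompl_eq_self N 2]
  refine .mul_right (.pow_right _ (Nat.coprime_two_right.2 (even_two.add_odd
    (hj.mul (Nat.coprime_two_left.1 h1))))) ?_
  rwa [Nat.coprime_add_mul_right_left]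

theorem Exc.pow (h : P1 p x) (hθ : Exc p x θ s) {k : ℕ} (hk : k.Coprime (Nat.card G)) :
    Exc p x (fun g => θ (g ^ k)) s :=
  hθ.of_mul (u := k) (fun e => hp.out.one_lt.ne' (Nat.eq_one_of_dvd_coprimes hk
    ((ZMod.natCast_eq_zero_iff _ _).1 e) h.dvd)) fun j => by
    rw [h.pow_val_mul, h.pow_val_cast, pow_right_comm]

theorem Cen.pow' (h : Cen θ ω) (k : ℕ) : Cen (fun g => θ (g ^ k)) fun g => ω g ^ k := fun z hz g => by
  simp only [(show Commute z g from (mem_center_iff.1 hz g).symm).mul_pow, h.pow hz]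

theorem Cen.of_inner [Fintype G] {φ : G → ℂ} (h : Cen φ ω) (hθ : IsIrrCharacter G θ)
    (h0 : classInner φ θ ≠ 0) : Cen θ ω := fun z hz g => by
  obtain ⟨ω', h1⟩ := exists_cen hθ
  have h2 := h1.pow_eq_one hθ.one_ne_zero hz (pow_orderOf_eq_one z)
  rw [classInner_def] at h0
  have h3 := Equiv.sum_comp (Equiv.mulLeft z) fun g => φ g * (starRingEnd ℂ) (θ g)
  simp only [Equiv.coe_mulLeft, h z hz, h1 z hz, map_mul, conj_eq_inv (orderOf_pos z).ne' h2,
    mul_mul_mul_comm (ω z) _ (ω' z)⁻¹, ← mul_sum, mul_eq_right₀ (right_ne_zero_of_mul h0)] at h3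
  rw [h1 z hz, (mul_inv_eq_one₀ fun e => by simp [e, (orderOf_pos z).ne'] at h2).1 h3]

/-- An irreducible character which is not constant on the generators of `⟨x⟩` is exceptional. -/
theorem Ex.exc_or (h : Ex p x y b e t) (ht : 2 ≤ t) (hθ : IsIrrCharacter G θ) :
    (∃ a : ℤ, ∀ j : ZMod p, j ≠ 0 → θ (x ^ j.val) = a) ∨ Exc p x θ 1 ∨ Exc p x θ (-1) := by
  classical
  have := Fintype.ofFinite G
  by_cases h1 : p ∣ charDegree θ
  · exact Or.inl ⟨0, fun j hj => (hθ.eq_zero_of_defect_zero hp.out (k := 1) h.sq (by simpa)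
      (h.orderOf_pow (P1.not_dvd_val hj)).symm.dvd).trans Int.cast_zero.symm⟩
  refine (h.toP1.exc_or hθ h1).imp (fun ⟨a, ha⟩ => ⟨a, fun j hj => ha _ (npow_mem_zpowers x _)
    fun e => P1.not_dvd_val hj (h.pow_eq_one_iff.1 e)⟩) fun ⟨ε, s, f, β, a1, a2, a3, a4, _, a5⟩ => ?_
  have h2 : Exc p x θ (s * f) := ⟨ε, a1, fun j hj => by
    simpa [a4, per, ← sum_mul, mul_assoc, mul_comm (f : ℂ)] using
      a5 j hj 1 (Commute.one_right x) (by simpa using hp.out.one_lt.ne')⟩
  obtain ⟨ω, c⟩ := exists_cen hθ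
  have h3 := h.sum_sing' (h.cardA ▸ h.card_normalizer)
    (F := fun g => if p ∣ orderOf g then θ g * θ g⁻¹ else 0)
    (fun g c => by
      simp only [orderOf_conj', hθ.isClassFunction g c, hθ.isClassFunction.inv g c])
    (fun g hg => if_neg hg) fun z hz g => by
      simpa only [h.dvd_orderOf_center_mul_iff hz, Pi.one_apply, one_mul] using
        congrArg (fun a => if p ∣ orderOf g then a else 0) (c.inv c z hz g)
  rw [sum_split (g := fun j => θ (x ^ j.val) * θ (x ^ (-1 * j).val)) fun j hj => by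
    rw [h.orderOf_pow (P1.not_dvd_val hj), if_pos dvd_rfl, h.pow_val_mul, h.pow_val_neg_one,
      inv_pow], h2.sum_neg, h.cardA, ← sum_filter] at h3
  have h4 : (s : ℂ) ^ 2 = 1 := by rcases a2 with rfl | rfl <;> simp
  have hG : (0 : ℝ) < Nat.card G := Nat.cast_pos.2 Nat.card_pos
  have h5 : (e * p * ∑ g with p ∣ orderOf g, ‖θ g‖ ^ 2 : ℝ) =
      Nat.card G * (f ^ 2 * (p * e - e ^ 2)) := by
    simp only [hθ.isCharacter.apply_inv, Complex.mul_conj', mul_pow, h4, ZMod.val_zero, pow_zero,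
      orderOf_one, hp.out.not_dvd_one, if_false, mul_zero] at h3
    rw [← Complex.ofReal_inj]
    push_cast
    linear_combination h3
  have h6 := mul_le_mul_of_nonneg_left ((sum_le_sum_of_subset_of_nonneg (filter_subset
    (fun g => p ∣ orderOf g) univ) fun _ _ _ => sq_nonneg _).trans_eq hθ.sum_norm_sq)
    (show (0 : ℝ) ≤ e * p by positivity)
  rw [h5, mul_comm, mul_le_mul_iff_left₀ hG] at h6
  have h7 : f ^ 2 * (p * e) ≤ e * p + f ^ 2 * e ^ 2 := by
    rw [← Nat.cast_le (α := ℝ)]; push_cast; linarith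
  obtain rfl : f = 1 := by
    by_contra h8
    have h9 : 2 ^ 2 ≤ f ^ 2 := Nat.pow_le_pow_left (by omega) 2
    have h10 : f ^ 2 * p ≤ p + f ^ 2 * e := Nat.le_of_mul_le_mul_left (by nlinarith) h.e_pos
    have h11 := Nat.mul_le_mul_right e ht
    have h12 := h.te
    have h13 := Nat.mul_le_mul_right (p - e) h9
    rw [Nat.mul_sub (f ^ 2)] at h13
    omega
  rcases a2 with rfl | rfl <;> simp at h2 <;> simp [h2]

theorem Ex.apply_eq_one (h : Ex p x y b e t) (he : e ≠ 1) (lam : G →* ℂˣ) : lam x = 1 := by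
  by_contra h1
  have h2 : orderOf (lam x) = p := orderOf_eq_prime (by rw [← map_pow, h.pow_p, map_one]) h1
  have h3 := congrArg lam h.conj
  rw [map_mul, map_mul, map_inv, mul_inv_cancel_comm, map_pow, eq_comm] at h3
  have h4 := pow_eq_pow_iff_modEq.1 (h3.trans (pow_one _).symm)
  rw [h2, ← ZMod.natCast_eq_natCast_iff, ZMod.natCast_zmod_val, Nat.cast_one] at h4
  exact he (by rw [← h.ordb, h4, orderOf_one])

/-- McIntosh's inequality. -/
theorem Ex.add_three_le (h : Ex p x y b e t) (hn : ¬ (zpowers x).Normal) (h7 : 7 < p)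
    (hζ : IsIrrCharacter G ζ) (hf : ∀ g, ζ g = ζ 1 → g = 1) (hd : charDegree ζ + e = p)
    (eζ : Exc p x ζ (-1)) (ht : 3 ≤ t) (he : 2 ≤ e) : e + 3 ≤ t := by
  classical
  have := Fintype.ofFinite G
  have hte := h.te
  have hp2 : p ≠ 2 := by omega
  have hpo := hp.out.odd_of_ne_two hp2
  obtain ⟨ω, c1⟩ := exists_cen hζ
  rcases e.even_or_odd with h1 | h1
  · have h2 : Odd (charDegree ζ) := ((Nat.odd_add.1 (hd ▸ hpo)).2 h1)
    have h3 := coprime_two_add (Nat.card_pos (α := G)).ne' h2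
    generalize ordCompl[2] (Nat.card G) = m at h3
    have h4 := h.lemA hζ rfl hd eζ c1 ((hζ.pow_coprime h3).hom_mul (detHom ζ ^ m)⁻¹)
      (fun z hz g => ?_) ((eζ.pow h.toP1 h3).of_mul one_ne_zero fun j => by
        simp [h.apply_eq_one (by omega) (detHom ζ)]) ht
    · obtain rfl : e = 2 := by omega
      have : t ≠ 4 := by rintro rfl; exact absurd (hte ▸ hp.out) (by norm_num)
      omega
    have h5 := c1.pow_eq_one hζ.one_ne_zero hz (pow_orderOf_eq_one z)
    have h6 := hζ.isCharacter.detChar_of_scalar hζ.apply_one_eq_charDegree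
      (Complex.norm_eq_one_of_pow_eq_one h5 (orderOf_pos z).ne') (by simpa using c1 z hz 1)
    have h7 : ω z ≠ 0 := fun e => by simp [e, (orderOf_pos z).ne'] at h5
    have h8 := c1.pow' (2 + charDegree ζ * m) z hz g
    simp only [h8, map_mul, MonoidHom.inv_apply, MonoidHom.pow_apply, Units.val_mul,
      Units.val_inv_eq_inv_val, Units.val_pow_eq_pow_val, detHom_apply, h6, pow_add (ω z), ← pow_mul]
    field_simp
  have h2 := hζ.isCharacter.mul hζ.isCharacter
  obtain ⟨θ, hθ, h3, h4⟩ : ∃ θ, IsIrrCharacter G θ ∧ classInner (fun g => ζ g * ζ g) θ ≠ 0 ∧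
      (Exc p x θ 1 ∨ Exc p x θ (-1)) := by
    by_contra! h3
    choose! a ha using fun (χ : IrrCharacter G) (h4 : classInner (fun g => ζ g * ζ g) χ.1 ≠ 0) =>
      (h.exc_or (by omega) χ.2).resolve_right (not_or.2 (h3 _ χ.2 h4))
    choose k hk using fun χ : IrrCharacter G => (isCharacter_iff_inner.1 h2).2 χ.1 χ.2
    have h4 := eζ.sum_sq h h1 hp2
    rw [sum_split (g := fun _ => ((∑ χ, k χ * a χ : ℤ) : ℂ)) fun j hj => by
      rw [sq, show ζ _ * ζ _ = _ from h2.isClassFunction.apply_eq_sum (x ^ j.val)]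
      push_cast
      refine sum_congr rfl fun χ _ => ?_
      by_cases h5 : classInner (fun g => ζ g * ζ g) χ.1 = 0
      · rw [← hk]; exact (mul_eq_zero_of_left h5 _).trans (mul_eq_zero_of_left h5 _).symm
      · rw [ha χ h5 j hj, hk]] at h4
    generalize ∑ χ, (k χ : ℤ) * a χ = κ at h4
    have h5 : (t : ℤ) * κ = -e := by
      rw [← Int.cast_inj (α := ℂ)]
      apply mul_left_cancel₀ (Nat.cast_ne_zero.2 h.e_pos.ne' : (e : ℂ) ≠ 0)
      have := congrArg (Nat.cast : ℕ → ℂ) hte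
      simp only [sum_const, card_univ, ZMod.card, nsmul_eq_mul, ZMod.val_zero, pow_zero] at h4
      push_cast at this ⊢
      linear_combination h4 + κ * this
    have h6 : Even t := by
      by_contra h6
      exact (Nat.not_even_iff_odd.2 hpo) (hte ▸ ((Nat.not_even_iff_odd.1 h6).mul h1).add_one)
    exact (Int.not_even_iff_odd.2 (h1.natCast (R := ℤ)).neg) (h5 ▸ (h6.natCast.mul_right κ))
  have c3 := (c1.mul c1).of_inner hθ h3
  have h5 : 3 ≤ e := by obtain ⟨k, rfl⟩ := h1; omega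
  rcases h4 with h4 | h4
  · refine h.lemB hζ rfl hd eζ c1 hθ c3 h4 ht h1 h5 fun h6 => ?_
    obtain ⟨M, hM⟩ := CL.BS.exists_isPModular p hp.out
    have := charP_F hM
    have := isAlgClosed_F (M := M)
    have h8 := Nat.mul_le_mul_right e ht
    obtain ⟨π, hπ⟩ := h.exists_pgl_small hM hθ (by omega) (by omega)
    have := (psl_of_pgl h.toPZ hn hζ.isCharacter hf (by omega) hπ (by omega)
      (by rw [h.cardA]; omega)).1
    rw [h.cardA] at this
    omega
  · exact absurd (h.lemA hζ rfl hd eζ c1 hθ c3 h4 ht) (by omega)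

end CL.M1
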