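import Cfsg.Agent.BLK.LinEig
import Cfsg.Agent.BLK.M1Main
import Cfsg.Agent.CHAR.FTSylow

/-! Linear groups of degree `< p - 1` whose central quotient has order prime to `p ^ 2`. -/

set_option autoImplicit false
set_option linter.unusedSectionVars false
open Cfsg Subgroup CL.Char CL.D1T CL.M1 CL.Blk
open scoped commutatorElement MatrixGroups

namespace CL.Lin

variable {G : Type*} [Group G] {p : ℕ} {ζ ψ : G → ℂ} {x : G}

/-- `p`-elements. -/
def PE (p : ℕ) {M : Type*} [Monoid M] (g : M) : Prop := ∃ k, g ^ p ^ k = 1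

/-- The image of the group does not have a normal abelian Sylow `p`-subgroup. -/
def Bad (p : ℕ) (ψ : G → ℂ) : Prop := ∃ u v : G, PE p u ∧ PE p v ∧ ⁅u, v⁆ ∉ charKer ψ

theorem PE.map {M N : Type*} [Monoid M] [Monoid N] (f : M →* N) {g : M} (h : PE p g) :
    PE p (f g) := h.imp fun k hk => by rw [← map_pow, hk, map_one]

theorem PE.coe {H : Subgroup G} {g : H} : PE p (g : G) ↔ PE p g :=
  ⟨.imp fun _ hk => Subtype.ext hk, .map H.subtype⟩

theorem PE.conj (h : PE p x) (g : G) : PE p (g * x * g⁻¹) := h.map (MulAut.conj g).toMonoidHom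

theorem PE.of_mem {P : Subgroup G} (hP : IsPGroup p P) (hx : x ∈ P) : PE p x :=
  PE.coe.2 (hP ⟨x, hx⟩)

variable [Finite G] [hp : Fact p.Prime]

theorem PE.orderOf (h : PE p x) : ∃ k, orderOf x = p ^ k := by
  obtain ⟨k, hk⟩ := h
  obtain ⟨i, -, hi⟩ := (Nat.dvd_prime_pow hp.out).1 (orderOf_dvd_of_pow_eq_one hk)
  exact ⟨i, hi⟩

theorem PE.isPGroup (h : PE p x) : IsPGroup p (zpowers x) := isPGroup_zpowers_of_pElt h.orderOf

theorem exists_faithful (hψ : IsIrrCharacter G ψ) : ∃ (N : Subgroup G) (_ : N.Normal)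
    (χ : G ⧸ N → ℂ), N = charKer ψ ∧ IsIrrCharacter _ χ ∧ charKer χ = ⊥ ∧
      (ψ = fun g => χ (QuotientGroup.mk' N g)) ∧
      charCenter ψ = (center _).comap (QuotientGroup.mk' N) := by
  have := hψ.charKer_normal
  obtain ⟨χ, h1, h2⟩ := hψ.exists_quot (charKer ψ) fun n => apply_eq_of_mem_charKer
  have h3 : charKer χ = ⊥ := h1.isCharacter.charKer_eq_bot_iff.2 fun g hg => by
    obtain ⟨g, rfl⟩ := QuotientGroup.mk_surjective g
    exact (QuotientGroup.eq_one_iff g).2 (hψ.mem_charKer.2 (by rw [h2]; exact hg))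
  exact ⟨_, this, χ, rfl, h1, h3, h2, (congrArg charCenter h2).trans
    (h1.charCenter_eq_center h3 ▸ h1.isCharacter.charCenter_comp (QuotientGroup.mk' _))⟩

theorem two_le (hn : ¬ (zpowers x).Normal) (hζ : IsIrrCharacter G ζ)
    (hk : charKer ζ = ⊥) : 2 ≤ charDegree ζ := by
  by_contra h1
  have h2 := hζ.commutator_le_charKer_iff.2 (hζ.isCharacter.charDegree_eq_one_iff.1
    (by have := hζ.charDegree_pos; omega))
  exact hn (Normal.of_commutator_le _ (h2.trans (hk ▸ bot_le)))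

theorem main' (h : P1 p x) (hn : ¬ (zpowers x).Normal) (hζ : IsIrrCharacter G ζ)
    (hk : charKer ζ = ⊥) (hd : charDegree ζ + 1 < p) : 2 ≤ (expA p x).card ∧
    2 * (expA p x).card + 1 ≤ p ∧ ∃ ε : AddChar (ZMod p) ℂ, ε.IsPrimitive ∧
      ((2 * charDegree ζ + 1 = p ∧ charDegree ζ = (expA p x).card ∧
        Nonempty (G ⧸ center G ≃* PSL(2, ZMod p)) ∧ ∀ j : ZMod p, ζ (x ^ j.val) = per x ε j) ∨
      (charDegree ζ + (expA p x).card = p ∧ PZ p x ∧
        ∀ j : ZMod p, j ≠ 0 → ζ (x ^ j.val) = -1 * per x ε j)) := by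
  have hf := hζ.isCharacter.charKer_eq_bot_iff.1 hk
  obtain ⟨h1, ε, hε, ⟨f, h2, h3⟩ | ⟨h2, h3, h4⟩⟩ := h.exc_small hζ hk hd
  swap
  · exact ⟨by omega, h1, ε, hε, Or.inr ⟨h2, h3, fun j hj => by rw [h4 j hj, neg_one_mul]; rfl⟩⟩
  have h0 := hζ.charDegree_pos
  have hA : 2 ≤ (expA p x).card := by
    by_contra hA
    obtain ⟨a, ha⟩ := Finset.card_eq_one.1 (show (expA p x).card = 1 by
      have := Finset.card_pos.2 ⟨_, one_mem_expA (p := p) x⟩; omega)
    have h4 := h3 1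
    rw [ha, Finset.card_singleton, mul_one] at h2
    rw [ha, ZMod.val_one, pow_one, Finset.sum_singleton] at h4
    have h5 : x ∈ center G := hζ.charCenter_eq_center hk ▸ hζ.mem_charCenter.2 (by
      rw [h4, norm_mul, AddChar.norm_apply, h2]; simp)
    exact hn ⟨fun a ha g => by
      rwa [mem_center_iff.1 (zpowers_le.2 h5 ha) g, mul_inv_cancel_right]⟩
  have hnn : ∀ H : Subgroup G, H.Normal → Nat.card H ≠ p := fun H hH e => hn (by
    obtain ⟨P, hP⟩ := h.exists_sylow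
    have h4 : IsPGroup p H := .of_card (e.trans (pow_one p).symm)
    rwa [← eq_of_le_of_card_ge (H := H) (K := zpowers x) (hP ▸ h4.le_sylow_of_normal P)
      (by rw [h.card, e])])
  have h5 : f ≤ 1 := by
    by_contra! h5
    have h6 := Nat.mul_le_mul_right (expA p x).card h5
    have h7 : 7 ≤ p := by
      have : p ≠ 6 := by rintro rfl; exact absurd hp.out (by norm_num)
      omega
    obtain ⟨M, hM⟩ := CL.BS.exists_isPModular p hp.out
    have := charP_F hM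
    have := isAlgClosed_F (M := M)
    obtain ⟨σ, hσ⟩ := exists_matrix_rep (V M) hζ.isCharacter
    obtain ⟨π, hπ⟩ := h.exists_pgl_of_pow ((res M).mapMatrix.toMonoidHom.comp σ)
      (fun e => hnn _ (MonoidHom.normal_ker ((res M).mapMatrix.toMonoidHom.comp σ)) (by
        obtain ⟨P, hP⟩ := h.exists_sylow
        rw [P.3 (Q := MonoidHom.ker _) (fun g => ?_) (hP ▸ zpowers_le.2 e), h.card_sylow]
        obtain ⟨u, y, e1, hc, ⟨k, hu⟩, hy⟩ := exists_isPPart hp.out g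
        have h1 : y ^ p ^ k = g ^ p ^ k := by
          rw [← e1, hc.mul_pow, ← hu, pow_orderOf_eq_one, one_mul]
        refine ⟨k, h1 ▸ Subtype.ext (hf _ ?_)⟩
        rw [← hσ, ← hσ, eq_one_of_red hM σ (fun e => hy (e.trans ((orderOf_coe (y ^ p ^ k)).dvd.trans
          (orderOf_pow_dvd _)))) (y ^ p ^ k).2, map_one]))
      (red_pow_eq_zero h hM fun j => (hσ _).trans (h3 j)) h1 h7
    have h4 := h.of_pgl hπ (fun k => h.commute_of_normal hζ.isCharacter hf hd π.ker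
      (h.not_dvd_ker hπ).1) hn (by omega)
    omega
  obtain rfl : f = 1 := by rcases f with _ | f <;> omega
  obtain ⟨h7, h8⟩ := half h.dvd h.sq hnn hζ.isCharacter hf (by omega)
  exact ⟨hA, h1, ε, hε, Or.inl ⟨h7, by omega, h8, fun j => by rw [h3, Nat.cast_one, one_mul]; rfl⟩⟩

theorem mem_commutator (h : P1 p x) (hA : 2 ≤ (expA p x).card) : x ∈ commutator G := by
  obtain ⟨a, ha, h1⟩ := Finset.exists_mem_ne hA 1
  obtain ⟨c, hc⟩ := isConj_iff.1 (mem_expA.1 ha)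
  have h2 : x ^ (a - 1).val ∈ commutator G := by
    have : ⁅c, x⁆ = x ^ (a - 1).val := by
      rw [commutatorElement_def, hc, sub_eq_add_neg, h.pow_val_add, h.pow_val_neg_one]
    exact this ▸ commutator_mem_commutator (mem_top _) (mem_top _)
  exact (h.zpowers_pow (P1.not_dvd_val (sub_ne_zero.2 h1))).le.trans (zpowers_le.2 h2)
    (mem_zpowers x)

theorem eig_spec' (h : P1 p x) (hn : ¬ (zpowers x).Normal) (hζ : IsIrrCharacter G ζ)
    (hk : charKer ζ = ⊥) (hd : charDegree ζ + 1 < p) : p ≤ 2 * charDegree ζ + 1 ∧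
    x ∈ commutator G ∧ (eig ζ x).Nodup ∧ (2 * charDegree ζ + 1 = p → 1 ∉ eig ζ x) := by
  obtain ⟨h1, h2, ε, hε, h3⟩ := main' h hn hζ hk hd
  have h4 : Function.Injective ε := fun a b e => by
    by_contra h4
    exact AddChar.IsPrimitive.zmod_char_eq_one_iff p hε (a - b) |>.not.2 (sub_ne_zero.2 h4) (by
      rw [AddChar.map_sub_eq_div, e, div_self (ε.val_isUnit b).ne_zero])
  have h5 : ∀ (A : Finset (ZMod p)) (k : ℕ), ((A.val.map ε).map (· ^ k)).sum =
      ∑ a ∈ A, ε (a * k) := fun A k => by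
    simp only [Multiset.map_map, Function.comp, ← AddChar.map_nsmul_eq_pow, nsmul_eq_mul,
      mul_comm (k : ZMod p)]
    rfl
  rcases h3 with ⟨h3, -, -, h6⟩ | ⟨h3, -, h6⟩
  · rw [eig_eq (s := (expA p x).val.map ε) fun k => by rw [h5, ← h.pow_val_cast, h6]; rfl]
    refine ⟨h3.ge, mem_commutator h h1, (expA p x).nodup.map h4, fun _ h7 => ?_⟩
    obtain ⟨a, ha, h8⟩ := Multiset.mem_map.1 h7
    exact h.ne_zero_of_mem ha (h4 (h8.trans ε.map_zero_eq_one.symm))
  rw [eig_eq (s := (expA p x)ᶜ.val.map ε) fun k => by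
    rw [h5, ← h.pow_val_cast]
    by_cases h7 : (k : ZMod p) = 0
    · simp [h7, hζ.apply_one_eq_charDegree, Finset.card_compl, ← h3]
    · have h8 := Finset.sum_add_sum_compl (expA p x) fun a => ε (a * k)
      rw [h6 _ h7, per, eq_sub_of_add_eq' h8, show ∑ a, ε (a * k) = 0 by
        simpa [h7, mul_comm (k : ZMod p)] using sum_e hε k]
      simp]
  exact ⟨by omega, mem_commutator h h1, (expA p x)ᶜ.nodup.map h4, by omega⟩

theorem det_pow_eq (hψ : IsIrrCharacter G ψ) {c : ℂ} (h : ∀ g, ψ (x * g) = c * ψ g)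
    (hx : x ^ p = 1) {m : ℕ} (hm : m * charDegree ψ % p = 1) : (detHom ψ ^ m) x = c := by
  rw [MonoidHom.pow_apply, Units.val_pow_eq_pow_val, detHom_apply, ← prod_eig hψ.isCharacter,
    eig_scalar hψ.isCharacter h, Multiset.prod_replicate, ← pow_mul, mul_comm,
    ← Nat.mod_add_div (m * _) p, hm, pow_add, pow_mul, pow_of_mem hψ.isCharacter
      (eig_scalar hψ.isCharacter h ▸ Multiset.mem_replicate.2 ⟨hψ.charDegree_pos.ne', rfl⟩) hx]
  simp

/-- Removing the central `p`-elements. -/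
theorem exists_K (hψ : IsIrrCharacter G ψ) (hk : charKer ψ = ⊥) (hd : charDegree ψ + 1 < p)
    (hsq : ¬ p ^ 2 ∣ (center G).index) (hb : Bad p ψ) : ∃ K : Subgroup G, K ⊔ center G = ⊤ ∧
      ∀ x : G, PE p x → x ∉ center G → ∃ y : K, ∃ z ∈ center G, x = z * y ∧ PE p z ∧ P1 p y ∧
        ¬ (zpowers y).Normal := by
  obtain ⟨u, v, hu, hv, huv⟩ := hb
  obtain ⟨a, n, hn, e⟩ := Nat.exists_eq_pow_mul_and_not_dvd (Nat.card_pos (α := G)).ne' p
    hp.out.ne_one
  have h0 := hψ.charDegree_pos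
  obtain ⟨m, -, hm⟩ := Nat.exists_mul_mod_eq_one_of_coprime (k := p) (n := n * charDegree ψ)
    (Nat.Coprime.mul_left ((hp.out.coprime_iff_not_dvd.2 hn).symm)
      (Nat.coprime_of_lt_prime h0.ne' (by omega) hp.out).symm) hp.out.one_lt
  obtain ⟨K, hK⟩ : ∃ K, K = (detHom ψ ^ (n * m)).ker := ⟨_, rfl⟩
  have : K.Normal := hK ▸ inferInstance
  have h1 : IsPGroup p (G ⧸ K) := fun g => ⟨a, by
    obtain ⟨g, rfl⟩ := QuotientGroup.mk_surjective g
    rw [← QuotientGroup.mk_pow, QuotientGroup.eq_one_iff, hK, MonoidHom.mem_ker,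
      MonoidHom.pow_apply, ← map_pow, ← pow_mul, ← mul_assoc, ← e, pow_mul, pow_card_eq_one',
      one_pow, map_one]⟩
  obtain ⟨i, hi⟩ := IsPGroup.iff_card.1 h1
  have h2 : ¬ p ∣ Nat.card ((center G).subgroupOf K) := fun h2 => by
    obtain ⟨⟨z, hzK⟩, hz, h3⟩ := CL.Small.exists_mem_orderOf_eq_prime _ p h2
    rw [orderOf_mk] at h3
    obtain ⟨c, hc, h4⟩ := hψ.center_le_charCenter (show z ∈ center G from hz)
    rw [hK, MonoidHom.mem_ker, ← Units.val_eq_one, det_pow_eq hψ h4 (h3 ▸ pow_orderOf_eq_one z)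
      (by rwa [mul_right_comm])] at hzK
    rw [mem_bot.1 (hk.le (mem_charKer_iff.2 (by simpa [hzK] using h4) : z ∈ _)), orderOf_one] at h3
    exact hp.out.one_lt.ne h3
  have h3 : p ∣ (center G).relIndex K := by
    refine (hp.out.dvd_mul.1 (((center G).subgroupOf K).card_mul_index ▸ by_contra fun h3 =>
      huv ?_)).resolve_left h2
    obtain ⟨j, hj⟩ := hu
    exact hψ.isClassFunction.commutator_mem_charKer (hψ.mem_charCenter_of_normal_complement hp.out K
      (hp.out.coprime_iff_not_dvd.2 h3).symm hi hd hj) v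
  have h4 : K ⊔ center G = ⊤ := by
    rw [← index_eq_one]
    obtain ⟨j, -, hj⟩ := (Nat.dvd_prime_pow hp.out).1
      ((index_dvd_of_le (le_sup_left : K ≤ K ⊔ center G)).trans hi.dvd)
    rcases j with _ | j
    · exact hj
    refine (hsq ?_).elim
    rw [← relIndex_mul_index (le_sup_right : _ ≤ K ⊔ center G), relIndex_sup_right, hj, sq]
    exact mul_dvd_mul h3 (dvd_pow_self p j.succ_ne_zero)
  have h5 : ¬ p ^ 2 ∣ Nat.card K := fun h5 => hsq (.trans (((hp.out.coprime_iff_not_dvd.2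
    h2).pow_left 2).dvd_of_dvd_mul_left (((center G).subgroupOf K).card_mul_index ▸ h5))
      (relIndex_dvd_index_of_normal _ _))
  have h6 : ∀ x : G, PE p x → ∃ y : K, ∃ z ∈ center G, x = z * y ∧ PE p z ∧ PE p y := by
    rintro x ⟨k, hx⟩
    obtain ⟨y, hy, z, hz, e1⟩ := exists_decomp_of_sup h4 x
    obtain ⟨l, l1, l2⟩ := Nat.chineseRemainder
      ((hp.out.coprime_iff_not_dvd.2 hn).pow_left k) 1 0
    obtain ⟨l, rfl⟩ := (Nat.modEq_zero_iff_dvd).1 l2
    have h7 : ∀ {H : Subgroup G} (g : H), PE p (g ^ (n * l)) := fun g => PE.coe.1 ⟨a, by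
      rw [SubgroupClass.coe_pow, ← pow_mul, mul_comm, ← mul_assoc, ← e, pow_mul, pow_card_eq_one',
        one_pow]⟩
    refine ⟨⟨y, hy⟩ ^ (n * l), z ^ (n * l), pow_mem hz _, ?_, PE.coe.2 (h7 ⟨z, hz⟩), h7 _⟩
    rw [SubgroupClass.coe_pow, ← (show Commute z y from (mem_center_iff.1 hz y).symm).mul_pow,
      ← mem_center_iff.1 hz, e1, pow_eq_pow_of_modEq l1 hx, pow_one]
  refine ⟨K, h4, fun x hx hxZ => ?_⟩
  obtain ⟨y, z, hz, rfl, z1, y1⟩ := h6 x hx
  obtain ⟨w, hw⟩ := exists_prime_orderOf_dvd_card' p (h3.trans (index_dvd_card _))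
  have h7 : P1 p y := ⟨P1.orderOf_pElt ⟨hw, h5⟩ y1.orderOf fun e => hxZ (by simpa [e]), h5⟩
  refine ⟨y, z, hz, rfl, z1, h7, fun h8 => huv ?_⟩
  obtain ⟨u, s, hs, rfl, -, u1⟩ := h6 u hu
  obtain ⟨v, t, ht, rfl, -, v1⟩ := h6 v hv
  obtain ⟨i, rfl⟩ := h7.mem_of_normalizer u1.orderOf (normalizer_eq_top (zpowers y) ▸ mem_top u)
  obtain ⟨j, rfl⟩ := h7.mem_of_normalizer v1.orderOf (normalizer_eq_top (zpowers y) ▸ mem_top v)
  exact (commutatorElement_eq_one_iff_commute.2 (Commute.mul_left (mem_center_iff.1 hs _).symm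
    (Commute.mul_right (mem_center_iff.1 ht _) (Commute.zpow_zpow_self (y : G) i j)))).symm ▸
      one_mem _

theorem Bad.spec (hψ : IsIrrCharacter G ψ) (hd : charDegree ψ + 1 < p)
    (hsq : ¬ p ^ 2 ∣ (charCenter ψ).index) (hb : Bad p ψ) : p ≤ 2 * charDegree ψ + 1 ∧
      ∀ x : G, PE p x → x ∉ charCenter ψ → (eig ψ x).Nodup ∧ ∃ y ∈ commutator G, ∃ c : ℂ, PE p c ∧
        (∀ h, ψ (x * y⁻¹ * h) = c * ψ h) ∧ (2 * charDegree ψ + 1 = p → c ∉ eig ψ x) := by
  obtain ⟨N, _, χ, hN, h1, h2, rfl, h3⟩ := exists_faithful hψ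
  have hs := QuotientGroup.mk'_surjective N
  rw [h3, index_comap_of_surjective _ hs] at hsq
  obtain ⟨u, v, hu, hv, huv⟩ := hb
  obtain ⟨K, h4, h5⟩ := exists_K h1 h2 hd hsq ⟨_, _, hu.map (QuotientGroup.mk' N),
    hv.map (QuotientGroup.mk' N), by rwa [h1.isCharacter.charKer_comp, mem_comap,
      map_commutatorElement] at huv⟩
  have h6 := irr_res_of_sup_center h1 h4
  have h7 : charKer (fun g : K => χ g) = ⊥ := by rw [h1.isCharacter.charKer_res, h2, bot_subgroupOf]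
  refine ⟨?_, fun x hx hxZ => ?_⟩
  · obtain ⟨y, -, -, -, -, y1, y2⟩ := h5 _ (hu.map (QuotientGroup.mk' N)) fun e =>
      huv (hψ.isClassFunction.commutator_mem_charKer (h3.ge e) v)
    exact (eig_spec' y1 y2 h6 h7 hd).1
  obtain ⟨y, z, hz, e, ⟨k, z1⟩, y1, y2⟩ := h5 _ (hx.map (QuotientGroup.mk' N)) fun e => hxZ (h3.ge e)
  obtain ⟨-, a1, a2, a3⟩ := eig_spec' y1 y2 h6 h7 hd
  obtain ⟨c, hc, h8⟩ := h1.center_le_charCenter hz
  have h9 : c ≠ 0 := by rintro rfl; simp at hc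
  obtain ⟨w, w1, w2⟩ : (y : G ⧸ N) ∈ (commutator G).map (QuotientGroup.mk' N) := by
    rw [_root_.commutator_def, map_commutator, map_top_of_surjective _ hs]
    exact commutator_mono le_top le_top (map_commutator ⊤ ⊤ K.subtype ▸ mem_map_of_mem _ a1)
  rw [eig_res] at a2 a3
  rw [eig_comp, eig_of_smul h1.isCharacter (h := (y : G ⧸ N)) (c := c) fun g => by rw [e, mul_assoc, h8]]
  refine ⟨a2.map (mul_right_injective₀ h9), w, w1, c, ⟨k, pow_of_mem h1.isCharacter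
    (eig_scalar h1.isCharacter h8 ▸ Multiset.mem_replicate.2 ⟨h1.charDegree_pos.ne', rfl⟩) z1⟩,
    fun h => by simp only [map_mul, map_inv, e, w2, mul_inv_cancel_right, h8], fun h a4 => ?_⟩
  obtain ⟨b, b1, b2⟩ := Multiset.mem_map.1 a4
  exact a3 h ((mul_eq_left₀ h9).1 b2 ▸ b1)

end CL.Lin
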