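import Cfsg.Agent.BLK.LinS
import Cfsg.Agent.BLK.D1Inv
import Cfsg.Agent.BLK.D1Det
import Cfsg.Agent.INV.Def1Ex
import Cfsg.Agent.S0205

/-! The principal block for inertial index three and `p = 7` or `p = 19`. -/

set_option autoImplicit false
set_option linter.unusedSectionVars false
open Cfsg Subgroup CL.Char CL.D1T CL.M1 CL.D1 Finset
open scoped ComplexConjugate

namespace CL.Lin

theorem arith {p a b c m₁ m₂ n : ℕ} {δ₁ δ₂ ε : ℤ} (hp : p = 7 ∨ p = 19) (h1 : δ₁ = 1 ∨ δ₁ = -1)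
    (h2 : δ₂ = 1 ∨ δ₂ = -1) (h3 : ε = 1 ∨ ε = -1) (hle : δ₂ ≤ δ₁)
    (e0 : ε * c = 1 + (δ₁ * a + δ₂ * b)) (ca : (a : ℤ) ≡ δ₁ [ZMOD p]) (cb : (b : ℤ) ≡ δ₂ [ZMOD p])
    (ha : 2 ≤ a) (e1 : (3 * p - 9 : ℤ) = (p - 1) * (1 + δ₁ * m₁ + δ₂ * m₂) - 3 * ε * n)
    (e2 : 1 + m₁ * a + m₂ * b + n * c ≤ (p - 3) ^ 2) {r j : ℤ} (hj : j ≠ 0)
    (sq : r ^ 2 = -(δ₁ * δ₂ * ε) * (a * b * c) * j ^ 2) (hc : 0 < c) :
    δ₁ = 1 ∧ δ₂ = -1 ∧ ε = 1 ∧ m₁ ≠ 0 ∧
      (p = 7 ∧ (c = 3 ∨ a = 15 ∧ b = 6 ∧ c = 10) ∨ p = 19 ∧ c = 22) := by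
  obtain ⟨q, rfl⟩ := (Int.pow_dvd_pow_iff two_ne_zero).1 (Dvd.intro_left _ sq.symm)
  rw [mul_pow, mul_comm, mul_left_inj' (pow_ne_zero 2 hj)] at sq
  have hb : 0 < b := by
    rcases hp with rfl | rfl <;> rcases h2 with rfl | rfl <;> simp [Int.ModEq] at cb <;> omega
  have h4 : δ₁ * δ₂ * ε = -1 := by
    have : (0 : ℤ) < a * b * c := by positivity
    rcases h1 with rfl | rfl <;> rcases h2 with rfl | rfl <;> rcases h3 with rfl | rfl <;>
      first | rfl | nlinarith [sq_nonneg q]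
  have h5 : IsSquare (a * b * c) := Int.isSquare_natCast_iff.1 ⟨q, by
    rw [h4] at sq; push_cast; linear_combination -sq⟩
  have h6 : ∀ k, k ≤ n → k * c ≤ n * c := fun k hk => Nat.mul_le_mul_right c hk
  have h7 : ∀ k, k ≤ m₁ → k * a ≤ m₁ * a := fun k hk => Nat.mul_le_mul_right a hk
  obtain ⟨rfl, rfl, rfl⟩ | ⟨rfl, rfl, rfl⟩ :
      δ₁ = 1 ∧ δ₂ = -1 ∧ ε = 1 ∨ δ₁ = -1 ∧ δ₂ = -1 ∧ ε = -1 := by
    rcases h1 with rfl | rfl <;> rcases h2 with rfl | rfl <;> rcases h3 with rfl | rfl <;> omega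
  all_goals rcases hp with rfl | rfl <;> simp only [Int.ModEq] at ca cb <;> norm_num at e2
  · have := h7 1 (by omega); omega
  · have := h7 2 (by omega)
    have := h6 2 (by omega)
    obtain ⟨k, rfl⟩ : ∃ k, c = 19 * k + 3 := ⟨c / 19, by omega⟩
    obtain ⟨l, rfl⟩ : ∃ l, b = 19 * l + 18 := ⟨b / 19, by omega⟩
    obtain rfl : a = 19 * (k + l) + 20 := by omega
    have := (by decide +kernel : ∀ k < 6, ∀ l < 6, k + l < 6 → IsSquare
      ((19 * (k + l) + 20) * (19 * l + 18) * (19 * k + 3)) → k = 1) k (by omega) l (by omega) (by omega) h5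
    omega
  · have := h6 2 (by omega); omega
  · have := h6 4 (by omega)
    obtain ⟨rfl, rfl, rfl⟩ | ⟨rfl, rfl, rfl⟩ | ⟨rfl, rfl, rfl⟩ : a = 18 ∧ b = 18 ∧ c = 35 ∨
      a = 18 ∧ b = 37 ∧ c = 54 ∨ a = 37 ∧ b = 18 ∧ c = 54 := by omega
    all_goals exact absurd h5 (by decide +kernel)

variable {G : Type*} [Group G] [Finite G] {p : ℕ} [hp : Fact p.Prime] {N : G → ℂ} {x y : G}
  {b : ZMod p} {t : ℕ}

/-- The central quotient of a linear group of degree `p - 3`, with `N = |ζ| ^ 2`. -/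
structure E3 (p : ℕ) [Fact p.Prime] (x y : G) (b : ZMod p) (t : ℕ) (N : G → ℂ) : Prop
    extends Ex p x y b 3 t where
  simple : IsSimpleGroup G
  ncomm : ¬ IsMulCommutative G
  perf : commutator G = ⊤
  pr : p = 7 ∨ p = 19
  chr : IsCharacter G N
  one : ∀ [Fintype G], classInner N (fun _ => 1) = 1
  deg : charDegree N = (p - 3) ^ 2
  sum : ∑ j : ZMod p, N (x ^ j.val) - N 1 = 3 * p - 9

namespace E3

variable (h : E3 p x y b t N)
include h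

theorem center_eq : center G = ⊥ := by
  have := h.simple
  exact (normal_of_characteristic _).eq_bot_or_eq_top.resolve_right fun e =>
    h.nc (e.ge (mem_top x))

theorem exc {θ : G → ℂ} (hθ : IsIrrCharacter G θ) {ε : ℤ} (hε : ε = 1 ∨ ε = -1)
    (hd : (charDegree θ : ℤ) ≡ ε * 3 [ZMOD p]) : Exc p x θ ε := by
  classical
  have := Fintype.ofFinite G
  have h0 := h.te
  have h1 : ∀ s : ℤ, s = 1 ∨ s = -1 → Exc p x θ s → Exc p x θ ε := fun s hs e => by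
    obtain ⟨m, hm⟩ := e.exists_nat h.toP1 hθ.isCharacter
    rw [h.cardA] at hm
    have : (charDegree θ - s * 3 : ℤ) = p * m := by exact_mod_cast hm
    obtain rfl : s = ε := by rcases h.pr with rfl | rfl <;> simp only [Int.ModEq] at hd <;> omega
    exact e
  obtain ⟨a, ha⟩ | e | e := h.exc_or (by rcases h.pr with rfl | rfl <;> omega) hθ
  · obtain ⟨m, hm⟩ := exists_sum_eq_nat hθ.isCharacter h.pow_p 1 0
    have h2 := sum_sing_norm h.toEx hθ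
    have h3 := (sum_le_sum_of_subset_of_nonneg (filter_subset (fun g => p ∣ orderOf g) univ)
      fun _ _ _ => sq_nonneg _).trans_eq hθ.sum_norm_sq
    rw [← add_sum_erase _ _ (mem_univ 0), sum_congr (s₁ := univ.erase (0 : ZMod p)) rfl
      (g := fun _ => (a : ℝ) ^ 2) fun j hj => by
        rw [ha j (ne_of_mem_erase hj), Complex.norm_intCast, sq_abs]] at h2
    rw [← add_sum_erase _ _ (mem_univ 0), sum_congr rfl (g := fun _ => (a : ℂ)) fun j hj => by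
      simp [ha j (ne_of_mem_erase hj)]] at hm
    have h4 : #(univ.erase (0 : ZMod p)) = p - 1 := by have := card_erase_zero (p := p); omega
    simp only [ZMod.val_zero, pow_zero, sum_const, h4, nsmul_eq_mul, add_sub_cancel_left,
      hθ.apply_one_eq_charDegree, AddChar.one_apply, mul_one] at h2 hm
    have h5 : ((p - 1 : ℕ) * a ^ 2 : ℝ) ≤ (3 : ℕ) * p := le_of_mul_le_mul_left (by
      rw [← h2, mul_comm]; gcongr) (Nat.cast_pos.2 (Nat.card_pos (α := G)))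
    have h6 : ((p - 1 : ℕ) * a ^ 2 : ℤ) ≤ (3 : ℕ) * p := by exact_mod_cast h5
    have h7 : (charDegree θ + (p - 1 : ℕ) * a : ℤ) = p * m := by exact_mod_cast hm
    have h8 : a ^ 2 < 2 ^ 2 := by rcases h.pr with rfl | rfl <;> omega
    have h9 := abs_lt.1 (abs_lt_of_sq_lt_sq h8 two_pos.le)
    rcases h.pr with rfl | rfl <;> simp only [Int.ModEq] at hd <;> omega
  exacts [h1 1 (by simp) (by simpa), h1 (-1) (by simp) (by simpa)]

theorem ne_two : p ≠ 2 := by have := h.pr; omega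

theorem not_dvd {u : G} (hu : orderOf u = 2) : ¬ p ∣ orderOf u := fun e =>
  h.ne_two ((Nat.prime_dvd_prime_iff_eq hp.out Nat.prime_two).1 (hu ▸ e))

theorem card_C {g : G} (hg : orderOf g = p) : Nat.card (centralizer ({g} : Set G)) = p := by
  obtain ⟨P, -⟩ := h.exists_sylow
  rw [card_centralizer_eq P (h.card_sylow P) hg, ← card_centralizer_eq P (h.card_sylow P) h.ord,
    h.card_cent, h.center_eq, card_bot, one_mul]

theorem exists_invol : ∃ u : G, orderOf u = 2 := by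
  have := h.simple
  refine exists_prime_orderOf_dvd_card' 2 (hp := ⟨Nat.prime_two⟩) (by_contra fun e => h.ncomm ?_)
  exact ⟨⟨IsSimpleGroup.comm_iff_isSolvable.2
    (Cfsg.Agent.S0205.result (Nat.odd_iff.2 (by omega)))⟩⟩

section

variable [DecidableEq (IrrCharacter G)] (D : Data G p 3) {χ₁ χ₂ θ : IrrCharacter G} (hne : χ₁ ≠ χ₂)
  (hX : D.X = {χ₁, χ₂}) (hθ : θ ∈ D.Y)
include hne hX

omit h in
theorem sum_eq {f : IrrCharacter G → ℂ} (hf : ∀ ψ, ψ ≠ irrOne G → ψ ∉ D.X → ψ ∉ D.Y → f ψ = 0) :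
    ∑ ψ, f ψ = f (irrOne G) + (f χ₁ + f χ₂ + ∑ ψ ∈ D.Y, f ψ) := by
  rw [← sum_pair hne, ← hX, ← sum_union D.disj, ← sum_insert (by simp [D.one_X, D.one_Y])]
  exact (sum_subset (subset_univ _) fun ψ _ hψ => by
    simp only [mem_insert, mem_union, not_or] at hψ; exact hf ψ hψ.1 hψ.2.1 hψ.2.2).symm

include hθ

theorem inv {u v : G} (hu : orderOf u = 2) (hv : orderOf v = 2) :
    1 + D.δ χ₁ * (χ₁.1 u * χ₁.1 v / χ₁.1 1) + D.δ χ₂ * (χ₂.1 u * χ₂.1 v / χ₂.1 1) =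
      D.ε * (θ.1 u * θ.1 v / θ.1 1) := by
  have h4 := card_class_mul_eq u v x
  have : IsEmpty {q : G × G // IsConj u q.1 ∧ IsConj v q.2 ∧ q.1 * q.2 = x} :=
    ⟨fun ⟨q, a1, a2, a3⟩ => by
      have a4 := h.eq_pow_of_mem (mem_expA.2 (h.pow_val_neg_one ▸ isConj_iff.2 ⟨_, E2.inv_of_mul_eq
        ((CL.Small.orderOf_eq_of_isConj a1).trans hu) ((CL.Small.orderOf_eq_of_isConj a2).trans hv)
        a3⟩))
      exact two_ne_zero_zmod h.ne_two (by linear_combination -a4)⟩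
  have h5 := congrArg conj (D.sum_Y x h.ord.symm.dvd)
  have h6 : ∀ w : G, (Nat.card {y // IsConj w y} : ℂ) ≠ 0 := fun w =>
    have : Nonempty {y // IsConj w y} := ⟨⟨w, .refl w⟩⟩
    Nat.cast_ne_zero.2 Nat.card_pos.ne'
  rw [map_sum, map_neg, map_intCast] at h5
  rw [Nat.card_of_isEmpty, Nat.cast_zero, eq_comm, mul_eq_zero_iff_left (div_ne_zero (mul_ne_zero
    (h6 u) (h6 v)) (card_ne_zero G)), sum_eq D hne hX fun ψ a1 a2 a3 => by
      simp [D.eq_zero_of_notMem h.ord (h.card_C h.ord) a1 a2 a3], sum_congr rfl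
    (g := fun ψ => θ.1 u * θ.1 v / θ.1 1 * conj (ψ.1 x)) fun ψ hψ => by
      rw [D.Y_eq hψ hθ (h.not_dvd hu), D.Y_eq hψ hθ (h.not_dvd hv), D.Y_eq hψ hθ (g := 1) (by
        simpa using hp.out.one_lt.ne')]; ring, ← mul_sum, h5, D.val_X χ₁ (by simp [hX]) x h.ord.symm.dvd,
    D.val_X χ₂ (by simp [hX]) x h.ord.symm.dvd] at h4
  simp only [irrOne_apply, map_one, map_intCast] at h4
  linear_combination h4

theorem count [Fintype G] : ∃ m₁ m₂ n : ℕ, classInner N χ₁.1 = m₁ ∧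
    (3 * p - 9 : ℤ) = (p - 1) * (1 + D.δ χ₁ * m₁ + D.δ χ₂ * m₂) - 3 * D.ε * n ∧
    1 + m₁ * charDegree χ₁.1 + m₂ * charDegree χ₂.1 + n * charDegree θ.1 ≤ (p - 3) ^ 2 := by
  obtain ⟨m, hm, hN⟩ := h.chr.exists_nat_coeffs
  have h5 : m (irrOne G) = 1 := by
    have := hm (irrOne G)
    rw [irrOne_coe, h.one] at this
    exact_mod_cast this.symm
  have h7 : ∀ {ψ : G → ℂ} {a : ℂ}, (∀ g, orderOf g = p → ψ g = a) →
      ∑ j : ZMod p, ψ (x ^ j.val) - ψ 1 = (p - 1) * a := fun {ψ a} ha => by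
    rw [sum_split (g := fun _ => a) fun j hj => ha _ (h.orderOf_pow (P1.not_dvd_val hj))]
    simp; ring
  refine ⟨m χ₁, m χ₂, ∑ ψ ∈ D.Y, m ψ, hm _, ?_, ?_⟩
  · have e1 : (3 * p - 9 : ℂ) = ∑ ψ, m ψ * (∑ j : ZMod p, ψ.1 (x ^ j.val) - ψ.1 1) := by
      rw [← h.sum, hN]
      simp only [Finset.sum_apply, Pi.smul_apply, smul_eq_mul, mul_sub, sum_sub_distrib, mul_sum]
      rw [sum_comm]
    rw [sum_eq D hne hX fun ψ a1 a2 a3 => by
        rw [h7 (a := 0) fun g hg => D.eq_zero_of_notMem hg (h.card_C hg) a1 a2 a3]; simp,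
      h7 (ψ := (irrOne G).1) (a := 1) fun _ _ => rfl, h7 fun g hg => D.val_X χ₁ (by simp [hX]) g hg.symm.dvd,
      h7 fun g hg => D.val_X χ₂ (by simp [hX]) g hg.symm.dvd, h5, sum_congr (s₁ := D.Y) rfl
        (g := fun ψ => (m ψ : ℂ) * (-3 * D.ε)) fun ψ hψ => by
          have := (h.exc ψ.2 D.ε_sign (D.deg_Y ψ hψ)).sum h.toP1 one_ne_zero
          simp only [one_mul, h.cardA] at this
          rw [this]; push_cast; ring, ← sum_mul] at e1
    rw [← Int.cast_inj (α := ℂ)]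
    push_cast at e1 ⊢
    linear_combination e1
  have e2 := congrFun hN 1
  simp only [Finset.sum_apply, Pi.smul_apply, smul_eq_mul, h.chr.apply_one_eq_charDegree,
    IsIrrCharacter.apply_one_eq_charDegree (Subtype.prop _), h.deg] at e2
  norm_cast at e2
  rw [e2, sum_mul, sum_congr rfl fun ψ hψ => by rw [D.deg_Y_eq hθ hψ]]
  refine le_of_eq_of_le ?_ (sum_le_sum_of_subset (subset_univ (insert (irrOne G) (D.X ∪ D.Y))))
  rw [sum_insert (by simp [D.one_X, D.one_Y]), sum_union D.disj, hX, sum_pair hne, h5, irrOne_coe,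
    charDegree_const_one]
  ring

end

omit h [Finite G] hp in
theorem disc {a b c i j w δ₁ δ₂ ε : ℂ} (ha : a ≠ 0) (hb : b ≠ 0) (hc : c ≠ 0) (h1 : δ₁ * δ₁ = 1)
    (h2 : δ₂ * δ₂ = 1) (h3 : ε * ε = 1) (e0 : ε * c = 1 + (δ₁ * a + δ₂ * b))
    (e1 : ε * w = 1 + (δ₁ * (a - 4 * i) + δ₂ * (b - 4 * j)))
    (e2 : 1 + δ₁ * ((a - 4 * i) * (a - 4 * i) / a) + δ₂ * ((b - 4 * j) * (b - 4 * j) / b) =
      ε * (w * w / c)) : (b * (δ₁ * c - ε * a) * i - ε * δ₁ * δ₂ * a * b * j) ^ 2 =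
      -(δ₁ * δ₂ * ε) * (a * b * c) * j ^ 2 := by
  obtain rfl : w = c - 4 * ε * (δ₁ * i + δ₂ * j) := by
    linear_combination ε * (e1 - e0) - (w - c) * h3
  field_simp at e2
  have e3 : δ₁ * i ^ 2 * b * c + δ₂ * j ^ 2 * a * c = ε * (δ₁ * i + δ₂ * j) ^ 2 * a * b := by
    rcases mul_self_eq_one_iff.1 h3 with rfl | rfl
    · linear_combination e2 / 16 + a * b * c / 16 * e0
    · linear_combination e2 / 16 + a * b * c / 16 * e0
  have e4 := congrArg (b * (δ₁ * c - ε * a) * ·) e3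
  have e5 := congrArg (a * b * c * j ^ 2 * δ₁ * δ₂ * ε * ·) e0
  rcases mul_self_eq_one_iff.1 h1 with rfl | rfl <;> rcases mul_self_eq_one_iff.1 h2 with rfl | rfl <;>
    rcases mul_self_eq_one_iff.1 h3 with rfl | rfl <;> linear_combination e4 - e5

theorem core : ∃ χ₁ χ₂ θ : IrrCharacter G, χ₁ ≠ irrOne G ∧ χ₂ ≠ irrOne G ∧ θ ≠ irrOne G ∧
    Exc p x θ.1 1 ∧ (∀ g, ¬ p ∣ orderOf g → θ.1 g = 1 + χ₁.1 g - χ₂.1 g) ∧
    (∀ u v, orderOf u = 2 → orderOf v = 2 → 1 + χ₁.1 u * χ₁.1 v / χ₁.1 1 -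
      χ₂.1 u * χ₂.1 v / χ₂.1 1 = θ.1 u * θ.1 v / θ.1 1) ∧
    (∀ ψ : IrrCharacter G, ¬ p ∣ charDegree ψ.1 → ψ = irrOne G ∨ ψ = χ₁ ∨ ψ = χ₂ ∨
      charDegree ψ.1 = charDegree θ.1) ∧ (p = 7 ∧ (charDegree θ.1 = 3 ∨ charDegree χ₁.1 = 15 ∧
        charDegree χ₂.1 = 6 ∧ charDegree θ.1 = 10 ∧ N = (fun _ => 1) + χ₁.1) ∨
      p = 19 ∧ charDegree θ.1 = 22) := by
  classical
  have := Fintype.ofFinite G
  have := h.simple
  obtain ⟨P, hP⟩ := h.exists_sylow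
  obtain ⟨D⟩ := exists_data h.perf h.ne_two P (h.card_sylow P) (e := 3) (by
    have h1 := CL.Small.card_centralizer_mul_relIndex (zpowers x)
    rw [h.card_normalizer, h.cardA, CL.Small.centralizer_zpowers_eq, mul_comm 3] at h1
    rw [hP, CL.Small.centralizer_zpowers_eq]
    exact Nat.eq_of_mul_eq_mul_left Nat.card_pos h1)
  obtain ⟨χ₁, χ₂, hne, hX⟩ := card_eq_two.1 (Nat.succ_injective D.card_X)
  wlog hle : D.δ χ₂ ≤ D.δ χ₁ generalizing χ₁ χ₂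
  · exact this χ₂ χ₁ hne.symm (hX.trans (pair_comm _ _)) (not_le.1 hle).le
  have m₁ : χ₁ ∈ D.X := by simp [hX]
  have m₂ : χ₂ ∈ D.X := by simp [hX]
  obtain ⟨θ, hθ⟩ := D.Y_nonempty
  have h3 : ∀ g, ¬ p ∣ orderOf g → D.ε * θ.1 g = 1 + (D.δ χ₁ * χ₁.1 g + D.δ χ₂ * χ₂.1 g) :=
    fun g hg => by rw [D.eqn θ hθ g hg, hX, sum_pair hne]
  have h4 := fun u v => h.inv D hne hX hθ (u := u) (v := v)
  obtain ⟨n₁, n₂, n, hm, e1, e2⟩ := h.count D hne hX hθ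
  obtain ⟨u, hu⟩ := h.exists_invol
  have u1 : u * u = 1 := by rw [← sq, ← hu, pow_orderOf_eq_one]
  obtain ⟨i, hi⟩ := exists_four_mul h.perf χ₁.2.isCharacter u1
  obtain ⟨j, hj⟩ := exists_four_mul h.perf χ₂.2.isCharacter u1
  have e0 := D.deg_eqn hθ
  rw [hX, sum_pair hne] at e0
  obtain ⟨a1, a2, a3, a4, a5⟩ := arith h.pr (D.δ_sign _ m₁) (D.δ_sign _ m₂) D.ε_sign hle e0
    (D.deg_X h.ord m₁) (D.deg_X h.ord m₂) (degree_ne_one h.perf (D.ne_one (Or.inl m₁))) e1 e2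
    (j := j) (r := charDegree χ₂.1 * (D.δ χ₁ * charDegree θ.1 - D.ε * charDegree χ₁.1) * i -
      D.ε * D.δ χ₁ * D.δ χ₂ * charDegree χ₁.1 * charDegree χ₂.1 * j) (fun e => by
      rw [Nat.cast_eq_zero.1 e, Nat.cast_zero, mul_zero, sub_eq_zero, eq_comm, ← χ₂.2.mem_charKer,
        χ₂.2.charKer_eq_bot_of_simple fun e => D.ne_one (Or.inl m₂) (eq_irrOne_iff.2 e),
        mem_bot] at hj
      simp [hj] at hu) (by
      have b1 := h4 u u hu hu
      have b2 := h3 u (h.not_dvd hu)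
      rw [← Int.cast_inj (α := ℂ)]
      push_cast
      simp only [← IsIrrCharacter.apply_one_eq_charDegree (Subtype.prop _)]
      rw [(by linear_combination -hi : χ₁.1 u = χ₁.1 1 - 4 * i),
        (by linear_combination -hj : χ₂.1 u = χ₂.1 1 - 4 * j)] at b1 b2
      exact disc χ₁.2.one_ne_zero χ₂.2.one_ne_zero θ.2.one_ne_zero (by exact_mod_cast D.δ_sq m₁)
        (by exact_mod_cast D.δ_sq m₂) D.ε_sqC (h3 1 (by simpa using hp.out.one_lt.ne')) b2 b1)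
    θ.2.charDegree_pos
  rw [a1, a2, a3] at h3 h4
  refine ⟨χ₁, χ₂, θ, D.ne_one (Or.inl m₁), D.ne_one (Or.inl m₂), D.ne_one (Or.inr hθ), by
    simpa [a3] using h.exc θ.2 D.ε_sign (D.deg_Y θ hθ), fun g hg => by
      have := h3 g hg; push_cast at this; linear_combination this, fun u v hu hv => by
      have := h4 u v hu hv; push_cast at this; linear_combination this, fun ψ hψ => ?_,
    a5.imp_left fun ⟨b0, b⟩ => ⟨b0, b.imp_right fun ⟨b1, b2, b3⟩ => ⟨b1, b2, b3, ?_⟩⟩⟩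
  · by_contra! e
    exact hψ (D.dvd_of_notMem h.ord (h.card_C h.ord) e.1 (by simp [hX, e])
      fun e' => e.2.2.2 (D.deg_Y_eq e' hθ))
  · refine eq_of_sub_of_degree_eq (h.chr.sub_irr_sub_irr isIrrCharacter_one χ₁.2 (fun e =>
      D.ne_one (Or.inl m₁) (eq_irrOne_iff.2 e.symm)) (by simp [h.one]) (by simpa [hm])) ?_
    simp [h.chr.apply_one_eq_charDegree, χ₁.2.apply_one_eq_charDegree, h.deg, b0, b1]
    norm_num

end E3

end CL.Lin
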