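import Cfsg.Agent.CHAR.Det
import Cfsg.Agent.CHAR.Faithful
import Cfsg.Agent.CHAR.Blichfeldt
import Cfsg.Agent.CHAR.Constit
import Cfsg.Agent.CHAR.Scalar
import Cfsg.Agent.SOLV.Core

/-! The eigenvalue multiset of a group element on a character. -/

set_option autoImplicit false
set_option linter.unusedSectionVars false
open Cfsg Module Subgroup CL.Char Multiset
open scoped commutatorElement

namespace CL.Lin

variable {G : Type*} [Group G] {χ ψ φ : G → ℂ} {g h : G} {c : ℂ} {s : Multiset ℂ}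

theorem eq_of_pow_sum {s t : Multiset ℂ}
    (h : ∀ k : ℕ, (s.map (· ^ k)).sum = (t.map (· ^ k)).sum) : s = t := by
  classical
  have h1 := linearIndependent_iff'.1 ((linearIndependent_monoidHom (Multiplicative ℕ) ℂ).comp
    (powersHom ℂ) (powersHom ℂ).injective) (s + t).toFinset
    (fun c => (s.count c : ℂ) - t.count c) (funext fun k => by
      have h2 : ∀ u ≤ s + t, ∑ c ∈ (s + t).toFinset, (u.count c : ℂ) * c ^ k.toAdd =
          (u.map (· ^ k.toAdd)).sum := fun u hu => by
        rw [Finset.sum_multiset_map_count, Finset.sum_subset (toFinset_subset.2 (subset_of_le hu))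
          fun c _ hc => by simp [count_eq_zero.2 (by simpa using hc)]]
        simp
      simp only [Finset.sum_apply, Pi.smul_apply, Function.comp, powersHom_apply, smul_eq_mul,
        sub_mul, Finset.sum_sub_distrib, h2 s (le_add_right _ _), h2 t (le_add_left _ _), h]
      simp)
  ext c
  by_cases hc : c ∈ s + t
  · exact_mod_cast sub_eq_zero.1 (h1 c (mem_toFinset.2 hc))
  · rw [mem_add, not_or] at hc
    rw [count_eq_zero.2 hc.1, count_eq_zero.2 hc.2]

/-- The eigenvalues of `g` on the character `χ`. -/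
noncomputable def eig (χ : G → ℂ) (g : G) : Multiset ℂ :=
  Classical.epsilon fun s => ∀ k : ℕ, χ (g ^ k) = (s.map (· ^ k)).sum

theorem eig_eq (h : ∀ k : ℕ, χ (g ^ k) = (s.map (· ^ k)).sum) : eig χ g = s :=
  eq_of_pow_sum fun k => (Classical.epsilon_spec
    (p := fun s : Multiset ℂ => ∀ k : ℕ, χ (g ^ k) = (s.map (· ^ k)).sum) ⟨s, h⟩ k).symm.trans (h k)

theorem eig_comp {H : Type*} [Group H] (f : H →* G) (χ : G → ℂ) (h : H) :
    eig (fun x => χ (f x)) h = eig χ (f h) := by simp only [eig, map_pow]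

theorem eig_res (H : Subgroup G) (χ : G → ℂ) (h : H) : eig (fun x : H => χ x) h = eig χ h :=
  eig_comp H.subtype χ h

theorem eig_conj (hχ : IsClassFunction G χ) (g h : G) : eig χ (h * g * h⁻¹) = eig χ g := by
  simp only [eig, conj_pow, hχ _ h]

variable [Finite G]

theorem exists_basis {V : Type*} [AddCommGroup V] [Module ℂ V] [FiniteDimensional ℂ V]
    (ρ : Representation ℂ G V) (g : G) : ∃ (b : Basis (Fin (finrank ℂ V)) ℂ V)
      (ε : Fin (finrank ℂ V) → ℂ), (∀ i, ε i ^ orderOf g = 1) ∧ (∀ i, ρ g (b i) = ε i • b i) ∧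
      (∀ k : ℕ, ρ.character (g ^ k) = ∑ i, ε i ^ k) ∧
      eig ρ.character g = Finset.univ.val.map ε := by
  obtain ⟨b, ε, h1, h2⟩ := exists_eigenbasis ρ g
  have h3 : ∀ k : ℕ, ρ.character (g ^ k) = ∑ i, ε i ^ k := fun k =>
    trace_of_eigenbasis _ b _ fun i => by rw [map_pow]; exact pow_apply_of_eigen _ (h2 i) k
  exact ⟨b, ε, h1, h2, h3, eig_eq fun k => by rw [h3, map_map]; rfl⟩

theorem eig_spec (hχ : IsCharacter G χ) (g : G) (k : ℕ) :
    χ (g ^ k) = ((eig χ g).map (· ^ k)).sum := by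
  obtain ⟨n, ρ, rfl⟩ := hχ
  obtain ⟨b, ε, -, -, h3, h4⟩ := exists_basis ρ g
  rw [h3, h4, map_map]; rfl

theorem sum_eig (hχ : IsCharacter G χ) (g : G) : (eig χ g).sum = χ g := by
  simpa using (eig_spec hχ g 1).symm

theorem card_eig (hχ : IsCharacter G χ) (g : G) : (eig χ g).card = charDegree χ := by
  have := eig_spec hχ g 0
  simp only [pow_zero, map_const', sum_replicate, nsmul_eq_mul, mul_one,
    hχ.apply_one_eq_charDegree, Nat.cast_inj] at this
  exact this.symm

theorem prod_eig (hχ : IsCharacter G χ) (g : G) : (eig χ g).prod = detChar χ g := by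
  obtain ⟨n, ρ, rfl⟩ := hχ
  obtain ⟨b, ε, -, h2, -, h4⟩ := exists_basis ρ g
  rw [h4, detChar_character, det_of_eigenbasis _ b ε h2]; rfl

theorem pow_of_mem (hχ : IsCharacter G χ) (hc : c ∈ eig χ g) {n : ℕ} (hn : g ^ n = 1) :
    c ^ n = 1 := by
  obtain ⟨m, ρ, rfl⟩ := hχ
  obtain ⟨b, ε, h1, -, -, h4⟩ := exists_basis ρ g
  obtain ⟨k, rfl⟩ := orderOf_dvd_of_pow_eq_one hn
  obtain ⟨i, -, rfl⟩ := mem_map.1 (h4 ▸ hc)
  rw [pow_mul, h1, one_pow]

theorem norm_of_mem (hχ : IsCharacter G χ) (hc : c ∈ eig χ g) : ‖c‖ = 1 :=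
  norm_eq_one_of_pow_eq_one' (orderOf_pos g).ne' (pow_of_mem hχ hc (pow_orderOf_eq_one g))

theorem eig_add (hψ : IsCharacter G ψ) (hφ : IsCharacter G φ) (g : G) :
    eig (ψ + φ) g = eig ψ g + eig φ g :=
  eig_eq fun k => by rw [map_add, sum_add, ← eig_spec hψ, ← eig_spec hφ]; rfl

theorem eig_pow (hχ : IsCharacter G χ) (g : G) (j : ℕ) :
    eig χ (g ^ j) = (eig χ g).map (· ^ j) :=
  eig_eq fun k => by rw [← pow_mul, eig_spec hχ, map_map]; simp [pow_mul]

theorem apply_pow_mul (hg : ∀ x, χ (g * x) = c * χ x) (k : ℕ) (x : G) :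
    χ (g ^ k * x) = c ^ k * χ x := by
  induction k with
  | zero => simp
  | succ k ih => rw [pow_succ', mul_assoc, hg, ih, pow_succ', mul_assoc]

/-- If `g` acts as `c` times `h`. -/
theorem eig_of_smul (hχ : IsCharacter G χ) (hg : ∀ x, χ (g * x) = c * χ (h * x)) :
    eig χ g = (eig χ h).map (c * ·) := by
  have h1 : ∀ (k : ℕ) x, χ (g ^ k * x) = c ^ k * χ (h ^ k * x) := fun k => by
    induction k with
    | zero => simp
    | succ k ih =>
      intro x
      rw [pow_succ', mul_assoc, hg, hχ.isClassFunction.mul_comm, mul_assoc, ih, ← mul_assoc (h ^ k),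
        hχ.isClassFunction.mul_comm, ← mul_assoc h, ← pow_succ', pow_succ' c, mul_assoc]
  refine eig_eq fun k => ?_
  have := h1 k 1
  rw [mul_one, mul_one] at this
  rw [this, eig_spec hχ, map_map, ← sum_map_mul_left]
  simp [mul_pow]

theorem eig_one (hχ : IsCharacter G χ) : eig χ 1 = replicate (charDegree χ) 1 :=
  eig_eq fun k => by simp [hχ.apply_one_eq_charDegree]

theorem eig_scalar (hχ : IsCharacter G χ) (hg : ∀ x, χ (g * x) = c * χ x) :
    eig χ g = replicate (charDegree χ) c := by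
  rw [eig_of_smul hχ (h := 1) (c := c) (by simpa), eig_one hχ]; simp

theorem scalar_of_eig (hχ : IsCharacter G χ) (hg : ∀ a ∈ eig χ g, a = c) (x : G) :
    χ (g * x) = c * χ x := by
  obtain ⟨m, ρ, rfl⟩ := hχ
  obtain ⟨b, ε, -, h2, -, h4⟩ := exists_basis ρ g
  have : ρ g = c • 1 := b.ext fun i => by
    rw [h2, hg (ε i) (h4 ▸ mem_map_of_mem _ (Finset.mem_univ i))]; rfl
  simp [Representation.character, this]

theorem scalar_of_count (hχ : IsCharacter G χ) (hg : charDegree χ ≤ (eig χ g).count c) (x : G) :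
    χ (g * x) = c * χ x :=
  scalar_of_eig hχ (fun a ha => (count_eq_card.1 ((count_le_card _ _).antisymm
    (card_eig hχ g ▸ hg)) a ha).symm) x

theorem count_le (hχ : IsCharacter G χ) (g : G) (c : ℂ) : (eig χ g).count c ≤ charDegree χ :=
  card_eig hχ g ▸ count_le_card _ _

theorem mem_charCenter_of (hχ : IsCharacter G χ) (hg : ∀ x, χ (g * x) = c * χ x) :
    g ∈ charCenter χ := by
  by_cases h0 : charDegree χ = 0
  · rw [hχ.mem_charCenter, h0]
    exact le_antisymm (h0 ▸ hχ.norm_le g) (by simp)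
  exact ⟨c, norm_of_mem hχ (eig_scalar hχ hg ▸ mem_replicate.2 ⟨h0, rfl⟩), hg⟩

/-- Splitting off a constituent not killing `g`. -/
theorem exists_split (hχ : IsCharacter G χ) (hg : g ∉ charKer χ) : ∃ ψ φ, IsIrrCharacter G ψ ∧
    IsCharacter G φ ∧ χ = ψ + φ ∧ g ∉ charKer ψ := by
  have := Fintype.ofFinite G
  rw [hχ.mem_charKer_iff_constituents] at hg
  push Not at hg
  obtain ⟨ψ, h1, h2, h3⟩ := hg
  obtain ⟨m, hm⟩ := hχ.exists_nat_inner h1.isCharacter
  exact ⟨ψ, χ - ψ, h1, by simpa using hχ.sub_smul_irr h1 hm (k := 1) (Nat.pos_of_ne_zero (by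
    rintro rfl; exact h2 (by simpa using hm))), by simp, h3⟩

/-- Elements of the derived group act trivially on the simple eigenspaces of a central element. -/
theorem card_le_count (hχ : IsCharacter G χ) (hh : h ∈ center G) (hg : g ∈ commutator G) :
    ∀ s : Finset ℂ, (∀ c ∈ s, (eig χ h).count c = 1) → s.card ≤ (eig χ g).count 1 := by
  classical
  refine hχ.induction_on (P := fun χ => ∀ s : Finset ℂ, (∀ c ∈ s, (eig χ h).count c = 1) →
    s.card ≤ (eig χ g).count 1) (fun s hs => ?_) (fun ψ hψ s hs => ?_) fun a b ha hb h1 h2 s hs => ?_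
  · rw [s.eq_empty_of_forall_notMem fun c hc => by
      have := count_le isCharacter_zero h c
      simp [hs c hc, charDegree] at this]
    simp
  · obtain ⟨c, -, hc⟩ := hψ.center_le_charCenter hh
    simp only [eig_scalar hψ.isCharacter hc, count_replicate] at hs
    rcases s.eq_empty_or_nonempty with rfl | ⟨a, ha⟩
    · simp
    have h1 : charDegree ψ = 1 := by have := hs a ha; split_ifs at this <;> omega
    rw [eig_scalar hψ.isCharacter (c := 1) fun x => by
      rw [one_mul, hψ.commutator_le_charKer_iff.2 (hψ.isCharacter.charDegree_eq_one_iff.1 h1) hg],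
      h1, count_replicate_self]
    exact Finset.card_le_one_iff_subset_singleton.2 ⟨c, fun a ha => by
      have := hs a ha; split_ifs at this with e <;> simp_all⟩
  · simp only [eig_add ha hb, count_add] at hs ⊢
    rw [← Finset.card_filter_add_card_filter_not (s := s) fun c => (eig a h).count c = 1]
    exact add_le_add (h1 _ fun c hc => (Finset.mem_filter.1 hc).2) (h2 _ fun c hc => by
      have := Finset.mem_filter.1 hc; have := hs c this.1; omega)

theorem count_le_finrank {V : Type*} [AddCommGroup V] [Module ℂ V] [FiniteDimensional ℂ V]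
    (ρ : Representation ℂ G V) (g : G) (c : ℂ) :
    (eig ρ.character g).count c ≤ finrank ℂ (End.eigenspace (ρ g) c) := by
  classical
  obtain ⟨b, ε, -, h2, -, h4⟩ := exists_basis ρ g
  have h5 : LinearIndependent ℂ fun i : {i // c = ε i} =>
      (⟨b i, End.mem_eigenspace_iff.2 (by rw [h2, ← i.2])⟩ : End.eigenspace (ρ g) c) :=
    .of_comp (Submodule.subtype _) (b.linearIndependent.comp _ Subtype.val_injective)
  have := h5.fintype_card_le_finrank
  rw [Fintype.card_subtype] at this
  rw [h4, count_map]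
  exact this

/-- Two generators with large eigenspaces are scalars. -/
theorem mem_charCenter_of_closure (hχ : IsIrrCharacter G χ) (hG : closure {g, h} = ⊤) {c' : ℂ}
    (hc : charDegree χ < (eig χ g).count c + (eig χ h).count c') : g ∈ charCenter χ := by
  obtain ⟨m, ρ, hρ, rfl⟩ := hχ
  let U : Subrepresentation ρ := ⟨End.eigenspace (ρ g) c ⊓ End.eigenspace (ρ h) c', fun x v hv => by
    have h1 : ∀ x ∈ closure {g, h}, ∃ a : ℂ, ρ x v = a • v := fun x hx => by
      induction hx using closure_induction with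
      | mem x hx =>
        rcases hx with rfl | rfl
        exacts [⟨_, End.mem_eigenspace_iff.1 hv.1⟩, ⟨_, End.mem_eigenspace_iff.1 hv.2⟩]
      | one => exact ⟨1, by simp⟩
      | mul x y _ _ hx hy =>
        obtain ⟨a, ha⟩ := hx; obtain ⟨b, hb⟩ := hy
        exact ⟨b * a, by simp [ha, hb, smul_smul]⟩
      | inv x _ hx =>
        obtain ⟨a, ha⟩ := hx
        exact ⟨a ^ (orderOf x - 1), by
          rw [← pow_apply_of_eigen _ ha, ← map_pow, ← mul_eq_one_iff_eq_inv.1 (by
            rw [← pow_succ, Nat.sub_add_cancel (orderOf_pos x), pow_orderOf_eq_one])]⟩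
    obtain ⟨a, ha⟩ := h1 x (hG ▸ mem_top x)
    exact ha ▸ Submodule.smul_mem _ a hv⟩
  have h1 := Submodule.finrank_sup_add_finrank_inf_eq (End.eigenspace (ρ g) c)
    (End.eigenspace (ρ h) c')
  have h2 := Submodule.finrank_le (End.eigenspace (ρ g) c ⊔ End.eigenspace (ρ h) c')
  have h3 := count_le_finrank ρ g c
  have h4 := count_le_finrank ρ h c'
  rw [charDegree_character] at hc
  rcases eq_bot_or_eq_top U with e | e
  · have : End.eigenspace (ρ g) c ⊓ End.eigenspace (ρ h) c' = ⊥ :=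
      congrArg Subrepresentation.toSubmodule e
    rw [this, finrank_bot] at h1
    omega
  have : End.eigenspace (ρ g) c ⊓ End.eigenspace (ρ h) c' = ⊤ :=
    congrArg Subrepresentation.toSubmodule e
  exact (mem_charCenter_character ρ).2 ⟨c, LinearMap.ext fun v =>
    End.mem_eigenspace_iff.1 (this.ge trivial).1⟩

universe u in
/-- Blichfeldt's sixty degree theorem without the generation hypothesis. -/
theorem mem_pCore {p k m : ℕ} (n : ℕ) : ∀ (G : Type u) [Group G] [Finite G], Nat.card G = n →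
    ∀ χ : G → ℂ, IsCharacter G χ → charKer χ = ⊥ → ∀ t : G,
    (∀ a ∈ eig χ t, ∀ b ∈ eig χ t, 1 / 2 < (a / b).re) → (t ^ m) ^ p ^ k = 1 →
    t ^ m ∈ pCore p G := by
  induction n using Nat.strong_induction_on with
  | _ n ih =>
  intro G _ _ hn χ hχ hk t ht hu
  by_cases hN : normalClosure {t} = ⊤
  · have h1 : t ∈ center G := mem_center_iff.2 fun g => by
      rw [eq_comm, ← commutatorElement_eq_one_iff_mul_comm, ← mem_bot, ← hk]
      by_contra h2
      obtain ⟨ψ, φ, h3, h4, rfl, h5⟩ := exists_split hχ h2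
      refine h5 (h3.isClassFunction.commutator_mem_charKer ?_ g)
      rw [eig_add h3.isCharacter h4] at ht
      obtain ⟨m, ρ, hρ, rfl⟩ := h3
      obtain ⟨b, ε, -, h6, -, h7⟩ := exists_basis ρ t
      have h8 : ∀ i, ε i ∈ eig ρ.character t + eig φ t := fun i =>
        mem_add.2 (Or.inl (h7 ▸ mem_map_of_mem _ (Finset.mem_univ i)))
      have i₀ : Fin (finrank ℂ (Fin m → ℂ)) := ⟨0, rep_finrank_pos ρ⟩
      exact (mem_charCenter_character ρ).2 ⟨ε i₀, b.ext fun i => by
        rw [h6, blichfeldt_sixty ρ hN b ε h6 i₀ (fun i => ht _ (h8 i) _ (h8 i₀)) i]; rfl⟩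
    have : (zpowers (t ^ m)).Normal := ⟨fun a ha g => by
      rwa [mem_center_iff.1 (zpowers_le.2 (pow_mem h1 m) ha) g, mul_inv_cancel_right]⟩
    exact le_pCore (.of_card_dvd_pow (n := k) (by
      rw [Nat.card_zpowers]; exact orderOf_dvd_of_pow_eq_one hu)) (mem_zpowers _)
  have h1 := ih _ (hn ▸ card_lt_of_ne_top hN) (normalClosure {t}) rfl _ (hχ.res _)
    (by rw [hχ.charKer_res, hk, bot_subgroupOf]) ⟨t, subset_normalClosure rfl⟩
    (by rwa [eig_res]) (Subtype.ext hu)
  exact ((map_pCore_of_normal _).le ⟨_, h1, rfl⟩).1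

end CL.Lin
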