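import Cfsg.Agent.BLK.Lin19
import Cfsg.Agent.S0494
import Cfsg.Agent.S0496
import Cfsg.Agent.S0497
import Cfsg.Agent.S4703

/-! Perfect linear groups of small degree. -/

set_option autoImplicit false
set_option linter.unusedSectionVars false
open Cfsg Subgroup CL.Char CL.D1T CL.M1 CL.D1 Finset
open scoped MatrixGroups

namespace CL.Lin

variable {G : Type*} [Group G] [Finite G] {p q : ℕ} [hp : Fact p.Prime] {ζ : G → ℂ} {x y g : G}
  {b : ZMod p} {e t : ℕ}

theorem PE.lift {H : Type*} [Group H] [Finite H] (f : G →* H) (hf : Function.Surjective f) {h : H}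
    (hh : PE p h) : ∃ g, PE p g ∧ f g = h := by
  obtain ⟨Q, hQ⟩ := hh.isPGroup.exists_le_sylow
  obtain ⟨P, rfl⟩ := Sylow.mapSurjective_surjective hf p Q
  obtain ⟨g, hg, e⟩ := hQ (mem_zpowers h)
  exact ⟨g, .of_mem P.2 hg, e⟩

theorem dvd_deg (hG : commutator G = ⊤) (hζ : IsIrrCharacter G ζ) (hk : charKer ζ = ⊥)
    (h : p ∣ Nat.card (center G)) : p ∣ charDegree ζ := by
  obtain ⟨z, hz, e⟩ := CL.Small.exists_mem_orderOf_eq_prime (center G) p h
  exact e ▸ orderOf_dvd_of_pow_eq_one (pow_degree_eq_one hG hζ hk hz)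

theorem exists_sq (hζ : IsIrrCharacter G ζ) (hg : g ^ 2 ∈ center G) :
    ∃ k : ℤ, (‖ζ g‖ : ℂ) ^ 2 = k ^ 2 := by
  obtain ⟨c, hc, h1⟩ := mem_charCenter_iff.1 (hζ.center_le_charCenter hg)
  obtain ⟨r, rfl⟩ := IsAlgClosed.exists_pow_nat_eq c two_pos
  have h2 := eig_pow hζ.isCharacter g 2
  rw [eig_scalar hζ.isCharacter h1] at h2
  obtain ⟨k, hk⟩ := multiset_sum_mem (S := AddSubgroup.zmultiples r) (eig ζ g) fun a ha => by
    rcases sq_eq_sq_iff_eq_or_eq_neg.1 (Multiset.eq_of_mem_replicate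
      (h2 ▸ Multiset.mem_map_of_mem _ ha)) with rfl | rfl <;> simp
  refine ⟨k, ?_⟩
  rw [← sum_eig hζ.isCharacter, ← (show k • r = _ from hk), zsmul_eq_mul, norm_mul, ← Complex.ofReal_pow, mul_pow,
    ← norm_pow r, hc]
  simp

theorem Sg.int_val {s : ℂ} (h : Sg p x y b e t ζ s) [hq : Fact q.Prime] (hG : commutator G = ⊤)
    (hk : charKer ζ = ⊥) (h1 : q ≠ p) (h2 : ¬ q ∣ charDegree ζ) (hg : PE q g) (h3 : g ∉ center G) :
    ∃ a : ℤ, |a| < charDegree ζ ∧ (q : ℤ) ∣ charDegree ζ - a ∧ 0 ≤ (q - 1) * a + charDegree ζ ∧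
      ζ g = a := by
  obtain ⟨k, e⟩ := hg.orderOf
  have h4 : (orderOf g).Coprime (p * Nat.card (center G)) := e ▸ Nat.Coprime.pow_left _
    (((Nat.coprime_primes hq.out hp.out).2 h1).mul_right
      (hq.out.coprime_iff_not_dvd.2 fun e => h2 (dvd_deg hG h.irr hk e)))
  obtain ⟨a, ha⟩ := h.exists_int h4
  refine ⟨a, ?_, (h.irr.isGen.int_modEq_one hq.out (e ▸ pow_orderOf_eq_one g) ha
    (by simp [h.irr.apply_one_eq_charDegree])).dvd, neg_le_of_rat h.irr.isCharacter hq.out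
      (hg.dvd (by rintro rfl; exact h3 (one_mem _)) (pow_orderOf_eq_one g)) fun i hi =>
        (h.pow_eq h4 (orderOf_pos g).ne' (pow_orderOf_eq_one g)
          (e ▸ (hq.out.coprime_iff_not_dvd.2 hi).symm.pow_right k)).trans ha, ha⟩
  have := (h.irr.isCharacter.norm_le g).lt_of_ne fun e =>
    h3 (h.irr.charCenter_eq_center hk ▸ h.irr.mem_charCenter.2 e)
  rw [ha, Complex.norm_intCast] at this
  exact_mod_cast this

theorem Sg.exists_E3 (h : Sg p x y b 3 t ζ (-1)) (hG : commutator G = ⊤) (hk : charKer ζ = ⊥)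
    (hd : charDegree ζ + 3 = p) (h7 : p = 7 ∨ p = 19) : ∃ y' b' N,
      E3 p (x : G ⧸ center G) y' b' t N ∧ ∀ g : G, N g = ‖ζ g‖ ^ 2 := by
  obtain ⟨h1, h2, h3⟩ := simple_quot h.toPZ hG h.irr.isCharacter hk (by omega)
  obtain ⟨y', b', h4⟩ := ex_quot h.toEx ((Subgroup.Normal.eq_bot_or_eq_top inferInstance).resolve_right
    fun e => h2 ⟨⟨fun a b => mem_center_iff.1 (e.ge (mem_top b)) a⟩⟩)
  obtain ⟨N, h5, h6, h8⟩ := exists_N h.irr
  refine ⟨y', b', N, ⟨h4, h1, h2, h3, h7, h5, h8, charDegree_eq_of_apply_one ?_, ?_⟩, h6⟩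
  · rw [← QuotientGroup.mk_one, h6, h.irr.isCharacter.norm_one, ← hd]; simp
  · simp only [← QuotientGroup.mk_pow, ← QuotientGroup.mk_one, h6]
    have := congrArg Complex.ofReal (sum_norm h.toEx h.irr.isCharacter h.exc h.sgn)
    push_cast at this
    linear_combination this

theorem Sg.seven [Fact (Nat.Prime 7)] {b : ZMod 7} (h : Sg 7 x y b 3 t ζ (-1))
    (hG : commutator G = ⊤) (hk : charKer ζ = ⊥) (hd : charDegree ζ = 4) :
    Nonempty (G ⧸ center G ≃* PSL(2, ZMod 7)) ∨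
      Nonempty (G ⧸ center G ≃* alternatingGroup (Fin 7)) := by
  obtain ⟨y', b', N, h1, h2⟩ := h.exists_E3 hG hk (by omega) (.inl rfl)
  refine h1.seven fun u hu => ?_
  obtain ⟨u, rfl⟩ := QuotientGroup.mk_surjective u
  rw [h2]
  exact exists_sq h.irr ((QuotientGroup.eq_one_iff _).1 (hu ▸ pow_orderOf_eq_one (u : G ⧸ center G)))

theorem Sg.nineteen [Fact (Nat.Prime 19)] {b : ZMod 19} (h : Sg 19 x y b 3 t ζ (-1))
    (hG : commutator G = ⊤) (hk : charKer ζ = ⊥) (hd : charDegree ζ = 16) : False := by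
  have : Fact (Nat.Prime 11) := ⟨by norm_num⟩
  obtain ⟨y', b', N, h1, h2⟩ := h.exists_E3 hG hk (by omega) (.inr rfl)
  refine h1.nineteen (fun g => ?_) fun g hg' g1 => ?_
  · obtain ⟨g, rfl⟩ := QuotientGroup.mk_surjective g
    rw [h2, ← Complex.ofReal_pow, Complex.ofReal_re]; positivity
  obtain ⟨g, hg, rfl⟩ := hg'.lift _ (QuotientGroup.mk'_surjective _)
  obtain ⟨a, a1, a2, a3, a4⟩ := h.int_val (q := 11) hG hk (by norm_num) (by simp [hd]) hg
    (mt (QuotientGroup.eq_one_iff g).2 g1)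
  rw [abs_lt, hd] at *
  obtain rfl : a = 5 := by omega
  rw [QuotientGroup.mk'_apply, h2, a4]; norm_num

theorem Sg.five [Fact (Nat.Prime 5)] {b : ZMod 5} (h : Sg 5 x y b 2 t ζ (-1))
    (hG : commutator G = ⊤) (hk : charKer ζ = ⊥) (hd : charDegree ζ = 3) :
    Nonempty (G ⧸ center G ≃* PSL(2, ZMod 5)) ∨
      Nonempty (G ⧸ center G ≃* alternatingGroup (Fin 6)) := by
  obtain ⟨h1, h2, -⟩ := simple_quot h.toPZ hG h.irr.isCharacter hk (by omega)
  obtain ⟨ε, h3⟩ := h.toP1.exists_two h.nc h.irr hk (by omega) le_rfl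
  obtain ⟨N, h5, h6, -⟩ := exists_N h.irr
  have h7 : charDegree N = 9 := charDegree_eq_of_apply_one (by
    rw [← QuotientGroup.mk_one, h6, h.irr.isCharacter.norm_one, hd]; norm_num)
  have h4 : Nat.card (G ⧸ center G) ∣ 360 := card_dvd_of_sylow (by norm_num) fun q hq Q => by
    by_cases e : q = 5
    · subst e; rw [h.quot.1.card_sylow Q]; norm_num
    have := card_dvd_prod h5 Q {if q = 2 then 1 else 0} fun g hg' g1 => ⟨_, mem_singleton_self _, by
      obtain ⟨g, hg, rfl⟩ := (PE.of_mem Q.2 hg').lift _ (QuotientGroup.mk'_surjective _)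
      replace g1 := mt (QuotientGroup.eq_one_iff g).2 g1
      rw [QuotientGroup.mk'_apply, h6]
      split_ifs with e'
      · subst e'
        obtain ⟨a, a1, a2, -, a4⟩ := h.int_val hG hk e (by simp [hd]) hg g1
        rw [abs_lt, hd] at *
        obtain rfl | rfl : a = 1 ∨ a = -1 := by omega
        all_goals simp [a4]
      obtain ⟨k, hk⟩ := hg.orderOf
      simp [h3.odd_zero (h3.odd_center hG) (hk ▸ (hq.out.odd_of_ne_two e').pow) (fun e'' => e
        ((Nat.prime_dvd_prime_iff_eq (by norm_num) hq.out).1 (Nat.Prime.dvd_of_dvd_pow (by norm_num)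
          (hk ▸ e''))).symm) g1]⟩
    rw [h7, prod_singleton] at this
    exact Int.natCast_dvd_natCast.1 (this.trans (by split_ifs <;> norm_num))
  have h8 := Cfsg.Agent.S0496.result h2 ((Nat.le_of_dvd (by norm_num) h4).trans (by norm_num))
  obtain h8 | h8 : Nat.card (G ⧸ center G) = 60 ∨ Nat.card (G ⧸ center G) = 360 := by
    rcases h8 with h8 | h8 | h8 | h8 | h8 | h8 <;> simp_all
  · obtain ⟨φ⟩ := Cfsg.Agent.S0494.result h8
    obtain ⟨ψ⟩ := Cfsg.Agent.S0253.result (ZMod.card 5)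
    exact .inl ⟨φ.trans ψ.symm⟩
  · exact .inr (Cfsg.Agent.S0497.result h8)

end CL.Lin
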