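import Cfsg.Agent.BLK.LinL

/-! Linear groups of degree less than `27` with a non-normal Sylow `p`-subgroup, `p > d + 1`. -/

set_option autoImplicit false
set_option linter.unusedSectionVars false
open Cfsg Subgroup CL.Char CL.D1T CL.M1
open scoped MatrixGroups

namespace CL.Lin

universe u

variable {G : Type u} [Group G] [Finite G] {p d : ℕ} [hp : Fact p.Prime] {ζ : G → ℂ} {x : G}
  {H : Subgroup G}

/-- The list of possibilities. -/
def Con (G : Type u) [Group G] (p d : ℕ) [Fact p.Prime] : Prop :=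
  (Nonempty (G ⧸ center G ≃* PSL(2, ZMod p)) ∧ (2 * d = p + 1 ∨ 2 * d = p - 1)) ∨
  (p = 17 ∧ d = 15 ∧ ∃ (H : Type u) (_ : Group H) (f : H →* G), Function.Injective f ∧
    f.range ⊔ center G = ⊤ ∧ center H = ⊥ ∧ Nonempty (H ≃* SL(2, GaloisField 2 4))) ∨
  (p = 7 ∧ d = 4 ∧ Nonempty (G ⧸ center G ≃* alternatingGroup (Fin 7))) ∨
  (p = 5 ∧ d = 3 ∧ Nonempty (G ⧸ center G ≃* alternatingGroup (Fin 6)))

theorem Con.of_sup (h : H ⊔ center G = ⊤) (c : Con H p d) : Con G p d := by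
  obtain ⟨h1, ⟨φ⟩⟩ := nonempty_quot h
  refine c.imp (.imp_left (.map φ.trans)) (.imp (.imp_right (.imp_right ?_))
    (.imp (.imp_right (.imp_right (.map φ.trans))) (.imp_right (.imp_right (.map φ.trans)))))
  rintro ⟨K, _, f, h2, h3, h4⟩
  refine ⟨K, _, H.subtype.comp f, H.subtype_injective.comp h2, ?_, h4⟩
  rw [eq_top_iff, ← h, sup_le_iff, and_iff_left le_sup_right, MonoidHom.range_comp]
  conv_lhs => rw [← H.range_subtype, MonoidHom.range_eq_map, ← h3, Subgroup.map_sup, ← h1]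
  exact sup_le_sup_left (map_le_iff_le_comap.2 le_rfl) _

theorem ker_res (hζ : IsCharacter G ζ) (hk : charKer ζ = ⊥) (H : Subgroup G) :
    charKer (fun g : H => ζ g) = ⊥ := (hζ.res H).charKer_eq_bot_iff.2 fun g hg =>
  Subtype.ext (hζ.charKer_eq_bot_iff.1 hk g hg)

theorem con_perf (hG : commutator G = ⊤) (h : P1 p x) (hn : ¬ (zpowers x).Normal)
    (hζ : IsIrrCharacter G ζ) (hk : charKer ζ = ⊥) (hd : charDegree ζ + 1 < p)
    (h27 : charDegree ζ < 27) : Con G p (charDegree ζ) := by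
  have hf := hζ.isCharacter.charKer_eq_bot_iff.1 hk
  obtain ⟨e2, e3, ε, hε, ⟨h1, -, h2, -⟩ | ⟨h1, h2, h3⟩⟩ := main' h hn hζ hk hd
  · exact .inl ⟨h2, .inr (by omega)⟩
  obtain ⟨y, b, t, h4⟩ := exists_ex h2
  generalize (expA p x).card = e at *
  have h5 : Sg p x y b e t ζ (-1) := ⟨h4, hζ, ⟨ε, hε, h3⟩, by simp, by omega⟩
  rcases e2.eq_or_lt with rfl | e2
  · rcases (show 5 ≤ p by omega).eq_or_lt with rfl | h6
    · exact (h5.five hG hk (by omega)).imp (⟨·, .inl (by omega)⟩)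
        fun h => .inr (.inr ⟨rfl, by omega, h⟩)
    obtain ⟨ε, h7⟩ := h.exists_two h2.nc hζ hk h1 h6.le
    obtain ⟨a, F, _, _, h8, h9, h10, ⟨φ⟩⟩ := h7.iso_of_lt hG h6
    have := (Nat.pow_lt_pow_iff_right one_lt_two).1 (show 2 ^ a < 2 ^ 5 by omega)
    obtain rfl : a = 4 := by
      interval_cases a <;> first | omega | exact absurd (h8 ▸ hp.out) (by norm_num)
    have := Fintype.ofFinite (GaloisField 2 4)
    exact .inr (.inl ⟨h8, by omega, G, _, .id G, fun _ _ => id,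
      top_le_iff.1 (le_sup_of_le_left fun g _ => ⟨g, rfl⟩), h10,
      ⟨φ.trans (CL.Graph.slCongr (FiniteField.ringEquivOfCardEq (by
        rw [h9, ← Nat.card_eq_fintype_card, GaloisField.card 2 4 (by norm_num)])))⟩⟩)
  rcases (show 7 ≤ p by omega).eq_or_lt with rfl | h7
  · obtain rfl : e = 3 := by omega
    exact (h5.seven hG hk (by omega)).imp (⟨·, .inl (by omega)⟩)
      fun h => .inr (.inl ⟨rfl, by omega, h⟩)
  obtain ⟨h6, h8, -⟩ | ⟨y', b', e', t', h6, h8, h9, h10⟩ := CL.M1.main h hn h7 hζ hf hd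
  · exact .inl ⟨h6, h8⟩
  obtain rfl : e = e' := by omega
  have h11 := h6.add_three_le hn h7 hζ hf h9 h10 h8 e2.le
  have h12 := h6.te
  have h13 : e < 5 := by nlinarith
  exfalso
  interval_cases e
  · obtain rfl : p = 19 := by
      have := hp.out
      obtain rfl | rfl | rfl | rfl : p = 19 ∨ p = 22 ∨ p = 25 ∨ p = 28 := by omega
      all_goals first | rfl | exact absurd this (by norm_num)
    exact h5.nineteen hG hk (by omega)
  obtain ⟨P, hP⟩ := h.exists_sylow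
  have : Fact (Nat.Prime 2) := ⟨Nat.prime_two⟩
  have := Cfsg.Agent.S4703.result (Nat.odd_iff.2 (Nat.two_dvd_ne_zero.1 fun e => by
    have := dvd_deg hG hζ hk e; omega)) p h7 P (h.card_sylow P) (hP ▸ hn) ζ hζ hf
  omega

theorem con_of_P1 (h : P1 p x) (hn : ¬ (zpowers x).Normal) (hζ : IsIrrCharacter G ζ)
    (hk : charKer ζ = ⊥) (hd : charDegree ζ + 1 < p) (h27 : charDegree ζ < 27) :
    Con G p (charDegree ζ) := by
  obtain ⟨e2, e3, ε, hε, ⟨h1, -, h2, -⟩ | ⟨h1, h2, h3⟩⟩ := main' h hn hζ hk hd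
  · exact .inl ⟨h2, .inr (by omega)⟩
  obtain ⟨y, b, t, h4⟩ := exists_ex h2
  have h5 := Sg.sup_center ⟨h4, hζ, ⟨ε, hε, h3⟩, by simp, by omega⟩ h1 (by omega)
  refine .of_sup h5 (con_perf (x := ⟨x, mem_commutator h e2⟩) (commutator_eq_top_of_sup h5)
    ⟨by rw [orderOf_mk, h.ord], fun e => h.sq (e.trans (card_subgroup_dvd_card _))⟩
    (fun e => hn ⟨?_⟩) (irr_res_of_sup_center hζ h5) (ker_res hζ.isCharacter hk _) hd h27)
  rintro _ ⟨k, rfl⟩ g
  obtain ⟨a, ha, z, hz, rfl⟩ := exists_decomp_of_sup h5 g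
  obtain ⟨l, hl⟩ := e.conj_mem _ (zpow_mem_zpowers _ k) ⟨a, ha⟩
  refine ⟨l, (congrArg Subtype.val hl).trans ?_⟩
  simp only [mul_assoc a z, ← mem_center_iff.1 hz]
  simp [mul_assoc]

theorem con_of_not_normal (P : Sylow p G) (hn : ¬ (P : Subgroup G).Normal)
    (hζ : IsIrrCharacter G ζ) (hk : charKer ζ = ⊥) (hd : charDegree ζ + 1 < p)
    (h27 : charDegree ζ < 27) : Con G p (charDegree ζ) := by
  have hb : Bad p ζ := by_contra fun hb => hn ⟨fun n h g => by
    have h1 := (PE.of_mem P.2 h).conj g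
    refine ((h1.isPGroup.inf_normalizer_sylow P).le ⟨mem_zpowers _,
      centralizer_le_normalizer _ fun a ha => by_contra fun e => hb ⟨_, _, .of_mem P.2 ha, h1, ?_⟩⟩).2
    rwa [hk, mem_bot, commutatorElement_eq_one_iff_mul_comm]⟩
  obtain ⟨K, h1, h2⟩ := exists_K hζ hk hd
    (hζ.charCenter_eq_center hk ▸ not_sq_dvd _ G rfl ζ hζ hd hb) hb
  obtain ⟨u, v, hu, -, huv⟩ := hb
  obtain ⟨y, -, -, -, -, h3, h4⟩ := h2 u hu fun e => huv
    ((commutatorElement_eq_one_iff_mul_comm.2 (mem_center_iff.1 e v).symm).symm ▸ one_mem _)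
  exact .of_sup h1 (con_of_P1 h3 h4 (irr_res_of_sup_center hζ h1) (ker_res hζ.isCharacter hk _) hd h27)

end CL.Lin
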