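import Cfsg.Agent.BLK.LinD
import Cfsg.Agent.BLK.SelfCent

/-! Exceptional characters concentrated on the `p`-singular elements. -/

set_option autoImplicit false
set_option linter.unusedSectionVars false
open Cfsg Subgroup CL.Char CL.D1T CL.M1 CL.Blk Finset
open scoped ComplexConjugate

namespace CL.Lin

variable {G : Type*} [Group G] [Finite G] {p : ℕ} [hp : Fact p.Prime] {ζ θ : G → ℂ} {x y g : G}
  {b : ZMod p} {e t : ℕ} {s : ℂ}

theorem nonempty_quot {H : Subgroup G} (h : H ⊔ center G = ⊤) :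
    (center G).subgroupOf H = center H ∧ Nonempty (G ⧸ center G ≃* H ⧸ center H) := by
  have h1 : (center G).subgroupOf H = center H := Subgroup.ext fun z => ⟨fun hz =>
    mem_center_iff.2 fun g => Subtype.ext (mem_center_iff.1 (mem_subgroupOf.1 hz) g), fun hz =>
    mem_subgroupOf.2 <| mem_center_iff.2 fun g => by
      obtain ⟨a, ha, w, hw, rfl⟩ := exists_decomp_of_sup h g
      have h3 : a * z = z * a := congrArg Subtype.val (mem_center_iff.1 hz ⟨a, ha⟩)
      exact (Commute.mul_left h3 (mem_center_iff.1 hw _).symm :)⟩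
  refine ⟨h1, ⟨((QuotientGroup.quotientMulEquivOfEq ?_).trans
    (QuotientGroup.quotientKerEquivOfSurjective ((QuotientGroup.mk' (center G)).comp H.subtype)
      fun g => ?_)).symm⟩⟩
  · rw [← h1, ← MonoidHom.comap_ker, QuotientGroup.ker_mk']; rfl
  · obtain ⟨g, rfl⟩ := QuotientGroup.mk_surjective g
    obtain ⟨a, ha, w, hw, rfl⟩ := exists_decomp_of_sup h g
    exact ⟨⟨a, ha⟩, (QuotientGroup.mk_mul_of_mem a hw).symm⟩

open Classical in
theorem sum_sing [Fintype G] (h : Ex p x y b e t) {f : G → ℝ} (h1 : ∀ g c, f (c * g * c⁻¹) = f g)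
    (h2 : ∀ z ∈ center G, ∀ g, f (z * g) = f g) : e * p * ∑ g with p ∣ orderOf g, f g =
      Nat.card G * (∑ j : ZMod p, f (x ^ j.val) - f 1) := by
  have h3 := h.sum_sing' (h.cardA ▸ h.card_normalizer)
    (F := fun g => if p ∣ orderOf g then f g else 0) (fun g c => by simp only [orderOf_conj', h1])
    (fun g hg => if_neg hg) fun z hz g => by simp only [h.dvd_orderOf_center_mul_iff hz, h2 z hz]
  rw [sum_split (g := fun j => f (x ^ j.val)) fun j hj => by
    rw [h.orderOf_pow (P1.not_dvd_val hj), if_pos dvd_rfl], ← sum_filter] at h3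
  simp only [ZMod.val_zero, pow_zero, orderOf_one, hp.out.not_dvd_one, if_false, zero_sub] at h3
  exact_mod_cast h3

theorem sum_norm (h : Ex p x y b e t) (hθ : IsCharacter G θ) (eθ : Exc p x θ s) (hs : s ^ 2 = 1) :
    ∑ j : ZMod p, ‖θ (x ^ j.val)‖ ^ 2 - ‖θ 1‖ ^ 2 = p * e - e ^ 2 := by
  have h1 := eθ.sum_neg
  simp only [h.pow_val_mul, h.pow_val_neg_one, inv_pow, hθ.apply_inv, Complex.mul_conj', hs,
    h.cardA] at h1
  rw [← Complex.ofReal_inj, hθ.norm_one]
  push_cast
  rw [h1, hθ.apply_one_eq_charDegree]; ring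

open Classical in
theorem sum_sing_norm [Fintype G] (h : Ex p x y b e t) (hθ : IsIrrCharacter G θ) :
    e * p * ∑ g with p ∣ orderOf g, ‖θ g‖ ^ 2 =
      Nat.card G * (∑ j : ZMod p, ‖θ (x ^ j.val)‖ ^ 2 - ‖θ 1‖ ^ 2) :=
  sum_sing h (f := fun g => ‖θ g‖ ^ 2) (fun g c => by rw [hθ.isClassFunction g c]) fun z hz g => by
    rw [norm_apply_mul_of_mem_charCenter (hθ.center_le_charCenter hz)]

/-- An exceptional irreducible character with small inertial index. -/
structure Sg (p : ℕ) [Fact p.Prime] (x y : G) (b : ZMod p) (e t : ℕ) (θ : G → ℂ) (s : ℂ) : Prop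
    extends Ex p x y b e t where
  irr : IsIrrCharacter G θ
  exc : Exc p x θ s
  sgn : s ^ 2 = 1
  lt : 2 * e < p

namespace Sg

variable (h : Sg p x y b e t θ s)
include h

open Classical in
theorem sum_eq [Fintype G] : p * ∑ g with p ∣ orderOf g, ‖θ g‖ ^ 2 = Nat.card G * (p - e) := by
  have h1 := sum_sing_norm h.toEx h.irr
  rw [sum_norm h.toEx h.irr.isCharacter h.exc h.sgn] at h1
  apply mul_left_cancel₀ (Nat.cast_ne_zero.2 h.e_pos.ne' : (e : ℝ) ≠ 0)
  linear_combination h1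

theorem eq_of_sing (h' : IsIrrCharacter G ζ) (hs : ∀ g, p ∣ orderOf g → ζ g = θ g) : ζ = θ := by
  classical
  have := Fintype.ofFinite G
  by_contra hne
  have h1 := card_mul_classInner (θ + ζ) (θ + ζ)
  rw [classInner_add_left, classInner_add_right, classInner_add_right, h.irr.inner_self,
    h'.inner_self, h'.inner_of_ne h.irr hne, h.irr.inner_of_ne h' (Ne.symm hne)] at h1
  simp only [Complex.mul_conj, Complex.normSq_eq_norm_sq] at h1
  have h2 : (Nat.card G * (1 + 0 + (0 + 1)) : ℝ) = ∑ g, ‖(θ + ζ) g‖ ^ 2 := by exact_mod_cast h1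
  have h3 : ∑ g with p ∣ orderOf g, 4 * ‖θ g‖ ^ 2 ≤ ∑ g, ‖(θ + ζ) g‖ ^ 2 := by
    rw [sum_filter]
    refine sum_le_sum fun g _ => ?_
    split_ifs with hg
    · rw [Pi.add_apply, hs g hg, ← two_mul, norm_mul, Complex.norm_ofNat]; linarith
    · positivity
  rw [← mul_sum] at h3
  have h4 := h.sum_eq
  have h5 : (0 : ℝ) < Nat.card G := by exact_mod_cast Nat.card_pos
  have h6 : (2 * e : ℝ) < p := by exact_mod_cast h.lt
  have h7 : (0 : ℝ) ≤ e := by positivity
  nlinarith

theorem pow_eq {n k : ℕ} (hn : n.Coprime (p * Nat.card (center G))) (h0 : n ≠ 0) (hg : g ^ n = 1)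
    (hk : k.Coprime n) : θ (g ^ k) = θ g := by
  obtain ⟨σ, -, -, -, -, -, h1, h2⟩ := exists_ringEquiv_pow_pow h0
    (mul_pos hp.out.pos Nat.card_pos).ne' hn hk (Nat.coprime_one_left _)
  rw [← h.irr.isCharacter.gal_apply (σ := σ.toRingHom) h1 hg]
  refine congrFun (h.eq_of_sing (h.irr.gal σ.toRingHom) fun w hw => ?_) g
  obtain ⟨c, z, hz, j, -, hc⟩ := h.exists_conj' hw
  rw [h.irr.isCharacter.gal_apply (σ := σ.toRingHom) h2 (conj_eq_one_iff.1 (show c⁻¹ * _ * c⁻¹⁻¹ = 1 by
    rw [← conj_pow, inv_inv, hc, (show Commute z _ from (mem_center_iff.1 hz _).symm).mul_pow,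
      pow_right_comm, pow_mul x, h.pow_p, pow_mul', show z ^ _ = 1 from
        congrArg Subtype.val (pow_card_eq_one' (x := (⟨z, hz⟩ : center G)))]; simp)), pow_one]

theorem exists_int (hn : (orderOf g).Coprime (p * Nat.card (center G))) : ∃ a : ℤ, θ g = a :=
  h.irr.isGen.exists_int_of_pow (orderOf_pos g).ne' (pow_orderOf_eq_one g) fun _ =>
    h.pow_eq hn (orderOf_pos g).ne' (pow_orderOf_eq_one g)

theorem sup_center (hd : charDegree θ + e = p) (he : e ≠ 1) : commutator G ⊔ center G = ⊤ := by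
  have h1 : commutator (G ⧸ center G) = ⊤ := commutator_eq_top_iff_hom.2 fun μ => by
    obtain ⟨M, hM⟩ := CL.BS.exists_isPModular p hp.out
    have := charP_F hM
    obtain ⟨σ, v, c, B⟩ := h.exists_blk1 hM h.irr hd
    obtain ⟨Q, hQ⟩ := h.exists_sylow
    obtain ⟨lam, hl⟩ : ∃ lam, lam = μ.comp (QuotientGroup.mk' _) := ⟨_, rfl⟩
    have e0 : ∀ z ∈ center G, lam z = 1 := fun z hz => by
      simp [hl, (QuotientGroup.eq_one_iff z).2 hz]
    have e1 := h.apply_eq_one he lam
    have e2 := congrFun (h.eq_of_sing (h.irr.hom_mul lam) fun w hw => by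
      obtain ⟨c, z, hz, j, -, hc⟩ := h.exists_conj' hw
      have := congrArg lam hc
      simp only [map_mul, map_inv, map_pow, e0 z hz, e1, one_pow, inv_mul_cancel_comm, mul_one] at this
      simp [this]) (y ^ 1)
    rw [mul_eq_right₀ (by
      rw [B.val 1 (by simpa), pow_one]
      exact fun e => by simpa [e, (orderOf_pos y).ne'] using B.pow), pow_one, Units.val_eq_one] at e2
    have : lam.ker = ⊤ := by
      rw [← Q.normalizer_sup_eq_top' (N := lam.ker) (hQ ▸ zpowers_le.2 e1), eq_comm, sup_eq_right]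
      intro n hn
      obtain ⟨z, hz, i, j, rfl⟩ := h.gen n (hQ ▸ hn)
      simp [e0 z hz, e1, e2]
    exact QuotientGroup.monoidHom_ext _ (hl ▸ MonoidHom.ker_eq_top_iff.1 this)
  rw [← QuotientGroup.ker_mk' (center G), ← comap_map_eq, _root_.commutator_def, map_commutator,
    map_top_of_surjective _ (QuotientGroup.mk'_surjective _), ← _root_.commutator_def, h1, comap_top]

end Sg

theorem simple_quot (h : PZ p x) (hG : commutator G = ⊤) (hζ : IsCharacter G ζ)
    (hk : charKer ζ = ⊥) (hd : charDegree ζ + 1 < p) : IsSimpleGroup (G ⧸ center G) ∧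
      ¬ IsMulCommutative (G ⧸ center G) ∧ commutator (G ⧸ center G) = ⊤ := by
  have h1 : commutator (G ⧸ center G) = ⊤ := by
    have := map_commutator ⊤ ⊤ (QuotientGroup.mk' (center G))
    rw [← _root_.commutator_def, hG, map_top_of_surjective _ (QuotientGroup.mk'_surjective _)] at this
    exact this.symm
  have : Nontrivial (G ⧸ center G) := ⟨⟨_, 1, h.quot.1.ne_one⟩⟩
  refine ⟨⟨fun K hK => ?_⟩, fun h2 => top_ne_bot (h1.symm.trans (commutator_eq_bot_iff _ |>.2 h2)),
    h1⟩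
  by_cases h2 : p ∣ Nat.card K
  · exact Or.inr (eq_top_iff.2 (h1 ▸ SelfCent.commutator_le ⟨h.quot.1.ord, h.quot.2⟩ K h2))
  have h3 : ¬ p ∣ Nat.card (K.comap (QuotientGroup.mk' (center G))) := by
    rw [CL.card_comap_mk' , hp.out.dvd_mul, not_or]
    exact ⟨h2, h.not_dvd_center⟩
  refine Or.inl (eq_bot_iff.2 fun k hk' => ?_)
  obtain ⟨k, rfl⟩ := QuotientGroup.mk_surjective k
  exact (QuotientGroup.eq_one_iff k).2 (h.mem_center_of_reg (h.commute_of_normal hζ
    (hζ.charKer_eq_bot_iff.1 hk) hd _ h3 hk') fun e => h3 (e.trans (orderOf_dvd_natCard _ hk')))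

theorem ex_quot (h : Ex p x y b e t) (hZ : center (G ⧸ center G) = ⊥) :
    ∃ y' b', Ex p (x : G ⧸ center G) y' b' e t := by
  obtain ⟨h1, h2⟩ := h.quot
  obtain ⟨y', b', t', h3⟩ := exists_ex (p := p) ⟨h1, fun g hg => by
    obtain ⟨j, rfl⟩ := mem_powers_iff_mem_zpowers.2
      (h2.le (CL.Small.mem_centralizer_singleton_iff'.2 hg))
    exact ⟨1, one_mem _, j, (one_mul _).symm⟩, hZ ▸ h1.ne_one⟩
  have h4 : expA p (x : G ⧸ center G) = expA p x := Finset.ext fun a => by
    rw [mem_expA, mem_expA]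
    refine ⟨fun h4 => ?_, fun h4 => (QuotientGroup.mk' _).map_isConj h4⟩
    obtain ⟨c, hc⟩ := isConj_iff.1 h4
    obtain ⟨c, rfl⟩ := QuotientGroup.mk_surjective c
    have h5 : (x ^ a.val)⁻¹ * (c * x * c⁻¹) ∈ center G := QuotientGroup.eq.1 hc.symm
    refine isConj_iff.2 ⟨c, (inv_mul_eq_one.1 (by_contra fun h6 => h.not_dvd_of_center h5
      (orderOf_eq_prime ?_ h6).symm.dvd)).symm⟩
    have := congrArg (· ^ p) (mul_inv_cancel_left (x ^ a.val) (c * x * c⁻¹))
    simp only [(show Commute (x ^ a.val) _ from mem_center_iff.1 h5 _).mul_pow, conj_pow, h.pow_p,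
      pow_right_comm x] at this
    simpa using this
  rw [h4, h.cardA] at h3
  obtain rfl : t' = t := Nat.eq_of_mul_eq_mul_right h.e_pos
    (Nat.add_right_cancel (h3.te.trans h.te.symm))
  exact ⟨y', b', h3⟩

theorem exists_N (hζ : IsIrrCharacter G ζ) : ∃ N : G ⧸ center G → ℂ, IsCharacter _ N ∧
    (∀ g : G, N g = ‖ζ g‖ ^ 2) ∧ ∀ [Fintype (G ⧸ center G)], classInner N (fun _ => 1) = 1 := by
  have := Fintype.ofFinite G
  obtain ⟨N, h1, h2⟩ := (hζ.isCharacter.mul hζ.isCharacter.conj).exists_quot (center G) fun z hz => by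
    simp [Complex.mul_conj', norm_apply_of_mem_charCenter (hζ.center_le_charCenter hz)]
  refine ⟨N, h1, fun g => by simpa [Complex.mul_conj'] using (congrFun h2 g).symm, ?_⟩
  intro
  rw [← classInner_comp_surjective _ (QuotientGroup.mk'_surjective (center G))]
  exact (congrArg (classInner · _) h2).symm.trans (by simp [classInner_mul_left, hζ.inner_self])

end CL.Lin
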