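import Mathlib

/-!
# Arithmetic for the characterisation of `PSL(2, p²)` by its order and a character of degree `p²`
-/

set_option autoImplicit false

namespace CL.Lp2

theorem factor_eq (p : ℕ) (hp : 1 ≤ p) : p ^ 4 - 1 = (p - 1) * (p + 1) * (p ^ 2 + 1) := by
  obtain ⟨k, rfl⟩ : ∃ k, p = k + 1 := ⟨p - 1, by omega⟩
  have : (k + 1) ^ 4 = (k + 1 - 1) * (k + 1 + 1) * ((k + 1) ^ 2 + 1) + 1 := by
    simp only [Nat.add_sub_cancel]; ring
  omega

theorem sq_sub_eq (p : ℕ) (hp : 1 ≤ p) : p ^ 2 - 1 = (p - 1) * (p + 1) := by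
  obtain ⟨k, rfl⟩ : ∃ k, p = k + 1 := ⟨p - 1, by omega⟩
  have : (k + 1) ^ 2 = (k + 1 - 1) * (k + 1 + 1) + 1 := by
    simp only [Nat.add_sub_cancel]; ring
  omega

theorem ge_of_modEq {p d : ℕ} (h : d ≡ 1 [MOD p]) (h1 : 1 < d) : p + 1 ≤ d := by
  have := Nat.le_of_dvd (by omega) ((Nat.modEq_iff_dvd' h1.le).1 h.symm)
  omega

/-- divisors of `p² + 1` that are `1` modulo `p` -/
theorem dvd_sq_add_one {p d : ℕ} (hp : 2 ≤ p) (hd : d ∣ p ^ 2 + 1) (h : d ≡ 1 [MOD p]) :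
    d = 1 ∨ d = p ^ 2 + 1 := by
  obtain ⟨e, he⟩ := hd
  have hd0 : d ≠ 0 := by rintro rfl; simp at he
  have he0 : e ≠ 0 := by rintro rfl; simp at he
  by_cases h1 : d = 1
  · exact Or.inl h1
  right
  have hge := ge_of_modEq h (by omega)
  have h2 : e ≡ 1 [MOD p] := by
    have h3 : d * e ≡ 1 * e [MOD p] := h.mul_right e
    rw [← he, one_mul] at h3
    refine h3.symm.trans ?_
    have : p ^ 2 + 1 ≡ 0 + 1 [MOD p] :=
      Nat.ModEq.add_right 1 ((Nat.modEq_zero_iff_dvd).2 (dvd_pow_self p two_ne_zero))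
    simpa using this
  by_cases h4 : e = 1
  · rw [he, h4, mul_one]
  have := ge_of_modEq h2 (by omega)
  have := Nat.mul_le_mul hge this
  nlinarith

/-- divisors of `p⁴ - 1` that are `1` modulo `p²` -/
theorem dvd_four {p d : ℕ} (hp : 2 ≤ p) (hd : d ∣ p ^ 4 - 1) (h : d ≡ 1 [MOD p ^ 2]) (h1 : 1 < d) :
    d = p ^ 2 + 1 := by
  obtain ⟨e, he⟩ := hd
  have hq : 4 ≤ p ^ 2 := by nlinarith
  have h4 : p ^ 4 = p ^ 2 * p ^ 2 := by ring
  set q := p ^ 2 with hq'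
  have hge := ge_of_modEq h h1
  have hqq : 1 ≤ q * q := by nlinarith
  have he1 : d * e + 1 = q * q := by omega
  have h2 : e + 1 ≡ 0 [MOD q] := by
    have h3 : d * e + 1 ≡ 1 * e + 1 [MOD q] := (h.mul_right e).add_right 1
    rw [he1, one_mul] at h3
    exact h3.symm.trans ((Nat.modEq_zero_iff_dvd).2 (dvd_mul_right q q))
  have h5 : q ≤ e + 1 := Nat.le_of_dvd (by omega) ((Nat.modEq_zero_iff_dvd).1 h2)
  by_contra hne
  have h6 : q + 2 ≤ d := by omega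
  obtain ⟨e', rfl⟩ : ∃ e', e = e' + (q - 1) := ⟨e - (q - 1), by omega⟩
  obtain ⟨q', hq''⟩ : ∃ q', q = q' + 1 := ⟨q - 1, by omega⟩
  rw [hq''] at he1 h6 hq
  simp only [Nat.add_sub_cancel] at he1
  nlinarith

theorem odd_of_prime {p : ℕ} (hp : p.Prime) (h5 : 5 < p) : p % 2 = 1 :=
  (hp.eq_two_or_odd).resolve_left (by omega)

theorem sq_add_one_eq {p : ℕ} (h : p % 2 = 1) : ∃ m, p ^ 2 + 1 = 2 * m ∧ m % 2 = 1 := by
  obtain ⟨k, rfl⟩ : ∃ k, p = 2 * k + 1 := ⟨p / 2, by omega⟩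
  exact ⟨2 * (k * k + k) + 1, by ring, by omega⟩

/-- the `2`-part of `(p⁴ - 1)/2` is at most `2(p + 1)` -/
theorem two_pow_le {p k : ℕ} (h : p % 2 = 1) (hp : 2 ≤ p) (hd : 2 * 2 ^ k ∣ p ^ 4 - 1) :
    2 ^ k ≤ 2 * (p + 1) := by
  obtain ⟨m, hm, hm1⟩ := sq_add_one_eq h
  rw [factor_eq p (by omega), hm, show (p - 1) * (p + 1) * (2 * m) = 2 * ((p - 1) * (p + 1) * m) by
    ring] at hd
  have h1 := Nat.dvd_of_mul_dvd_mul_left two_pos hd
  have hc : ∀ j n : ℕ, n % 2 = 1 → Nat.Coprime (2 ^ j) n := fun j n hn =>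
    Nat.Coprime.pow_left j ((Nat.coprime_two_left).2 (Nat.odd_iff.2 hn))
  have h2 := (hc k m hm1).dvd_of_dvd_mul_right h1
  rcases k with _ | k
  · simp; omega
  rcases (by omega : p % 4 = 1 ∨ p % 4 = 3) with h4 | h4
  · obtain ⟨a, ha⟩ : ∃ a, p + 1 = 2 * a ∧ a % 2 = 1 := ⟨(p + 1) / 2, by omega, by omega⟩
    rw [ha.1, show (p - 1) * (2 * a) = 2 * ((p - 1) * a) by ring, pow_succ'] at h2
    have h3 := (hc k a ha.2).dvd_of_dvd_mul_right (Nat.dvd_of_mul_dvd_mul_left two_pos h2)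
    have := Nat.le_of_dvd (by omega) h3
    rw [pow_succ']; omega
  · obtain ⟨a, ha⟩ : ∃ a, p - 1 = 2 * a ∧ a % 2 = 1 := ⟨(p - 1) / 2, by omega, by omega⟩
    rw [ha.1, show 2 * a * (p + 1) = 2 * ((p + 1) * a) by ring, pow_succ'] at h2
    have h3 := (hc k a ha.2).dvd_of_dvd_mul_right (Nat.dvd_of_mul_dvd_mul_left two_pos h2)
    have := Nat.le_of_dvd (by omega) h3
    rw [pow_succ']; omega

/-- prime powers dividing `(p⁴ - 1)/2` that are `1` modulo `p` -/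
theorem prime_pow_case {p r k : ℕ} (hp : p.Prime) (h5 : 5 < p) (hr : r.Prime) (hk : 1 ≤ k)
    (hd : 2 * r ^ k ∣ p ^ 4 - 1) (h : r ^ k ≡ 1 [MOD p]) : r = 2 ∧ r ^ k = p + 1 := by
  have hodd := odd_of_prime hp h5
  have h1 : 1 < r ^ k := Nat.one_lt_pow (by omega) hr.one_lt
  have hge := ge_of_modEq h h1
  by_cases h2 : r = 2
  · subst h2
    refine ⟨rfl, ?_⟩
    have h3 := two_pow_le hodd (by omega) hd
    have h4 : 2 ∣ 2 ^ k := dvd_pow_self 2 (by omega)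
    obtain ⟨c, hc⟩ := (Nat.modEq_iff_dvd' h1.le).1 h.symm
    have hc1 : c ≠ 0 := by rintro rfl; omega
    have hc2 : c < 3 := by
      by_contra hh
      have := Nat.mul_le_mul_left p (not_lt.1 hh)
      omega
    interval_cases c <;> omega
  · exfalso
    have hro : r % 2 = 1 := (hr.eq_two_or_odd).resolve_left h2
    have hev : ¬ 2 ∣ r ^ k := fun hh => by
      have := (Nat.prime_dvd_prime_iff_eq Nat.prime_two hr).1 (Nat.prime_two.dvd_of_dvd_pow hh)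
      omega
    have hd' : r ^ k ∣ (p - 1) * (p + 1) * (p ^ 2 + 1) := by
      rw [← factor_eq p (by omega)]; exact (dvd_mul_left _ _).trans hd
    have hcp : ∀ n, ¬ r ∣ n → Nat.Coprime (r ^ k) n := fun n hn =>
      Nat.Coprime.pow_left k ((hr.coprime_iff_not_dvd).2 hn)
    have hr2 : ¬ r ∣ 2 := fun hh => h2 ((Nat.prime_dvd_prime_iff_eq hr Nat.prime_two).1 hh)
    by_cases h3 : r ∣ p ^ 2 + 1
    · have h4 : ¬ r ∣ (p - 1) * (p + 1) := fun hh => by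
        rw [← sq_sub_eq p (by omega)] at hh
        have h6 := Nat.dvd_sub h3 hh
        have : 1 ≤ p ^ 2 := Nat.one_le_pow _ _ (by omega)
        rw [show p ^ 2 + 1 - (p ^ 2 - 1) = 2 by omega] at h6
        exact hr2 h6
      rcases dvd_sq_add_one (by omega) ((hcp _ h4).dvd_of_dvd_mul_left hd') h with h6 | h6
      · omega
      · obtain ⟨m, hm, -⟩ := sq_add_one_eq hodd
        exact hev (by rw [h6, hm]; exact dvd_mul_right _ _)
    · have h4 := (hcp _ h3).dvd_of_dvd_mul_right hd'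
      by_cases h6 : r ∣ p + 1
      · have h7 : ¬ r ∣ p - 1 := fun hh => by
          have h8 := Nat.dvd_sub h6 hh
          rw [show p + 1 - (p - 1) = 2 by omega] at h8
          exact hr2 h8
        have h8 := Nat.le_of_dvd (by omega) ((hcp _ h7).dvd_of_dvd_mul_left h4)
        exact hev (by rw [show r ^ k = p + 1 by omega]; omega)
      · have h8 := Nat.le_of_dvd (by omega) ((hcp _ h6).dvd_of_dvd_mul_right h4)
        omega

theorem coprime_four {p : ℕ} (hp : p.Prime) : Nat.Coprime p (p ^ 4 - 1) := by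
  have h1 : 1 ≤ p ^ 4 := Nat.one_le_pow _ _ hp.pos
  rw [hp.coprime_iff_not_dvd]
  intro h
  have := Nat.dvd_sub (dvd_pow_self p (by norm_num : 4 ≠ 0)) h
  rw [show p ^ 4 - (p ^ 4 - 1) = 1 by omega] at this
  exact hp.one_lt.ne' (Nat.dvd_one.1 this)

/-- numbers prime to `p` -/
theorem dvd_of_not_dvd {p n m : ℕ} (hp : p.Prime) (h5 : 5 < p) (h : 2 * n ∣ p ^ 2 * (p ^ 4 - 1))
    (hm : m ∣ n) (hpm : ¬ p ∣ m) : 2 * m ∣ p ^ 4 - 1 := by
  have h1 : Nat.Coprime (2 * m) (p ^ 2) := by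
    refine Nat.Coprime.pow_right 2 (Nat.Coprime.symm ((hp.coprime_iff_not_dvd).2 fun hh => ?_))
    rcases (hp.dvd_mul).1 hh with h2 | h2
    · have := Nat.le_of_dvd two_pos h2; omega
    · exact hpm h2
  exact h1.dvd_of_dvd_mul_left ((Nat.mul_dvd_mul_left 2 hm).trans h)

theorem not_cube_dvd {p n : ℕ} (hp : p.Prime) (h : 2 * n ∣ p ^ 2 * (p ^ 4 - 1)) : ¬ p ^ 3 ∣ n := by
  intro h3
  have h1 : p ^ 2 * p ∣ p ^ 2 * (p ^ 4 - 1) := by
    rw [← pow_succ]; exact (h3.trans (dvd_mul_left _ _)).trans h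
  exact (hp.coprime_iff_not_dvd).1 (coprime_four hp)
    (Nat.dvd_of_mul_dvd_mul_left (pow_pos hp.pos 2) h1)

end CL.Lp2
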