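import Mathlib
import Cfsg.Agent.BLK.Lp2A
import Cfsg.Agent.ODD.AuxH39b
import Cfsg.Agent.SOLV.Primitive
import Cfsg.Agent.SOLV.Fitting
import Cfsg.Agent.INV.Len.Tools
import Cfsg.Agent.INV.JR.Count

/-!
# Coprime action in groups of order dividing `p²(p⁴ - 1)/2`
-/

set_option autoImplicit false
set_option linter.unusedSectionVars false

namespace CL.Lp2

open Cfsg Subgroup CL.MSS
open scoped CL.MSS

variable {p : ℕ} [hp : Fact p.Prime] {G : Type*} [Group G] [Finite G]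

theorem act_prime (h5 : 5 < p) (ho : 2 * Nat.card G ∣ p ^ 2 * (p ^ 4 - 1)) {q : ℕ} (hq : q.Prime)
    {Y Q : Subgroup G} (hY : IsPGroup p Y) (hQ : IsPGroup q Q) (hpQ : ¬ p ∣ Nat.card Q)
    (hn : Y ≤ normalizer (Q : Set G)) (hc : ¬ Q ≤ centralizer (Y : Set G)) :
    q = 2 ∧ (∃ a, p + 1 = 2 ^ a) ∧
      Nat.card Q = (p + 1) * Nat.card (Q ⊓ centralizer (Y : Set G) : Subgroup G) := by
  haveI := Fact.mk hq
  obtain ⟨b, hb⟩ := hQ.exists_card_eq
  obtain ⟨c, hc'⟩ := (hQ.to_inf_left (K := centralizer (Y : Set G))).exists_card_eq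
  have hlt : Nat.card (Q ⊓ centralizer (Y : Set G) : Subgroup G) < Nat.card Q :=
    card_lt_of_lt (lt_of_le_of_ne inf_le_left fun h => hc (h ▸ inf_le_right))
  rw [hb, hc'] at hlt
  have hcb : c < b := (Nat.pow_lt_pow_iff_right hq.one_lt).1 hlt
  obtain ⟨k, rfl⟩ : ∃ k, b = k + c := ⟨b - c, by omega⟩
  have hm := CL.Prim.card_modEq_card_inf_centralizer hY hn
  rw [hb, hc', pow_add] at hm
  have hcop : Nat.gcd p (q ^ c) = 1 := (hp.out.coprime_iff_not_dvd).2 fun h =>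
    hpQ (by rw [hb, pow_add]; exact h.mul_left _)
  have h1 : q ^ k ≡ 1 [MOD p] := Nat.ModEq.cancel_right_of_coprime hcop (by rwa [one_mul])
  have hd : 2 * q ^ k ∣ p ^ 4 - 1 := dvd_of_not_dvd hp.out h5 ho
    (((dvd_mul_right _ _).trans (by rw [← pow_add, ← hb])).trans (card_subgroup_dvd_card Q))
    fun h => hpQ (by rw [hb, pow_add]; exact h.mul_right _)
  obtain ⟨h2, h3⟩ := prime_pow_case hp.out h5 hq (by omega) hd h1
  refine ⟨h2, ⟨k, by rw [← h3, h2]⟩, by rw [hb, hc', pow_add, h3]⟩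

theorem act (h5 : 5 < p) (ho : 2 * Nat.card G ∣ p ^ 2 * (p ^ 4 - 1))
    {Y W : Subgroup G} (hY : IsPGroup p Y) (hpW : ¬ p ∣ Nat.card W)
    (hn : Y ≤ normalizer (W : Set G)) (hc : ¬ W ≤ centralizer (Y : Set G)) :
    ∃ R ≤ W, IsPGroup 2 R ∧ Y ≤ normalizer (R : Set G) ∧ (∃ a, p + 1 = 2 ^ a) ∧
      Nat.card R = (p + 1) * Nat.card (R ⊓ centralizer (Y : Set G) : Subgroup G) := by
  obtain ⟨k, hk⟩ := hY.exists_card_eq
  haveI := hY.isNilpotent
  obtain ⟨q, hq, -, Q, hQ, hYQ, hc'⟩ := CL.BG.H39.exists_inv_sylIn_not_cent hn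
    (by rw [hk]; exact Nat.Coprime.pow_right k ((hp.out.coprime_iff_not_dvd).2 hpW).symm)
    (Or.inl inferInstance) hc
  obtain ⟨rfl, h2, h3⟩ := act_prime h5 ho hq hY hQ.pgroup
    (fun h => hpW (h.trans (card_dvd_of_le hQ.le))) hYQ hc'
  exact ⟨Q, hQ.le, hQ.pgroup, hYQ, h2, h3⟩

theorem not_four_mul_dvd (h5 : 5 < p) (ho : 2 * Nat.card G ∣ p ^ 2 * (p ^ 4 - 1)) {a : ℕ}
    (ha : p + 1 = 2 ^ a) : ¬ 4 * (p + 1) ∣ Nat.card G := by
  intro h
  have h1 : 4 * (p + 1) = 2 ^ (a + 2) := by rw [ha]; ring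
  rw [h1] at h
  have h2 := dvd_of_not_dvd hp.out h5 ho h fun hh => by
    have := (Nat.prime_dvd_prime_iff_eq hp.out Nat.prime_two).1 (hp.out.dvd_of_dvd_pow hh)
    omega
  have := two_pow_le (odd_of_prime hp.out h5) (by omega) h2
  omega

theorem eight_dvd (h5 : 5 < p) {a : ℕ} (ha : p + 1 = 2 ^ a) : 8 ∣ p + 1 := by
  rw [ha]
  have : 3 ≤ a := by
    by_contra h
    have : a ≤ 2 := by omega
    interval_cases a <;> omega
  exact pow_dvd_pow 2 this

theorem comm_of_isPGroup (ho : 2 * Nat.card G ∣ p ^ 2 * (p ^ 4 - 1)) {Y : Subgroup G}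
    (hY : IsPGroup p Y) {a b : G} (ha : a ∈ Y) (hb : b ∈ Y) : a * b = b * a := by
  obtain ⟨k, hk⟩ := hY.exists_card_eq
  have hk2 : k ≤ 2 := by
    by_contra h
    exact not_cube_dvd hp.out ho ((pow_dvd_pow p (by omega)).trans
      (hk ▸ card_subgroup_dvd_card Y))
  have : IsMulCommutative Y := by
    interval_cases k
    · haveI : Subsingleton Y := (Nat.card_eq_one_iff_unique.1 (by simpa using hk)).1
      exact ⟨⟨fun a b => Subsingleton.elim _ _⟩⟩
    · haveI := isCyclic_of_prime_card (p := p) (by simpa using hk)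
      infer_instance
    · exact IsPGroup.isMulCommutative_of_card_eq_prime_sq hk
  exact congrArg Subtype.val (this.is_comm.comm ⟨a, ha⟩ ⟨b, hb⟩)

/-- a `p`-group acting non-trivially on a group of order `p + 1` is transitive on the non-identity
elements -/
theorem trans {Y W : Subgroup G} (hY : IsPGroup p Y) (hn : Y ≤ normalizer (W : Set G))
    (hW : Nat.card W = p + 1) {v : G} (hv : v ∈ W) (hc : ¬ Y ≤ centralizer ({v} : Set G)) :
    (centralizer ({v} : Set G)).relIndex Y = p ∧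
      ∀ w ∈ W, w ≠ 1 → ∃ y ∈ Y, y * v * y⁻¹ = w := by
  have hv1 : v ≠ 1 := by
    rintro rfl
    exact hc fun y _ => by simp [mem_centralizer_iff]
  obtain ⟨k, hk⟩ := hY.exists_card_eq
  have h1 : (centralizer ({v} : Set G)).relIndex Y ∣ p ^ k := hk ▸ relIndex_dvd_card _ _
  obtain ⟨j, -, hj⟩ := (Nat.dvd_prime_pow hp.out).1 h1
  have hj0 : j ≠ 0 := by
    rintro rfl
    exact hc (relIndex_eq_one.1 (by simpa using hj))
  have hsub : {y : G | ∃ a ∈ Y, a * v * a⁻¹ = y} ⊆ (W : Set G) \ {1} := by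
    rintro _ ⟨a, ha, rfl⟩
    exact ⟨conj_mem_of_normalizes hn ha hv, fun h => hv1 (by simpa using h)⟩
  have hcard : ((W : Set G) \ {1}).ncard = p := by
    rw [Set.ncard_diff_singleton_of_mem W.one_mem, ← Nat.card_coe_set_eq]
    simp only [SetLike.coe_sort_coe, hW]; rfl
  have h2 := Set.ncard_le_ncard hsub
  rw [← CL.JR.relIndex_centralizer_eq_ncard, hcard, hj] at h2
  have h3 : p ≤ p ^ j := Nat.le_self_pow hj0 p
  have h4 : (centralizer ({v} : Set G)).relIndex Y = p := by omega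
  refine ⟨h4, fun w hw hw1 => ?_⟩
  have := Set.eq_of_subset_of_ncard_le hsub
    (by rw [← CL.JR.relIndex_centralizer_eq_ncard, hcard, h4])
  have h5 : w ∈ (W : Set G) \ {1} := ⟨hw, hw1⟩
  rw [← this] at h5
  exact h5

end CL.Lp2
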