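import Mathlib
import Cfsg.Agent.BLK.Lp2B

/-!
# The Mersenne case: the Sylow `2`-subgroups are abelian
-/

set_option autoImplicit false
set_option linter.unusedSectionVars false

namespace CL.Lp2

open Cfsg Subgroup CL.MSS
open scoped CL.MSS

variable {p : ℕ} [hp : Fact p.Prime] {G : Type*} [Group G] [Finite G]

theorem isPGroup_zpowers {y : G} {k : ℕ} (hy : y ^ p ^ k = 1) : IsPGroup p (zpowers y) := by
  obtain ⟨j, -, hj⟩ := (Nat.dvd_prime_pow hp.out).1 (orderOf_dvd_of_pow_eq_one hy)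
  exact IsPGroup.of_card (by rw [Nat.card_zpowers, hj])

/-- if `4` does not divide the order then all `p`-elements commute -/
theorem comm_of_not_four (h5 : 5 < p) (ho : 2 * Nat.card G ∣ p ^ 2 * (p ^ 4 - 1))
    (h4 : ¬ 4 ∣ Nat.card G) {a b : G} {k l : ℕ} (ha : a ^ p ^ k = 1) (hb : b ^ p ^ l = 1) :
    a * b = b * a := by
  haveI := CL.Len.solvable_of_not_four_dvd h4
  have key : ∀ (y : G) (k : ℕ), y ^ p ^ k = 1 → y ∈ pCore p G := by
    intro y k hy
    have hY := isPGroup_zpowers hy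
    have h1 : pPrimeCore p G ≤ centralizer (zpowers y : Set G) := by
      by_contra hc
      obtain ⟨R, -, -, -, ⟨a, ha⟩, hR⟩ := act h5 ho hY (not_dvd_card_pPrimeCore p G)
        (by rw [normalizer_eq_top]; exact le_top) hc
      exact h4 ((((by norm_num : 4 ∣ 8).trans (eight_dvd h5 ha)).trans
        (hR ▸ dvd_mul_right _ _)).trans (card_subgroup_dvd_card R))
    have h2 : pCore p G ≤ centralizer (zpowers y : Set G) := fun x hx z hz =>
      comm_of_isPGroup ho (isPGroup_sup_of_normalizes hY (isPGroup_pCore p G)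
        (by rw [normalizer_eq_top]; exact le_top)) (mem_sup_left hz) (mem_sup_right hx)
    have h3 : zpowers y ≤ fittingSubgroup G :=
      (le_centralizer_iff.1 ((fittingSubgroup_le_pCore_sup p).trans (sup_le h2 h1))).trans
        (centralizer_fittingSubgroup_le G)
    exact le_pCore_of_le_fittingSubgroup h3 hY (mem_zpowers y)
  exact comm_of_isPGroup ho (isPGroup_pCore p G) (key a k ha) (key b l hb)

/-- an involutory automorphism of an elementary abelian group of order at least eight fixes two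
non-identity elements -/
theorem two_fixed {V : Subgroup G} (h8 : 8 ≤ Nat.card V) (hel : ∀ v ∈ V, v * v = 1) {t : G}
    (ht : t ∈ normalizer (V : Set G)) (htt : t * t ∈ V) :
    ∃ v ∈ V, ∃ w ∈ V, v ≠ 1 ∧ w ≠ 1 ∧ v ≠ w ∧ t * v * t⁻¹ = v ∧ t * w * t⁻¹ = w := by
  have hcomm : ∀ a ∈ V, ∀ b ∈ V, a * b = b * a := fun a ha b hb =>
    (CL.JR.commute_of_sq hel ha hb).eq
  have hconj : ∀ v ∈ V, t * v * t⁻¹ ∈ V := fun v hv => (mem_normalizer_iff.1 ht v).1 hv
  set F : Subgroup G := V ⊓ centralizer ({t} : Set G) with hF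
  have hmem : ∀ v, v ∈ F ↔ v ∈ V ∧ t * v * t⁻¹ = v := fun v => by
    rw [hF, mem_inf, mem_centralizer_singleton_iff, mul_inv_eq_iff_eq_mul, eq_comm]
  let f : V →* F :=
    { toFun := fun v => ⟨v * (t * v * t⁻¹), (hmem _).2 ⟨V.mul_mem v.2 (hconj _ v.2), by
        have h1 : t * t * v = v * (t * t) := hcomm _ htt _ v.2
        have h2 : t * (v * (t * v * t⁻¹)) * t⁻¹ = (t * v * t⁻¹) * (t * t * v * t⁻¹ * t⁻¹) := by
          group
        rw [h2, h1, hcomm _ v.2 _ (hconj _ v.2)]; group⟩⟩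
      map_one' := by ext; simp
      map_mul' := fun a b => by
        ext
        have h1 := hcomm _ b.2 _ (hconj _ a.2)
        simp only [coe_mul]
        calc (a : G) * b * (t * (a * b) * t⁻¹) = a * (b * (t * a * t⁻¹)) * (t * b * t⁻¹) := by group
          _ = _ := by rw [h1]; group }
  have hker : Nat.card f.ker ≤ Nat.card F := by
    refine Nat.card_le_card_of_injective (fun v => ⟨v.1.1, (hmem _).2 ⟨v.1.2, ?_⟩⟩) ?_
    · have h1 : (v.1.1 : G) * (t * v.1.1 * t⁻¹) = 1 := congrArg Subtype.val (f.mem_ker.1 v.2)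
      exact mul_left_cancel (h1.trans (hel _ v.1.2).symm)
    · intro a b h
      exact Subtype.ext (Subtype.ext (congrArg (fun x : F => (x : G)) h))
  have hr : Nat.card f.range ≤ Nat.card F := card_le_card_group _
  have h1 := f.ker.card_mul_index
  rw [index_ker] at h1
  have h2 := Nat.mul_le_mul hker hr
  have h3 : 2 < Nat.card F := by
    by_contra h
    have := Nat.mul_le_mul (not_lt.1 h) (not_lt.1 h)
    omega
  haveI := Fintype.ofFinite F
  rw [Nat.card_eq_fintype_card] at h3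
  obtain ⟨v, hv⟩ : ∃ v : F, v ≠ 1 := by
    obtain ⟨a, b, -, hab, -⟩ := Fintype.two_lt_card_iff.1 h3
    by_cases h : a = 1
    · exact ⟨b, fun h' => hab (h.trans h'.symm)⟩
    · exact ⟨a, h⟩
  obtain ⟨w, hw1, hw2⟩ : ∃ w : F, w ≠ 1 ∧ w ≠ v := by
    obtain ⟨a, b, c, hab, hac, hbc⟩ := Fintype.two_lt_card_iff.1 h3
    by_contra h
    push Not at h
    by_cases ha : a = 1
    · exact hbc ((h b fun h' => hab (ha.trans h'.symm)).trans
        (h c fun h' => hac (ha.trans h'.symm)).symm)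
    · by_cases hb : b = 1
      · exact hac ((h a ha).trans (h c fun h' => hbc (hb.trans h'.symm)).symm)
      · exact hab ((h a ha).trans (h b hb).symm)
  exact ⟨v, ((hmem _).1 v.2).1, w, ((hmem _).1 w.2).1, fun h => hv (Subtype.ext h),
    fun h => hw1 (Subtype.ext h), fun h => hw2 (Subtype.ext h).symm, ((hmem _).1 v.2).2,
    ((hmem _).1 w.2).2⟩

theorem cent_of_sq (h5 : 5 < p) (ho : 2 * Nat.card G ∣ p ^ 2 * (p ^ 4 - 1)) {a : ℕ}
    (ha : p + 1 = 2 ^ a) {V Y : Subgroup G} (hV : Nat.card V = p + 1) (hel : ∀ v ∈ V, v * v = 1)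
    (hY : IsPGroup p Y) (hn : Y ≤ normalizer (V : Set G))
    (hc : V ⊓ centralizer (Y : Set G) = ⊥) {t : G}
    (ht : t ∈ normalizer (V : Set G)) (htt : t * t ∈ V) : t ∈ centralizer (V : Set G) := by
  have h8 : 8 ≤ Nat.card V := hV ▸ Nat.le_of_dvd (by omega) (eight_dvd h5 ha)
  obtain ⟨v, hv, w, hw, hv1, hw1, hvw, htv, htw⟩ := two_fixed h8 hel ht htt
  have hYv : ¬ Y ≤ centralizer ({v} : Set G) := fun h => hv1 (by
    rw [← mem_bot, ← hc]
    exact ⟨hv, fun y hy => (mem_centralizer_singleton_iff.1 (h hy))⟩)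
  obtain ⟨ψ, hψ, hψv⟩ := (trans hY hn hV hv hYv).2 w hw hw1
  obtain ⟨k, hk⟩ := hY ⟨ψ, hψ⟩
  have hk' : ψ ^ p ^ k = 1 := congrArg Subtype.val hk
  have hZ := isPGroup_zpowers hk'
  have hZn : zpowers ψ ≤ normalizer (V : Set G) := zpowers_le.2 (hn hψ)
  have hZv : ¬ zpowers ψ ≤ centralizer ({v} : Set G) := fun h => hvw (by
    rw [← hψv, mem_centralizer_singleton_iff.1 (h (mem_zpowers ψ))]; group)
  have htr := (trans hZ hZn hV hv hZv).2
  set f := V.normalizerMonoidHom with hf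
  have hfa : ∀ (g : normalizer (V : Set G)) (u : V), ((f g u : V) : G) = g * u * (g : G)⁻¹ :=
    fun _ _ => rfl
  have hVC : V ≤ centralizer (V : Set G) := fun x hx y hy => (CL.JR.commute_of_sq hel hy hx).eq
  have hcard : Nat.card f.range * Nat.card (centralizer (V : Set G)) ∣ Nat.card G := by
    have h1 := f.ker.card_mul_index
    rw [index_ker, hf, normalizerMonoidHom_ker,
      card_subgroupOf_of_le (centralizer_le_normalizer _), mul_comm] at h1
    rw [h1]; exact card_subgroup_dvd_card _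
  have h4 : ¬ 4 ∣ Nat.card f.range := fun h => not_four_mul_dvd h5 ho ha
    ((Nat.mul_dvd_mul h (hV ▸ card_dvd_of_le hVC)).trans hcard)
  have ho' : 2 * Nat.card f.range ∣ p ^ 2 * (p ^ 4 - 1) :=
    (Nat.mul_dvd_mul_left 2 ((dvd_mul_right _ _).trans hcard)).trans ho
  set ψ' : normalizer (V : Set G) := ⟨ψ, hn hψ⟩ with hψ'
  set t' : normalizer (V : Set G) := ⟨t, ht⟩ with ht'
  have hp1 : ψ' ^ p ^ k = 1 := Subtype.ext hk'
  have hcm : f ψ' * f (t' * ψ' * t'⁻¹) = f (t' * ψ' * t'⁻¹) * f ψ' := by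
    have := comm_of_not_four h5 ho' h4 (a := ⟨f ψ', ψ', rfl⟩) (b := ⟨f (t' * ψ' * t'⁻¹), _, rfl⟩)
      (k := k) (l := k) (Subtype.ext (by simp [← map_pow, hp1]))
      (Subtype.ext (by
        simp only [SubgroupClass.coe_pow, OneMemClass.coe_one]
        rw [← map_pow, conj_pow, hp1]; simp))
    exact congrArg Subtype.val this
  -- an automorphism commuting with `ψ` and fixing `v` is trivial
  have key : ∀ φ : MulAut V, Commute φ (f ψ') → φ ⟨v, hv⟩ = ⟨v, hv⟩ → φ = 1 := by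
    intro φ h1 h2
    ext u
    by_cases hu : (u : G) = 1
    · rw [show u = 1 from Subtype.ext hu]; simp
    obtain ⟨b, hb, hbu⟩ := htr u u.2 hu
    obtain ⟨j, rfl⟩ := mem_zpowers_iff.1 hb
    have h3 : (f ψ' ^ j) ⟨v, hv⟩ = u := by
      rw [← map_zpow]; exact Subtype.ext hbu
    have h4 : φ ((f ψ' ^ j) ⟨v, hv⟩) = (f ψ' ^ j) (φ ⟨v, hv⟩) :=
      congrArg (fun θ : MulAut V => θ ⟨v, hv⟩) (h1.zpow_right j).eq
    rw [h2, h3] at h4
    rw [h4]; rfl
  have h6 : (f ψ')⁻¹ * f (t' * ψ' * t'⁻¹) = 1 := by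
    refine key _ ((Commute.refl _).inv_left.mul_left (Commute.symm hcm)) ?_
    rw [MulAut.mul_apply, MulAut.inv_def, MulEquiv.symm_apply_eq]
    refine Subtype.ext ?_
    rw [hfa, hfa]
    change t * ψ * t⁻¹ * v * (t * ψ * t⁻¹)⁻¹ = ψ * v * ψ⁻¹
    have h7 : t⁻¹ * v * t = v := by
      calc t⁻¹ * v * t = t⁻¹ * (t * v * t⁻¹) * t := by rw [htv]
        _ = v := by group
    calc t * ψ * t⁻¹ * v * (t * ψ * t⁻¹)⁻¹ = t * (ψ * (t⁻¹ * v * t) * ψ⁻¹) * t⁻¹ := by group
      _ = _ := by rw [h7, hψv, htw]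
  have h7 : f t' = 1 := by
    refine key _ ?_ (Subtype.ext htv)
    rw [inv_mul_eq_one, map_mul, map_mul, map_inv] at h6
    change f t' * f ψ' = f ψ' * f t'
    exact (eq_mul_inv_iff_mul_eq.1 h6).symm
  have h8 : t' ∈ f.ker := h7
  rw [hf, normalizerMonoidHom_ker] at h8
  exact h8

/-- the Mersenne case: a `2`-subgroup containing the given one is abelian -/
theorem two_comm (h5 : 5 < p) (ho : 2 * Nat.card G ∣ p ^ 2 * (p ^ 4 - 1)) {a : ℕ}
    (ha : p + 1 = 2 ^ a) {R Y T : Subgroup G} (hY : IsPGroup p Y)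
    (hn : Y ≤ normalizer (R : Set G))
    (hR : Nat.card R = (p + 1) * Nat.card (R ⊓ centralizer (Y : Set G) : Subgroup G))
    (hT : IsPGroup 2 T) (hRT : R ≤ T) : ∀ x ∈ T, ∀ y ∈ T, x * y = y * x := by
  haveI := Fact.mk Nat.prime_two
  have h8 := Nat.le_of_dvd (by omega) (eight_dvd h5 ha)
  have hR2 : IsPGroup 2 R := hT.to_le hRT
  obtain ⟨b, hb⟩ := hT.exists_card_eq
  have hTle : Nat.card T ≤ 2 * (p + 1) := by
    by_contra h
    rw [hb, ha, ← pow_succ', not_le, Nat.pow_lt_pow_iff_right one_lt_two] at h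
    refine not_four_mul_dvd h5 ho ha (Dvd.dvd.trans ?_ (card_subgroup_dvd_card T))
    rw [hb, ha, show 4 * 2 ^ a = 2 ^ (a + 2) by ring]
    exact pow_dvd_pow 2 (by omega)
  have hle := card_le_of_le hRT
  have hpos : 0 < Nat.card (R ⊓ centralizer (Y : Set G) : Subgroup G) := Nat.card_pos
  have hpR : ∀ W ≤ R, ¬ p ∣ Nat.card W := fun W hW h => by
    obtain ⟨k, hk⟩ := (hR2.to_le hW).exists_card_eq
    have := (Nat.prime_dvd_prime_iff_eq hp.out Nat.prime_two).1 (hp.out.dvd_of_dvd_pow (hk ▸ h))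
    omega
  -- a group with a central subgroup of index at most two is abelian
  have hidx : ∀ Z S : Subgroup G, Z ≤ S → Nat.card S ≤ 2 * Nat.card Z →
      Z ≤ centralizer (S : Set G) → ∀ x ∈ S, ∀ y ∈ S, x * y = y * x := by
    intro Z S hZS hc hZ x hx y hy
    by_cases hxZ : x ∈ Z
    · exact (hZ hxZ y hy).symm
    by_cases hyZ : y ∈ Z
    · exact hZ hyZ x hx
    have h1 := card_mul_relIndex_of_le hZS
    have h2 : Z.relIndex S ≠ 1 := fun h => hxZ (relIndex_eq_one.1 h hx)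
    have h3 : Z.relIndex S ≠ 0 := by
      intro h; rw [h] at h1; have : 0 < Nat.card S := Nat.card_pos; omega
    have h0 : 0 < Nat.card Z := Nat.card_pos
    have h4 : Z.relIndex S = 2 := by
      by_contra h
      have := Nat.mul_le_mul_left (Nat.card Z) (by omega : 3 ≤ Z.relIndex S)
      omega
    have h6 : (⟨x, hx⟩ * ⟨y, hy⟩ : S) ∈ Z.subgroupOf S :=
      (mul_mem_iff_of_index_two h4).2 (iff_of_false hxZ hyZ)
    have h7 := hZ h6 x hx
    change x * (x * y) = x * y * x at h7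
    rw [mul_assoc] at h7
    exact mul_left_cancel h7
  by_cases hc1 : Nat.card (R ⊓ centralizer (Y : Set G) : Subgroup G) = 1
  · rw [hc1, mul_one] at hR
    have hc := card_eq_one.1 hc1
    obtain ⟨v, hv⟩ := exists_prime_orderOf_dvd_card' (G := R) 2
      (by rw [hR, ha]; exact dvd_pow_self 2 (by rintro rfl; omega))
    have hv1 : (v : G) ≠ 1 := fun h => by
      rw [show v = 1 from Subtype.ext h, orderOf_one] at hv; omega
    have hv2 : (v : G) * v = 1 := by
      have := pow_orderOf_eq_one v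
      rw [hv, pow_two] at this
      exact congrArg Subtype.val this
    have hYv : ¬ Y ≤ centralizer ({(v : G)} : Set G) := fun h => hv1 (by
      rw [← mem_bot, ← hc]
      exact ⟨v.2, fun y hy => (mem_centralizer_singleton_iff.1 (h hy))⟩)
    have hel : ∀ w ∈ R, w * w = 1 := fun w hw => by
      by_cases h : w = 1
      · rw [h, mul_one]
      obtain ⟨y, -, rfl⟩ := (trans hY hn hR v.2 hYv).2 w hw h
      calc y * v * y⁻¹ * (y * v * y⁻¹) = y * (v * v) * y⁻¹ := by group
        _ = 1 := by rw [hv2]; group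
    refine hidx R T hRT (by omega) (le_centralizer_iff.1 fun t ht => ?_)
    by_cases htR : t ∈ R
    · exact fun y hy => (CL.JR.commute_of_sq hel hy htR).eq
    have h1 := card_mul_relIndex_of_le hRT
    have h2 : R.relIndex T ≠ 1 := fun h => htR (relIndex_eq_one.1 h ht)
    have h3 : R.relIndex T ≠ 0 := by
      intro h; rw [h] at h1; omega
    have h4 : R.relIndex T = 2 := by
      by_contra h
      have := Nat.mul_le_mul_left (Nat.card R) (by omega : 3 ≤ R.relIndex T)
      omega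
    haveI := normal_of_index_eq_two h4
    exact cent_of_sq h5 ho ha hR hel hY hn hc
      (le_normalizer_of_normal_subgroupOf hRT ht) (mul_self_mem_of_index_two h4 ⟨t, ht⟩)
  have hc2 : Nat.card (R ⊓ centralizer (Y : Set G) : Subgroup G) = 2 := by
    by_contra h
    have := Nat.mul_le_mul_left (p + 1)
      (by omega : 3 ≤ Nat.card (R ⊓ centralizer (Y : Set G) : Subgroup G))
    omega
  rw [hc2] at hR
  obtain rfl : R = T := eq_of_le_of_card_ge hRT (by omega)
  set Z : Subgroup G := R ⊓ centralizer (R : Set G) with hZ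
  have hZn : Y ≤ normalizer (Z : Set G) := le_normalizer_inf hn (le_normalizer_centralizer hn)
  by_cases hZc : ¬ Z ≤ centralizer (Y : Set G)
  · have h1 := (act_prime h5 ho Nat.prime_two hY (hR2.to_le inf_le_left) (hpR _ inf_le_left)
      hZn hZc).2.2
    have h2 : 0 < Nat.card (Z ⊓ centralizer (Y : Set G) : Subgroup G) := Nat.card_pos
    exact hidx Z R inf_le_left (by nlinarith) inf_le_right
  push Not at hZc
  have hZeq : Z = R ⊓ centralizer (Y : Set G) := by
    refine eq_of_le_of_card_ge (le_inf inf_le_left hZc) ?_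
    haveI : Nontrivial R := Finite.one_lt_card_iff_nontrivial.1 (by omega)
    haveI := hR2.center_nontrivial
    obtain ⟨z, hz⟩ := exists_ne (1 : center R)
    have h1 : Z ≠ ⊥ := fun h => hz (Subtype.ext (Subtype.ext (by
      have : (z.1 : G) ∈ Z := ⟨z.1.2, fun y hy =>
        congrArg Subtype.val (mem_center_iff.1 z.2 ⟨y, hy⟩)⟩
      rwa [h] at this)))
    have := one_lt_card_iff_ne_bot Z |>.2 h1
    omega
  rw [← hZeq] at hc2
  obtain ⟨z, hz1, hz⟩ := (Nat.card_eq_two_iff' (1 : Z)).1 hc2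
  have hZm : ∀ x ∈ Z, x = 1 ∨ x = z := fun x hx => by
    by_cases h : x = 1
    · exact Or.inl h
    · exact Or.inr (congrArg Subtype.val (hz ⟨x, hx⟩ fun h' => h (congrArg Subtype.val h')))
  have hzz : (z : G) * z = 1 := by
    rcases hZm _ (Z.mul_mem z.2 z.2) with h | h
    · exact h
    · exact absurd (Subtype.ext (mul_eq_left.1 h)) hz1
  have hzc : ∀ x ∈ R, x * z = z * x := fun x hx => z.2.2 x hx
  have hzY : ∀ y ∈ Y, y * z = z * y := fun y hy => hZc z.2 y hy
  -- the orbits of `Y` on `R - Z`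
  have horb : ∀ u ∈ R, u ∉ Z → ∀ w ∈ R, w ∉ Z → ∃ y ∈ Y, w = y * u * y⁻¹ ∨ w = y * u * y⁻¹ * z := by
    intro u hu huZ w hw hwZ
    set O : Set G := {x : G | ∃ y ∈ Y, y * u * y⁻¹ = x} with hO
    have hOc : p ≤ O.ncard := by
      rw [hO, ← CL.JR.relIndex_centralizer_eq_ncard]
      obtain ⟨k, hk⟩ := hY.exists_card_eq
      have h1 : (centralizer ({u} : Set G)).relIndex Y ∣ p ^ k := hk ▸ relIndex_dvd_card _ _
      obtain ⟨j, -, hj⟩ := (Nat.dvd_prime_pow hp.out).1 h1
      rw [hj]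
      refine Nat.le_self_pow ?_ p
      rintro rfl
      have h2 := relIndex_eq_one.1 (by simpa using hj)
      exact huZ (hZeq ▸ ⟨hu, fun y hy => mem_centralizer_singleton_iff.1 (h2 hy)⟩)
    have hOsub : O ⊆ (R : Set G) \ Z := by
      rintro _ ⟨y, hy, rfl⟩
      exact ⟨conj_mem_of_normalizes hn hy hu, fun h => huZ ((mem_normalizer_iff.1 (hZn hy) u).2 h)⟩
    have hOz : (fun x => x * (z : G)) '' O ⊆ (R : Set G) \ Z := by
      rintro _ ⟨x, hx, rfl⟩
      exact ⟨R.mul_mem (hOsub hx).1 z.2.1, fun h => (hOsub hx).2 ((Z.mul_mem_cancel_right z.2).1 h)⟩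
    have hdis : Disjoint O ((fun x => x * (z : G)) '' O) := by
      rw [Set.disjoint_left]
      rintro _ ⟨y, hy, rfl⟩ ⟨_, ⟨y', hy', rfl⟩, h⟩
      have hd : y'⁻¹ * y ∈ Y := Y.mul_mem (Y.inv_mem hy') hy
      set d := y'⁻¹ * y with hd'
      have h1 : d * u * d⁻¹ = u * z := by
        have h2 := hzY _ hy'
        calc d * u * d⁻¹ = y'⁻¹ * (y * u * y⁻¹) * y' := by rw [hd']; group
          _ = u * (y'⁻¹ * (z * y')) := by rw [← h]; group
          _ = u * z := by rw [← h2]; group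
      have h2 : Commute (d ^ 2) u := by
        have h3 := hzY _ hd
        have : d ^ 2 * u * (d ^ 2)⁻¹ = u := by
          calc d ^ 2 * u * (d ^ 2)⁻¹ = d * (d * u * d⁻¹) * d⁻¹ := by rw [pow_two]; group
            _ = d * (u * z) * d⁻¹ := by rw [h1]
            _ = d * u * d⁻¹ * (d * z * d⁻¹) := by group
            _ = u * (z * z) := by rw [h1, h3]; group
            _ = u := by rw [hzz, mul_one]
        exact mul_inv_eq_iff_eq_mul.1 this
      obtain ⟨k, hk⟩ := hY ⟨d, hd⟩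
      have hk' : d ^ p ^ k = 1 := congrArg Subtype.val hk
      obtain ⟨m, hm⟩ : Odd (p ^ k) := (Nat.odd_iff.2 (odd_of_prime hp.out h5)).pow
      have h4 : d = (d ^ 2) ^ (m + 1) := by
        rw [← pow_mul, show 2 * (m + 1) = p ^ k + 1 by omega, pow_succ, hk', one_mul]
      have h6 : Commute d u := h4 ▸ h2.pow_left (m + 1)
      rw [h6.eq, mul_inv_cancel_right] at h1
      exact hz1 (Subtype.ext (left_eq_mul.1 h1))
    have hcard : ((R : Set G) \ Z).ncard = 2 * p := by
      rw [Set.ncard_diff (SetLike.coe_subset_coe.2 inf_le_left), ← Nat.card_coe_set_eq,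
        ← Nat.card_coe_set_eq]
      simp only [SetLike.coe_sort_coe]
      rw [hR, hc2]; omega
    have heq := Set.eq_of_subset_of_ncard_le (Set.union_subset hOsub hOz) (by
      rw [Set.ncard_union_eq hdis, Set.ncard_image_of_injective _ (mul_left_injective _), hcard]
      omega)
    have h1 : w ∈ (R : Set G) \ Z := ⟨hw, hwZ⟩
    rw [← heq] at h1
    rcases h1 with ⟨y, hy, h⟩ | ⟨_, ⟨y, hy, rfl⟩, h⟩
    · exact ⟨y, hy, Or.inl h.symm⟩
    · exact ⟨y, hy, Or.inr h.symm⟩
  have hsq : ∀ u ∈ R, u ∉ Z → ∀ w ∈ R, w ∉ Z → ∃ y ∈ Y, w * w = y * (u * u) * y⁻¹ := by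
    intro u hu huZ w hw hwZ
    obtain ⟨y, hy, h | h⟩ := horb u hu huZ w hw hwZ
    · exact ⟨y, hy, by rw [h]; group⟩
    · refine ⟨y, hy, ?_⟩
      have h1 := hzc _ (conj_mem_of_normalizes hn hy hu)
      calc w * w = y * u * y⁻¹ * (z * (y * u * y⁻¹)) * z := by rw [h]; group
        _ = y * (u * u) * y⁻¹ * (z * z) := by rw [← h1]; group
        _ = _ := by rw [hzz, mul_one]
  have hsqZ : ∀ u ∈ R, u * u ∈ Z := by
    intro u hu
    by_contra h
    have huZ : u ∉ Z := fun h' => h (Z.mul_mem h' h')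
    obtain ⟨y, -, hy⟩ := hsq u hu huZ (u * u) (R.mul_mem hu hu) h
    set s := u * u with hs
    have h1 : orderOf (s ^ 2) = orderOf s := by
      rw [pow_two, hy]
      simpa using orderOf_injective (MulAut.conj y).toMonoidHom (MulAut.conj y).injective s
    obtain ⟨k, hk⟩ := hR2 ⟨s, R.mul_mem hu hu⟩
    have hk' : s ^ 2 ^ k = 1 := congrArg Subtype.val hk
    obtain ⟨j, -, hj⟩ := (Nat.dvd_prime_pow Nat.prime_two).1 (orderOf_dvd_of_pow_eq_one hk')
    rcases j with _ | j
    · exact h (by rw [orderOf_eq_one_iff.1 hj]; exact Z.one_mem)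
    · have h2 : (s ^ 2) ^ 2 ^ j = 1 := by rw [← pow_mul, ← pow_succ', ← hj, pow_orderOf_eq_one]
      have := Nat.le_of_dvd (by positivity) (orderOf_dvd_of_pow_eq_one h2)
      rw [h1, hj, pow_succ] at this
      have : 0 < 2 ^ j := by positivity
      omega
  obtain ⟨u, hu, huZ⟩ : ∃ u ∈ R, u ∉ Z := by
    by_contra h
    push Not at h
    have := card_le_of_le (show R ≤ Z from h)
    omega
  have hall : ∀ w ∈ R, w ∉ Z → w * w = u * u := fun w hw hwZ => by
    obtain ⟨y, hy, h⟩ := hsq u hu huZ w hw hwZ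
    rw [h, hZc (hsqZ u hu) y hy]; group
  have hZsq : ∀ w ∈ Z, w * w = 1 := fun w hw => by
    rcases hZm w hw with h | h <;> rw [h]
    · exact mul_one 1
    · exact hzz
  rcases hZm _ (hsqZ u hu) with hu2 | hu2
  · refine fun x hx y hy => (CL.JR.commute_of_sq (S := R) (fun w hw => ?_) hx hy).eq
    by_cases h : w ∈ Z
    · exact hZsq w h
    · rw [hall w hw h, hu2]
  exfalso
  have h1 := CL.JR.card_inf_mul_ncard_conj R u
  have h2 : {y : G | ∃ a ∈ R, a * u * a⁻¹ = y}.ncard ≤ 2 := by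
    refine (Set.ncard_le_ncard (t := {u, z * u}) ?_).trans
      ((Set.ncard_insert_le _ _).trans (by rw [Set.ncard_singleton]))
    rintro _ ⟨r, hr, rfl⟩
    have h3 : r * r * ((r⁻¹ * u) * (r⁻¹ * u)) * (u⁻¹ * u⁻¹) ∈ Z :=
      Z.mul_mem (Z.mul_mem (hsqZ _ hr) (hsqZ _ (R.mul_mem (R.inv_mem hr) hu)))
        (hsqZ _ (R.inv_mem hu))
    rw [show r * r * ((r⁻¹ * u) * (r⁻¹ * u)) * (u⁻¹ * u⁻¹) = r * u * r⁻¹ * u⁻¹ by group] at h3
    rcases hZm _ h3 with h | h
    · exact Or.inl (mul_inv_eq_one.1 h)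
    · exact Or.inr (mul_inv_eq_iff_eq_mul.1 h)
  have h3 : Nat.card (R ⊓ centralizer ({u} : Set G) : Subgroup G) ≤ 4 := by
    rw [← SetLike.coe_sort_coe, Nat.card_coe_set_eq]
    refine (Set.ncard_le_ncard (t := (Z : Set G) ∪ (fun x => u⁻¹ * x) '' Z) ?_).trans
      ((Set.ncard_union_le _ _).trans ?_)
    · rintro w ⟨hw, hwu⟩
      by_cases h : w ∈ Z
      · exact Or.inl h
      refine Or.inr ⟨u * w, ?_, by group⟩
      by_contra h'
      have h4 := hall _ (R.mul_mem hu hw) h'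
      have h6 : w * u = u * w := mem_centralizer_singleton_iff.1 hwu
      have h7 : u * w * (u * w) = (u * u) * (w * w) := by
        calc u * w * (u * w) = u * (w * u) * w := by group
          _ = _ := by rw [h6]; group
      rw [h7, hall w hw h, hu2, hzz] at h4
      exact hz1 (Subtype.ext h4.symm)
    · rw [Set.ncard_image_of_injective _ (mul_right_injective _), ← Nat.card_coe_set_eq]
      simp only [SetLike.coe_sort_coe, hc2]; rfl
  have := Nat.mul_le_mul h3 h2
  omega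

end CL.Lp2
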