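import Cfsg.Agent.BLK.M1Ineq

/-! The exterior square of a character of degree `p - e`. -/

set_option autoImplicit false
set_option linter.unusedSectionVars false
open Cfsg Module Finset Subgroup CL.D1T CL.Blk CL.Char IsLocalRing
open scoped Kronecker Matrix ComplexConjugate MatrixGroups

namespace CL.M1

variable {G : Type*} [Group G] {p : ℕ} [hp : Fact p.Prime] [Finite G] {x y : G} {b : ZMod p}
  {e t : ℕ} {M : Ideal AlgInt} {n : Type} [Fintype n] [DecidableEq n]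

/-- The character of the exterior square. -/
noncomputable def alt (ζ : G → ℂ) (g : G) : ℂ := (ζ g ^ 2 - ζ (g * g)) / 2

theorem Cen.alt {ζ ω : G → ℂ} (h : Cen ζ ω) : Cen (alt ζ) fun g => ω g * ω g := fun z hz g => by
  rw [M1.alt, M1.alt, show z * g * (z * g) = z * (z * (g * g)) by
    rw [mul_assoc, ← mul_assoc g, mem_center_iff.1 hz g, mul_assoc], h z hz, h z hz, h z hz]
  ring

theorem swp_kron (σ : G →* Matrix n n (V M)) (g : G) : Commute (swp (V M) n) (kron σ σ g) :=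
  swp_mul_kron _ _

theorem exists_anti (hM : IsPModular p M) (h2 : ¬ p ∣ 2) {σ : G →* Matrix n n (V M)} {ζ : G → ℂ}
    (hσ : ∀ g, ((σ g).trace : ℂ) = ζ g) : ∃ E : Matrix (n × n) (n × n) (V M), E * E = E ∧
      (∀ g, Commute E (kron σ σ g)) ∧ (∀ g, ((kron σ σ g * E).trace : ℂ) = alt ζ g) ∧
      LinearMap.ker (lin (res M) E - 1) ≤ LinearMap.ker (lin (res M) (swp (V M) n) + 1) := by
  obtain ⟨u, u1, u2, -⟩ := exists_inv hM h2
  have h1 : swp (V M) n * (u • (1 - swp (V M) n)) = -(u • (1 - swp (V M) n)) := by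
    rw [mul_smul_comm, mul_sub, swp_mul_swp, mul_one, ← smul_neg, neg_sub]
  refine ⟨u • (1 - swp (V M) n), ?_, fun g => ((Commute.one_left _).sub_left
    (swp_kron σ g)).smul_left u, fun g => ?_, fun v hv => ?_⟩
  · rw [smul_mul_assoc, sub_mul, h1, one_mul, sub_neg_eq_add, ← two_smul (V M), smul_smul,
      show u * 2 = 1 by exact_mod_cast u1, one_smul]
  · rw [mul_smul_comm, mul_sub, mul_one, Matrix.trace_smul, Matrix.trace_sub, alt, ← hσ, ← hσ,
      map_mul, ← trace_kron_swp, sq]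
    have := Matrix.trace_kronecker (σ g) (σ g)
    rw [smul_eq_mul, show (kron σ σ g).trace = _ from this]
    push_cast
    rw [u2, div_eq_inv_mul]; rfl
  · rw [LinearMap.mem_ker, LinearMap.sub_apply, sub_eq_zero, End.one_apply] at hv
    rw [LinearMap.mem_ker, LinearMap.add_apply, ← hv, ← End.mul_apply, ← map_mul, h1, map_neg]
    simp

namespace Ex

variable (h : Ex p x y b e t) [Fintype G] (hM : IsPModular p M) [CharP (F M) p]
include h hM

theorem exists_TM' {d : ℕ} (hd : d + e = p) {ζ : G → ℂ} {σ : G →* Matrix n n (V M)}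
    {v : n → F M} {μ : ℂ} (B : Blk1 p x y e d ζ σ v μ) :
    ∃ (R : Type) (_ : CommRing R) (_ : Algebra (F M) R) (φ : R →ₐ[F M] End (F M) (n × n → F M))
      (A B : R), TM φ A B (rep (res M) (kron σ σ) y) (ten _ n n v v) (b.val : F M)
        (red M (μ * μ)) p d e (orderOf y) ∧ Asc (rep (res M) (kron σ σ) x - 1) (φ (A + B)) ∧
        (∀ v, lin (res M) (swp (V M) n) (φ A v) = φ B (lin (res M) (swp (V M) n) v)) ∧
        (∀ v, lin (res M) (swp (V M) n) (φ B v) = φ A (lin (res M) (swp (V M) n) v)) ∧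
        φ (A ^ (d - 1) * B ^ (d - 1)) (ten _ n n v v) ≠ 0 := by
  obtain ⟨R, _, _, φ, A, A', T, hA, e1, e2, top⟩ := h.exists_TM hM hd B B
  refine ⟨R, _, _, φ, A, A', T, hA, fun w => ?_, fun w => ?_, top⟩ <;> rw [e1, e2] <;>
    exact lg_apply (fun w => by rw [← End.mul_apply, ← map_mul, swp_mul_kron, map_mul]; rfl) w

/-- The inequality for characters of degree `≡ e`. -/
theorem ineqB {d τ : ℕ} (hd : d + e = p) (hτ : t = τ + 3) (he : Odd e) (hτ' : Odd τ)
    {ζ θ ω : G → ℂ} {σ : G →* Matrix n n (V M)} {v : n → F M} {μ : ℂ}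
    (B : Blk1 p x y e d ζ σ v μ) (hζ : IsIrrCharacter G ζ) (hd' : ζ 1 = d)
    (hθ : IsIrrCharacter G θ) (c1 : Cen ζ ω)
    (c3 : Cen θ fun g => ω g * ω g) {k : ℕ} (hk : charDegree θ = e + k * p) :
    ∃ (ν : Fin k → ℂ) (a l : ℕ), (∀ r, ν r ^ orderOf y = 1 ∧ ν r ^ e = ω (y ^ e) * ω (y ^ e)) ∧
      (∀ i, ¬ e ∣ i → θ (y ^ i) = ∑ r, ν r ^ i) ∧ classInner (alt ζ) θ = l ∧
      ∑ j : ZMod p, alt ζ (x ^ j.val) * θ (x ^ j.val)⁻¹ = p * e * a ∧
      2 * a ≤ 2 * l + (τ + 1) * e + k * (d * (τ + 2)) := by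
  classical
  have hte := h.te
  have he0 := h.e_pos
  have hd2 : d = (τ + 2) * e + 1 := by rw [hτ] at hte; nlinarith
  have h2 : ¬ p ∣ 2 := fun e => by have := Nat.le_of_dvd two_pos e; nlinarith
  have h2' : (2 : F M) ≠ 0 := fun e => h2 ((CharP.cast_eq_zero_iff (F M) p 2).1 e)
  have ho' : (orderOf y : ℂ) ≠ 0 := Nat.cast_ne_zero.2 (orderOf_pos y).ne'
  obtain ⟨R, _, _, φ, A, A', T, hA, sA, sB, -⟩ := h.exists_TM' hM hd B
  obtain ⟨E, E1, E2, E3, E4⟩ := exists_anti hM h2 B.tr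
  obtain ⟨c, ν, -, a3, a4, a, l, a5, a6, a7⟩ := h.key hM hθ c3 he0 (by omega) hk
    (kron σ σ) E1 E2 fun z hz => by
      obtain ⟨c, e1, e2⟩ := c1.scalar hζ B.tr hz
      refine ⟨c * c, ?_, by simp [e2]⟩
      change σ z ⊗ₖ σ z = _
      simp [e1, Matrix.smul_kronecker, Matrix.kronecker_smul, smul_smul]
  simp only [E3] at a5 a6
  have h3 : ∀ i, ¬ e ∣ i → alt ζ (y ^ i) = 0 := fun i hi => by
    rw [alt, ← pow_add, B.val i hi, B.val _ fun e1 => hi ((Nat.coprime_two_right.2 he).dvd_of_dvd_mul_left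
      (two_mul i ▸ e1)), pow_add, sq, sub_self, zero_div]
  have hφ : IsClassFunction G (alt ζ) := hζ.isCharacter.altSq.isClassFunction
  have h4 := h.Q_eval (f := fun g => alt ζ g * θ g⁻¹) (hφ.mul hθ.isClassFunction.inv)
    (h.cen_hz (c1.alt.inv c3) (one_pow _) (one_pow _)) (ι := Empty) (lam := fun _ => 1) (by simp)
    fun i hi => by simp [h3 i hi]
  refine ⟨ν, a, l, a3, fun i hi => ?_, a6, ?_, ?_⟩
  · obtain ⟨β, b1, b2, b3⟩ := a4 i hi
    have := (geom_one (m := 1) b1 b2).1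
    rw [one_mul] at this
    rw [b3, this, mul_zero, zero_add]
  · apply mul_left_cancel₀ ho'
    rw [a5] at h4
    simp only [univ_eq_empty, filter_empty, card_empty, Fintype.card_eq_zero] at h4
    linear_combination -h4
  have h5 : ∀ r, 2 * finrank (F M) ↥(End.eigenspace (rep (res M) (kron σ σ) y) (red M (ν r)) ⊓
      LinearMap.ker (lin (res M) E - 1)) ≤ d * (τ + 2) := fun r => by
    obtain ⟨w, w1, w2⟩ := exists_mult hM h.reg (Y := kron σ σ y)
      (by rw [← map_pow, pow_orderOf_eq_one, map_one]) E1 (E2 y) (a3 r).1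
    obtain ⟨o, ho⟩ := h.dvd_orderOf
    rw [sum_congr rfl (g := fun i => (if e ∣ i then 1 else 0) * alt ζ 1) fun i _ => by
      rw [← map_pow, E3]
      split_ifs with hi
      · simpa using h.cen_hz c1.alt (a3 r).1 (a3 r).2 i hi 1
      · simp [h3 i hi], ← sum_mul, ho, sum_ite_dvd he0, alt, one_mul, hd'] at w1
    refine (Nat.mul_le_mul_left 2 w2).trans_eq ?_
    rw [← Nat.cast_inj (R := ℂ)]
    apply mul_left_cancel₀ ho'
    have := congrArg (Nat.cast : ℕ → ℂ) hd2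
    rw [ho]
    push_cast at w1 this ⊢
    linear_combination (-2) * w1 + o * d * this
  have h6 := T.finrank_anti_le sA sB (lin_swp _ _ _) h2' he0 hd2 (red M c)
  rw [(hA d).1, show d = p - e by omega] at h6
  have h7 := Submodule.finrank_mono (inf_le_inf_left (LinearMap.range ((rep (res M) (kron σ σ) x
    - 1) ^ (p - e)) ⊓ End.eigenspace (rep (res M) (kron σ σ) y) (red M c)) E4)
  have h8 := sum_le_sum fun r (_ : r ∈ univ) => h5 r
  rw [← mul_sum, sum_const, card_univ, Fintype.card_fin, smul_eq_mul] at h8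
  obtain ⟨s, hs⟩ := hτ'.add_one.mul_right e
  omega

/-- The case of two classes of elements of order `p`. -/
theorem exists_pgl_two {d : ℕ} (hd : d + e = p) (ht : t = 2) (h5 : 5 ≤ e) {ζ : G → ℂ}
    {σ : G →* Matrix n n (V M)} {v : n → F M} {μ : ℂ} (B : Blk1 p x y e d ζ σ v μ)
    (hζ : IsIrrCharacter G ζ) : ∃ π : G →* PGL(2, F M), π x ≠ 1 := by
  have hte := h.te
  rw [ht] at hte
  have h2 : (2 : F M) ≠ 0 := fun e => by
    have := Nat.le_of_dvd two_pos ((CharP.cast_eq_zero_iff (F M) p 2).1 e); omega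
  have := isAlgClosed_F (M := M)
  obtain ⟨R, _, _, φ, A, A', T, hA, sA, sB, top⟩ := h.exists_TM' hM hd B
  obtain ⟨z, c, z1, z2, z3, ⟨u, z4⟩, z5⟩ := T.exists_small sA sB (lin_swp _ _ _) h2 (by omega) h5 top
  obtain ⟨s, hs⟩ : ∃ s, s = lin (res M) (swp (V M) n) := ⟨_, rfl⟩
  obtain ⟨ρ, hρ⟩ : ∃ ρ, ρ = rep (res M) (kron σ σ) := ⟨_, rfl⟩
  have h1 : ∀ g v, s (ρ g v) = ρ g (s v) := fun g v => by
    rw [hs, hρ, rep_apply, ← End.mul_apply, ← map_mul, (swp_kron σ g).eq, map_mul]; rfl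
  have h3 : ∀ v, s (s v) = v := fun v => by
    rw [hs, ← End.mul_apply, ← map_mul, swp_mul_swp, map_one]; rfl
  have hZ : ZSc ρ := fun z hz => by
    obtain ⟨c, e1, -⟩ := exists_scalar hζ B.tr hz
    refine ⟨res M (c * c), ?_⟩
    rw [hρ, rep_apply, ← map_one (lin (res M)), ← lin_smul]
    congr 1
    change σ z ⊗ₖ σ z = _
    simp [e1, Matrix.smul_kronecker, Matrix.kronecker_smul, smul_smul]
  have h0 := lin_swp (res M) v v
  rw [← hs] at h0 z1 sA sB
  rw [← hρ] at T hA z3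
  have h4 : ∀ {v}, v ∈ LinearMap.ker (s + 1) ↔ s v = -v := add_eq_zero_iff_eq_neg
  obtain ⟨τ, hτ⟩ : ∃ τ : Representation (F M) G (LinearMap.ker (s + 1)),
      ∀ g v, (τ g v : n × n → F M) = ρ g v :=
    ⟨ρ.subrepresentation _ fun g v hv => h4.2 (by rw [h1, h4.1 hv, map_neg]), fun _ _ => rfl⟩
  have h6 : ∀ (k : ℕ) v, (((τ x - 1) ^ k) v : n × n → F M) = ((ρ x - 1) ^ k) v := fun k v => by
    induction k with
    | zero => rfl
    | succ k ih => simp only [pow_succ', End.mul_apply, LinearMap.sub_apply, End.one_apply,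
        Submodule.coe_sub, hτ, ih]
  have h7 := hA 1
  simp only [pow_one] at h7
  obtain ⟨u', hu'⟩ := h7.1.le ⟨u, z4⟩
  refine h.exists_pgl (τ := τ) (fun z hz => (hZ z hz).imp fun c hc => LinearMap.ext fun v =>
    Subtype.ext (by rw [hτ, hc]; rfl)) (LinearMap.ext fun v => Subtype.ext ?_) (z := ⟨z, h4.2 z1⟩)
    (Subtype.ext ?_) (c := c) (Subtype.ext (by rw [hτ]; exact z3))
    ⟨⟨(2 : F M)⁻¹ • (u' - s u'), h4.2 (by rw [map_smul, map_sub, h3, ← smul_neg, neg_sub])⟩,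
      Subtype.ext ?_⟩ (k := e) (fun ⟨w, hw⟩ => z5 ?_) (by omega) (by omega)
  · rw [h6]
    exact ((hA _).2 _).1 (T.pow_anti sA sB h0 h2 (k := p - 1) (by omega) (h4.1 v.2))
  · simpa [hτ] using (h7.2 z).1 z2
  · have e1 := congrArg s hu'
    rw [LinearMap.sub_apply, map_sub, h1, z1] at e1
    simp only [LinearMap.sub_apply, End.one_apply, Submodule.coe_sub, hτ, map_smul, map_sub] at hu' e1 ⊢
    rw [← smul_sub, inv_smul_eq_iff₀ h2, two_smul]
    linear_combination (exp := 1) hu' - e1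
  · rw [(hA e).1]
    exact ⟨w, (h6 e w).symm.trans (congrArg Subtype.val hw)⟩

/-- An irreducible character of small degree `> 1` is nontrivial on `x` modulo `p`. -/
theorem exists_pgl_small {θ : G → ℂ} (hθ : IsIrrCharacter G θ) (h1 : 1 < charDegree θ)
    (h2 : 2 * charDegree θ + 1 ≤ p) : ∃ π : G →* PGL(2, F M), π x ≠ 1 := by
  have := isAlgClosed_F (M := M)
  obtain ⟨σ, hσ, hl⟩ := exists_loc hM hθ
  refine (h.toP1.exists_pgl ((res M).mapMatrix.toMonoidHom.comp σ) (fun e => ?_) h2).2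
  obtain ⟨J⟩ := h.nonempty_jor (rep (res M) σ)
  have h3 : rep (res M) σ x = 1 :=
    (congrArg (Matrix.toLinAlgEquiv' (R := F M)) e).trans (map_one _)
  have h4 := J.le_of_pow (k := 1) (by rw [h3, lg_one, pow_one])
  have h5 := J.sum_s
  obtain ⟨r, -, -⟩ := exists_ne_zero_of_sum_ne_zero (h5.trans_ne (by rw [finrank_fin_fun]; omega))
  rw [finrank_fin_fun, Fintype.sum_eq_single r fun r' hr => (hr (h.eq_of_lt (zsc hθ hσ) hl J
    ((h4 _).trans_lt hp.out.one_lt) ((h4 _).trans_lt hp.out.one_lt))).elim] at h5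
  exact absurd (h4 r) (by omega)

end Ex

end CL.M1
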