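import Cfsg.Agent.BLK.M1Log

/-! The tensor product of two Jordan blocks. -/

set_option autoImplicit false
set_option linter.unusedSectionVars false
open Module Finset

namespace CL.M1

theorem card_filter_modEq {e : ℕ} (he : 2 ≤ e) (τ i m : ℕ) :
    #{j ∈ range (τ * e + 1) | i + j ≡ m [MOD e]} = τ + if i ≡ m [MOD e] then 1 else 0 := by
  obtain ⟨k, rfl⟩ : ∃ k, e = k + 1 := ⟨e - 1, by omega⟩
  have h1 : ∀ j, i + j ≡ m [MOD k + 1] ↔ j ≡ m + i * k [MOD k + 1] := fun j => by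
    have h2 : i + (m + i * k) ≡ m [MOD k + 1] := by
      rw [show i + (m + i * k) = m + i * (k + 1) by ring]
      exact Nat.add_mul_mod_self_right _ _ _
    exact ⟨fun h => Nat.ModEq.add_left_cancel' i (h.trans h2.symm),
      fun h => (h.add_left i).trans h2⟩
  have h2 := h1 0
  simp only [h1, ← Nat.count_eq_card_filter_range, Nat.count_modEq_card _ k.succ_pos]
  rw [add_zero] at h2
  rw [add_comm (τ * _), Nat.add_mul_div_right _ _ k.succ_pos, Nat.add_mul_mod_self_right,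
    Nat.div_eq_of_lt (by omega), Nat.mod_eq_of_lt (a := 1) (by omega), zero_add]
  refine congrArg _ (if_congr ?_ rfl rfl)
  rw [h2, Nat.ModEq, Nat.zero_mod, Nat.lt_one_iff, eq_comm]

theorem card_filter_modEq₂ {e : ℕ} (he : 2 ≤ e) (τ m : ℕ) :
    #{q ∈ range (τ * e + 1) ×ˢ range (τ * e + 1) | q.1 + q.2 ≡ m [MOD e]} =
      (τ * e + 2) * τ + if 0 ≡ m [MOD e] then 1 else 0 := by
  rw [card_filter, sum_product]
  simp only [← card_filter, card_filter_modEq he, sum_add_distrib]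
  have := card_filter_modEq he τ 0 m
  simp only [zero_add] at this
  rw [this, sum_const, card_range, smul_eq_mul]
  ring

variable {F : Type*} [Field F] {W : Type*} [AddCommGroup W] [Module F W]

theorem finrank_le_card [FiniteDimensional F W] {ι : Type*} (s : Finset ι) (g : ι → W)
    {X : Submodule F W} (h : X ≤ Submodule.span F (g '' s)) : finrank F X ≤ #s := by
  classical
  rw [← coe_image] at h
  exact (Submodule.finrank_mono h).trans ((finrank_span_finset_le_card _).trans card_image_le)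

variable {R : Type*} [CommRing R] [Algebra F R]

/-- A model for the tensor product of two Jordan blocks of size `d`. -/
structure TM (φ : R →ₐ[F] End F W) (A B : R) (Y : End F W) (w : W) (a ν : F) (p d e o : ℕ) :
    Prop where
  hA : A ^ d = 0
  hB : B ^ d = 0
  hD : (A + B) ^ p = 0
  YA : ∀ v, Y (φ A v) = a • φ A (Y v)
  YB : ∀ v, Y (φ B v) = a • φ B (Y v)
  Yw : Y w = ν • w
  span : Submodule.span F (Set.range fun q : ℕ × ℕ => φ (A ^ q.1 * B ^ q.2) w) = ⊤
  ha : ∀ m, a ^ m = 1 ↔ e ∣ m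
  ν0 : ν ≠ 0
  ho : (o : F) ≠ 0
  hY : Y ^ o = 1
  de : d + e = p

/-- The homogeneous component of degree `n`. -/
def Wd (φ : R →ₐ[F] End F W) (A B : R) (w : W) (d n : ℕ) : Submodule F W :=
  Submodule.span F ((fun q : ℕ × ℕ => φ (A ^ q.1 * B ^ q.2) w) ''
    {q | q.1 < d ∧ q.2 < d ∧ q.1 + q.2 = n})

theorem map_mul_apply (φ : R →ₐ[F] End F W) (P Q : R) (v : W) : φ (P * Q) v = φ P (φ Q v) := by
  rw [map_mul, End.mul_apply]

namespace TM

variable {φ : R →ₐ[F] End F W} {A B : R} {Y : End F W} {w : W} {a ν : F} {p d e o : ℕ}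
  (h : TM φ A B Y w a ν p d e o)
include h

theorem mono_eq_zero {r s : ℕ} (hrs : d ≤ r ∨ d ≤ s) : A ^ r * B ^ s = 0 := by
  rcases hrs with e | e
  · rw [pow_eq_zero_of_le e h.hA, zero_mul]
  · rw [pow_eq_zero_of_le e h.hB, mul_zero]

theorem mono_mem (r s : ℕ) : φ (A ^ r * B ^ s) w ∈ Wd φ A B w d (r + s) := by
  by_cases hrs : d ≤ r ∨ d ≤ s
  · simp [h.mono_eq_zero hrs]
  · exact Submodule.subset_span ⟨(r, s), ⟨by omega, by omega, rfl⟩, rfl⟩

theorem pow_mem (i j : ℕ) : φ ((A + B) ^ i * (A - B) ^ j) w ∈ Wd φ A B w d (i + j) := by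
  have h1 : ∀ c : F, ∀ n, ∀ v ∈ Wd φ A B w d n, φ (A + c • B) v ∈ Wd φ A B w d (n + 1) :=
    fun c n v hv => by
      refine (Submodule.span_le.2 ?_ : _ ≤ Submodule.comap (φ (A + c • B)) (Wd φ A B w d _)) hv
      rintro _ ⟨⟨r, s⟩, ⟨-, -, rfl⟩, rfl⟩
      rw [SetLike.mem_coe, Submodule.mem_comap, ← map_mul_apply, show (A + c • B) * (A ^ r * B ^ s) = A ^ (r + 1) * B ^ s +
        c • (A ^ r * B ^ (s + 1)) by rw [Algebra.smul_def, Algebra.smul_def]; ring, map_add,
        map_smul]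
      exact add_mem (add_right_comm r 1 s ▸ h.mono_mem _ _) (Submodule.smul_mem _ _ (h.mono_mem r (s + 1)))
  induction i with
  | zero =>
    induction j with
    | zero => simpa using h.mono_mem 0 0
    | succ j ih =>
      have := h1 (-1) _ _ ih
      rw [← map_mul_apply] at this
      rw [show (A + B) ^ 0 * (A - B) ^ (j + 1) = (A + (-1 : F) • B) * ((A + B) ^ 0 * (A - B) ^ j) by
        simp only [neg_smul, one_smul]; ring]
      exact this
  | succ i ih =>
    have := h1 1 _ _ ih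
    rw [← map_mul_apply, add_right_comm] at this
    rw [show (A + B) ^ (i + 1) * (A - B) ^ j = (A + (1 : F) • B) * ((A + B) ^ i * (A - B) ^ j) by
      simp only [one_smul]; ring]
    exact this

theorem D_mem (k r s : ℕ) : φ ((A + B) ^ k * (A ^ r * B ^ s)) w ∈ Wd φ A B w d (k + (r + s)) := by
  rw [add_pow, sum_mul, map_sum, LinearMap.sum_apply]
  refine sum_mem fun i hi => ?_
  rw [show A ^ i * B ^ (k - i) * (k.choose i : R) * (A ^ r * B ^ s) =
    k.choose i • (A ^ (i + r) * B ^ (k - i + s)) by ring, map_nsmul]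
  refine nsmul_mem (?_ : φ _ w ∈ _) _
  have := mem_range.1 hi
  rw [show k + (r + s) = i + r + (k - i + s) by omega]
  exact h.mono_mem _ _

omit h in
theorem eq_zero_of_le {n : ℕ} (hn : 2 * d ≤ n + 1) {v : W} (hv : v ∈ Wd φ A B w d n) : v = 0 := by
  refine (Submodule.span_le.2 ?_ : _ ≤ ⊥) hv
  rintro _ ⟨q, ⟨_, _, _⟩, -⟩
  omega

theorem weight {P Q : R} (hP : ∀ v, Y (φ P v) = a • φ P (Y v)) (hQ : ∀ v, Y (φ Q v) = a • φ Q (Y v))
    (i j : ℕ) : Y (φ (P ^ i * Q ^ j) w) = (ν * a ^ (i + j)) • φ (P ^ i * Q ^ j) w := by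
  have h1 : ∀ {P : R}, (∀ v, Y (φ P v) = a • φ P (Y v)) → ∀ i v,
      Y (φ (P ^ i) v) = a ^ i • φ (P ^ i) (Y v) := fun hP i => by
    induction i with
    | zero => simp
    | succ i ih =>
      intro v
      rw [pow_succ, map_mul_apply, ih, hP, map_smul, smul_smul, map_mul_apply, pow_succ]
  rw [map_mul_apply, h1 hP, h1 hQ, h.Yw]
  simp only [map_smul, smul_smul]
  congr 1; ring

theorem YD (v : W) : Y (φ (A + B) v) = a • φ (A + B) (Y v) := by simp [h.YA, h.YB]

theorem Yδ (v : W) : Y (φ (A - B) v) = a • φ (A - B) (Y v) := by simp [h.YA, h.YB, smul_sub]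

theorem weight_D (k r s : ℕ) : Y (φ ((A + B) ^ k * (A ^ r * B ^ s)) w) =
    (ν * a ^ (k + (r + s))) • φ ((A + B) ^ k * (A ^ r * B ^ s)) w := by
  induction k with
  | zero => simpa using h.weight h.YA h.YB r s
  | succ k ih =>
    rw [pow_succ', mul_assoc, map_mul_apply, h.YD, ih, map_smul, smul_smul]
    congr 1; ring

theorem eq_iff (he : 0 < e) {m n : ℕ} : ν * a ^ m = ν * a ^ n ↔ m ≡ n [MOD e] := by
  have ha : a ≠ 0 := fun e1 => by simpa [e1, he.ne'] using (h.ha e).2 dvd_rfl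
  wlog hmn : m ≤ n generalizing m n
  · exact eq_comm.trans ((this (by omega)).trans Nat.ModEq.comm)
  obtain ⟨k, rfl⟩ := Nat.exists_eq_add_of_le hmn
  rw [Nat.modEq_iff_dvd' hmn, Nat.add_sub_cancel_left, ← h.ha, mul_right_inj' h.ν0, pow_add,
    left_eq_mul₀ (pow_ne_zero _ ha)]

theorem mem_of_range {ι : Type*} {m : ι → R} (hm : Submodule.span F (Set.range fun i => φ (m i) w) = ⊤)
    {P : R} {lam : ι → F} (hl : ∀ i, Y (φ (P * m i) w) = lam i • φ (P * m i) w) {c : F} {v : W}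
    (hv : v ∈ LinearMap.range (φ P)) (hc : Y v = c • v) {S : Submodule F W}
    (hS : ∀ i, lam i = c → φ (P * m i) w ∈ S) : v ∈ S := by
  refine mem_span_of_weight h.ho h.hY hl ?_ hc hS
  obtain ⟨u, rfl⟩ := hv
  refine (Submodule.span_le.2 ?_ : _ ≤ Submodule.comap (φ P) (Submodule.span F _)) (hm.ge trivial)
  rintro _ ⟨i, rfl⟩
  exact Submodule.subset_span ⟨i, map_mul_apply _ _ _ _⟩

variable [FiniteDimensional F W] {τ : ℕ}

open Classical in
theorem finrank_eigen_le (he : 2 ≤ e) (hd : d = τ * e + 1) (c : F) :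
    finrank F (End.eigenspace Y c) ≤ (d + 1) * τ + if c = ν then 1 else 0 := by
  refine (finrank_le_card {q ∈ range d ×ˢ range d | ν * a ^ (q.1 + q.2) = c}
    (fun q => φ (A ^ q.1 * B ^ q.2) w) fun v hv => ?_).trans ?_
  · refine mem_span_of_weight h.ho h.hY (fun q => h.weight h.YA h.YB q.1 q.2) (h.span.ge trivial)
      (End.mem_eigenspace_iff.1 hv) fun q hq => ?_
    by_cases hrs : d ≤ q.1 ∨ d ≤ q.2
    · simp [h.mono_eq_zero hrs]
    · exact Submodule.subset_span ⟨q, by simp [hq]; omega, rfl⟩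
  by_cases hc : ∃ m, c = ν * a ^ m
  · obtain ⟨m, rfl⟩ := hc
    simp only [h.eq_iff (by omega : 0 < e)]
    rw [hd, card_filter_modEq₂ he]
    refine le_of_eq (congrArg _ (if_congr ?_ rfl rfl))
    rw [← h.eq_iff (by omega), pow_zero, mul_one, eq_comm]
  · rw [filter_false_of_mem fun q _ e => hc ⟨_, e.symm⟩]; simp

open Classical in
theorem finrank_pow_e_le (he : 2 ≤ e) (hd : d = τ * e + 1) (hτ : 1 ≤ τ) (c : F) :
    ∃ r, 2 * r ≤ e ∧ (c = ν → r = 0) ∧
      finrank F ↥(LinearMap.range (φ (A + B) ^ e) ⊓ End.eigenspace Y c) + d ≤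
        (d + 1) * τ + (if c = ν then 1 else 0) + r := by
  have he0 : 0 < e := by omega
  have key : ∀ k, finrank F ↥(LinearMap.range (φ (A + B) ^ e) ⊓ End.eigenspace Y c) ≤
      #{q ∈ range d ×ˢ range d | ν * a ^ (q.1 + q.2) = c ∧ q.1 + q.2 ≠ k} := fun k => by
    refine finrank_le_card _ (fun q => if q.1 + q.2 < k then
      φ ((A + B) ^ e * (A ^ q.1 * B ^ q.2)) w else φ (A ^ q.1 * B ^ q.2) w) fun v hv => ?_
    refine h.mem_of_range h.span (fun q => h.weight_D e q.1 q.2) (map_pow φ _ _ ▸ hv.1)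
      (End.mem_eigenspace_iff.1 hv.2) fun q hq => ?_
    have hq' : ν * a ^ (q.1 + q.2) = c := hq ▸ (h.eq_iff he0).2 (Nat.add_mod_left _ _).symm
    by_cases hrs : d ≤ q.1 ∨ d ≤ q.2
    · simp [h.mono_eq_zero hrs]
    by_cases hk : q.1 + q.2 < k
    · exact Submodule.subset_span ⟨q, by simp [hq']; omega, by simp only [if_pos hk]⟩
    refine Submodule.span_le.2 ?_ (h.D_mem e q.1 q.2)
    rintro _ ⟨q', ⟨e1, e2, e3⟩, rfl⟩
    exact Submodule.subset_span ⟨q', by simp [e1, e2, e3, hq]; omega,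
      by simp only [if_neg (show ¬ q'.1 + q'.2 < k by omega)]⟩
  by_cases hc : ∃ m, c = ν * a ^ m
  swap
  · refine ⟨0, by omega, fun _ => rfl, ?_⟩
    have := key 0
    rw [filter_false_of_mem fun q _ e => hc ⟨_, e.1.symm⟩, card_empty] at this
    have := Nat.le_mul_of_pos_right (d + 1) hτ
    omega
  obtain ⟨m, hm, rfl⟩ : ∃ m < e, c = ν * a ^ m :=
    let ⟨m, hm⟩ := hc
    ⟨m % e, Nat.mod_lt _ he0, hm.trans ((h.eq_iff he0).2 (Nat.mod_modEq _ _).symm)⟩
  have h1 : ν * a ^ m = ν ↔ 0 ≡ m [MOD e] := by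
    rw [← h.eq_iff he0, pow_zero, mul_one, eq_comm]
  have h2 : ∀ k r (g : ℕ → ℕ × ℕ), k ≡ m [MOD e] → r ≤ d → Function.Injective g →
      (∀ i < d - r, (g i).1 < d ∧ (g i).2 < d ∧ (g i).1 + (g i).2 = k) →
      finrank F ↥(LinearMap.range (φ (A + B) ^ e) ⊓ End.eigenspace Y (ν * a ^ m)) + d ≤
        (d + 1) * τ + (if ν * a ^ m = ν then 1 else 0) + r := fun k r g hk hr hg hg' => by
    have h3 := key k
    have h4 := card_filter_modEq₂ he τ m
    have h5 := card_filter_add_card_filter_not (s := {q ∈ range d ×ˢ range d |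
      q.1 + q.2 ≡ m [MOD e]}) (fun q : ℕ × ℕ => q.1 + q.2 = k)
    have h6 := card_le_card_of_injOn (s := range (d - r)) (t := {q ∈ {q ∈ range d ×ˢ range d |
      q.1 + q.2 ≡ m [MOD e]} | q.1 + q.2 = k}) g (fun i hi => by
        obtain ⟨e1, e2, e3⟩ := hg' i (mem_range.1 hi)
        simp [e1, e2, e3, hk]) hg.injOn
    simp only [h.eq_iff he0, ← filter_filter] at h3
    rw [← hd, show τ * e + 2 = d + 1 by omega] at h4
    rw [card_range] at h6
    rw [if_congr h1 rfl rfl]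
    simp only [ne_eq] at h3
    omega
  have h3 : e ≤ τ * e := Nat.le_mul_of_pos_left _ hτ
  by_cases h4 : 2 * m ≤ e
  · refine ⟨m, h4, fun e1 => Nat.eq_zero_of_dvd_of_lt ((Nat.modEq_zero_iff_dvd).1 (h1.1 e1).symm) hm,
      h2 (m + τ * e) m (fun i => (m + i, τ * e - i)) (Nat.add_mul_mod_self_right _ _ _) (by omega)
        (fun i j e => by simpa using congrArg Prod.fst e) fun i hi => by simp only; omega⟩
  · refine ⟨e - m, by omega, fun e1 => by
      have := Nat.eq_zero_of_dvd_of_lt ((Nat.modEq_zero_iff_dvd).1 (h1.1 e1).symm) hm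
      omega, h2 (m + (τ - 1) * e) (e - m) (fun i => (i, m + (τ - 1) * e - i))
        (Nat.add_mul_mod_self_right _ _ _) (by omega)
        (fun i j e => by simpa using congrArg Prod.fst e) fun i hi => ?_⟩
    rw [Nat.sub_one_mul]
    simp only; omega

section sw
variable {sw : End F W} (sA : ∀ v, sw (φ A v) = φ B (sw v)) (sB : ∀ v, sw (φ B v) = φ A (sw v))
  (sw0 : sw w = w) (h2 : (2 : F) ≠ 0)

include h2 in
theorem span' : Submodule.span F
    (Set.range fun q : ℕ × ℕ => φ ((A + B) ^ q.1 * (A - B) ^ q.2) w) = ⊤ := by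
  have h1 : ∀ ε : F, ∀ P, P = (2 : F)⁻¹ • ((A + B) + ε • (A - B)) → ∀ i, ∀ v ∈ Submodule.span F
      (Set.range fun q : ℕ × ℕ => φ ((A + B) ^ q.1 * (A - B) ^ q.2) w), φ (P ^ i) v ∈
      Submodule.span F (Set.range fun q : ℕ × ℕ => φ ((A + B) ^ q.1 * (A - B) ^ q.2) w) := by
    rintro ε P hP i v hv
    rw [map_pow]
    refine End.pow_apply_mem_of_forall_mem i (fun v hv => ?_) v hv
    refine (Submodule.span_le.2 ?_ : _ ≤ Submodule.comap (φ P) (Submodule.span F _)) hv
    rintro _ ⟨⟨r, s⟩, rfl⟩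
    rw [SetLike.mem_coe, Submodule.mem_comap, ← map_mul_apply, hP, smul_mul_assoc, add_mul, smul_mul_assoc, map_smul, map_add, map_smul]
    refine Submodule.smul_mem _ _ (add_mem (Submodule.subset_span ⟨(r + 1, s), ?_⟩)
      (Submodule.smul_mem _ _ (Submodule.subset_span ⟨(r, s + 1), ?_⟩))) <;>
    exact congrArg (φ · w) (by ring)
  refine eq_top_iff.2 (h.span.ge.trans (Submodule.span_le.2 ?_))
  rintro _ ⟨⟨r, s⟩, rfl⟩
  rw [SetLike.mem_coe]
  beta_reduce
  rw [map_mul_apply]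
  refine h1 1 A ?_ r _ (h1 (-1) B ?_ s _ (Submodule.subset_span ⟨(0, 0), show _ = w by simp⟩)) <;>
    match_scalars <;> field_simp <;> ring

omit h [FiniteDimensional F W] in
theorem sw_pow {P Q : R} (hP : ∀ v, sw (φ P v) = φ Q (sw v)) (i : ℕ) (v : W) :
    sw (φ (P ^ i) v) = φ (Q ^ i) (sw v) := by
  induction i generalizing v with
  | zero => simp
  | succ i ih => rw [pow_succ, pow_succ, map_mul_apply, map_mul_apply, ih, hP]

include sA sB sw0

omit h [FiniteDimensional F W] in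
theorem sw_mono (r s : ℕ) : sw (φ (A ^ r * B ^ s) w) = φ (A ^ s * B ^ r) w := by
  rw [map_mul_apply, sw_pow sA, sw_pow sB, sw0, ← map_mul_apply, mul_comm]

omit h [FiniteDimensional F W] in
theorem sw_mono' (i j : ℕ) : sw (φ ((A + B) ^ i * (A - B) ^ j) w) =
    (-1 : F) ^ j • φ ((A + B) ^ i * (A - B) ^ j) w := by
  rw [map_mul_apply, sw_pow (Q := A + B) (by simp [sA, sB, add_comm]),
    sw_pow (Q := (-1 : F) • (A - B)) (by simp [sA, sB]), sw0, smul_pow, map_smul,
    LinearMap.smul_apply, map_smul]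

include h2

/-- Reduction to the antisymmetric generators. -/
theorem mem_anti {k : ℕ} {c : F} {v : W} (hv : v ∈ LinearMap.range (φ (A + B) ^ k))
    (hc : Y v = c • v) (hs : sw v = -v) {S : Submodule F W}
    (hS : ∀ i j, Odd j → ν * a ^ (k + i + j) = c → φ ((A + B) ^ (k + i) * (A - B) ^ j) w ∈ S) :
    v ∈ S := by
  have h1 : v ∈ S.comap (1 - sw) := by
    refine h.mem_of_range (h.span' h2) (lam := fun q => ν * a ^ (k + q.1 + q.2)) (fun q => by
      rw [← mul_assoc, ← pow_add]; exact h.weight h.YD h.Yδ _ _) (map_pow φ _ _ ▸ hv) hc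
      fun q hq => ?_
    rw [← mul_assoc, ← pow_add, Submodule.mem_comap, LinearMap.sub_apply, sw_mono' sA sB sw0]
    rcases q.2.even_or_odd with e | e
    · simp [e.neg_one_pow]
    · exact sub_mem (hS _ _ e hq) (S.smul_mem _ (hS _ _ e hq))
  rw [Submodule.mem_comap, LinearMap.sub_apply, hs, End.one_apply, sub_neg_eq_add,
    ← two_smul F] at h1
  exact (S.smul_mem_iff h2).1 h1

theorem pow_anti {k : ℕ} (hk : 2 * d ≤ k + 2) {v : W} (hs : sw v = -v) :
    (φ (A + B) ^ k) v = 0 := by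
  have h1 : (1 - sw) ∘ₗ φ ((A + B) ^ k) = 0 := LinearMap.ext_on_range (h.span' h2) fun q => by
    rw [LinearMap.comp_apply, ← map_mul_apply, ← mul_assoc, ← pow_add, LinearMap.sub_apply,
      sw_mono' sA sB sw0]
    rcases q.2.even_or_odd with e | e
    · simp [e.neg_one_pow]
    · rw [eq_zero_of_le (by have := e.pos; omega) (h.pow_mem _ _)]; simp
  have h3 := LinearMap.congr_fun h1 v
  rw [LinearMap.comp_apply, LinearMap.sub_apply, sw_pow (sw := sw) (P := A + B) (Q := A + B)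
    (by simp [sA, sB, add_comm]), hs, map_neg, End.one_apply, sub_neg_eq_add, ← two_smul F,
    map_pow] at h3
  exact (smul_eq_zero.1 h3).resolve_left h2

theorem finrank_anti_le (he : 0 < e) (hd : d = (τ + 2) * e + 1) (c : F) :
    2 * finrank F ↥(LinearMap.range (φ (A + B) ^ d) ⊓ End.eigenspace Y c ⊓
      LinearMap.ker (sw + 1)) ≤ (τ + 1) * e + 1 := by
  classical
  have key : ∀ S : Submodule F W, (∀ i j, Odd j → ν * a ^ (d + i + j) = c →
      φ ((A + B) ^ (d + i) * (A - B) ^ j) w ∈ S) → LinearMap.range (φ (A + B) ^ d) ⊓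
      End.eigenspace Y c ⊓ LinearMap.ker (sw + 1) ≤ S := fun S hS v hv =>
    h.mem_anti sA sB sw0 h2 hv.1.1 (End.mem_eigenspace_iff.1 hv.1.2)
      (add_eq_zero_iff_eq_neg.1 hv.2) hS
  by_cases hc : ∃ m, c = ν * a ^ (d + m)
  swap
  · rw [le_bot_iff.1 (key ⊥ fun i j _ e => (hc ⟨i + j, by rw [← e, add_assoc]⟩).elim)]
    simp
  obtain ⟨m, hm, rfl⟩ : ∃ m < e, c = ν * a ^ (d + m) :=
    let ⟨m, hm⟩ := hc
    ⟨m % e, Nat.mod_lt _ he, hm.trans ((h.eq_iff he).2 ((Nat.mod_modEq _ _).symm.add_left _))⟩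
  have h1 := Submodule.finrank_mono (key (Submodule.span F
      ((fun q : ℕ × ℕ => φ ((A + B) ^ (d + q.1) * (A - B) ^ q.2) w) '' ({q ∈ range e ×ˢ
        range (m + τ * e + 1) | q.1 + q.2 ≡ m [MOD e] ∧ Odd q.2} : Finset _)) ⊔
    Submodule.span F ((fun r => (1 - sw) (φ (A ^ (m + (τ + 1) * e + 1 + r) * B ^ (d - 1 - r)) w)) ''
      range ((e - m) / 2))) fun i j hj hij => ?_)
  · have h3 := h1.trans ((Submodule.finrank_add_le_finrank_add_finrank _ _).trans (add_le_add
      (finrank_le_card _ _ le_rfl) (finrank_le_card _ _ le_rfl)))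
    have h4 := card_le_card_of_injOn (s := {q ∈ range e ×ˢ range (m + τ * e + 1) |
        q.1 + q.2 ≡ m [MOD e] ∧ Odd q.2}) (t := range ((m + τ * e + 1) / 2)) (fun q => q.2 / 2)
      (fun q hq => by
        simp only [coe_filter, mem_product, mem_range, Set.mem_ofPred_eq, Nat.odd_iff] at hq
        simp only [coe_range, Set.mem_Iio]
        omega)
      fun q hq q' hq' (e1 : q.2 / 2 = q'.2 / 2) => by
        simp only [coe_filter, mem_product, mem_range, Set.mem_ofPred_eq, Nat.odd_iff] at hq hq'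
        have e2 : q.2 = q'.2 := by omega
        exact Prod.ext ((Nat.ModEq.add_right_cancel' q.2 (hq.2.1.trans (e2 ▸ hq'.2.1.symm)))
          |>.eq_of_lt_of_lt hq.1.1 hq'.1.1) e2
    rw [card_range] at h3 h4
    rw [add_mul]
    omega
  rw [add_assoc, h.eq_iff he] at hij
  replace hij := Nat.ModEq.add_left_cancel' d hij
  by_cases h3 : e ≤ i
  · rw [pow_eq_zero_of_le (by have := h.de; omega) h.hD]; simp
  by_cases h4 : i + j ≤ m + τ * e
  · exact Submodule.mem_sup_left (Submodule.subset_span ⟨(i, j), by simp [hij, hj]; omega, rfl⟩)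
  obtain ⟨q, hq⟩ := (Nat.modEq_iff_dvd' (show m ≤ i + j by omega)).1 hij.symm
  have h5 := h.pow_mem (d + i) j
  by_cases h6 : τ + 2 ≤ q
  · have := Nat.mul_le_mul_left e h6
    rw [eq_zero_of_le (by rw [mul_comm e] at this; omega) h5]; simp
  have h7 : q = τ + 1 := by
    have : τ < q := lt_of_mul_lt_mul_left (a := e) (by rw [mul_comm e]; omega) (Nat.zero_le _)
    omega
  refine Submodule.mem_sup_right ((Submodule.smul_mem_iff _ h2).1 ?_)
  have h8 : (1 - sw) (φ ((A + B) ^ (d + i) * (A - B) ^ j) w) =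
      (2 : F) • φ ((A + B) ^ (d + i) * (A - B) ^ j) w := by
    rw [LinearMap.sub_apply, sw_mono' sA sB sw0, hj.neg_one_pow, End.one_apply]
    module
  rw [← h8]
  refine (Submodule.span_le.2 ?_ : _ ≤ Submodule.comap (1 - sw) (Submodule.span F _)) h5
  rintro _ ⟨⟨r, s⟩, ⟨e1, e2, e3⟩, rfl⟩
  simp only at e1 e2 e3
  rw [h7, mul_comm e] at hq
  simp only [add_mul] at hq hd ⊢
  have h9 : ∀ r s, r < s → s < d → r + s = d + i + j → (1 - sw) (φ (A ^ r * B ^ s) w) ∈
      Submodule.span F ((fun r => (1 - sw) (φ (A ^ (m + (τ * e + 1 * e) + 1 + r) *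
        B ^ (d - 1 - r)) w)) '' range ((e - m) / 2)) := fun r s a1 a2 a3 =>
    Submodule.subset_span ⟨d - 1 - s, by simp; omega, by
      simp only
      rw [show m + (τ * e + 1 * e) + 1 + (d - 1 - s) = r by omega,
        show d - 1 - (d - 1 - s) = s by omega]⟩
  rw [SetLike.mem_coe, Submodule.mem_comap]
  rcases lt_trichotomy r s with e4 | rfl | e4
  · exact h9 r s e4 e2 e3
  · simp [sw_mono sA sB sw0, -map_mul, -map_pow]
  · convert neg_mem (h9 s r e4 e1 (by omega)) using 1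
    simp [sw_mono sA sB sw0, -map_mul, -map_pow]

omit sA sB sw0 h2 [FiniteDimensional F W] in
theorem coef {l m n : ℕ} (hl : l < d) (hm : m < d) (hn : l + m + n + 2 = 2 * d) :
    A ^ l * B ^ m * (A + B) ^ n = n.choose (d - 1 - l) • (A ^ (d - 1) * B ^ (d - 1)) := by
  rw [add_pow, mul_sum, sum_eq_single (d - 1 - l)]
  · rw [show A ^ (d - 1) = A ^ l * A ^ (d - 1 - l) by rw [← pow_add]; congr 1; omega,
      show B ^ (d - 1) = B ^ m * B ^ (n - (d - 1 - l)) by rw [← pow_add]; congr 1; omega]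
    ring
  · intro i hi h0
    have := mem_range.1 hi
    rw [show A ^ l * B ^ m * (A ^ i * B ^ (n - i) * (n.choose i : R)) =
      A ^ (l + i) * B ^ (m + (n - i)) * (n.choose i : R) by ring, h.mono_eq_zero (by omega), zero_mul]
  · intro h0
    exact absurd (mem_range.2 (by omega)) h0

omit sA sB sw0 h2 [FiniteDimensional F W] in
theorem mono_mem_range (r s : ℕ) (hrs : d ≤ r + s) :
    φ (A ^ r * B ^ s) w ∈ LinearMap.range (φ (A + B)) := by
  induction r generalizing s with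
  | zero => rw [h.mono_eq_zero (Or.inr (by omega))]; simp
  | succ r ih =>
    rw [show A ^ (r + 1) * B ^ s = (A + B) * (A ^ r * B ^ s) - A ^ r * B ^ (s + 1) by ring, map_sub,
      LinearMap.sub_apply, map_mul_apply]
    exact sub_mem ⟨_, rfl⟩ (ih _ (by omega))

/-- A small block in the exterior square. -/
theorem exists_small [CharP F p] (hd : d = e + 1) (h5 : 5 ≤ e)
    (top : φ (A ^ (d - 1) * B ^ (d - 1)) w ≠ 0) : ∃ (z : W) (c : F), sw z = -z ∧ φ (A + B) z = 0 ∧
      Y z = c • z ∧ z ∈ LinearMap.range (φ (A + B)) ∧ z ∉ LinearMap.range (φ (A + B) ^ e) := by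
  obtain ⟨i, n, hi1, hi2, hin⟩ : ∃ i n, 1 ≤ i ∧ i ≤ 2 ∧ d = i + 2 * (n + 1) :=
    ⟨2 - d % 2, (d - 1) / 2 - 1, by omega, by omega, by omega⟩
  obtain ⟨S, hS⟩ : ∃ S, S = ∑ k ∈ range (n + 1), (A ^ 2) ^ k * (B ^ 2) ^ (n + 1 - 1 - k) := ⟨_, rfl⟩
  have h3 : (A * B) ^ i * (A - B) * S = ∑ k ∈ range (n + 1),
      (A ^ (i + 2 * k + 1) * B ^ (i + 2 * (n - k)) - A ^ (i + 2 * k) * B ^ (i + 2 * (n - k) + 1)) := by
    rw [hS, mul_sum]
    exact sum_congr rfl fun k _ => by rw [Nat.add_sub_cancel]; ring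
  have h4 : φ (A + B) (φ ((A * B) ^ i * (A - B) * S) w) = 0 := by
    rw [← map_mul_apply, show (A + B) * ((A * B) ^ i * (A - B) * S) =
      (A * B) ^ i * (S * (A ^ 2 - B ^ 2)) by ring, hS, geom_sum₂_mul,
      show (A * B) ^ i * ((A ^ 2) ^ (n + 1) - (B ^ 2) ^ (n + 1)) =
        A ^ (i + 2 * (n + 1)) * B ^ i - A ^ i * B ^ (i + 2 * (n + 1)) by ring, ← hin, h.hA, h.hB]
    simp
  have h6 : sw (φ ((A * B) ^ i * (A - B) * S) w) = -φ ((A * B) ^ i * (A - B) * S) w := by
    rw [h3, map_sum, LinearMap.sum_apply, map_sum, ← sum_neg_distrib, ← sum_range_reflect]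
    refine sum_congr rfl fun k hk => ?_
    have := mem_range.1 hk
    simp only [map_sub, LinearMap.sub_apply, sw_mono sA sB sw0, neg_sub, Nat.add_sub_cancel]
    rw [show n - (n - k) = k by omega]
  have h7 : Y (φ ((A * B) ^ i * (A - B) * S) w) =
      (ν * a ^ (e + i)) • φ ((A * B) ^ i * (A - B) * S) w := by
    rw [h3, map_sum, LinearMap.sum_apply, map_sum, smul_sum]
    refine sum_congr rfl fun k hk => ?_
    have := mem_range.1 hk
    simp only [map_sub, LinearMap.sub_apply, h.weight h.YA h.YB, smul_sub]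
    congr 4 <;> omega
  refine ⟨_, _, h6, h4, h7, ?_, fun h8 => top ?_⟩
  · rw [h3, map_sum, LinearMap.sum_apply]
    exact sum_mem fun k hk => by
      have := mem_range.1 hk
      rw [map_sub, LinearMap.sub_apply]
      exact sub_mem (h.mono_mem_range _ _ (by omega)) (h.mono_mem_range _ _ (by omega))
  obtain ⟨c, hc⟩ := Submodule.mem_span_singleton.1 (h.mem_anti sA sB sw0 h2 h8 h7 h6
    (S := Submodule.span F {φ ((A + B) ^ (e + (i - 1)) * (A - B) ^ 1) w}) fun r s hs hrs => by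
      rw [h.eq_iff (by omega), add_assoc] at hrs
      by_cases h9 : d ≤ r + s
      · rw [eq_zero_of_le (by omega) (h.pow_mem (e + r) s)]; simp
      have h10 := (Nat.ModEq.add_left_cancel' e hrs)
      rw [Nat.odd_iff] at hs
      rcases (show r + s = e ∨ r + s < e by omega) with e1 | e1
      · rw [e1, Nat.ModEq, Nat.mod_self, Nat.mod_eq_of_lt (by omega)] at h10
        omega
      · have := h10.eq_of_lt_of_lt e1 (by omega)
        rw [show r = i - 1 by omega, show s = 1 by omega]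
        exact Submodule.mem_span_singleton_self _)
  have h9 : φ (A ^ (2 * n + 1)) (φ ((A * B) ^ i * (A - B) * S) w) =
      -φ (A ^ (d - 1) * B ^ (d - 1)) w := by
    rw [← map_mul_apply, h3, mul_sum, sum_eq_single 0, ← LinearMap.neg_apply, ← map_neg]
    · rw [mul_sub, ← mul_assoc, ← mul_assoc, ← pow_add, ← pow_add, h.mono_eq_zero (by omega),
        zero_sub]
      congr 5 <;> omega
    · intro k _ hk
      rw [mul_sub, ← mul_assoc, ← mul_assoc, ← pow_add, ← pow_add, h.mono_eq_zero (by omega),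
        h.mono_eq_zero (by omega), sub_zero]
    · simp
  have hne : ∀ j : ℕ, 0 < j → j < p → (j : F) ≠ 0 := fun j a b e =>
    (Nat.le_of_dvd a ((CharP.cast_eq_zero_iff F p _).1 e)).not_gt b
  have hp := h.de
  have h10 := congrArg (φ (B ^ (d - 4) * (A + B) ^ (2 - i))) h4
  rw [← hc, map_smul, map_smul, ← map_mul_apply, ← map_mul_apply, map_zero,
    show B ^ (d - 4) * (A + B) ^ (2 - i) * (A + B) * ((A + B) ^ (e + (i - 1)) * (A - B) ^ 1) =
      A ^ 1 * B ^ (d - 4) * (A + B) ^ (2 - i + 1 + (e + (i - 1))) -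
      A ^ 0 * B ^ (d - 4 + 1) * (A + B) ^ (2 - i + 1 + (e + (i - 1))) by ring,
    show 2 - i + 1 + (e + (i - 1)) = d + 1 by omega, h.coef (by omega) (by omega) (by omega),
    h.coef (by omega) (by omega) (by omega), show d - 1 - 1 = d + 1 - 3 by omega,
    show d - 1 - 0 = d + 1 - 2 by omega, Nat.choose_symm (by omega), Nat.choose_symm (by omega),
    ← Nat.cast_smul_eq_nsmul F, ← Nat.cast_smul_eq_nsmul F, ← sub_smul, map_smul,
    LinearMap.smul_apply, smul_smul, smul_eq_zero, mul_eq_zero] at h10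
  rcases h10 with (rfl | h10) | h10
  · rwa [← hc, zero_smul, map_zero, zero_eq_neg] at h9
  · have e1 := congrArg (Nat.cast : ℕ → F) (Nat.choose_succ_right_eq (d + 1) 2)
    have e2 := congrArg (Nat.cast : ℕ → F) (Nat.choose_succ_right_eq (d + 1) 1)
    obtain ⟨k, rfl⟩ : ∃ k, d = k + 4 := ⟨d - 4, by omega⟩
    have e3 := mul_ne_zero (mul_ne_zero (hne (k + 5) (by omega) (by omega))
      (hne (k + 4) (by omega) (by omega))) (hne k (by omega) (by omega))
    simp only [Nat.choose_one_right, show k + 4 + 1 - 2 = k + 3 by omega, Nat.add_sub_cancel,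
      Nat.reduceAdd] at e1 e2
    push_cast at e1 e2 e3
    exact absurd (by linear_combination 6 * h10 - 2 * e1 - k * e2) e3
  · exact h10

end sw

end TM

end CL.M1
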