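import Cfsg.Agent.BLK.M1Star
import Cfsg.Agent.BLK.M1Ten

/-! Characters of degree `p - e`: lattices, tensor products and multiplicities. -/

set_option autoImplicit false
set_option linter.unusedSectionVars false
open Cfsg Module Finset Subgroup CL.D1T CL.Blk CL.Char IsLocalRing
open scoped Kronecker Matrix IsMulCommutative

namespace CL.M1

section swap
variable {A R : Type*} [CommRing A] [CommRing R] (f : A →+* R) {n : Type*} [Fintype n]
  [DecidableEq n]

/-- The matrix of the flip. -/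
def swp (A n : Type*) [CommRing A] [DecidableEq n] : Matrix (n × n) (n × n) A :=
  (Equiv.prodComm n n).toPEquiv.toMatrix

theorem swp_mul_kron (E E' : Matrix n n A) : swp A n * (E ⊗ₖ E') = (E' ⊗ₖ E) * swp A n := by
  rw [swp, PEquiv.toMatrix_toPEquiv_mul, PEquiv.mul_toMatrix_toPEquiv]
  ext q r
  simp [mul_comm]

theorem swp_mul_swp : swp A n * swp A n = 1 := by
  rw [swp, ← PEquiv.toMatrix_trans, ← Equiv.toPEquiv_trans]
  exact PEquiv.toMatrix_refl

theorem trace_kron_swp (E : Matrix n n A) : ((E ⊗ₖ E) * swp A n).trace = (E * E).trace := by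
  rw [swp, PEquiv.mul_toMatrix_toPEquiv]
  simp [Matrix.mul_apply, Matrix.trace, Fintype.sum_prod_type]

theorem lin_swp (v w : n → R) : lin f (swp A n) (ten R n n v w) = ten R n n w v := by
  ext q
  simp [swp, lin_apply, Matrix.mulVec, dotProduct, ten_apply, mul_comm, apply_ite f,
    PEquiv.toMatrix_apply]

end swap

theorem geom_one {β : ℂ} {e m : ℕ} (h : β ^ e = 1) (h1 : β ≠ 1) :
    ∑ k ∈ range (m * e), β ^ k = 0 ∧ ∑ k ∈ range (m * e + 1), β ^ k = 1 := by
  have h2 : β ^ (m * e) = 1 := by rw [mul_comm, pow_mul, h, one_pow]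
  have h3 : ∑ k ∈ range (m * e), β ^ k = 0 := by rw [geom_sum_eq h1, h2, sub_self, zero_div]
  exact ⟨h3, by rw [sum_range_succ, h3, h2, zero_add]⟩

theorem sum_ite_dvd {e : ℕ} (he : 0 < e) (o : ℕ) :
    ∑ i ∈ range (e * o), (if e ∣ i then (1 : ℂ) else 0) = o := by
  have := Nat.count_modEq_card (e * o) he 0
  simp only [Nat.modEq_zero_iff_dvd, Nat.count_eq_card_filter_range] at this
  rw [sum_boole, this, Nat.mul_div_cancel_left _ he]
  simp

variable {G : Type*} [Group G] {p : ℕ} [hp : Fact p.Prime] [Finite G] {x y : G} {b : ZMod p}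
  {e t : ℕ} {M : Ideal AlgInt} {n m : Type} [Fintype n] [DecidableEq n] [Fintype m] [DecidableEq m]

/-- A lattice whose reduction is a single Jordan block. -/
structure Blk1 (p : ℕ) [Fact p.Prime] (x y : G) (e d : ℕ) (ζ : G → ℂ) (σ : G →* Matrix n n (V M))
    (v : n → F M) (μ : ℂ) : Prop where
  tr : ∀ g, ((σ g).trace : ℂ) = ζ g
  pow : μ ^ orderOf y = 1
  wt : rep (res M) σ y v = red M μ • v
  span : Submodule.span (F M) (Set.range fun i : ℕ => (lg (F M) p (rep (res M) σ x) ^ i) v) = ⊤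
  nil : lg (F M) p (rep (res M) σ x) ^ d = 0
  ne : (lg (F M) p (rep (res M) σ x) ^ (d - 1)) v ≠ 0
  val : ∀ i, ¬ e ∣ i → ζ (y ^ i) = μ ^ i

namespace Ex

variable (h : Ex p x y b e t)
include h

theorem eq_pow_of_mem {a : ZMod p} (ha : a ∈ expA p x) : a ^ e = 1 := by
  obtain ⟨k, hk, e1⟩ := h.exists_mem_normalizer ha
  obtain ⟨z, hz, i, j, e2⟩ := h.gen _ (inv_mem hk)
  have : a = b ^ i := h.pow_val_inj (by
    rw [← e1, ← h.conj_pow, ← inv_inv k, e2, inv_inv]
    calc _ = z * (x ^ j * (y ^ i * x * (y ^ i)⁻¹) * (x ^ j)⁻¹) * z⁻¹ := by group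
      _ = _ := by rw [← mem_center_iff.1 hz, mul_inv_cancel_right, h.conj_pow]; group)
  rw [this, ← pow_mul, mul_comm, pow_mul, ← h.ordb, pow_orderOf_eq_one, one_pow]

open Classical in
theorem Q_eval {f : G → ℂ} (hf : IsClassFunction G f) {c : ℂ}
    (hz : ∀ i, e ∣ i → ∀ g, c⁻¹ ^ i * f (g * y ^ i) = f g) {ι : Type*} [Fintype ι] {lam : ι → ℂ}
    (hl : ∀ r, lam r ^ e = 1) (hv : ∀ i, ¬ e ∣ i → c⁻¹ ^ i * f (y ^ i) = ∑ r, lam r ^ i) :
    e * Q p x y c f = orderOf y * (∑ j : ZMod p, f (x ^ j.val) +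
      p * (e * #{r | lam r = 1} - Fintype.card ι)) := by
  obtain ⟨o, ho⟩ := h.dvd_orderOf
  have h1 := sum_ite_dvd h.e_pos o
  have h2 : ∀ r, ∑ i ∈ range (e * o), lam r ^ i = if lam r = 1 then (e * o : ℂ) else 0 := fun r => by
    split_ifs with h3
    · simp [h3]
    · rw [mul_comm]; exact (geom_one (hl r) h3).1
  have h3 : ∀ i, ∑ j : ZMod p, c⁻¹ ^ i * f (x ^ j.val * y ^ i) = p * ∑ r, lam r ^ i +
      (if e ∣ i then 1 else 0) * (∑ j : ZMod p, f (x ^ j.val) - p * Fintype.card ι) := fun i => by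
    split_ifs with h4
    · obtain ⟨k, rfl⟩ := h4
      simp only [hz _ (dvd_mul_right e k), pow_mul (lam _), hl]
      simp
    · simp only [← hf.eq_of_isConj (h.isConj_mul h4 _), hv i h4]
      simp
  rw [Q, sum_congr rfl fun i _ => h3 i, sum_add_distrib, ← mul_sum, ← sum_mul, ho, h1, sum_comm,
    sum_congr rfl fun r _ => h2 r, ← sum_filter, sum_const, nsmul_eq_mul]
  push_cast
  ring

variable (hM : IsPModular p M) [CharP (F M) p]
include hM

theorem trace_jor (σ : G →* Matrix n n (V M))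
    (J : Jor (lg (F M) p (rep (res M) σ x)) (rep (res M) σ y)) : ∃ μ : J.ι → ℂ,
      (∀ r, μ r ^ orderOf y = 1) ∧ (∀ r, red M (μ r) = J.μ r) ∧ ∀ i, ¬ e ∣ i → ∃ β : ℂ, β ^ e = 1 ∧
        β ≠ 1 ∧ ((σ (y ^ i)).trace : ℂ) = ∑ r, μ r ^ i * ∑ k ∈ range (J.s r), β ^ k := by
  have ho := (orderOf_pos y).ne'
  obtain ⟨α, a1, a2⟩ := exists_pow_eq_one_red_eq (M := M) ho (h.pow_eq_one_iff'.2 h.dvd_orderOf)
  have a3 := mem_V_of_pow_eq_one (M := M) ho a1
  choose μ m1 m2 using fun r => exists_pow_eq_one_red_eq (M := M) ho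
    (pow_eq_one_of_apply (y_pow _ y) (J.wt r) (J.ne_zero r (J.pos r)))
  refine ⟨μ, m1, m2, fun i hi => ⟨α ^ i, ?_, fun e1 => hi ((h.pow_eq_one_iff' (F := F M)).1 ?_), ?_⟩⟩
  · refine eq_one_of_red_eq_one hM h.reg (by rw [← pow_mul α, pow_right_comm, a1, one_pow]) ?_
    rw [← pow_mul, red_pow a3, a2, h.pow_eq_one_iff'.2 (dvd_mul_left _ _)]
  · rw [← a2, ← red_pow a3, e1, red_one]
  rw [map_pow, trace_eq_sum hM h.reg (by rw [← map_pow, pow_orderOf_eq_one, map_one]) J.b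
    (c := fun j => μ j.1 * α ^ j.2.1) (fun j => by rw [mul_pow, m1, pow_right_comm, a1]; simp)
    fun j => by
      rw [red_mul (mem_V_of_pow_eq_one ho (m1 _)) (pow_mem a3 _), red_pow a3, m2, a2, J.hb j.1 j.2]
      exact weight_pow' (h.weight _) _ (J.wt _), Fintype.sum_sigma]
  refine sum_congr rfl fun r _ => ?_
  rw [mul_sum, sum_range]
  exact sum_congr rfl fun k _ => by ring

theorem exists_blk1 {ζ : G → ℂ} (hζ : IsIrrCharacter G ζ) (hd : charDegree ζ + e = p) :
    ∃ (σ : G →* Matrix (Fin (charDegree ζ)) (Fin (charDegree ζ)) (V M)) (v : _) (μ : ℂ),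
      Blk1 p x y e (charDegree ζ) ζ σ v μ := by
  obtain ⟨σ, hσ, hl⟩ := exists_loc hM hζ
  obtain ⟨J⟩ := h.nonempty_jor (rep (res M) σ)
  have h1 := J.sum_s
  rw [finrank_fin_fun] at h1
  have h2 : ∀ r, J.s r < p := fun r => by
    have := single_le_sum (f := J.s) (fun _ _ => Nat.zero_le _) (mem_univ r)
    have := h.e_pos
    omega
  obtain ⟨r, -, -⟩ := exists_ne_zero_of_sum_ne_zero (h1.trans_ne hζ.charDegree_pos.ne')
  have h3 : ∀ r', r' = r := fun r' => h.eq_of_lt (zsc hζ hσ) hl J (h2 r') (h2 r)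
  have h4 : ∀ {A : Type} [AddCommMonoid A] (g : J.ι → A), ∑ r', g r' = g r := fun g =>
    Fintype.sum_eq_single r fun r' hr => (hr (h3 r')).elim
  rw [h4] at h1
  obtain ⟨μ, m1, m2, m3⟩ := h.trace_jor hM σ J
  refine ⟨σ, J.u r, μ r, hσ, m1 r, m2 r ▸ J.wt r, eq_top_iff.2 (J.b.span_eq.ge.trans
    (Submodule.span_mono ?_)), J.ext' fun r' i => ?_, J.ne_zero r (by have := J.pos r; omega),
    fun i hi => ?_⟩
  · rintro _ ⟨⟨r', i⟩, rfl⟩
    obtain rfl := h3 r'
    exact ⟨i, (J.hb _ i).symm⟩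
  · rw [pow_apply_pow, pow_apply_eq_zero (J.nil r') (by rw [h3 r']; omega)]; rfl
  · obtain ⟨β, b1, b2, b3⟩ := m3 i hi
    obtain ⟨τ, rfl⟩ : ∃ τ, t = τ + 1 := ⟨t - 1, by
      have := h.te; have := hp.out.one_lt; rcases t with _ | t <;> simp_all⟩
    rw [← hσ, b3, h4, h1, show charDegree ζ = τ * e + 1 by have := h.te; rw [add_mul] at this; omega,
      (geom_one b1 b2).2, mul_one]

theorem exists_TM {d : ℕ} (hd : d + e = p) {ζ ζ' : G → ℂ} {σ : G →* Matrix n n (V M)}
    {σ' : G →* Matrix m m (V M)} {v : n → F M} {v' : m → F M} {μ μ' : ℂ}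
    (B : Blk1 p x y e d ζ σ v μ) (B' : Blk1 p x y e d ζ' σ' v' μ') :
    ∃ (R : Type) (_ : CommRing R) (_ : Algebra (F M) R) (φ : R →ₐ[F M] End (F M) (n × m → F M))
      (A B : R), TM φ A B (rep (res M) (kron σ σ') y) (ten _ n m v v') (b.val : F M)
        (red M (μ * μ')) p d e (orderOf y) ∧ Asc (rep (res M) (kron σ σ') x - 1) (φ (A + B)) ∧
        φ A = lg (F M) p (lin (res M) (σ x ⊗ₖ 1)) ∧ φ B = lg (F M) p (lin (res M) (1 ⊗ₖ σ' x)) ∧
        φ (A ^ (d - 1) * B ^ (d - 1)) (ten _ n m v v') ≠ 0 := by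
  have ho := (orderOf_pos y).ne'
  obtain ⟨X, hX⟩ : ∃ X, X = lin (res M) (σ x ⊗ₖ (1 : Matrix m m (V M))) := ⟨_, rfl⟩
  obtain ⟨X', hX'⟩ : ∃ X, X = lin (res M) ((1 : Matrix n n (V M)) ⊗ₖ σ' x) := ⟨_, rfl⟩
  rw [← hX, ← hX']
  have h1 : ∀ u u', X (ten _ n m u u') = ten _ n m (rep (res M) σ x u) u' := fun u u' => by
    rw [hX, lin_ten, map_one]; rfl
  have h2 : ∀ u u', X' (ten _ n m u u') = ten _ n m u (rep (res M) σ' x u') := fun u u' => by
    rw [hX', lin_ten, map_one]; rfl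
  have ext' : ∀ {f g : End (F M) (n × m → F M)},
      (∀ u u', f (ten _ n m u u') = g (ten _ n m u u')) → f = g := fun {f g} H =>
    LinearMap.eqLocus_eq_top.1 (span_ten B.span B'.span fun _ _ => H _ _)
  have h3 : ∀ (i : ℕ) u u', (lg (F M) p X ^ i) (ten _ n m u u') =
      ten _ n m ((lg (F M) p (rep (res M) σ x) ^ i) u) u' := fun i u u' => by
    induction i with
    | zero => rfl
    | succ i ih =>
      rw [← apply_pow, ← apply_pow, ih]
      exact (lg_apply (f := (ten _ n m).flip u') (fun w => (h1 w u').symm) _).symm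
  have h4 : ∀ (i : ℕ) u u', (lg (F M) p X' ^ i) (ten _ n m u u') =
      ten _ n m u ((lg (F M) p (rep (res M) σ' x) ^ i) u') := fun i u u' => by
    induction i with
    | zero => rfl
    | succ i ih =>
      rw [← apply_pow, ← apply_pow, ih]
      exact (lg_apply (f := ten _ n m u) (fun w => (h2 u w).symm) _).symm
  have h5 : ∀ g u u', rep (res M) (kron σ σ') g (ten _ n m u u') =
      ten _ n m (rep (res M) σ g u) (rep (res M) σ' g u') := fun g u u' => lin_ten _ _ _ _ _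
  have hc : Commute X X' := ext' fun u u' => by simp only [End.mul_apply, h1, h2]
  have h6 : X ^ p = 1 := by
    rw [hX, ← map_pow]
    have : ∀ i, (σ x ⊗ₖ (1 : Matrix m m (V M))) ^ i = σ (x ^ i) ⊗ₖ 1 := fun i => by
      induction i with
      | zero => simp
      | succ i ih => rw [pow_succ, ih, ← Matrix.mul_kronecker_mul, pow_succ, map_mul, mul_one]
    simp [this, h.pow_p]
  have h7 : X * X' = rep (res M) (kron σ σ') x := ext' fun u u' => by
    simp only [End.mul_apply, h1, h2, h5]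
  have h8 : X' ^ p = 1 := by rw [← h.x_pow (rep (res M) (kron σ σ')), ← h7, hc.mul_pow, h6, one_mul]
  have hA := asc_add h6 h8 hc
  have := Algebra.isMulCommutative_adjoin (F M) (s := {lg (F M) p X, lg (F M) p X'}) (by
    have := commute_lg (F := F M) (p := p) (commute_lg (F := F M) (p := p) hc).symm
    rintro _ (rfl | rfl) _ (rfl | rfl)
    exacts [rfl, this.symm, this, rfl])
  have h9 : ∀ r s : ℕ, (lg (F M) p X ^ r * lg (F M) p X' ^ s) (ten _ n m v v') =
      ten _ n m ((lg (F M) p (rep (res M) σ x) ^ r) v) ((lg (F M) p (rep (res M) σ' x) ^ s) v') :=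
    fun r s => by rw [End.mul_apply, h4, h3]
  refine ⟨Algebra.adjoin (F M) {lg (F M) p X, lg (F M) p X'}, inferInstance, inferInstance,
    Subalgebra.val _, ⟨_, Algebra.subset_adjoin (Or.inl rfl)⟩,
    ⟨_, Algebra.subset_adjoin (Or.inr rfl)⟩, ⟨Subtype.ext (ext' fun u u' => ?_),
      Subtype.ext (ext' fun u u' => ?_), Subtype.ext (hA.pow_p (h7 ▸ h.x_pow _)),
      fun w => ?_, fun w => ?_, ?_, span_ten B.span B'.span fun r s =>
        Submodule.subset_span ⟨(r, s), h9 r s⟩, fun _ => h.pow_eq_one_iff',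
      red_ne_zero_of_pow_eq_one ho (by rw [mul_pow, B.pow, B'.pow, one_mul]), h.o_ne, y_pow _ y,
      hd⟩, h7 ▸ hA, rfl, rfl, fun e => ?_⟩
  · exact (h3 d u u').trans (by simp [B.nil])
  · exact (h4 d u u').trans (by simp [B'.nil])
  · refine LinearMap.congr_fun (ext' (f := rep (res M) (kron σ σ') y * lg (F M) p X)
      (g := (b.val : F M) • (lg (F M) p X * rep (res M) (kron σ σ') y)) fun u u' => ?_) w
    have := h3 1
    simp only [pow_one] at this
    simp only [End.mul_apply, LinearMap.smul_apply, this, h5, h.weight, map_smul]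
  · refine LinearMap.congr_fun (ext' (f := rep (res M) (kron σ σ') y * lg (F M) p X')
      (g := (b.val : F M) • (lg (F M) p X' * rep (res M) (kron σ σ') y)) fun u u' => ?_) w
    have := h4 1
    simp only [pow_one] at this
    simp only [End.mul_apply, LinearMap.smul_apply, this, h5, h.weight, map_smul]
  · rw [h5, B.wt, B'.wt, red_mul (mem_V_of_pow_eq_one ho B.pow) (mem_V_of_pow_eq_one ho B'.pow)]
    simp [smul_smul, mul_comm]
  · obtain ⟨i, hi⟩ := Function.ne_iff.1 B.ne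
    obtain ⟨j, hj⟩ := Function.ne_iff.1 B'.ne
    exact mul_ne_zero hi hj (congrFun ((h9 _ _).symm.trans e) (i, j))

end Ex

end CL.M1
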