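import Cfsg.Agent.BLK.M1Alt
import Cfsg.Agent.BLK.D1Two

/-! Exceptional characters and the two inequalities between `e` and `t`. -/

set_option autoImplicit false
set_option linter.unusedSectionVars false
open Cfsg Module Finset Subgroup CL.D1T CL.Blk CL.Char

namespace CL.M1

variable {G : Type*} [Group G] {p : ℕ} [hp : Fact p.Prime] [Finite G] {x y : G} {b : ZMod p}
  {e t : ℕ} {ε : AddChar (ZMod p) ℂ} {ζ θ φ ω : G → ℂ} {s : ℂ} {l : ZMod p → ℕ}

/-- Gauss periods. -/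
noncomputable def per (x : G) (ε : AddChar (ZMod p) ℂ) (j : ZMod p) : ℂ :=
  ∑ a ∈ expA p x, ε (a * j)

theorem per_zero : per x ε 0 = #(expA p x) := by simp [per]

theorem sum_per_mul (hε : ε.IsPrimitive) (u b : ZMod p) :
    ∑ j, per x ε (u * j) * ε (b * j) = p * #{a ∈ expA p x | a * u + b = 0} := by
  simp only [per, sum_mul, ← AddChar.map_add_eq_mul, ← mul_assoc, ← add_mul]
  rw [sum_comm]
  simp only [sum_e hε, ← sum_filter, sum_const, nsmul_eq_mul]
  exact mul_comm _ _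

theorem sum_split {f g : ZMod p → ℂ} (h : ∀ j, j ≠ 0 → f j = g j) :
    ∑ j, f j = ∑ j, g j + (f 0 - g 0) := by
  rw [← add_sum_erase _ _ (mem_univ 0), ← add_sum_erase _ g (mem_univ 0),
    sum_congr rfl fun j hj => h j (ne_of_mem_erase hj)]
  ring

/-- `θ` is exceptional with sign `s`. -/
def Exc (p : ℕ) [Fact p.Prime] (x : G) (θ : G → ℂ) (s : ℂ) : Prop :=
  ∃ ε : AddChar (ZMod p) ℂ, ε.IsPrimitive ∧ ∀ j : ZMod p, j ≠ 0 → θ (x ^ j.val) = s * per x ε j

/-- Exponents inducing the Galois automorphisms that fix the `p`-regular elements. -/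
structure Gal (p : ℕ) [Fact p.Prime] (x : G) (l : ZMod p → ℕ) : Prop where
  cop : ∀ ν, ν ≠ 0 → (l ν).Coprime (Nat.card G)
  reg : ∀ ν (g : G), ¬ p ∣ orderOf g → g ^ l ν = g
  pow : ∀ ν j : ZMod p, (x ^ j.val) ^ l ν = x ^ (ν * j).val

theorem Exc.of_mul (h : Exc p x θ s) {u : ZMod p} (hu : u ≠ 0) {θ' : G → ℂ}
    (h' : ∀ j : ZMod p, θ' (x ^ j.val) = θ (x ^ (u * j).val)) : Exc p x θ' s :=
  let ⟨ε, h1, h2⟩ := h
  ⟨ε.mulShift u, .of_ne_one (h1 hu), fun j hj => by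
    simp only [h', h2 _ (mul_ne_zero hu hj), per, AddChar.mulShift_apply, mul_left_comm u]⟩

theorem Exc.sum (h : P1 p x) (hθ : Exc p x θ s) {u : ZMod p} (hu : u ≠ 0) :
    ∑ j : ZMod p, θ (x ^ (u * j).val) = θ 1 - s * #(expA p x) := by
  obtain ⟨ε, h1, h2⟩ := hθ
  have := sum_per_mul (x := x) h1 u 0
  rw [filter_false_of_mem fun a ha => by simp [hu, h.ne_zero_of_mem ha]] at this
  rw [sum_split fun j hj => h2 _ (mul_ne_zero hu hj), ← mul_sum]
  simp only [zero_mul, AddChar.map_zero_eq_one, mul_one] at this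
  simp [this, per_zero]

theorem Exc.sum_mul (hθ : Exc p x θ s) {u : ZMod p} (hu : u ≠ 0) :
    ∑ j : ZMod p, θ (x ^ j.val) * θ (x ^ (u * j).val) = θ 1 ^ 2 + s ^ 2 *
      (p * ∑ a' ∈ expA p x, (#{a ∈ expA p x | a + a' * u = 0} : ℂ) - #(expA p x) ^ 2) := by
  obtain ⟨ε, h1, h2⟩ := hθ
  rw [sum_split (g := fun j => s ^ 2 * ∑ a' ∈ expA p x, per x ε (1 * j) * ε (a' * u * j))
    fun j hj => by
      rw [h2 _ hj, h2 _ (mul_ne_zero hu hj), ← mul_sum, one_mul, per, per]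
      simp only [mul_assoc]; ring, ← mul_sum, sum_comm]
  simp only [sum_per_mul h1, ← mul_sum]
  simp [per_zero]
  ring

theorem Exc.sum_neg (hθ : Exc p x θ s) : ∑ j : ZMod p, θ (x ^ j.val) * θ (x ^ (-1 * j).val) =
    θ 1 ^ 2 + s ^ 2 * (p * #(expA p x) - #(expA p x) ^ 2) := by
  rw [hθ.sum_mul (neg_ne_zero.2 one_ne_zero), sum_congr rfl (g := fun _ => 1) fun a ha => by
    rw [show {a' ∈ expA p x | a' + a * -1 = 0} = {a} by
      ext a'; simp [add_neg_eq_zero]; rintro rfl; exact ha]; simp]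
  simp

theorem Exc.sum_sq (h : Ex p x y b e t) (hθ : Exc p x θ s) (he : Odd e) (hp2 : p ≠ 2) :
    ∑ j : ZMod p, θ (x ^ j.val) ^ 2 = θ 1 ^ 2 - s ^ 2 * e ^ 2 := by
  have e1 := hθ.sum_mul one_ne_zero
  rw [sum_eq_zero (s := expA p x) fun a ha => by
    rw [filter_false_of_mem fun a' ha' e => two_ne_zero_zmod hp2 (by
      have := h.eq_pow_of_mem ha'
      rw [eq_neg_of_add_eq_zero_left e, he.neg_pow, mul_one, h.eq_pow_of_mem ha] at this
      linear_combination -this)]; simp, h.cardA] at e1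
  simp only [one_mul, ← sq] at e1
  rw [e1]; ring

theorem Exc.exists_nat (h : P1 p x) (hθ : Exc p x θ s) (hc : IsCharacter G θ) :
    ∃ m : ℕ, charDegree θ - s * #(expA p x) = p * m := by
  obtain ⟨m, hm⟩ := exists_sum_eq_nat hc h.pow_p 1 0
  have := hθ.sum h one_ne_zero
  simp only [one_mul, AddChar.one_apply, mul_one] at hm this
  exact ⟨m, by rw [← hm, this, hc.apply_one_eq_charDegree]⟩

theorem Gal.exc (hl : Gal p x l) (hθ : Exc p x θ s) {ν : ZMod p} (hν : ν ≠ 0) :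
    Exc p x (fun g => θ (g ^ l ν)) s := hθ.of_mul hν fun j => by rw [hl.pow]

theorem Gal.cen (hl : Gal p x l) (h : PZ p x) (hθ : Cen θ ω) (ν : ZMod p) :
    Cen (fun g => θ (g ^ l ν)) ω := fun z hz g => by
  simp only [(show Commute z g from (mem_center_iff.1 hz g).symm).mul_pow,
    hl.reg ν z (h.not_dvd_of_center hz), hθ z hz]

theorem Gal.sum (hl : Gal p x l) (h : P1 p x) (hθ : Exc p x θ s) (φ : G → ℂ) :
    ∑ ν ∈ univ.erase 0, ∑ j : ZMod p, φ (x ^ j.val) * θ ((x ^ j.val)⁻¹ ^ l ν) =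
      (p - 1) * θ 1 * φ 1 - s * #(expA p x) * (∑ j : ZMod p, φ (x ^ j.val) - φ 1) := by
  have h1 : ∀ j : ZMod p, (x ^ j.val)⁻¹ = x ^ (-j).val := fun j =>
    inv_eq_of_mul_eq_one_right (by rw [← h.pow_val_add]; simp)
  rw [sum_comm, sum_split (g := fun j => φ (x ^ j.val) * (-s * #(expA p x))) fun j hj => by
    rw [← mul_sum, sum_erase_eq_sub (mem_univ _)]
    simp only [h1, hl.pow, mul_comm _ (-j), hθ.sum h (neg_ne_zero.2 hj)]
    simp, ← sum_mul]
  simp [hp.out.one_le]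
  ring

theorem Ex.budget' [Fintype G] (h : Ex p x y b e t) (hl : Gal p x l) (hφ : IsCharacter G φ)
    (hθ : IsIrrCharacter G θ) (hs : s ≠ 0) (eθ : Exc p x θ s) {c : ℂ} (hco : c ^ orderOf y = 1)
    (hQ : Q p x y c θ ≠ 0) {k : ZMod p → ℕ}
    (hk : ∀ ν ∈ univ.erase 0, classInner φ (fun g => θ (g ^ l ν)) = k ν) {q : ℕ}
    (hq : Q p x y c φ = p * orderOf y * q) : ∑ ν ∈ univ.erase 0, k ν ≤ e * q := by
  classical
  refine h.budget hφ _ (fun ν hν => hθ.pow_coprime (hl.cop ν (ne_of_mem_erase hν)))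
    (fun ν hν => ?_) hco (fun ν hν => by
      rwa [h.Q_gal hθ.isClassFunction (ne_of_mem_erase hν) (hl.reg ν) (hl.pow ν)]) hk hq
  obtain ⟨ε, h1, h2⟩ := eθ
  replace hν := ne_of_mem_erase hν
  refine h.cardA ▸ card_le_card_of_injOn (fun a => ν / a) (fun a ha => ?_) fun a _ a' _ e => by
    simpa [hν, div_eq_mul_inv] using e
  obtain ⟨h3, h4⟩ := mem_filter.1 ha
  replace h3 := ne_of_mem_erase h3
  have h5 : ∑ j, per x ε (a * j) * ε (-ν * j) = ∑ j, per x ε (ν * j) * ε (-ν * j) :=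
    sum_congr rfl fun j _ => by
      by_cases hj : j = 0
      · simp [hj]
      · have := congrFun h4 (x ^ j.val)
        simp only [hl.pow, h2 _ (mul_ne_zero h3 hj), h2 _ (mul_ne_zero hν hj)] at this
        rw [mul_left_cancel₀ hs this]
  rw [sum_per_mul h1, sum_per_mul h1, mul_right_inj' (Nat.cast_ne_zero.2 hp.out.ne_zero),
    Nat.cast_inj] at h5
  obtain ⟨a', ha'⟩ := card_pos.1 ((card_pos.2 ⟨1, by simp [one_mem_expA]⟩).trans_eq h5.symm)
  obtain ⟨h6, h7⟩ := mem_filter.1 ha'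
  change ν / a ∈ expA p x
  rwa [(div_eq_iff h3).2 (show ν = a' * a by linear_combination -h7)]

theorem exists_gal' (h : P1 p x) : ∃ l, Gal p x l :=
  let ⟨l, h1, h2, h3⟩ := exists_gal h
  ⟨l, h1, h2, h3⟩

theorem card_erase_zero : #(univ.erase (0 : ZMod p)) + 1 = p := by
  rw [card_erase_add_one (mem_univ _), card_univ, ZMod.card]

namespace Ex

variable (h : Ex p x y b e t) (hζ : IsIrrCharacter G ζ) {d : ℕ} (hd' : charDegree ζ = d)
  (hd : d + e = p) (eζ : Exc p x ζ (-1)) (c1 : Cen ζ ω) (hθ : IsIrrCharacter G θ)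
  (c3 : Cen θ fun g => ω g * ω g)
include h hζ hd' hd

theorem exists_blk1' {M : Ideal AlgInt} (hM : IsPModular p M) [CharP (F M) p] :
    ∃ (σ : G →* Matrix (Fin d) (Fin d) (V M)) (v : _) (μ : ℂ), Blk1 p x y e d ζ σ v μ := by
  subst hd'; exact h.exists_blk1 hM hζ hd

include eζ c1 hθ c3

theorem lemA (eθ : Exc p x θ (-1)) (ht : 3 ≤ t) : e ≤ 2 := by
  classical
  by_contra! he
  have := Fintype.ofFinite G
  obtain ⟨M, hM⟩ := CL.BS.exists_isPModular p hp.out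
  have := charP_F hM
  obtain ⟨l, hl⟩ := exists_gal' h.toP1
  obtain ⟨τ, rfl⟩ : ∃ τ, t = τ + 1 := ⟨t - 1, by omega⟩
  have hm : (-1 : ZMod p) ≠ 0 := neg_ne_zero.2 one_ne_zero
  have hζ' := hζ.pow_coprime (hl.cop _ hm)
  obtain ⟨σ, v, μ, B⟩ := h.exists_blk1' hζ hd' hd hM
  obtain ⟨σ', v', μ', B'⟩ := h.exists_blk1' hζ' (by simpa [charDegree] using hd') hd hM
  have c2 := hl.cen h.toPZ c1 (-1)
  obtain ⟨k, hk⟩ : ∃ k, charDegree θ = d + k * p := by
    obtain ⟨m, hm⟩ := eθ.exists_nat h.toP1 hθ.isCharacter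
    rw [h.cardA, neg_one_mul, sub_neg_eq_add] at hm
    norm_cast at hm
    rcases m with _ | m
    · omega
    · exact ⟨m, by nlinarith⟩
  have h2 := hζ.apply_one_eq_charDegree
  have h3 := hθ.apply_one_eq_charDegree
  rw [hk] at h3
  rw [hd'] at h2
  have hte := h.te
  have hp' : (p : ℂ) = d + e := by exact_mod_cast hd.symm
  choose! c r k' A a1 a2 a3 a4 a5 a6 a7 a8 using fun ν (hν : ν ∈ univ.erase (0 : ZMod p)) =>
    h.ineqA hM hd rfl (by omega) (by omega) B B' hζ hζ' (hθ.pow_coprime (hl.cop ν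
      (ne_of_mem_erase hν))) c1 c2 (hl.cen h.toPZ c3 ν) (k := k) (by simpa [charDegree] using hk) (by
      simp only [hl.pow, eθ.sum h.toP1 (ne_of_mem_erase hν), h3, h.cardA]
      push_cast; linear_combination -hp')
  have h4 : ∑ j : ZMod p, ζ (x ^ j.val) * ζ ((x ^ j.val) ^ l (-1)) = p * d := by
    simp only [hl.pow, eζ.sum_neg, h2, h.cardA, hp']
    ring
  have h5 := hl.sum h.toP1 eθ fun g => ζ g * ζ (g ^ l (-1))
  rw [sum_congr rfl a7, h4, ← mul_sum, sum_add_distrib, sum_add_distrib, ← mul_sum, h.cardA] at h5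
  simp only [sum_const, one_pow, h2, h3, nsmul_eq_mul] at h5
  have h6 := sum_le_sum a8
  simp only [sum_add_distrib, sum_const, nsmul_eq_mul] at h6
  have h7 : #(univ.erase (0 : ZMod p)) = (τ + 1) * e := by have := card_erase_zero (p := p); omega
  have h8 : d = τ * e + 1 := by rw [add_mul] at hte; omega
  rw [h7] at h5 h6
  have h9 : ∑ ν ∈ univ.erase 0, A ν = d * ((τ + 1) * (d - e) + e) + (τ + 1) * (k * d ^ 2 - k - 1) := by
    rw [← Int.cast_inj (α := ℂ)]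
    apply mul_left_cancel₀ (mul_ne_zero (Nat.cast_ne_zero.2 hp.out.ne_zero)
      (Nat.cast_ne_zero.2 h.e_pos.ne') : (p * e : ℂ) ≠ 0)
    rw [h8] at hp'
    push_cast [h8] at h5 hp' ⊢
    rw [hp'] at h5 ⊢
    linear_combination h5
  have h10 : ∀ ν ∈ univ.erase (0 : ZMod p), ∑ ν ∈ univ.erase 0, k' ν ≤
      e * (τ + if c ν = μ * μ' then 1 else 0) := fun ν hν => by
    have hc : c ν ≠ 0 := fun e => by simpa [e, (orderOf_pos y).ne'] using a1 ν hν
    refine h.budget' hl (hζ.isCharacter.mul hζ'.isCharacter) hθ (by simp) eθ (a1 ν hν) (by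
      rw [← h.Q_gal hθ.isClassFunction (ne_of_mem_erase hν) (hl.reg ν) (hl.pow ν)]
      exact a5 ν hν) a6 (mul_left_cancel₀ (Nat.cast_ne_zero.2 h.e_pos.ne') ?_)
    refine (h.Q_eval (f := fun g => ζ g * ζ (g ^ l (-1))) (hζ.isClassFunction.mul
      hζ'.isClassFunction) (h.cen_hz (c1.mul c2) (a1 ν hν) (a2 ν hν)) (ι := Unit)
      (lam := fun _ => (c ν)⁻¹ * (μ * μ')) (fun _ => by
        rw [mul_pow, mul_pow μ, h.blk_pow (by omega) B c1, h.blk_pow (by omega) B' c2, ← a2 ν hν,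
          inv_pow, inv_mul_cancel₀ (pow_ne_zero _ hc)])
      fun i hi => by simp [B.val i hi, B'.val i hi, mul_pow]).trans ?_
    rw [h4, h8]
    simp only [inv_mul_eq_one₀ hc, filter_const]
    split_ifs <;> simp <;> ring
  rw [h9] at h6
  by_cases h11 : ∀ ν ∈ univ.erase (0 : ZMod p), c ν = μ * μ'
  · have h12 := h10 1 (by simp)
    rw [if_pos (h11 1 (by simp))] at h12
    rw [sum_eq_zero (f := fun ν => (r ν : ℤ)) fun ν hν => by rw [a4 ν hν (h11 ν hν)]; rfl] at h6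
    zify at h12 h8 he ht
    simp only [h8] at h6
    push_cast at h6
    nlinarith [mul_pos (show (0 : ℤ) < e by omega) (show (0 : ℤ) < τ * (e - 1) by nlinarith)]
  · push Not at h11
    obtain ⟨ν, hν, h11⟩ := h11
    have h12 := h10 ν hν
    have h13 := sum_le_sum a3
    rw [if_neg h11] at h12
    rw [← mul_sum, sum_const, h7, smul_eq_mul] at h13
    zify at h12 h8 he ht h13
    simp only [h8] at h6
    push_cast at h6
    nlinarith [mul_nonneg (show (0 : ℤ) ≤ e by omega) (show (0 : ℤ) ≤ (τ - 1) * (e - 2) - 1 by nlinarith)]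

theorem lemB (eθ : Exc p x θ 1) (ht : 3 ≤ t) (he : Odd e) (he' : 3 ≤ e)
    (hk : charDegree θ ≠ e) : e + 3 ≤ t := by
  classical
  have := Fintype.ofFinite G
  obtain ⟨M, hM⟩ := CL.BS.exists_isPModular p hp.out
  have := charP_F hM
  obtain ⟨l, hl⟩ := exists_gal' h.toP1
  obtain ⟨τ, rfl⟩ : ∃ τ, t = τ + 3 := ⟨t - 3, by omega⟩
  have hte := h.te
  have hp2 : p ≠ 2 := by nlinarith
  have hτ : Odd τ := Nat.not_even_iff_odd.1 fun e1 => (Nat.not_even_iff_odd.2
    (hp.out.odd_of_ne_two hp2)) (hte ▸ ((e1.add_odd (by decide)).mul he).add_one)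
  obtain ⟨σ, v, μ, B⟩ := h.exists_blk1' hζ hd' hd hM
  obtain ⟨k, hk⟩ : ∃ k, charDegree θ = e + (k + 1) * p := by
    obtain ⟨m, hm⟩ := eθ.exists_nat h.toP1 hθ.isCharacter
    rw [h.cardA, one_mul, sub_eq_iff_eq_add] at hm
    norm_cast at hm
    rcases m with _ | m
    · omega
    · exact ⟨m, by linarith⟩
  have h2 := hζ.apply_one_eq_charDegree
  have h3 := hθ.apply_one_eq_charDegree
  rw [hk] at h3
  rw [hd'] at h2
  have hp' : (p : ℂ) = d + e := by exact_mod_cast hd.symm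
  have h8 : d = (τ + 2) * e + 1 := by nlinarith
  have he0 : (e : ℂ) ≠ 0 := Nat.cast_ne_zero.2 h.e_pos.ne'
  have hp0 : (p : ℂ) ≠ 0 := Nat.cast_ne_zero.2 hp.out.ne_zero
  choose! c A k' a1 a2 a3 a4 a5 using fun ν (hν : ν ∈ univ.erase (0 : ZMod p)) =>
    h.ineqB hM hd rfl he hτ B hζ h2 (hθ.pow_coprime (hl.cop ν (ne_of_mem_erase hν))) c1
      (hl.cen h.toPZ c3 ν) (k := k + 1) (by simpa [charDegree] using hk)
  obtain ⟨s, rfl⟩ := hτ
  have h4 : ∑ j : ZMod p, alt ζ (x ^ j.val) = p * (e * (s + 1 : ℕ)) := by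
    have e1 := eζ.sum_sq h he hp2
    have e2 := eζ.sum h.toP1 (two_ne_zero_zmod hp2)
    simp only [alt, ← sum_div, sum_sub_distrib, ← h.pow_val_add, ← two_mul, h.cardA, h2] at e1 e2 ⊢
    rw [e1, e2, hp', h8]
    push_cast; ring
  have h5 := hl.sum h.toP1 eθ (alt ζ)
  rw [sum_congr rfl a4, h4, ← mul_sum, h.cardA, alt, one_mul, h2, h3] at h5
  have h6 := sum_le_sum a5
  simp only [sum_add_distrib, sum_const, smul_eq_mul, ← mul_sum] at h6
  rw [show #(univ.erase (0 : ZMod p)) = (2 * s + 1 + 3) * e by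
    have := card_erase_zero (p := p); omega] at h6
  have h9 : 2 * ∑ ν ∈ univ.erase 0, A ν + 2 * e * (s + 1) =
      d * ((2 * s + 3) * e) * (1 + (2 * s + 4) * (k + 1)) := by
    rw [← Nat.cast_inj (R := ℂ)]
    apply mul_left_cancel₀ (mul_ne_zero hp0 he0)
    rw [h8] at hp'
    push_cast [h8] at h5 hp' ⊢
    rw [hp'] at h5 ⊢
    linear_combination 2 * h5
  have h1 : (1 : ZMod p) ∈ univ.erase 0 := by simp
  obtain ⟨b1, b2⟩ := a1 1 h1 0
  have hc : c 1 0 ≠ 0 := fun e => by simp [e, (orderOf_pos y).ne'] at b1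
  obtain ⟨q, hq⟩ := h.exists_nat_Q hζ.isCharacter.altSq b1
  have h10 := h.Q_eval hζ.isCharacter.altSq.isClassFunction (h.cen_hz c1.alt b1 b2) (ι := Empty)
    (lam := fun _ => 1) (by simp) fun i hi => by
      rw [← pow_add, B.val i hi, B.val _ fun e1 => hi ((Nat.coprime_two_right.2
        he).dvd_of_dvd_mul_left (two_mul i ▸ e1)), pow_add]
      simp [sq]
  have h11 := h.Q_eval (hθ.pow_coprime (hl.cop 1 one_ne_zero)).isClassFunction
    (h.cen_hz (hl.cen h.toPZ c3 1) b1 b2) (lam := fun r => (c 1 0)⁻¹ * c 1 r) (fun r => by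
      rw [mul_pow, (a1 1 h1 r).2, ← b2, inv_pow, inv_mul_cancel₀ (pow_ne_zero _ hc)])
    fun i hi => by simp only [a2 1 h1 i hi, mul_sum, mul_pow]
  have h12 := h.budget' hl hζ.isCharacter.altSq hθ one_ne_zero eθ b1 (fun e1 => ?_) a3 hq
  · have h13 : q = s + 1 := by
      simp only [alt] at h4
      rw [hq, h4] at h10
      rw [← Nat.cast_inj (R := ℂ)]
      apply mul_left_cancel₀ (mul_ne_zero (mul_ne_zero hp0 he0)
        (Nat.cast_ne_zero.2 (orderOf_pos y).ne'))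
      simp only [univ_eq_empty, filter_empty, card_empty, Fintype.card_eq_zero] at h10
      linear_combination h10
    subst h8 h13
    nlinarith
  · rw [h.Q_gal hθ.isClassFunction one_ne_zero (hl.reg 1) (hl.pow 1), e1] at h11
    simp only [hl.pow, eθ.sum h.toP1 one_ne_zero, h3, h.cardA, Fintype.card_fin] at h11
    have h13 := card_pos.2 (⟨0, by simp [hc]⟩ :
      ({r : Fin (k + 1) | (c 1 0)⁻¹ * c 1 r = 1} : Finset _).Nonempty)
    refine mul_ne_zero (mul_ne_zero (mul_ne_zero hp0 he0) (Nat.cast_ne_zero.2 h13.ne'))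
      (Nat.cast_ne_zero.2 (orderOf_pos y).ne') ?_
    push_cast at h11
    linear_combination -h11

end Ex

end CL.M1
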