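import Cfsg.Agent.BLK.M1Chr

/-! Multiplicities of exceptional characters in products of two characters of degree `p - e`. -/

set_option autoImplicit false
set_option linter.unusedSectionVars false
open Cfsg Module Finset Subgroup CL.D1T CL.Blk CL.Char IsLocalRing
open scoped Kronecker Matrix ComplexConjugate

namespace CL.M1

variable {G : Type*} [Group G] {p : ℕ} [hp : Fact p.Prime] [Finite G] {x y : G} {b : ZMod p}
  {e t : ℕ} {M : Ideal AlgInt} {n m : Type} [Fintype n] [DecidableEq n] [Fintype m] [DecidableEq m]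

/-- `ω` is the central character of `χ`. -/
def Cen (χ ω : G → ℂ) : Prop := ∀ z ∈ center G, ∀ g, χ (z * g) = ω z * χ g

theorem Cen.pow {χ ω : G → ℂ} (h : Cen χ ω) {z : G} (hz : z ∈ center G) (k : ℕ) (g : G) :
    χ (z ^ k * g) = ω z ^ k * χ g := by
  induction k with
  | zero => simp
  | succ k ih => rw [pow_succ', mul_assoc, h z hz, ih, pow_succ', mul_assoc]

theorem Cen.pow_eq_one {χ ω : G → ℂ} (h : Cen χ ω) (h1 : χ 1 ≠ 0) {z : G} (hz : z ∈ center G)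
    {k : ℕ} (hk : z ^ k = 1) : ω z ^ k = 1 :=
  mul_right_cancel₀ h1 (by rw [← h.pow hz, hk, one_mul, one_mul])

theorem Cen.mul {χ ω χ' ω' : G → ℂ} (h : Cen χ ω) (h' : Cen χ' ω') :
    Cen (fun g => χ g * χ' g) fun g => ω g * ω' g := fun z hz g => by
  simp only [h z hz, h' z hz]; ring

theorem exists_cen {χ : G → ℂ} (hχ : IsIrrCharacter G χ) : ∃ ω, Cen χ ω := by
  choose! c hc using fun z (hz : z ∈ center G) => mem_charCenter_iff.1 (hχ.center_le_charCenter hz)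
  exact ⟨c, fun z hz => (hc z hz).2⟩

theorem Cen.scalar {χ ω : G → ℂ} (h : Cen χ ω) (hχ : IsIrrCharacter G χ)
    {σ : G →* Matrix n n (V M)} (hσ : ∀ g, ((σ g).trace : ℂ) = χ g) {z : G} (hz : z ∈ center G) :
    ∃ c : V M, σ z = c • 1 ∧ (c : ℂ) = ω z :=
  let ⟨c, h1, h2⟩ := exists_scalar hχ hσ hz
  ⟨c, h1, mul_right_cancel₀ hχ.one_ne_zero ((h2 1).symm.trans (h z hz 1))⟩

theorem Cen.inv {φ θ ω : G → ℂ} (h : Cen φ ω) (h' : Cen θ ω) : Cen (fun g => φ g * θ g⁻¹) 1 :=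
  fun z hz g => by
    have := h' z hz (z * g)⁻¹
    rw [mul_inv_rev, mem_center_iff.1 (inv_mem hz), mul_inv_cancel_left] at this
    simp only [h z hz, this, mul_inv_rev, mem_center_iff.1 (inv_mem hz), Pi.one_apply]
    ring

theorem conj_eq_inv {c : ℂ} {o : ℕ} (ho : o ≠ 0) (h : c ^ o = 1) : conj c = c⁻¹ :=
  (Complex.inv_eq_conj (Complex.norm_eq_one_of_pow_eq_one h ho)).symm

theorem exists_gal (h : P1 p x) : ∃ l : ZMod p → ℕ, (∀ ν, ν ≠ 0 → (l ν).Coprime (Nat.card G)) ∧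
    (∀ ν (g : G), ¬ p ∣ orderOf g → g ^ l ν = g) ∧ ∀ ν j : ZMod p, (x ^ j.val) ^ l ν = x ^ (ν * j).val := by
  obtain ⟨m, hm⟩ := h.dvd
  have hpm : p.Coprime m := (hp.out.coprime_iff_not_dvd).2 (by
    rintro ⟨k, rfl⟩
    exact h.sq ⟨k, by rw [hm]; ring⟩)
  choose l hl1 hl2 using fun ν : ZMod p =>
    (⟨_, (Nat.chineseRemainder hpm ν.val 1).2⟩ : ∃ l, l ≡ ν.val [MOD p] ∧ l ≡ 1 [MOD m])
  have hl3 : ∀ ν, (l ν : ZMod p) = ν := fun ν => by
    rw [(ZMod.natCast_eq_natCast_iff _ _ _).2 (hl1 ν), ZMod.natCast_zmod_val]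
  refine ⟨l, fun ν hν => ?_, fun ν g hg => ?_, fun ν j => ?_⟩
  · rw [hm]
    refine Nat.Coprime.mul_right ((hp.out.coprime_iff_not_dvd).2 ?_).symm ?_
    · rw [← ZMod.natCast_eq_zero_iff, hl3]; exact hν
    · exact Nat.coprime_of_mul_modEq_one 1 (by simpa using hl2 ν)
  · conv_rhs => rw [← pow_one g]
    exact pow_eq_pow_iff_modEq.2 ((hl2 ν).of_dvd (((hp.out.coprime_iff_not_dvd).2
      hg).symm.dvd_of_dvd_mul_left (hm ▸ orderOf_dvd_natCard g)))
  · rw [h.pow_val_mul, pow_right_comm, ← h.pow_val_cast (l ν), hl3]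

namespace Ex

variable (h : Ex p x y b e t)
include h

theorem cen_hz {f ω : G → ℂ} (hf : Cen f ω) {c : ℂ} (hco : c ^ orderOf y = 1)
    (hc : c ^ e = ω (y ^ e)) (i : ℕ) (hi : e ∣ i) (g : G) : c⁻¹ ^ i * f (g * y ^ i) = f g := by
  obtain ⟨k, rfl⟩ := hi
  have hc0 : c ≠ 0 := fun e => by
    rw [e, zero_pow (orderOf_pos y).ne'] at hco; exact zero_ne_one hco
  rw [mem_center_iff.1 (h.pow_mem_center (dvd_mul_right e k)), pow_mul y,
    hf.pow (h.pow_mem_center dvd_rfl), ← hc, ← pow_mul, inv_pow,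
    inv_mul_cancel_left₀ (pow_ne_zero _ hc0)]

theorem Q_gal {f : G → ℂ} (hf : IsClassFunction G f) {k : ℕ} {ν : ZMod p} (hν : ν ≠ 0)
    (h1 : ∀ g : G, ¬ p ∣ orderOf g → g ^ k = g)
    (h2 : ∀ j : ZMod p, (x ^ j.val) ^ k = x ^ (ν * j).val) (c : ℂ) :
    Q p x y c (fun g => f (g ^ k)) = Q p x y c f := by
  refine sum_congr rfl fun i _ => ?_
  have h3 := h1 (y ^ i) fun e => h.reg (e.trans (orderOf_pow_dvd _))
  by_cases hi : e ∣ i
  · refine Fintype.sum_equiv (Equiv.mulLeft₀ ν hν) _ _ fun j => ?_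
    simp only [((h.commute_iff.2 hi).pow_left _).mul_pow, h2, h3, Equiv.mulLeft₀_apply]
  · refine sum_congr rfl fun j _ => ?_
    simp only [← hf.eq_of_isConj (h.isConj_mul hi _),
      ← hf.eq_of_isConj ((h.isConj_mul hi _).pow k), h3]

theorem blk_pow (he : 2 ≤ e) {d : ℕ} {ζ ω : G → ℂ} {σ : G →* Matrix n n (V M)} {v : n → F M}
    {μ : ℂ} (B : Blk1 p x y e d ζ σ v μ) (c1 : Cen ζ ω) : μ ^ e = ω (y ^ e) := by
  have e1 : ¬ e ∣ 1 := fun e1 => by have := Nat.le_of_dvd one_pos e1; omega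
  have e3 := c1 _ (h.pow_mem_center dvd_rfl) (y ^ 1)
  rwa [← pow_add, B.val _ e1, B.val _ fun e2 => e1 ((Nat.dvd_add_right dvd_rfl).1 e2), pow_add,
    mul_left_inj' (pow_ne_zero _ fun e => by simpa [e, (orderOf_pos y).ne'] using B.pow)] at e3

variable [Fintype G]

theorem budget {φ : G → ℂ} (hφ : IsCharacter G φ) {ι : Type*} (s : Finset ι) {θ : ι → G → ℂ}
    (hθ : ∀ l ∈ s, IsIrrCharacter G (θ l)) [DecidableEq (G → ℂ)]
    (hs : ∀ l ∈ s, #{l' ∈ s | θ l' = θ l} ≤ e) {c : ℂ} (hco : c ^ orderOf y = 1)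
    (hQ : ∀ l ∈ s, Q p x y c (θ l) ≠ 0) {k : ι → ℕ} (hk : ∀ l ∈ s, classInner φ (θ l) = k l)
    {q : ℕ} (hq : Q p x y c φ = p * orderOf y * q) : ∑ l ∈ s, k l ≤ e * q := by
  classical
  choose a ha using fun χ : IrrCharacter G => (isCharacter_iff_inner.1 hφ).2 χ.1 χ.2
  choose u hu using fun χ : IrrCharacter G => h.exists_nat_Q χ.2.isCharacter hco
  have h1 : q = ∑ χ, a χ * u χ := by
    have h0 : (p * orderOf y : ℂ) ≠ 0 :=
      mul_ne_zero (Nat.cast_ne_zero.2 hp.out.ne_zero) (Nat.cast_ne_zero.2 (orderOf_pos y).ne')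
    rw [← Nat.cast_inj (R := ℂ), ← mul_right_inj' h0, ← hq]
    push_cast
    simp only [mul_sum, mul_left_comm (p * orderOf y : ℂ), ← hu, Q, ← ha]
    simp only [hφ.isClassFunction.apply_eq_sum (x ^ _ * _), mul_sum, mul_left_comm (c⁻¹ ^ _)]
    exact (sum_congr rfl fun _ _ => sum_comm).trans sum_comm
  have h2 : ∑ l ∈ s, k l = ∑ χ : IrrCharacter G, ∑ l ∈ s with θ l = χ.1, k l := by
    simp only [sum_filter]
    rw [sum_comm]
    refine sum_congr rfl fun l hl => ?_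
    rw [Fintype.sum_eq_single (⟨_, hθ l hl⟩ : IrrCharacter G) fun χ hχ =>
      if_neg fun e => hχ (Subtype.ext e.symm), if_pos rfl]
  rw [h1, h2, mul_sum]
  refine sum_le_sum fun χ _ => ?_
  rcases eq_empty_or_nonempty {l ∈ s | θ l = χ.1} with h3 | ⟨l, hl⟩
  · simp [h3]
  obtain ⟨h3, h4⟩ := mem_filter.1 hl
  rw [sum_congr rfl (g := fun _ => a χ) fun l' hl' => by
    rw [← Nat.cast_inj (R := ℂ), ← hk l' (mem_filter.1 hl').1, (mem_filter.1 hl').2, ha],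
    sum_const, smul_eq_mul]
  refine Nat.mul_le_mul (h4 ▸ hs l h3) (Nat.le_mul_of_pos_right _ (Nat.pos_of_ne_zero fun e => ?_))
  exact hQ l h3 (by rw [h4, hu, e]; simp)

variable (hM : IsPModular p M) [CharP (F M) p]
include hM

open Classical in
/-- The basic inequality for a lattice with one non-projective block. -/
theorem key {θ ω : G → ℂ} (hθ : IsIrrCharacter G θ) (hω : Cen θ ω) {s k : ℕ} (hs : 0 < s)
    (hs' : s < p) (hd : charDegree θ = s + k * p) (σ' : G →* Matrix m m (V M))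
    {E : Matrix m m (V M)} (hE : E * E = E) (hc : ∀ g, Commute E (σ' g))
    (hZ : ∀ z ∈ center G, ∃ c : V M, σ' z = c • 1 ∧ (c : ℂ) = ω z) :
    ∃ (c : ℂ) (μ : Fin k → ℂ), (c ^ orderOf y = 1 ∧ c ^ e = ω (y ^ e)) ∧
      (∀ r, μ r ^ orderOf y = 1 ∧ μ r ^ e = ω (y ^ e)) ∧
      (∀ i, ¬ e ∣ i → ∃ β : ℂ, β ^ e = 1 ∧ β ≠ 1 ∧
        θ (y ^ i) = c ^ i * ∑ j ∈ range s, β ^ j + ∑ r, μ r ^ i) ∧
      ∃ a l : ℕ, Q p x y 1 (fun g => (σ' g * E).trace * θ g⁻¹) = p * orderOf y * a ∧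
        classInner (fun g => ((σ' g * E).trace : ℂ)) θ = l ∧
        a ≤ l + finrank (F M) ↥(LinearMap.range ((rep (res M) σ' x - 1) ^ (p - s)) ⊓
          End.eigenspace (rep (res M) σ' y) (red M c) ⊓ LinearMap.ker (lin (res M) E - 1)) +
          ∑ r, finrank (F M) ↥(End.eigenspace (rep (res M) σ' y) (red M (μ r)) ⊓
            LinearMap.ker (lin (res M) E - 1)) := by
  obtain ⟨σ, hσ, hl⟩ := exists_loc hM hθ
  obtain ⟨J⟩ := h.nonempty_jor (rep (res M) σ)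
  have h1 := (J.sum_s.trans (finrank_fin_fun _)).trans hd
  have h2 := J.le_of_pow ((asc_lg (h.x_pow _)).pow_p (h.x_pow _))
  obtain ⟨r₀, hr₀⟩ : ∃ r, J.s r < p := by
    by_contra! h3
    rw [sum_congr rfl fun r _ => (h2 r).antisymm (h3 r), sum_const, smul_eq_mul] at h1
    exact Nat.not_dvd_of_pos_of_lt hs hs' ((Nat.dvd_add_left (dvd_mul_left p k)).1
      (h1 ▸ dvd_mul_left _ _))
  have h3 : ∀ r, r ≠ r₀ → J.s r = p := fun r hr =>
    (h2 r).antisymm (not_lt.1 fun e => hr (h.eq_of_lt (zsc hθ hσ) hl J e hr₀))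
  have h4 : ∀ {A : Type} [AddCommMonoid A] (g : J.ι → A),
      ∑ r, g r = g r₀ + ∑ r : {r // r ≠ r₀}, g r := fun g => Fintype.sum_eq_add_sum_subtype_ne g r₀
  rw [h4, sum_congr rfl fun (r : {r // r ≠ r₀}) _ => h3 r r.2, sum_const, smul_eq_mul,
    card_univ] at h1
  have h5 : J.s r₀ = s := by
    have := congrArg (· % p) h1
    simpa [Nat.mod_eq_of_lt hr₀, Nat.mod_eq_of_lt hs'] using this
  have q := (Fintype.equivFinOfCardEq (Nat.eq_of_mul_eq_mul_right hp.out.pos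
    (Nat.add_left_cancel (h5 ▸ h1)))).symm
  obtain ⟨μ, m1, m2, m3⟩ := h.trace_jor hM σ J
  have ho := (orderOf_pos y).ne'
  have hz := h.pow_mem_center (dvd_refl e)
  have m4 : ∀ r, μ r ^ e = ω (y ^ e) := fun r => by
    obtain ⟨c, c1, c2⟩ := hω.scalar hθ hσ hz
    refine eq_of_red_eq_of_pow_eq_one hM h.reg h.reg (by rw [pow_right_comm, m1, one_pow])
      (hω.pow_eq_one hθ.one_ne_zero hz (by rw [pow_right_comm, pow_orderOf_eq_one, one_pow])) ?_
    have h6 := pow_apply_smul (J.wt r) e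
    rw [← map_pow, rep_apply, c1, lin_smul, map_one] at h6
    rw [red_pow (mem_V_of_pow_eq_one ho (m1 r)), m2, ← c2, red_coe]
    exact (smul_left_injective _ (J.ne_zero r (J.pos r)) h6).symm
  obtain ⟨a, l, a1, a2, a3⟩ := h.hom_star σ σ' hE hc (fun z hz => by
    obtain ⟨c, c1, c2⟩ := hω.scalar hθ hσ hz
    obtain ⟨c', c3, c4⟩ := hZ z hz
    exact ⟨c, c1, Subtype.ext (c2.trans c4.symm) ▸ c3⟩) J
  refine ⟨μ r₀, fun r => μ (q r), ⟨m1 _, m4 _⟩, fun r => ⟨m1 _, m4 _⟩, fun i hi => ?_, a, l,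
    by simpa only [hσ] using a1, ?_, a3.trans ?_⟩
  · obtain ⟨β, b1, b2, b3⟩ := m3 i hi
    refine ⟨β, b1, b2, ?_⟩
    rw [← hσ, b3, h4, h5, ← q.sum_comp]
    refine congrArg _ (sum_congr rfl fun r _ => ?_)
    rw [(h3 _ (q r).2).trans h.te.symm, (geom_one b1 b2).2, mul_one]
  · simp only [hσ, hθ.isCharacter.apply_inv] at a2
    rw [classInner_def, a2, inv_mul_cancel_left₀ (Nat.cast_ne_zero.2 Nat.card_pos.ne')]
  · rw [h4, h5, ← q.sum_comp, add_assoc, m2]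
    refine Nat.add_le_add_left (Nat.add_le_add_left (sum_le_sum fun r _ => ?_) _) _
    rw [m2]
    exact Submodule.finrank_mono (inf_le_inf_right _ inf_le_right)

/-- The inequality for characters of degree `≡ -e`. -/
theorem ineqA {d τ : ℕ} (hd : d + e = p) (hτ : t = τ + 1) (hτ1 : 1 ≤ τ) (he : 2 ≤ e)
    {ζ ζ' θ ω ω' : G → ℂ} {σ : G →* Matrix n n (V M)}
    {σ' : G →* Matrix m m (V M)} {v : n → F M} {v' : m → F M} {μ μ' : ℂ}
    (B : Blk1 p x y e d ζ σ v μ) (B' : Blk1 p x y e d ζ' σ' v' μ') (hζ : IsIrrCharacter G ζ)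
    (hζ' : IsIrrCharacter G ζ') (hθ : IsIrrCharacter G θ) (c1 : Cen ζ ω) (c2 : Cen ζ' ω')
    (c3 : Cen θ fun g => ω g * ω' g) {k : ℕ} (hk : charDegree θ = d + k * p)
    (hsum : ∑ j : ZMod p, θ (x ^ j.val) = p * (k + 1)) :
    ∃ (c : ℂ) (r l : ℕ) (A : ℤ), c ^ orderOf y = 1 ∧ c ^ e = ω (y ^ e) * ω' (y ^ e) ∧ 2 * r ≤ e ∧
      (c = μ * μ' → r = 0) ∧ Q p x y c θ ≠ 0 ∧ classInner (fun g => ζ g * ζ' g) θ = l ∧
      ∑ j : ZMod p, ζ (x ^ j.val) * ζ' (x ^ j.val) * θ (x ^ j.val)⁻¹ = p * (e * A + k + 1) ∧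
      A + d ≤ l + (k + 1) * ((d + 1) * τ) + r := by
  classical
  have hd' : d = τ * e + 1 := by have := h.te; rw [hτ, add_mul] at this; omega
  have ho := (orderOf_pos y).ne'
  have ho' : (orderOf y : ℂ) ≠ 0 := Nat.cast_ne_zero.2 ho
  obtain ⟨R, _, _, φ, A, A', T, hA, -⟩ := h.exists_TM hM hd B B'
  obtain ⟨c, ν, ⟨a1, a2⟩, a3, a4, a, l, a5, a6, a7⟩ := h.key hM hθ c3 (by omega) (by omega) hk
    (kron σ σ') (one_mul 1) (fun _ => Commute.one_left _) fun z hz => by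
      obtain ⟨c, e1, e2⟩ := c1.scalar hζ B.tr hz
      obtain ⟨c', e3, e4⟩ := c2.scalar hζ' B'.tr hz
      refine ⟨c * c', ?_, by simp [e2, e4]⟩
      change σ z ⊗ₖ σ' z = _
      simp [e1, e3, Matrix.smul_kronecker, Matrix.kronecker_smul, smul_smul, mul_comm]
  have h1 : ∀ g, ((kron σ σ' g * 1).trace : ℂ) = ζ g * ζ' g := fun g => by
    rw [mul_one, ← B.tr, ← B'.tr]
    exact_mod_cast Matrix.trace_kronecker (σ g) (σ' g)
  simp only [h1] at a5 a6
  have h2 : (μ * μ') ^ orderOf y = 1 := by rw [mul_pow, B.pow, B'.pow, one_mul]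
  have h3 : ∀ {c : ℂ}, c ^ orderOf y = 1 → (red M c = red M (μ * μ') ↔ μ * μ' * c⁻¹ = 1) :=
    fun {c} hc => by
      rw [mul_inv_eq_one₀ (fun e => by simp [e, ho] at hc)]
      exact ⟨fun e => (eq_of_red_eq_of_pow_eq_one hM h.reg h.reg hc h2 e).symm, fun e => e ▸ rfl⟩
  obtain ⟨r, r1, r2, r3⟩ := T.finrank_pow_e_le he hd' hτ1 (red M c)
  have h4 : ∀ i, ¬ e ∣ i → θ (y ^ i) = ∑ r : Option (Fin k), r.elim c ν ^ i := fun i hi => by
    obtain ⟨β, b1, b2, b3⟩ := a4 i hi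
    rw [b3, hd', (geom_one b1 b2).2, mul_one, Fintype.sum_option]; rfl
  have h5 : ∀ r : Option (Fin k), r.elim c ν ^ orderOf y = 1 ∧
      r.elim c ν ^ e = ω (y ^ e) * ω' (y ^ e) := by
    rintro (_ | r); exacts [⟨a1, a2⟩, a3 r]
  have h6 : ∀ {c : ℂ}, c ^ orderOf y = 1 → c ≠ 0 := fun hc e => by simp [e, ho] at hc
  have h7 := h.Q_eval hθ.isClassFunction (h.cen_hz c3 a1 a2) 
    (lam := fun r : Option (Fin k) => c⁻¹ * r.elim c ν)
    (fun r => by rw [mul_pow, (h5 r).2, ← a2, inv_pow, inv_mul_cancel₀ (pow_ne_zero _ (h6 a1))])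
    fun i hi => by simp only [h4 i hi, mul_sum, mul_pow]
  have h8 : (μ * μ') ^ e = ω (y ^ e) * ω' (y ^ e) := by
    rw [mul_pow, h.blk_pow he B c1, h.blk_pow he B' c2]
  have h9 := h.Q_eval (f := fun g => ζ g * ζ' g * θ g⁻¹)
    ((hζ.isClassFunction.mul hζ'.isClassFunction).mul hθ.isClassFunction.inv)
    (h.cen_hz ((c1.mul c2).inv c3) (one_pow _) (one_pow _))
    (lam := fun r : Option (Fin k) => μ * μ' * (r.elim c ν)⁻¹)
    (fun r => by
      rw [mul_pow, inv_pow, (h5 r).2, ← h8, mul_inv_cancel₀ (pow_ne_zero _ (h6 h2))])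
    fun i hi => by
      simp only [hθ.isCharacter.apply_inv, h4 i hi, B.val i hi, B'.val i hi, map_sum, map_pow,
        conj_eq_inv ho (h5 _).1, mul_sum, mul_pow, inv_one, one_pow, one_mul]
  refine ⟨c, r, l, a - #{r : Option (Fin k) | μ * μ' * (r.elim c ν)⁻¹ = 1}, a1, a2, r1,
    fun e => r2 (e ▸ rfl), fun e1 => ?_, a6, ?_, ?_⟩
  · rw [e1, hsum, mul_zero, eq_comm, mul_eq_zero, Fintype.card_option, Fintype.card_fin] at h7
    have h10 : (p * e * #{r : Option (Fin k) | c⁻¹ * r.elim c ν = 1} : ℂ) = 0 := by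
      have := h7.resolve_left ho'
      push_cast at this
      linear_combination this
    have h11 := card_pos.2 (⟨none, by simp [h6 a1]⟩ :
      ({r : Option (Fin k) | c⁻¹ * r.elim c ν = 1} : Finset _).Nonempty)
    exact absurd h10 (mul_ne_zero (mul_ne_zero (Nat.cast_ne_zero.2 hp.out.ne_zero)
      (Nat.cast_ne_zero.2 h.e_pos.ne')) (Nat.cast_ne_zero.2 h11.ne'))
  · rw [a5, Fintype.card_option, Fintype.card_fin] at h9
    apply mul_left_cancel₀ ho'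
    push_cast at h9 ⊢
    linear_combination -h9
  · have h10 : ∀ r, finrank (F M) ↥(End.eigenspace (rep (res M) (kron σ σ') y) (red M (ν r)) ⊓
        LinearMap.ker (lin (res M) 1 - 1)) ≤
        (d + 1) * τ + if μ * μ' * (ν r)⁻¹ = 1 then 1 else 0 := fun r => by
      rw [← if_congr (h3 (a3 r).1) rfl rfl]
      exact (Submodule.finrank_mono inf_le_left).trans (T.finrank_eigen_le he hd' _)
    have h11 := sum_le_sum fun r (_ : r ∈ univ) => h10 r
    have h12 := Submodule.finrank_mono (inf_le_left : LinearMap.range ((rep (res M) (kron σ σ') x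
      - 1) ^ (p - d)) ⊓ End.eigenspace (rep (res M) (kron σ σ') y) (red M c) ⊓
      LinearMap.ker (lin (res M) 1 - 1) ≤ _)
    rw [if_congr (h3 a1) rfl rfl, (hA e).1, show e = p - d by omega] at r3
    rw [sum_add_distrib, sum_const, card_univ, Fintype.card_fin, smul_eq_mul] at h11
    have h13 : #{r : Option (Fin k) | μ * μ' * (r.elim c ν)⁻¹ = 1} =
        (if μ * μ' * c⁻¹ = 1 then 1 else 0) + ∑ r, if μ * μ' * (ν r)⁻¹ = 1 then 1 else 0 := by
      rw [card_filter, Fintype.sum_option]; rfl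
    have h14 : a + d ≤ l + (k + 1) * ((d + 1) * τ) + r +
        #{r : Option (Fin k) | μ * μ' * (r.elim c ν)⁻¹ = 1} := by rw [h13]; linarith
    zify at h14
    linarith

end Ex

end CL.M1
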