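import Cfsg.Agent.BLK.M1Log

/-! Graded Jordan bases. -/

set_option autoImplicit false
open Module Finset

namespace CL.M1

variable {F : Type*} [Field F] {U W : Type*} [AddCommGroup U] [Module F U] [AddCommGroup W]
  [Module F W] {L Y : End F U}

/-- The largest `L`-invariant subspace of the kernel of `f`. -/
def kerAll (L : End F U) (f : U →ₗ[F] F) : Submodule F U := ⨅ j : ℕ, LinearMap.ker (f ∘ₗ L ^ j)

theorem mem_kerAll {f : U →ₗ[F] F} {v : U} : v ∈ kerAll L f ↔ ∀ j, f ((L ^ j) v) = 0 := by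
  simp [kerAll, Submodule.mem_iInf]

/-- The cyclic subspace generated by `u`. -/
def chain (L : End F U) (u : U) : Submodule F U :=
  Submodule.span F (Set.range fun i : ℕ => (L ^ i) u)

theorem pow_mem_chain (u : U) (i : ℕ) : (L ^ i) u ∈ chain L u := Submodule.subset_span ⟨i, rfl⟩

theorem pow_apply_pow (i j : ℕ) (v : U) : (L ^ i) ((L ^ j) v) = (L ^ (i + j)) v := by
  rw [pow_add, End.mul_apply]

theorem apply_pow (j : ℕ) (v : U) : L ((L ^ j) v) = (L ^ (j + 1)) v := by
  rw [pow_succ', End.mul_apply]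

theorem pow_apply_eq_zero {s i : ℕ} {v : U} (h : (L ^ s) v = 0) (hi : s ≤ i) : (L ^ i) v = 0 := by
  rw [← Nat.sub_add_cancel hi, ← pow_apply_pow, h, map_zero]

theorem kerAll_inv {f : U →ₗ[F] F} : ∀ v ∈ kerAll L f, L v ∈ kerAll L f := fun v hv =>
  mem_kerAll.2 fun j => by rw [← End.mul_apply, ← pow_succ]; exact mem_kerAll.1 hv _

theorem chain_inv {u : U} {X : End F U} (h : ∀ i, X ((L ^ i) u) ∈ chain L u) :
    ∀ v ∈ chain L u, X v ∈ chain L u := fun _ hv =>
  (Submodule.span_le.2 (by rintro _ ⟨i, rfl⟩; exact h i) : _ ≤ (chain L u).comap X) hv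

theorem chain_inv_self {u : U} : ∀ v ∈ chain L u, L v ∈ chain L u :=
  chain_inv fun i => apply_pow (L := L) i u ▸ pow_mem_chain u _

theorem weight_pow {a : F} (hYL : ∀ v, Y (L v) = a • L (Y v)) (i : ℕ) (v : U) :
    Y ((L ^ i) v) = a ^ i • (L ^ i) (Y v) := by
  induction i with
  | zero => simp
  | succ i ih => rw [← apply_pow, hYL, ih, map_smul, apply_pow, smul_smul, ← pow_succ']

theorem weight_pow' {a μ : F} (hYL : ∀ v, Y (L v) = a • L (Y v)) (i : ℕ) {v : U}
    (hv : Y v = μ • v) : Y ((L ^ i) v) = (μ * a ^ i) • (L ^ i) v := by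
  rw [weight_pow hYL, hv, map_smul, smul_smul, mul_comm]

section split
variable {S : Submodule F U} (hS : ∀ v ∈ S, L v ∈ S) {u : U} (hu : u ∈ S) {f : U →ₗ[F] F} {k : ℕ}
  (h1 : f ((L ^ k) u) = 1) (h0 : ∀ m ∈ S, f ((L ^ (k + 1)) m) = 0)
include hS h0

theorem apply_eq_zero_of_lt {i : ℕ} (hi : k < i) {v : U} (hv : v ∈ S) : f ((L ^ i) v) = 0 := by
  rw [← Nat.add_sub_cancel' hi, ← pow_apply_pow]
  exact h0 _ (End.pow_apply_mem_of_forall_mem _ hS v hv)

include hu h1

theorem exists_split {v : U} (hv : v ∈ S) : ∃ c ∈ chain L u, v - c ∈ kerAll L f := by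
  have key : ∀ j, ∃ c ∈ chain L u, ∀ i, k + 1 ≤ i + j → f ((L ^ i) (v - c)) = 0 := by
    intro j
    induction j with
    | zero => exact ⟨0, zero_mem _, fun i hi => by
        simpa using apply_eq_zero_of_lt hS h0 (by omega) hv⟩
    | succ j ih =>
      obtain ⟨c, hc, h⟩ := ih
      by_cases hj : j ≤ k
      · refine ⟨c + f ((L ^ (k - j)) (v - c)) • (L ^ j) u,
          add_mem hc (Submodule.smul_mem _ _ (pow_mem_chain u j)), fun i hi => ?_⟩
        rw [← sub_sub, map_sub, map_sub, map_smul, map_smul, pow_apply_pow]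
        by_cases e : i + j = k
        · rw [e, h1, show k - j = i by omega]; simp
        · rw [h i (by omega), apply_eq_zero_of_lt hS h0 (i := i + j) (by omega) hu]; simp
      · exact ⟨c, hc, fun i _ => h i (by omega)⟩
  obtain ⟨c, hc, h⟩ := key (k + 1)
  exact ⟨c, hc, mem_kerAll.2 fun j => h j (by omega)⟩

theorem finrank_split [FiniteDimensional F U] :
    finrank F ↥(S ⊓ kerAll L f) + (k + 1) ≤ finrank F S := by
  let T : ℕ → Submodule F U := fun j => S ⊓ ⨅ i, ⨅ (_ : k + 1 ≤ i + j), LinearMap.ker (f ∘ₗ L ^ i)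
  have hT : ∀ j v, v ∈ T j ↔ v ∈ S ∧ ∀ i, k + 1 ≤ i + j → f ((L ^ i) v) = 0 := fun j v => by
    simp [T, Submodule.mem_iInf]
  have key : ∀ j, j ≤ k + 1 → finrank F (T j) + j ≤ finrank F S := by
    intro j
    induction j with
    | zero => exact fun _ => Submodule.finrank_mono inf_le_left
    | succ j ih =>
      intro hj
      have : T (j + 1) < T j := by
        refine lt_of_le_of_ne (fun v hv => (hT _ _).2 ⟨((hT _ _).1 hv).1, fun i hi =>
          ((hT _ _).1 hv).2 i (by omega)⟩) fun e => ?_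
        have h2 := ((hT _ _).1 (e.ge ((hT j ((L ^ j) u)).2
          ⟨End.pow_apply_mem_of_forall_mem _ hS u hu, fun i hi => by
            rw [pow_apply_pow]; exact apply_eq_zero_of_lt hS h0 hi hu⟩))).2 (k - j) (by omega)
        rw [pow_apply_pow, Nat.sub_add_cancel (by omega), h1] at h2
        exact one_ne_zero h2
      have := Submodule.finrank_lt_finrank_of_lt this
      have := ih (by omega)
      omega
  refine le_trans (Nat.add_le_add_right (Submodule.finrank_mono fun v hv => ?_) _) (key _ le_rfl)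
  exact (hT _ _).2 ⟨hv.1, fun i _ => mem_kerAll.1 hv.2 i⟩

end split

theorem isCompl_chain {u : U} {f : U →ₗ[F] F} {k : ℕ} (h1 : f ((L ^ k) u) = 1)
    (h0 : ∀ m, f ((L ^ (k + 1)) m) = 0) (hu : (L ^ (k + 1)) u = 0) :
    IsCompl (chain L u) (kerAll L f) := by
  refine ⟨Submodule.disjoint_def.2 fun c hc hc' => ?_, codisjoint_iff.2 (eq_top_iff.2 fun v _ => ?_)⟩
  · have key : ∀ j, j ≤ k + 1 → ∃ w ∈ chain L u, c = (L ^ j) w := by
      intro j
      induction j with
      | zero => exact fun _ => ⟨c, hc, rfl⟩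
      | succ j ih =>
        intro hj
        obtain ⟨w, hw, rfl⟩ := ih (by omega)
        obtain ⟨a, w', hw', rfl⟩ : ∃ a : F, ∃ w' ∈ chain L u, w = a • u + L w' := by
          refine Submodule.span_induction ?_ ⟨0, 0, zero_mem _, by simp⟩ ?_ ?_ hw
          · rintro _ ⟨_ | i, rfl⟩
            · exact ⟨1, 0, zero_mem _, by simp⟩
            · exact ⟨0, _, pow_mem_chain u i, by simp [apply_pow]⟩
          · rintro _ _ - - ⟨a, w, hw, rfl⟩ ⟨a', w', hw', rfl⟩
            exact ⟨a + a', w + w', add_mem hw hw', by simp only [add_smul, map_add]; abel⟩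
          · rintro b _ - ⟨a, w, hw, rfl⟩
            exact ⟨b * a, b • w, Submodule.smul_mem _ _ hw, by simp [smul_smul]⟩
        have h2 := mem_kerAll.1 hc' (k - j)
        rw [pow_apply_pow, Nat.sub_add_cancel (by omega), map_add, map_add, map_smul, map_smul, h1,
          ← End.mul_apply, ← pow_succ, h0] at h2
        refine ⟨w', hw', ?_⟩
        rw [show a = 0 by simpa using h2, zero_smul, zero_add, pow_succ, End.mul_apply]
    obtain ⟨w, hw, rfl⟩ := key _ le_rfl
    refine (Submodule.span_le.2 ?_ : _ ≤ LinearMap.ker (L ^ (k + 1))) hw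
    rintro _ ⟨i, rfl⟩
    exact (pow_apply_pow _ _ _).trans (pow_apply_eq_zero hu (by omega))
  · obtain ⟨c, hc, h⟩ := exists_split (S := ⊤) (fun _ _ => trivial) trivial h1 (fun m _ => h0 m)
      (v := v) trivial
    simpa using Submodule.add_mem_sup hc h

theorem kerAll_weight {a c : F} (hYL : ∀ v, Y (L v) = a • L (Y v)) (ha : a ≠ 0) {f : U →ₗ[F] F}
    (hf : ∀ v, f (Y v) = c * f v) : ∀ v ∈ kerAll L f, Y v ∈ kerAll L f := fun v hv =>
  mem_kerAll.2 fun j => by
    have := congrArg f (weight_pow hYL j v)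
    rw [hf, mem_kerAll.1 hv j, map_smul, mul_zero, eq_comm, smul_eq_zero] at this
    exact this.resolve_left (pow_ne_zero _ ha)

theorem exists_functional {o : ℕ} (ho : (o : F) ≠ 0) (hY : Y ^ o = 1) {S : Submodule F U}
    (hS : ∀ v ∈ S, Y v ∈ S) {z : U} {c : F} (hz : Y z = c • z) (hzS : z ∉ S) :
    ∃ f : U →ₗ[F] F, f z = 1 ∧ (∀ v ∈ S, f v = 0) ∧ ∀ v, f (Y v) = c * f v := by
  obtain ⟨f, hf, hf'⟩ := Submodule.exists_dual_map_eq_bot_of_notMem hzS inferInstance
  have hc := pow_eq_one_of_apply hY hz (fun e => hzS (e ▸ S.zero_mem))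
  have hc0 : c ≠ 0 := by
    rintro rfl
    rw [zero_pow (by rintro rfl; simp at ho)] at hc
    exact zero_ne_one hc
  refine ⟨(f z)⁻¹ • f ∘ₗ prE o Y c, by simp [prE_of_eq ho hc0 hz, hf], fun v hv => ?_, fun v => ?_⟩
  · have : f (prE o Y c v) = 0 := hf'.le ⟨_, prE_mem hS hv, rfl⟩
    simp [this]
  · simp [prE_apply_apply hY hc hc0, mul_left_comm]

/-- A graded Jordan basis. -/
structure Jor (L Y : End F U) where
  ι : Type
  [fin : Fintype ι]
  u : ι → U
  s : ι → ℕ
  μ : ι → F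
  pos : ∀ r, 0 < s r
  wt : ∀ r, Y (u r) = μ r • u r
  nil : ∀ r, (L ^ s r) (u r) = 0
  b : Basis (Σ r, Fin (s r)) F U
  hb : ∀ r i, b ⟨r, i⟩ = (L ^ i.1) (u r)

attribute [instance] Jor.fin

theorem nonempty_jor [IsAlgClosed F] [FiniteDimensional F U] {o : ℕ} (ho : (o : F) ≠ 0)
    (hY : Y ^ o = 1) {a : F} (ha : a ≠ 0) (hYL : ∀ v, Y (L v) = a • L (Y v))
    (hL : IsNilpotent L) : Nonempty (Jor L Y) := by
  classical
  have key : ∀ n, ∀ S : Submodule F U, finrank F S = n → (∀ v ∈ S, L v ∈ S) → (∀ v ∈ S, Y v ∈ S) →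
      ∃ (ι : Type) (_ : Fintype ι) (u : ι → U) (s : ι → ℕ) (μ : ι → F), (∀ r, 0 < s r) ∧
        (∀ r, Y (u r) = μ r • u r) ∧ (∀ r, (L ^ s r) (u r) = 0) ∧ ∑ r, s r ≤ n ∧
        S ≤ ⨆ r, chain L (u r) := by
    intro n
    induction n using Nat.strong_induction_on with
    | _ n ih =>
    rintro S rfl hS hS'
    have h1 : ∃ k, S ≤ LinearMap.ker (L ^ k) := let ⟨k, hk⟩ := hL; ⟨k, by simp [hk]⟩
    rcases h2 : Nat.find h1 with _ | k
    · refine ⟨Empty, inferInstance, nofun, nofun, nofun, nofun, nofun, nofun, by simp, ?_⟩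
      have := Nat.find_spec h1
      rw [h2] at this
      exact this.trans (by simp [End.one_eq_id])
    obtain ⟨v, hv, hv'⟩ := SetLike.not_le_iff_exists.1 (Nat.find_min h1 (m := k) (by omega))
    obtain ⟨u, hu, hu', μ, hμ⟩ := exists_weight ho hY hS' hv hv'
    obtain ⟨f, f1, -, f2⟩ := exists_functional ho hY (S := ⊥) (by simp) (weight_pow' hYL k hμ) hu'
    have h3 : ∀ m ∈ S, (L ^ (k + 1)) m = 0 := h2 ▸ Nat.find_spec h1
    have h4 : ∀ m ∈ S, f ((L ^ (k + 1)) m) = 0 := fun m hm => by rw [h3 m hm, map_zero]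
    have h5 := finrank_split hS hu f1 h4
    obtain ⟨ι, _, u', s, μ', a1, a2, a3, a4, a5⟩ := ih _ (by omega) (S ⊓ kerAll L f) rfl
      (fun v hv => ⟨hS v hv.1, kerAll_inv v hv.2⟩)
      fun v hv => ⟨hS' v hv.1, kerAll_weight hYL ha f2 v hv.2⟩
    refine ⟨Option ι, inferInstance, fun r => r.elim u u', fun r => r.elim (k + 1) s,
      fun r => r.elim μ μ', ?_, ?_, ?_, by simp; omega, fun v hv => ?_⟩
    · rintro (_ | r); exacts [k.succ_pos, a1 r]
    · rintro (_ | r); exacts [hμ, a2 r]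
    · rintro (_ | r); exacts [h3 u hu, a3 r]
    obtain ⟨c, hc, h⟩ := exists_split hS hu f1 h4 hv
    have hcS : c ∈ S := (Submodule.span_le.2 (by
      rintro _ ⟨i, rfl⟩; exact End.pow_apply_mem_of_forall_mem _ hS u hu) : _ ≤ S) hc
    rw [iSup_option]
    simpa using Submodule.add_mem_sup hc (a5 ⟨sub_mem hv hcS, h⟩)
  obtain ⟨ι, _, u, s, μ, a1, a2, a3, a4, a5⟩ := key _ ⊤ rfl (by simp) (by simp)
  have h1 : ⊤ ≤ Submodule.span F (Set.range fun j : Σ r, Fin (s r) => (L ^ j.2.1) (u j.1)) := by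
    refine a5.trans (iSup_le fun r => Submodule.span_le.2 ?_)
    rintro _ ⟨i, rfl⟩
    by_cases hi : i < s r
    · exact Submodule.subset_span ⟨⟨r, i, hi⟩, rfl⟩
    · simp [pow_apply_eq_zero (a3 r) (not_lt.1 hi)]
  have h2 : Fintype.card (Σ r, Fin (s r)) = finrank F U := by
    refine le_antisymm (by simpa using a4) ?_
    exact finrank_le_of_span_eq_top (eq_top_iff.2 h1)
  exact ⟨⟨ι, u, s, μ, a1, a2, a3, basisOfTopLeSpanOfCardEqFinrank _ h1 h2, fun r i => by simp⟩⟩

namespace Jor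

variable (J : Jor L Y)

theorem sum_s : ∑ r, J.s r = finrank F U := by simp [finrank_eq_card_basis J.b]

theorem ne_zero (r : J.ι) {i : ℕ} (hi : i < J.s r) : (L ^ i) (J.u r) ≠ 0 :=
  J.hb r ⟨i, hi⟩ ▸ J.b.ne_zero _

theorem le_of_pow {k : ℕ} (hk : L ^ k = 0) (r : J.ι) : J.s r ≤ k :=
  not_lt.1 fun h => J.ne_zero r h (by simp [hk])

theorem ext' {f g : U →ₗ[F] W} (h : ∀ r i, f ((L ^ i) (J.u r)) = g ((L ^ i) (J.u r))) : f = g :=
  J.b.ext fun j => by rw [J.hb j.1 j.2, h]

theorem notMem_range (r : J.ι) : J.u r ∉ LinearMap.range L := by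
  classical
  rintro ⟨v, hv⟩
  have h1 : J.b.coord ⟨r, 0, J.pos r⟩ ∘ₗ L = 0 := J.ext' fun r' i => by
    rw [LinearMap.comp_apply, apply_pow]
    by_cases hi : i + 1 < J.s r'
    · rw [← J.hb r' ⟨i + 1, hi⟩, Basis.coord_apply, Basis.repr_self, Finsupp.single_eq_of_ne]
      · rfl
      · intro e
        simpa using congrArg (fun j : Σ r, Fin (J.s r) => j.2.1) e
    · simp [pow_apply_eq_zero (J.nil r') (not_lt.1 hi)]
  have h2 := LinearMap.congr_fun h1 v
  rw [LinearMap.comp_apply, hv, show J.u r = J.b ⟨r, 0, J.pos r⟩ by simp [J.hb]] at h2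
  simp at h2

open Classical in
/-- The projection onto one block. -/
noncomputable def proj (r : J.ι) : End F U := J.b.constr F fun j => if j.1 = r then J.b j else 0

open Classical in
theorem proj_apply (r r' : J.ι) (i : ℕ) :
    J.proj r ((L ^ i) (J.u r')) = if r' = r then (L ^ i) (J.u r') else 0 := by
  by_cases hi : i < J.s r'
  · rw [← J.hb r' ⟨i, hi⟩, proj, Basis.constr_basis]
  · simp [pow_apply_eq_zero (J.nil r') (not_lt.1 hi)]

theorem commute_proj (r : J.ι) : Commute (J.proj r) L := J.ext' fun r' i => by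
  rw [End.mul_apply, End.mul_apply, apply_pow, proj_apply, proj_apply]
  split_ifs <;> simp [apply_pow]

theorem commute_proj' {a : F} (hYL : ∀ v, Y (L v) = a • L (Y v)) (r : J.ι) :
    Commute (J.proj r) Y := J.ext' fun r' i => by
  rw [End.mul_apply, End.mul_apply, weight_pow' hYL i (J.wt r'), map_smul, proj_apply]
  split_ifs <;> simp [weight_pow' hYL i (J.wt r')]

end Jor

end CL.M1
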