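import Cfsg.Agent.BLK.M1Set
import Cfsg.Agent.BLK.Pim
import Cfsg.Agent.CHAR.Det

/-! Lattices given by matrices over the valuation ring and their reductions. -/

set_option autoImplicit false
set_option linter.unusedSectionVars false
open Cfsg Module Finset Subgroup CL.D1T CL.Blk CL.Char IsLocalRing MonoidAlgebra

namespace CL.M1

section lin
variable {A R : Type*} [CommRing A] [CommRing R] (f : A →+* R) {n : Type*} [Fintype n]
  [DecidableEq n] {G : Type*} [Group G]

/-- The endomorphism given by a matrix after a change of scalars. -/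
noncomputable def lin : Matrix n n A →+* End R (n → R) :=
  (Matrix.toLinAlgEquiv' (R := R)).toRingEquiv.toRingHom.comp f.mapMatrix

theorem lin_apply (E : Matrix n n A) (v : n → R) : lin f E v = (E.map f).mulVec v := rfl

theorem lin_comp (E : Matrix n n A) (w : n → A) : lin f E (f ∘ w) = f ∘ E.mulVec w :=
  funext fun i => (f.map_mulVec E w i).symm

theorem lin_smul (c : A) (E : Matrix n n A) : lin f (c • E) = f c • lin f E := by
  refine LinearMap.ext fun v => ?_
  rw [LinearMap.smul_apply, lin_apply, lin_apply, ← Matrix.smul_mulVec]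
  exact congrArg (Matrix.mulVec · v) (by ext; simp)

theorem trace_lin (E : Matrix n n A) : LinearMap.trace R _ (lin f E) = f E.trace := by
  rw [AddMonoidHom.map_trace f E]
  exact Matrix.trace_toLin'_eq _

theorem lin_injective (hf : Function.Injective f) : Function.Injective (lin (n := n) f) :=
  (Matrix.toLinAlgEquiv' (R := R)).injective.comp (Matrix.map_injective hf)

theorem lin_pr (u : A) (o : ℕ) (Z : Matrix n n A) : lin f (pr u o Z) = pr (f u) o (lin f Z) := by
  simp [pr, lin_smul]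

/-- The representation given by matrices after a change of scalars. -/
noncomputable def rep (σ : G →* Matrix n n A) : Representation R G (n → R) :=
  (lin f).toMonoidHom.comp σ

theorem rep_apply (σ : G →* Matrix n n A) (g : G) : rep f σ g = lin f (σ g) := rfl

end lin

theorem pow_apply_smul {K U : Type*} [Field K] [AddCommGroup U] [Module K U] {Y : End K U} {c : K}
    {v : U} (h : Y v = c • v) (i : ℕ) : (Y ^ i) v = c ^ i • v := by
  induction i with
  | zero => simp
  | succ i ih => rw [pow_succ, End.mul_apply, h, map_smul, ih, smul_smul, ← pow_succ']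

theorem finrank_le_inf_add {K U W : Type*} [Field K] [AddCommGroup U] [Module K U] [AddCommGroup W]
    [Module K W] [FiniteDimensional K U] (S : Submodule K U) (f : U →ₗ[K] W) :
    finrank K S = finrank K ↥(S ⊓ LinearMap.ker f) + finrank K (S.map f) := by
  rw [← LinearMap.finrank_range_add_finrank_ker (f.domRestrict S), LinearMap.range_domRestrict,
    LinearMap.ker_domRestrict, ← Submodule.finrank_map_subtype_eq S, Submodule.map_comap_subtype,
    add_comm]

theorem trace_idem {K U : Type*} [Field K] [AddCommGroup U] [Module K U] [FiniteDimensional K U]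
    {E : End K U} (hE : E * E = E) : LinearMap.trace K U E = finrank K (LinearMap.range E) :=
  (LinearMap.IsIdempotentElem.isProj_range E hE).trace

variable {M : Ideal AlgInt} {n : Type*} [Fintype n] [DecidableEq n]

/-- The inclusion of the valuation ring. -/
noncomputable abbrev inc (M : Ideal AlgInt) : V M →+* ℂ := (V M).subtype

/-- The residue map. -/
noncomputable abbrev res (M : Ideal AlgInt) : V M →+* F M := residue (V M)

theorem finrank_le_of_red (S : Submodule ℂ (n → ℂ)) (T : Submodule (F M) (n → F M))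
    (h : ∀ w : n → V M, inc M ∘ w ∈ S → res M ∘ w ∈ T) : finrank ℂ S ≤ finrank (F M) T := by
  induction hk : finrank ℂ S using Nat.strong_induction_on generalizing S T with
  | _ k ih =>
  subst hk
  by_cases hS : S = ⊥
  · subst hS; simp
  obtain ⟨v, hv, hv0⟩ := (Submodule.ne_bot_iff S).1 hS
  obtain ⟨i, hi⟩ := Function.ne_iff.1 hv0
  obtain ⟨j, -, hj⟩ := exists_max_image univ (fun j => (V M).valuation (v j)) ⟨i, mem_univ i⟩
  have h0 : v j ≠ 0 := fun e => hi (by simpa [e] using hj i (mem_univ i))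
  let w : n → V M := fun i => ⟨v i / v j, (div_mem_V_iff_val h0).2 (hj i (mem_univ i))⟩
  have hw : inc M ∘ w ∈ S := by
    convert S.smul_mem (v j)⁻¹ hv using 1
    ext i; simp [w, div_eq_inv_mul]
  have hj1 : w j = 1 := Subtype.ext (div_self h0)
  have h1 := finrank_le_inf_add S (LinearMap.proj j)
  have h2 := (Submodule.finrank_le (S.map (LinearMap.proj j))).trans (finrank_self ℂ).le
  have h3 : S ⊓ LinearMap.ker (LinearMap.proj j) < S :=
    inf_lt_left.2 fun e => h0 (e hv)
  have h4 : T ⊓ LinearMap.ker (LinearMap.proj j) < T :=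
    inf_lt_left.2 fun e => by simpa [hj1] using e (h w hw)
  have h5 := ih _ (Submodule.finrank_lt_finrank_of_lt h3) (S ⊓ LinearMap.ker (LinearMap.proj j))
    (T ⊓ LinearMap.ker (LinearMap.proj j))
    (fun w hw => ⟨h w hw.1, by
      have : w j = 0 := Subtype.ext hw.2
      simp [this]⟩) rfl
  have h6 := Submodule.finrank_lt_finrank_of_lt h4
  omega

theorem comp_eq_zero {w : n → V M} (h : inc M ∘ w = 0) : w = 0 :=
  funext fun i => Subtype.ext (congrFun h i)

theorem rank_red_le (E : Matrix n n (V M)) : finrank (F M) (LinearMap.range (lin (res M) E)) ≤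
    finrank ℂ (LinearMap.range (lin (inc M) E)) := by
  have h1 := finrank_le_of_red (LinearMap.ker (lin (inc M) E)) (LinearMap.ker (lin (res M) E))
    fun w hw => by
      rw [LinearMap.mem_ker, lin_comp] at hw ⊢
      rw [comp_eq_zero hw]; ext; simp
  have h2 := LinearMap.finrank_range_add_finrank_ker (lin (inc M) E)
  have h3 := LinearMap.finrank_range_add_finrank_ker (lin (res M) E)
  rw [finrank_fintype_fun_eq_card] at h2 h3
  omega

theorem finrank_le_trace {E : Matrix n n (V M)} (hE : E * E = E) : ∃ k : ℕ, (E.trace : ℂ) = k ∧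
    ∀ X : Submodule (F M) (n → F M), (∀ v ∈ X, lin (res M) E v = v) → finrank (F M) X ≤ k :=
  ⟨_, (trace_lin (inc M) E).symm.trans (trace_idem (by rw [← map_mul, hE])), fun _ hX =>
    (Submodule.finrank_mono fun v hv => LinearMap.mem_range.2 ⟨v, hX v hv⟩).trans (rank_red_le E)⟩

variable {p : ℕ} (hM : IsPModular p M)
include hM

theorem exists_inv {o : ℕ} (ho : ¬ p ∣ o) : ∃ u : V M, u * o = 1 ∧ (u : ℂ) = (o : ℂ)⁻¹ ∧
    res M u = (o : F M)⁻¹ := by
  have h1 := mt (natCast_mem_nonunits_iff hM o).1 ho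
  have h2 : (⟨_, inv_mem_V_of_notMem h1⟩ : V M) * o = 1 :=
    Subtype.ext (inv_mul_cancel₀ (ne_zero_of_notMem_nonunits h1))
  refine ⟨_, h2, rfl, eq_inv_of_mul_eq_one_left ?_⟩
  simpa using congrArg (res M) h2

/-- Multiplicities of eigenvalues. -/
theorem exists_mult {o : ℕ} (ho : ¬ p ∣ o) {Y E : Matrix n n (V M)} (hY : Y ^ o = 1)
    (hE : E * E = E) (hc : Commute E Y) {c : ℂ} (hco : c ^ o = 1) :
    ∃ k : ℕ, ∑ i ∈ range o, c⁻¹ ^ i * ((Y ^ i * E).trace : ℂ) = o * k ∧
      finrank (F M) ↥(End.eigenspace (lin (res M) Y) (red M c) ⊓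
        LinearMap.ker (lin (res M) E - 1)) ≤ k := by
  have h0 : o ≠ 0 := by rintro rfl; simp at ho
  obtain ⟨u, hu, hu1, hu2⟩ := exists_inv hM ho
  have h1 : c⁻¹ ^ o = 1 := by rw [inv_pow, hco, inv_one]
  let c' : V M := ⟨c⁻¹, mem_V_of_pow_eq_one h0 h1⟩
  have h2 : (c' • Y) ^ o = 1 := by rw [smul_pow, hY, show c' ^ o = 1 from Subtype.ext h1, one_smul]
  have h3 : Commute E (pr u o (c' • Y)) := commute_pr (hc.smul_right _)
  obtain ⟨k, hk, hk'⟩ := finrank_le_trace (E := pr u o (c' • Y) * E) (by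
    rw [mul_assoc, ← mul_assoc E, h3.eq, mul_assoc, hE, ← mul_assoc, pr_idem hu h2])
  refine ⟨k, ?_, hk' _ fun v hv => ?_⟩
  · rw [← hk, pr, smul_mul_assoc, Matrix.trace_smul, sum_mul, Matrix.trace_sum]
    simp [hu1, h0, smul_pow, c']
  · have h4 : res M c' = (red M c)⁻¹ := by rw [← red_inv]; exact (red_coe c').symm
    have h5 : lin (res M) E v = v := sub_eq_zero.1 hv.2
    rw [map_mul, End.mul_apply, h5, lin_pr, lin_smul, hu2, h4]
    exact prE_of_eq (mt (natCast_F_eq_zero_iff hM o).1 ho) (red_ne_zero_of_pow_eq_one h0 hco)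
      (End.mem_eigenspace_iff.1 hv.1)

/-- The Brauer lift. -/
theorem trace_eq_sum {o : ℕ} (ho : ¬ p ∣ o) {Y : Matrix n n (V M)} (hY : Y ^ o = 1) {ι : Type*}
    [Fintype ι] (b : Basis ι (F M) (n → F M)) {c : ι → ℂ} (hc : ∀ k, c k ^ o = 1)
    (hb : ∀ k, lin (res M) Y (b k) = red M (c k) • b k) (i : ℕ) :
    ((Y ^ i).trace : ℂ) = ∑ k, c k ^ i := by
  classical
  have h0 : o ≠ 0 := by rintro rfl; simp at ho
  have h0' : (o : ℂ) ≠ 0 := Nat.cast_ne_zero.2 h0
  have hξ := Complex.isPrimitiveRoot_exp o h0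
  generalize Complex.exp _ = ξ at hξ
  have h1 : ∀ r, ((ξ ^ r)⁻¹) ^ o = 1 := fun r => by
    rw [inv_pow, ← pow_mul, mul_comm, pow_mul, hξ.pow_eq_one, one_pow, inv_one]
  choose k hk hk' using fun r => exists_mult hM ho hY (one_mul 1) (Commute.one_left Y) (h1 r)
  have hZ : lin (inc M) Y ^ o = 1 := by rw [← map_pow, hY, map_one]
  have h2 : ∀ r, LinearMap.trace ℂ _ (prE o (lin (inc M) Y) (ξ ^ r)⁻¹) = k r := fun r => by
    apply mul_left_cancel₀ h0'
    rw [← hk]
    simp [pr, h0, smul_pow, ← map_pow, trace_lin]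
  have h3 : ∀ i, ((Y ^ i).trace : ℂ) = ∑ r ∈ range o, k r * ((ξ ^ r)⁻¹) ^ i := fun i => by
    have e := sum_pr (inv_mul_cancel₀ h0') hξ (lin (inc M) Y)
    rw [← show _ = ((Y ^ i).trace : ℂ) from trace_lin (inc M) (Y ^ i), map_pow,
      ← mul_one (lin (inc M) Y ^ i), ← e, mul_sum, map_sum]
    refine sum_congr rfl fun r _ => ?_
    rw [← h2, mul_comm (LinearMap.trace _ _ _)]
    refine (congrArg _ (LinearMap.ext fun v => ?_)).trans (map_smul (LinearMap.trace ℂ (n → ℂ))
      ((ξ ^ r)⁻¹ ^ i) (prE o (lin (inc M) Y) (ξ ^ r)⁻¹))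
    have h4 := apply_prE hZ (h1 r) (inv_ne_zero (pow_ne_zero _ (hξ.ne_zero h0))) v
    rw [prE, inv_inv] at h4 ⊢
    rw [End.mul_apply, LinearMap.smul_apply]
    exact pow_apply_smul h4 i
  have : NeZero o := ⟨h0⟩
  choose r hr hr' using fun j => hξ.eq_pow_of_pow_eq_one (ξ := (c j)⁻¹) (k := o)
    (by rw [inv_pow, hc, inv_one])
  have h4 : ∀ s ∈ range o, #{j | r j = s} ≤ k s := fun s _ => by
    refine le_trans ?_ (hk' s)
    rw [← Fintype.card_subtype, ← finrank_span_eq_card (b.linearIndependent.comp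
      (Subtype.val : {j // r j = s} → ι) Subtype.val_injective)]
    refine Submodule.finrank_mono (Submodule.span_le.2 ?_)
    rintro _ ⟨⟨j, rfl⟩, rfl⟩
    exact ⟨End.mem_eigenspace_iff.2 (by rw [hr', inv_inv]; exact hb j), by simp⟩
  have h5 : ∑ s ∈ range o, #{j | r j = s} = ∑ s ∈ range o, k s := by
    rw [← card_eq_sum_card_fiberwise fun j _ => mem_range.2 (hr j), card_univ,
      ← finrank_eq_card_basis b, finrank_fintype_fun_eq_card, ← Nat.cast_inj (R := ℂ)]
    simpa using h3 0
  rw [h3, ← sum_fiberwise_of_maps_to (g := r) (t := range o) fun j _ => mem_range.2 (hr j)]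
  refine sum_congr rfl fun s hs => ?_
  rw [← (sum_eq_sum_iff_of_le h4).1 h5 s hs, sum_congr rfl (g := fun _ => (ξ ^ s)⁻¹ ^ i)
    fun j hj => by rw [← (mem_filter.1 hj).2, hr', inv_inv], sum_const, nsmul_eq_mul]

variable {G : Type*} [Group G] [Finite G]

/-- A lattice whose reduction has a simple head. -/
theorem exists_loc {χ : G → ℂ} (hχ : IsIrrCharacter G χ) :
    ∃ σ : G →* Matrix (Fin (charDegree χ)) (Fin (charDegree χ)) (V M),
      (∀ g, ((σ g).trace : ℂ) = χ g) ∧ Loc (rep (res M) σ) := by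
  classical
  have := Fintype.ofFinite G
  obtain ⟨s, hs⟩ := exists_isDec (⊤ : Subalgebra (F M) (F M)[G]) (e := 1) trivial (one_mul 1)
  obtain ⟨j, hjs, hj0⟩ : ∃ j ∈ s, dec M χ j ≠ 0 := by
    by_contra! h
    have h1 := dec_redA hM hχ.isClassFunction (one_mul 1) IsInt.one
    rw [redA_one, PDec.dec_eq hs hM hχ.isClassFunction, sum_eq_zero h, charLin_one] at h1
    exact hχ.one_ne_zero h1.symm
  have hj := hs.prim j hjs
  obtain ⟨J, hJ, hJi, rfl⟩ := exists_lift hj.idem
  rw [dec_redA hM hχ.isClassFunction hJ hJi] at hj0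
  obtain ⟨n, ρ, hρ, rfl⟩ := hχ
  obtain ⟨v, hv, hJv⟩ := exists_fix_of_ne_zero (ρ := ρ) hJ fun e => hj0 (by
    rw [charLin_character, e, map_zero])
  obtain ⟨L, hL⟩ : ∃ L : Submodule (V M) (Fin n → ℂ),
      L = Submodule.span (V M) (Set.range fun g => ρ g v) := ⟨_, rfl⟩
  have : Module.Finite (V M) L := hL ▸ Module.Finite.span_of_finite _ (Set.finite_range _)
  have := free_of_torsionFree (M := M) L
  have hm : ∀ g, ∀ w ∈ L, (ρ g).restrictScalars (V M) w ∈ L := fun g w hw => by
    rw [hL] at hw ⊢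
    refine (Submodule.span_le.2 ?_ : _ ≤ Submodule.comap ((ρ g).restrictScalars (V M))
      (Submodule.span (V M) (Set.range fun g => ρ g v))) hw
    rintro _ ⟨q, rfl⟩
    exact Submodule.subset_span ⟨g * q, by simp⟩
  have hvL : v ∈ L := hL ▸ Submodule.subset_span ⟨1, by simp⟩
  let b := Free.chooseBasis (V M) L
  have h1 : LinearIndependent ℂ fun i => (b i : Fin n → ℂ) :=
    (LinearIndependent.iff_fractionRing (V M) ℂ).1 (b.linearIndependent.map' L.subtype (by simp))
  have h2 : ⊤ ≤ Submodule.span ℂ (Set.range fun i => (b i : Fin n → ℂ)) := by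
    intro w _
    obtain ⟨a, rfl⟩ := exists_alg_apply_eq hρ hv w
    rw [CL.Cyc.asAlgebraHom_eq_sum, LinearMap.sum_apply]
    refine Submodule.sum_mem _ fun g _ => Submodule.smul_mem _ _ ?_
    have h4 := congrArg L.subtype (b.sum_repr ⟨_, hm g v hvL⟩)
    rw [map_sum] at h4
    rw [← show _ = ρ g v from h4]
    exact Submodule.sum_mem _ fun j _ => Submodule.smul_mem _ (b.repr ⟨_, hm g v hvL⟩ j : ℂ)
      (Submodule.subset_span ⟨j, rfl⟩)
  let c := Basis.mk h1 h2
  have h5 : Fintype.card (Free.ChooseBasisIndex (V M) L) = charDegree ρ.character := by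
    rw [← finrank_eq_card_basis c, charDegree_eq_of_apply_one (n := n) (by simp)]
    simp
  let e := Fintype.equivFinOfCardEq h5
  let τ : G →* End (V M) L :=
    { toFun := fun g => ((ρ g).restrictScalars (V M)).restrict (hm g)
      map_one' := by ext v; simp
      map_mul' := fun g h => by ext v; simp }
  obtain ⟨σ, hσ⟩ : ∃ σ, σ = (LinearMap.toMatrixAlgEquiv (b.reindex e)).toMonoidHom.comp τ := ⟨_, rfl⟩
  refine ⟨σ, fun g => ?_, fun f hf => ?_⟩
  · have h6 : ∀ j, ρ g (c j) = ∑ i, (b.repr (τ g (b j)) i : ℂ) • c i := fun j => by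
      have := congrArg L.subtype (b.sum_repr (τ g (b j)))
      rw [map_sum] at this
      simp only [c, Basis.mk_apply]
      exact this.symm
    rw [hσ, Representation.character, LinearMap.trace_eq_matrix_trace ℂ c, Matrix.trace,
      Matrix.trace, ← e.sum_comp]
    simp [LinearMap.toMatrixAlgEquiv_apply, LinearMap.toMatrix_apply, h6, Finsupp.single_apply]
  obtain ⟨co, hco1, hco2, hco3, hco4⟩ : ∃ co : L → Fin (charDegree ρ.character) → F M,
      (∀ g w, co (τ g w) = rep (res M) σ g (co w)) ∧ (∀ i, co (b.reindex e i) = Pi.single i 1) ∧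
      (∀ w w', co (w + w') = co w + co w') ∧ ∀ (a : V M) w, co (a • w) = res M a • co w := by
    refine ⟨fun w => res M ∘ (b.reindex e).repr w, fun g w => ?_, fun i => ?_, fun w w' => ?_,
      fun a w => ?_⟩
    · rw [rep_apply, lin_comp, hσ]
      exact congrArg _ (LinearMap.toMatrix_mulVec_repr _ _ _ _).symm
    · ext k; simp only [Basis.repr_self, Function.comp, Finsupp.single_apply, Pi.single_apply]
      simp [eq_comm]
    · ext k; simp
    · ext k; simp
  have hco0 : co 0 = 0 := by simpa using hco4 0 0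
  have h6 : ∀ w : L, ∃ a : (F M)[G], (rep (res M) σ).asAlgebraHom a (co ⟨v, hvL⟩) = co w := by
    rintro ⟨w, hw⟩
    subst hL
    induction hw using Submodule.span_induction with
    | mem w hw => obtain ⟨g, rfl⟩ := hw; exact ⟨single g 1, by
        rw [Representation.asAlgebraHom_single_one]; exact (hco1 g ⟨v, hvL⟩).symm⟩
    | zero => exact ⟨0, by rw [map_zero]; exact hco0.symm⟩
    | add w w' hw hw' h h' =>
      obtain ⟨a, ha⟩ := h
      obtain ⟨a', ha'⟩ := h'
      exact ⟨a + a', by rw [map_add, LinearMap.add_apply, ha, ha', ← hco3]; rfl⟩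
    | smul r w hw h =>
      obtain ⟨a, ha⟩ := h
      exact ⟨res M r • a, by rw [map_smul, LinearMap.smul_apply, ha, ← hco4]; rfl⟩
  have h7 : ∀ w, ∃ a : (F M)[G], (rep (res M) σ).asAlgebraHom a (co ⟨v, hvL⟩) = w := fun w => by
    choose a ha using fun i => h6 (b.reindex e i)
    refine ⟨∑ i, w i • a i, ?_⟩
    simp only [map_sum, map_smul, LinearMap.sum_apply, LinearMap.smul_apply, ha, hco2]
    exact (pi_eq_sum_univ' w).symm
  have h8 : (rep (res M) σ).asAlgebraHom (redA M J) (co ⟨v, hvL⟩) = co ⟨v, hvL⟩ := by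
    have e1 : (⟨v, hvL⟩ : L) = ∑ g, (⟨_, hJi g⟩ : V M) • τ g ⟨v, hvL⟩ := by
      refine Subtype.ext (hJv.symm.trans ?_)
      rw [CL.Cyc.asAlgebraHom_eq_sum, LinearMap.sum_apply, Submodule.coe_sum]
      rfl
    refine Eq.trans ?_ ((congrArg co e1).trans (map_sum (AddMonoidHom.mk' co hco3) _ _)).symm
    rw [CL.Cyc.asAlgebraHom_eq_sum, LinearMap.sum_apply]
    refine sum_congr rfl fun g _ => Eq.trans ?_ (hco4 _ _).symm
    rw [hco1, coeff_redA, red_of_mem (hJi g)]
    rfl
  generalize co ⟨v, hvL⟩ = u at h7 h8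
  generalize redA M J = j at hj h8
  generalize rep (res M) σ = τ' at hf h7 h8
  have h9 : ∀ (g : End (F M) _), (∀ k, Commute (τ' k) g) → ∀ a w,
      g (τ'.asAlgebraHom a w) = τ'.asAlgebraHom a (g w) := fun g hg a w =>
    CL.Cyc.IsEqv.alg (fun k w => (LinearMap.congr_fun (hg k).eq w).symm) a w
  obtain ⟨a, ha⟩ := h7 (f u)
  obtain ⟨m, hm⟩ := hj.nilpotent_sub_rho (a := j * a * j) trivial
    (by simp only [← mul_assoc, hj.idem]) (by simp only [mul_assoc, hj.idem])
  generalize rho (F M) j (j * a * j) = c at hm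
  have h10 : ∀ k, Commute (τ' k) (f - c • 1) := fun k =>
    (hf k).sub_right ((Commute.one_right _).smul_right c)
  have h11 : ∀ i : ℕ, ((f - c • 1) ^ i) u = τ'.asAlgebraHom ((j * a * j - c • j) ^ i) u := fun i => by
    induction i with
    | zero => simp
    | succ i ih =>
      rw [pow_succ', End.mul_apply, ih, h9 _ h10, pow_succ, map_mul, End.mul_apply]
      congr 1
      simp only [map_sub, map_mul, map_smul, LinearMap.sub_apply, LinearMap.smul_apply,
        End.mul_apply, h8, ha, ← h9 f hf, End.one_apply]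
  refine ⟨c, m, LinearMap.ext fun w => ?_⟩
  obtain ⟨a', rfl⟩ := h7 w
  rw [h9 _ fun k => (h10 k).pow_right m, h11, hm]
  simp

omit hM in
theorem exists_scalar {χ : G → ℂ} (hχ : IsIrrCharacter G χ) {σ : G →* Matrix n n (V M)}
    (hσ : ∀ g, ((σ g).trace : ℂ) = χ g) {z : G} (hz : z ∈ center G) :
    ∃ c : V M, σ z = c • 1 ∧ ∀ g, χ (z * g) = c * χ g := by
  obtain ⟨c, hc, h1⟩ := mem_charCenter_iff.1 (hχ.center_le_charCenter hz)
  have h2 : (rep (inc M) σ).character = χ := funext fun g => (trace_lin _ _).trans (hσ g)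
  have h3 := rep_eq_smul_of_character (rep (inc M) σ) (g := z) hc (by rw [h2]; simpa using h1 1)
  have h4 : c ^ orderOf z = 1 := by
    have h5 := congrArg (LinearMap.trace ℂ _) (y_pow (rep (inc M) σ) z)
    rw [h3, smul_pow, one_pow, map_smul, ← map_one (rep (inc M) σ)] at h5
    have h6 : (rep (inc M) σ).character 1 ≠ 0 := h2 ▸ hχ.one_ne_zero
    exact mul_right_cancel₀ h6 (h5.trans (one_mul _).symm)
  refine ⟨⟨c, mem_V_of_pow_eq_one (orderOf_pos z).ne' h4⟩, lin_injective (inc M)
    Subtype.val_injective ?_, h1⟩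
  rw [lin_smul, map_one]
  exact h3

omit hM in
theorem zsc {χ : G → ℂ} (hχ : IsIrrCharacter G χ) {σ : G →* Matrix n n (V M)}
    (hσ : ∀ g, ((σ g).trace : ℂ) = χ g) : ZSc (rep (res M) σ) := fun z hz =>
  let ⟨c, hc, _⟩ := exists_scalar hχ hσ hz
  ⟨res M c, by rw [rep_apply, hc, lin_smul, map_one]⟩

end CL.M1
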