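import Cfsg.Agent.BLK.D1L2

/-! Eigenprojections, the logarithm of an element of order `p` and graded Jordan bases. -/

set_option autoImplicit false
open Module Finset

namespace CL.M1

section pr
variable {k R : Type*} [CommRing k] [Ring R] [Algebra k R] {u : k} {o : ℕ} {Z : R}

/-- The projection onto the fixed points of `Z`, where `Z ^ o = 1` and `u * o = 1`. -/
noncomputable def pr (u : k) (o : ℕ) (Z : R) : R := u • ∑ i ∈ range o, Z ^ i

theorem mul_pr (hZ : Z ^ o = 1) : Z * pr u o Z = pr u o Z := by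
  have := mul_geom_sum Z o
  rw [hZ, sub_self, sub_mul, one_mul, sub_eq_zero] at this
  rw [pr, mul_smul_comm, this]

theorem commute_pr {a : R} (h : Commute a Z) : Commute a (pr u o Z) :=
  (Commute.sum_right _ _ _ fun i _ => h.pow_right i).smul_right u

theorem pr_mul (hZ : Z ^ o = 1) : pr u o Z * Z = pr u o Z := by
  rw [← (commute_pr (Commute.refl Z)).eq, mul_pr hZ]

theorem pr_mul_of (hu : u * o = 1) {a : R} (h : Z * a = a) : pr u o Z * a = a := by
  have : ∀ i, Z ^ i * a = a := fun i => by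
    induction i with
    | zero => simp
    | succ i ih => rw [pow_succ, mul_assoc, h, ih]
  rw [pr, smul_mul_assoc, sum_mul, sum_congr rfl fun i _ => this i, sum_const, card_range,
    ← Nat.cast_smul_eq_nsmul k, smul_smul, hu, one_smul]

theorem pr_idem (hu : u * o = 1) (hZ : Z ^ o = 1) : pr u o Z * pr u o Z = pr u o Z :=
  pr_mul_of hu (mul_pr hZ)

theorem sum_pr [IsDomain k] (hu : u * o = 1) {ξ : k} (hξ : IsPrimitiveRoot ξ o) (Y : R) :
    ∑ r ∈ range o, pr u o (ξ ^ r • Y) = 1 := by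
  have ho : o ≠ 0 := by rintro rfl; simp at hu
  simp only [pr, smul_pow, ← smul_sum]
  rw [sum_comm, sum_eq_single 0]
  · simp only [pow_zero, one_smul, sum_const, card_range]
    rw [← Nat.cast_smul_eq_nsmul k, smul_smul, hu, one_smul]
  · intro i hi h0
    have h1 := mul_geom_sum (ξ ^ i) o
    rw [← pow_mul, mul_comm i, pow_mul, hξ.pow_eq_one, one_pow, sub_self] at h1
    have h2 := (mul_eq_zero.1 h1).resolve_left
      (sub_ne_zero.2 (hξ.pow_ne_one_of_pos_of_lt h0 (mem_range.1 hi)))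
    rw [← sum_smul, sum_congr rfl fun r _ => (show (ξ ^ r) ^ i = (ξ ^ i) ^ r by ring), h2,
      zero_smul]
  · simp [Nat.pos_of_ne_zero ho]

end pr

variable {F : Type*} [Field F] {U W : Type*} [AddCommGroup U] [Module F U] [AddCommGroup W]
  [Module F W]

section prEnd
variable {o : ℕ} {Y : End F U} {c : F}

/-- The projection onto the `c`-eigenspace. -/
noncomputable abbrev prE (o : ℕ) (Y : End F U) (c : F) : End F U := pr (o : F)⁻¹ o (c⁻¹ • Y)

theorem prE_of_eq (ho : (o : F) ≠ 0) (hc : c ≠ 0) {v : U} (h : Y v = c • v) : prE o Y c v = v := by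
  have : ∀ i, ((c⁻¹ • Y) ^ i) v = v := fun i =>
    (End.pow_apply _ i v).trans (Function.iterate_fixed (by simp [h, smul_smul, hc]) i)
  simp [pr, this, ← Nat.cast_smul_eq_nsmul F, smul_smul, ho]

theorem smul_pow_eq_one (hY : Y ^ o = 1) (hc : c ^ o = 1) : (c⁻¹ • Y) ^ o = 1 := by
  rw [smul_pow, hY, inv_pow, hc, inv_one, one_smul]

theorem prE_of_ne (hY : Y ^ o = 1) (hc : c ^ o = 1) (h0 : c ≠ 0) {c' : F} (hc' : c' ≠ c) {v : U}
    (h : Y v = c' • v) : prE o Y c v = 0 := by
  have h1 := LinearMap.congr_fun (pr_mul (u := (o : F)⁻¹) (smul_pow_eq_one hY hc)) v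
  rw [End.mul_apply, LinearMap.smul_apply, h, smul_smul, map_smul] at h1
  by_contra h2
  have e := smul_left_injective F h2 (h1.trans (one_smul F _).symm)
  exact hc' ((inv_mul_eq_one₀ h0).1 e).symm

theorem apply_prE (hY : Y ^ o = 1) (hc : c ^ o = 1) (h0 : c ≠ 0) (v : U) :
    Y (prE o Y c v) = c • prE o Y c v := by
  have h1 := LinearMap.congr_fun (mul_pr (u := (o : F)⁻¹) (smul_pow_eq_one hY hc)) v
  rw [End.mul_apply, LinearMap.smul_apply, inv_smul_eq_iff₀ h0] at h1
  exact h1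

theorem prE_apply_apply (hY : Y ^ o = 1) (hc : c ^ o = 1) (h0 : c ≠ 0) (v : U) :
    prE o Y c (Y v) = c • prE o Y c v := by
  have h1 := LinearMap.congr_fun (pr_mul (u := (o : F)⁻¹) (smul_pow_eq_one hY hc)) v
  rw [End.mul_apply, LinearMap.smul_apply, map_smul, inv_smul_eq_iff₀ h0] at h1
  exact h1

theorem prE_mem {S : Submodule F U} (hS : ∀ v ∈ S, Y v ∈ S) {v : U} (hv : v ∈ S) :
    prE o Y c v ∈ S := by
  simp only [pr, LinearMap.smul_apply, LinearMap.sum_apply, smul_pow]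
  exact S.smul_mem _ (S.sum_mem fun i _ => S.smul_mem _ (End.pow_apply_mem_of_forall_mem i hS v hv))

theorem pow_eq_one_of_apply (hY : Y ^ o = 1) {v : U} (h : Y v = c • v) (hv : v ≠ 0) :
    c ^ o = 1 := by
  have : ∀ i, (Y ^ i) v = c ^ i • v := fun i => by
    induction i with
    | zero => simp
    | succ i ih => rw [pow_succ, End.mul_apply, h, map_smul, ih, smul_smul, pow_succ']
  have h1 := this o
  rw [hY, End.one_apply] at h1
  exact smul_left_injective F hv (h1.symm.trans (one_smul F v).symm)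

theorem exists_weight [IsAlgClosed F] (ho : (o : F) ≠ 0) (hY : Y ^ o = 1) {S S' : Submodule F U}
    (hS : ∀ v ∈ S, Y v ∈ S) {v : U} (hv : v ∈ S) (hv' : v ∉ S') :
    ∃ w ∈ S, w ∉ S' ∧ ∃ c : F, Y w = c • w := by
  have : NeZero (o : F) := ⟨ho⟩
  have h0 : o ≠ 0 := by rintro rfl; simp at ho
  obtain ⟨ξ, hξ⟩ := HasEnoughRootsOfUnity.exists_primitiveRoot F o
  by_contra! h
  refine hv' ?_
  rw [← End.one_apply (R := F) v, ← sum_pr (inv_mul_cancel₀ ho) hξ Y, LinearMap.sum_apply]
  refine S'.sum_mem fun r _ => by_contra fun hr => ?_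
  have h1 : ((ξ ^ r)⁻¹) ^ o = 1 := by
    rw [inv_pow, ← pow_mul, mul_comm, pow_mul, hξ.pow_eq_one, one_pow, inv_one]
  rw [← inv_inv (ξ ^ r)] at hr
  exact h _ (prE_mem hS hv) hr _
    (apply_prE hY h1 (inv_ne_zero (pow_ne_zero _ (hξ.ne_zero h0))) v)

/-- Eigenvectors in the span of a family of eigenvectors. -/
theorem mem_span_of_weight (ho : (o : F) ≠ 0) (hY : Y ^ o = 1) {ι : Type*} {m : ι → U}
    {lam : ι → F} (hm : ∀ i, Y (m i) = lam i • m i) {v : U}
    (hv : v ∈ Submodule.span F (Set.range m)) (h : Y v = c • v) {S : Submodule F U}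
    (hS : ∀ i, lam i = c → m i ∈ S) : v ∈ S := by
  by_cases h0 : v = 0
  · exact h0 ▸ S.zero_mem
  have hc := pow_eq_one_of_apply hY h h0
  have hc0 : c ≠ 0 := by
    rintro rfl
    rw [zero_pow (by rintro rfl; simp at ho)] at hc
    exact zero_ne_one hc
  rw [← prE_of_eq ho hc0 h]
  refine (Submodule.span_le.2 ?_ : _ ≤ S.comap (prE o Y c)) hv
  rintro _ ⟨i, rfl⟩
  change prE o Y c (m i) ∈ S
  by_cases hi : lam i = c
  · rw [prE_of_eq ho hc0 (hi ▸ hm i)]; exact hS i hi
  · rw [prE_of_ne hY hc hc0 hi (hm i)]; exact S.zero_mem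

end prEnd

section lg
variable {p : ℕ} [hp : Fact p.Prime] {R : Type*} [Ring R] [Algebra F R] {ξ ξ' : R}

/-- The logarithm of an element of order `p`. -/
noncomputable def lg (F : Type*) [Field F] [Algebra F R] (p : ℕ) [Fact p.Prime] (ξ : R) : R :=
  ∑ i : ZMod p, (i.val : F)⁻¹ • (ξ ^ i.val - 1)

theorem lg_one : lg F p (1 : R) = 0 := by simp [lg]

theorem lg_apply {X : End F U} {X' : End F W} {f : U →ₗ[F] W} (h : ∀ v, f (X v) = X' (f v))
    (v : U) : f (lg F p X v) = lg F p X' (f v) := by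
  have : ∀ i v, f ((X ^ i) v) = (X' ^ i) (f v) := fun i => by
    induction i with
    | zero => simp
    | succ i ih => intro v; rw [pow_succ, pow_succ, End.mul_apply, End.mul_apply, ih, h]
  simp [lg, this]

theorem commute_lg {a : R} (h : Commute a ξ) : Commute a (lg F p ξ) :=
  Commute.sum_right _ _ _ fun _ _ =>
    ((h.pow_right _).sub_right (Commute.one_right _)).smul_right _

variable [CharP F p]

theorem cast_val_mul (a b : ZMod p) : ((a * b).val : F) = a.val * b.val := by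
  simp only [ZMod.natCast_val]
  exact ZMod.cast_mul (dvd_refl p) a b

theorem cast_val_ne_zero {a : ZMod p} (ha : a ≠ 0) : (a.val : F) ≠ 0 := fun e =>
  ha (ZMod.val_eq_zero a |>.1 (Nat.eq_zero_of_dvd_of_lt ((CharP.cast_eq_zero_iff F p _).1 e)
    a.val_lt))

theorem lg_pow (hξ : ξ ^ p = 1) {b : ZMod p} (hb : b ≠ 0) :
    lg F p (ξ ^ b.val) = (b.val : F) • lg F p ξ := by
  rw [lg, lg, smul_sum]
  refine Fintype.sum_equiv (Equiv.mulLeft₀ b hb) _ _ fun i => ?_
  rw [Equiv.mulLeft₀_apply, cast_val_mul, smul_smul, mul_inv, mul_inv_cancel_left₀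
    (cast_val_ne_zero hb), ← pow_mul, ZMod.val_mul, ← pow_eq_pow_mod _ hξ]

theorem sum_inv_mul : ∑ i : ZMod p, (i.val : F)⁻¹ * i.val = -1 := by
  rw [← add_sum_erase _ _ (mem_univ 0), sum_congr rfl fun i hi =>
    inv_mul_cancel₀ (cast_val_ne_zero (ne_of_mem_erase hi))]
  simp [Nat.cast_sub hp.out.one_le]

theorem lg_inv (hξ : ξ ^ p = 1) : lg F p (ξ ^ (p - 1)) = -lg F p ξ := by
  have h1 : (-1 : ZMod p).val = p - 1 := by
    obtain ⟨q, rfl⟩ : ∃ q, p = q + 1 := ⟨p - 1, by have := hp.out.pos; omega⟩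
    exact ZMod.val_neg_one q
  rw [← h1, lg_pow hξ (by simp), h1, Nat.cast_sub hp.out.one_le]
  simp

include F in
theorem isNilpotent_sub_one (hξ : ξ ^ p = 1) : (ξ - 1) ^ p = 0 := by
  rcases subsingleton_or_nontrivial R with _ | _
  · exact Subsingleton.elim _ _
  have : CharP R p := charP_of_injective_algebraMap (algebraMap F R).injective p
  rw [sub_pow_char_of_commute _ (Commute.one_right _), hξ, one_pow, sub_self]

theorem exists_unit (hξ : ξ ^ p = 1) (hξ' : ξ' ^ p = 1) (hc : Commute ξ ξ') :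
    ∃ g, IsUnit g ∧ Commute (ξ - 1) g ∧ lg F p (ξ * ξ') - lg F p ξ' = (ξ - 1) * g := by
  have h1 : ∀ a, Commute a ξ → Commute a ξ' → ∀ i k : ℕ, Commute a (ξ' ^ i * ξ ^ k) :=
    fun a e e' i k => (e'.pow_right i).mul_right (e.pow_right k)
  refine ⟨∑ i : ZMod p, ∑ k ∈ range i.val, (i.val : F)⁻¹ • (ξ' ^ i.val * ξ ^ k), ?_, ?_, ?_⟩
  · have h2 : IsNilpotent (∑ i : ZMod p, ∑ k ∈ range i.val,
        (i.val : F)⁻¹ • (ξ' ^ i.val * ξ ^ k - 1)) := by
      rw [sum_sigma']
      refine Commute.isNilpotent_sum (fun i _ => IsNilpotent.smul ⟨p, isNilpotent_sub_one (F := F)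
        ?_⟩ _) fun i j _ _ => ?_
      · rw [(hc.symm.pow_pow _ _).mul_pow, ← pow_mul, ← pow_mul, mul_comm _ p, mul_comm _ p,
          pow_mul, pow_mul, hξ, hξ']
        simp
      · exact (((h1 _ (h1 _ (Commute.refl _) hc _ _).symm (h1 _ hc.symm (Commute.refl _) _ _).symm
          _ _).sub_right (Commute.one_right _)).sub_left (Commute.one_left _)).smul_left _
          |>.smul_right _
    convert h2.isUnit_sub_one using 1
    simp only [smul_sub, sum_sub_distrib, sum_const, card_range, ← Nat.cast_smul_eq_nsmul F,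
      smul_smul, mul_comm (ZMod.val _ : F)]
    rw [← sum_smul, sum_inv_mul]
    simp
  · exact Commute.sum_right _ _ _ fun i _ => Commute.sum_right _ _ _ fun k _ =>
      ((h1 _ (Commute.refl _) hc _ _).sub_left (Commute.one_left _)).smul_right _
  · rw [lg, lg, ← sum_sub_distrib, mul_sum]
    refine sum_congr rfl fun i _ => ?_
    rw [← smul_sum, ← mul_sum, mul_smul_comm, ← smul_sub, ← mul_assoc,
      (((hc.pow_right _).sub_left (Commute.one_left _))).eq, mul_assoc, mul_geom_sum, hc.mul_pow,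
      (hc.pow_pow _ _).eq, mul_sub, mul_one, sub_sub_sub_cancel_right]

open Polynomial in
theorem mem_adjoin_lg (hξ : ξ ^ p = 1) : ξ ∈ Algebra.adjoin F {lg F p ξ} := by
  obtain ⟨h, h0, h1⟩ : ∃ h : F[X], h.eval 0 = 1 ∧ aeval (ξ - 1) (X * h) = -lg F p ξ := by
    refine ⟨-∑ i : ZMod p, C (i.val : F)⁻¹ * ∑ k ∈ range i.val, (X + 1) ^ k, ?_, ?_⟩
    · simp [eval_finsetSum, -ZMod.natCast_val, sum_inv_mul]
    · rw [mul_neg, map_neg, lg, mul_sum, map_sum]
      refine congrArg _ (sum_congr rfl fun i _ => ?_)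
      have := mul_geom_sum (X + 1 : F[X]) i.val
      rw [add_sub_cancel_right] at this
      rw [mul_left_comm, this]
      simp [Algebra.smul_def]
  have key : ∀ k, k ≤ p → ∀ r : F[X], aeval (ξ - 1) (X ^ (p - k) * r) ∈
      Algebra.adjoin F {lg F p ξ} := by
    intro k
    induction k with
    | zero => intro _ r; simp [isNilpotent_sub_one (F := F) hξ]
    | succ k ih =>
      intro hk r
      obtain ⟨q, hq⟩ : X ∣ r - C (r.eval 0) * h ^ (p - (k + 1)) := by
        rw [X_dvd_iff, coeff_zero_eq_eval_zero]; simp [h0]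
      have e : X ^ (p - (k + 1)) * r =
          X ^ (p - k) * q + C (r.eval 0) * (X * h) ^ (p - (k + 1)) := by
        rw [show p - k = p - (k + 1) + 1 by omega]
        linear_combination X ^ (p - (k + 1)) * hq
      rw [e, map_add, map_mul _ (C _), map_pow, h1, aeval_C]
      exact add_mem (ih (by omega) q) (mul_mem (Subalgebra.algebraMap_mem _ _)
        (pow_mem (neg_mem (Algebra.self_mem_adjoin_singleton _ _)) _))
  have := key p le_rfl (X + 1)
  rwa [Nat.sub_self, pow_zero, one_mul, map_add, aeval_X, map_one, sub_add_cancel] at this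

theorem commute_of_lg (hξ : ξ ^ p = 1) {a : R} (h : Commute a (lg F p ξ)) : Commute a ξ :=
  Algebra.commute_of_mem_adjoin_singleton_of_commute (mem_adjoin_lg hξ) h

theorem mem_of_lg {X : End F U} (hX : X ^ p = 1) {S : Submodule F U}
    (hS : ∀ v ∈ S, lg F p X v ∈ S) : ∀ v ∈ S, X v ∈ S := by
  refine Algebra.adjoin_induction (p := fun a _ => ∀ v ∈ S, a v ∈ S) ?_ ?_ ?_ ?_
    (mem_adjoin_lg (F := F) hX)
  · rintro _ rfl; exact hS
  · exact fun c v hv => S.smul_mem c hv
  · exact fun a b _ _ ha hb v hv => S.add_mem (ha v hv) (hb v hv)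
  · exact fun a b _ _ ha hb v hv => ha _ (hb v hv)

end lg

/-- Two endomorphisms whose powers have the same kernels and ranges. -/
def Asc (T L : End F U) : Prop :=
  ∀ k, LinearMap.range (L ^ k) = LinearMap.range (T ^ k) ∧ ∀ v, (L ^ k) v = 0 ↔ (T ^ k) v = 0

theorem asc_of_unit {T g : End F U} (hg : IsUnit g) (hc : Commute T g) : Asc T (T * g) := by
  intro k
  have h1 := (End.isUnit_iff _).1 (hg.pow k)
  refine ⟨?_, fun v => ?_⟩
  · rw [hc.mul_pow, End.mul_eq_comp,
      LinearMap.range_comp_of_range_eq_top _ (LinearMap.range_eq_top.2 h1.2)]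
  · rw [hc.eq, hc.symm.mul_pow, End.mul_apply, map_eq_zero_iff _ h1.1]

variable {p : ℕ} [hp : Fact p.Prime] [CharP F p]

theorem asc_lg {X : End F U} (hX : X ^ p = 1) : Asc (X - 1) (lg F p X) := by
  obtain ⟨g, h1, h2, h3⟩ := exists_unit (F := F) hX (one_pow p) (Commute.one_right X)
  rw [mul_one, lg_one, sub_zero] at h3
  exact h3 ▸ asc_of_unit h1 h2

theorem asc_add {X X' : End F U} (hX : X ^ p = 1) (hX' : X' ^ p = 1) (hc : Commute X X') :
    Asc (X * X' - 1) (lg F p X + lg F p X') := by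
  obtain ⟨g, h1, h2, h3⟩ := exists_unit (F := F) (p := p) (ξ := X * X') (ξ' := X ^ (p - 1))
    (by rw [hc.mul_pow, hX, hX', one_mul])
    (by rw [← pow_mul, mul_comm, pow_mul, hX, one_pow])
    (((Commute.refl X).mul_left hc.symm).pow_right _)
  rw [lg_inv hX, hc.eq, mul_assoc, ← pow_succ', Nat.sub_add_cancel hp.out.pos, hX, mul_one,
    sub_neg_eq_add, add_comm] at h3
  rw [h3, hc.eq]
  exact asc_of_unit h1 (hc.eq ▸ h2)

theorem Asc.pow_p {X L : End F U} (h : Asc (X - 1) L) (hX : X ^ p = 1) : L ^ p = 0 :=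
  LinearMap.ext fun v => ((h p).2 v).2 (by rw [isNilpotent_sub_one (F := F) hX]; rfl)

end CL.M1
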