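import Cfsg.Agent.BLK.M1Jor
import Cfsg.Agent.BLK.CycY

/-! Groups with a Sylow subgroup `⟨x⟩` of order `p` and `C(x) = ⟨x⟩ Z(G)`: modules in
characteristic `p`. -/

set_option autoImplicit false
set_option linter.unusedSectionVars false
open Module Finset Subgroup CL.D1T
open scoped MatrixGroups

namespace CL.M1

variable {G : Type*} [Group G] {p : ℕ} [hp : Fact p.Prime]

/-- `y` generates the normalizer of `⟨x⟩` modulo `C(x) = ⟨x⟩ Z(G)`. -/
structure Ex (p : ℕ) [Fact p.Prime] (x y : G) (b : ZMod p) (e t : ℕ) : Prop extends PZ p x where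
  reg : ¬ p ∣ orderOf y
  conj : y * x * y⁻¹ = x ^ b.val
  ordb : orderOf b = e
  cardA : (expA p x).card = e
  te : t * e + 1 = p
  gen : ∀ n ∈ normalizer (zpowers x : Set G), ∃ z ∈ center G, ∃ i j : ℕ, n = z * x ^ j * y ^ i

variable [Finite G] {x y : G} {b : ZMod p} {e t : ℕ}

theorem exists_ex (h : PZ p x) : ∃ y b t, Ex p x y b (expA p x).card t := by
  obtain ⟨ω, h1, h2, -⟩ := CL.Cyc.exists_omega (F := ZMod p) hp.out (by simp) h.card
  obtain ⟨g, -, hg, hgen⟩ := CL.Cyc.exists_gen_of_ker ω h2 le_rfl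
  obtain ⟨u, y, e1, hc, hu, hy⟩ := CL.Blk.exists_isPPart hp.out g
  have hC : ∀ n : normalizer (zpowers x : Set G), ω n = 1 ↔ Commute x n := fun n => by
    rw [h2, CL.Small.centralizer_zpowers_eq, CL.Small.mem_centralizer_singleton_iff']
    rfl
  have h3 : ω u = 1 := by
    obtain ⟨k, hk⟩ := mem_powers_iff_mem_zpowers.2
      (h.mem_of_normalizer (y := u) (by simpa using hu) u.2)
    exact (hC u).2 (hk ▸ (Commute.refl x).pow_right k)
  rw [← e1, map_mul, h3, one_mul] at hg hgen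
  obtain ⟨k, hk⟩ := mem_powers_iff_mem_zpowers.2
    ((Subgroup.mem_normalizer_iff.1 y.2 x).1 (mem_zpowers x))
  have h4 := h1 y k fun z hz => by
    obtain ⟨j, rfl⟩ := mem_powers_iff_mem_zpowers.2 hz
    rw [← conj_pow, ← pow_mul, mul_comm, pow_mul]
    exact congrArg (· ^ j) hk.symm
  have h5 : orderOf (ω y) = (expA p x).card := by
    have := CL.Small.card_centralizer_mul_relIndex (zpowers x)
    rw [h.card_normalizer, ← hg, CL.Small.centralizer_zpowers_eq, mul_comm] at this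
    exact Nat.eq_of_mul_eq_mul_right Nat.card_pos this
  obtain ⟨t, ht⟩ := h.card_expA_dvd
  refine ⟨y, k, t, h, by simpa using hy, by rw [h.pow_val_cast]; exact hk.symm,
    by rw [← h4, orderOf_units, h5], rfl, by have := hp.out.pos; rw [mul_comm]; omega,
    fun n hn => ?_⟩
  obtain ⟨i, hi⟩ := hgen ⟨n, hn⟩ hn
  obtain ⟨z, hz, j, e⟩ := h.cent _ ((hC (⟨n, hn⟩ * (y ^ i)⁻¹)).1 (by simp [hi]))
  exact ⟨z, hz, i, j, by simpa [mul_inv_eq_iff_eq_mul] using e⟩

namespace Ex

variable (h : Ex p x y b e t)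
include h

theorem e_pos : 0 < e := h.cardA ▸ card_pos.2 ⟨_, one_mem_expA x⟩

theorem b_ne : b ≠ 0 := by
  rintro rfl
  exact h.ne_one (by simpa using h.conj)

theorem conj_pow (i : ℕ) : y ^ i * x * (y ^ i)⁻¹ = x ^ (b ^ i).val := by
  induction i with
  | zero => simp [ZMod.val_one]
  | succ i ih => rw [pow_succ' b, h.pow_val_mul, ← h.conj, _root_.conj_pow, ← ih]; group

theorem y_mem : y ∈ normalizer (zpowers x : Set G) :=
  (h.mem_normalizer_iff hp.out.not_dvd_one).2 (by rw [pow_one, h.conj]; exact npow_mem_zpowers _ _)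

theorem commute_iff {i : ℕ} : Commute x (y ^ i) ↔ e ∣ i := by
  rw [← h.ordb, orderOf_dvd_iff_pow_eq_one]
  refine ⟨fun hc => h.pow_val_inj ?_, fun h1 => ?_⟩
  · rw [← h.conj_pow, ← hc.eq, ZMod.val_one, pow_one, mul_inv_cancel_right]
  · have := h.conj_pow i
    rw [h1, ZMod.val_one, pow_one, mul_inv_eq_iff_eq_mul] at this
    exact this.symm

theorem pow_mem_center {i : ℕ} (hi : e ∣ i) : y ^ i ∈ center G :=
  h.mem_center_of_reg (h.commute_iff.2 hi) fun e => h.reg (e.trans (orderOf_pow_dvd _))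

theorem dvd_orderOf : e ∣ orderOf y := h.commute_iff.1 (by simp)

theorem isConj_mul {i : ℕ} (hi : ¬ e ∣ i) (j : ℕ) : IsConj (y ^ i) (x ^ j * y ^ i) := by
  have h1 : 1 - b ^ i ≠ 0 := fun e =>
    hi (h.ordb ▸ orderOf_dvd_of_pow_eq_one (sub_eq_zero.1 e).symm)
  obtain ⟨k, hk⟩ : ∃ k : ZMod p, k = j + b ^ i * k := ⟨j / (1 - b ^ i), by field_simp; ring⟩
  refine isConj_iff.2 ⟨x ^ k.val, ?_⟩
  rw [mul_inv_eq_iff_eq_mul]
  nth_rw 1 [hk]
  rw [h.pow_val_add, h.pow_val_cast, h.pow_val_mul, ← h.conj_pow, _root_.conj_pow]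
  group

theorem fixed {k M : Type*} [CommSemiring k] [AddCommMonoid M] [Module k M]
    (τ : Representation k G M) {m : M} (hx : τ x m = m) (hy : τ y m = m)
    (hz : ∀ z ∈ center G, τ z m = m) : ∀ n ∈ normalizer (zpowers x : Set G), τ n m = m := by
  intro n hn
  obtain ⟨z, hz', i, j, rfl⟩ := h.gen n hn
  simp only [map_mul, map_pow, End.mul_apply, End.pow_apply, Function.iterate_fixed hx,
    Function.iterate_fixed hy, hz z hz']

variable {F : Type*} [Field F] [CharP F p] {U W : Type*} [AddCommGroup U] [Module F U]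
  [AddCommGroup W] [Module F W]

omit [Finite G] in
theorem pow_eq_one_iff' {m : ℕ} : (b.val : F) ^ m = 1 ↔ e ∣ m := by
  rw [← h.ordb, orderOf_dvd_iff_pow_eq_one, ZMod.natCast_val,
    ← ZMod.castHom_apply (h := dvd_refl p), ← map_pow,
    map_eq_one_iff _ (ZMod.castHom (dvd_refl p) F).injective]

theorem a_ne : (b.val : F) ≠ 0 := cast_val_ne_zero h.b_ne

omit [Finite G] in
theorem o_ne : (orderOf y : F) ≠ 0 := mt (CharP.cast_eq_zero_iff F p _).1 h.reg

variable (τ : Representation F G U)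

omit [Finite G] [CharP F p] in
theorem x_pow : τ x ^ p = 1 := by rw [← map_pow, h.pow_p, map_one]

omit h hp [Finite G] in
theorem _root_.CL.M1.y_pow {k : Type*} [CommSemiring k] {M : Type*} [AddCommMonoid M] [Module k M]
    (τ : Representation k G M) (y : G) : τ y ^ orderOf y = 1 := by
  rw [← map_pow, pow_orderOf_eq_one, map_one]

theorem weight (v : U) : τ y (lg F p (τ x) v) = (b.val : F) • lg F p (τ x) (τ y v) := by
  rw [lg_apply (X' := τ x ^ b.val) fun v => ?_, lg_pow (h.x_pow τ) h.b_ne, LinearMap.smul_apply]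
  rw [← map_pow, ← h.conj, ← End.mul_apply, ← End.mul_apply, ← map_mul, ← map_mul,
    inv_mul_cancel_right]

theorem nonempty_jor [IsAlgClosed F] [FiniteDimensional F U] :
    Nonempty (Jor (lg F p (τ x)) (τ y)) :=
  M1.nonempty_jor h.o_ne (y_pow τ y) h.a_ne (h.weight τ)
    ⟨p, (asc_lg (h.x_pow τ)).pow_p (h.x_pow τ)⟩

end Ex

variable {F : Type*} [Field F] [CharP F p] {U W : Type*} [AddCommGroup U] [Module F U]
  [AddCommGroup W] [Module F W]

omit [Finite G] in
/-- Values of relatively projective maps. -/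
theorem tr_apply_mem (τ : Representation F G U) (τ' : Representation F G W)
    (α : U →ₗ[F] W) {u : U} {s : ℕ} (hu : ((τ x - 1) ^ s) u = 0) :
    (∑ j ∈ range p, τ.linHom τ' (x ^ j) α) u ∈ LinearMap.range ((τ' x - 1) ^ (p - s)) := by
  rcases subsingleton_or_nontrivial (U →ₗ[F] W) with _ | _
  · rw [Subsingleton.elim (∑ j ∈ range p, _) 0]; exact zero_mem _
  have : CharP (End F (U →ₗ[F] W)) p :=
    charP_of_injective_algebraMap (algebraMap F _).injective p
  let A : End F (U →ₗ[F] W) := LinearMap.llcomp F U W W (τ' x)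
  let B : G → End F (U →ₗ[F] W) := fun g => LinearMap.lcomp F W (τ g)
  have hB : B x * B x⁻¹ = 1 := by ext β v; simp [B]
  have hc : Commute (A - B x) (B x⁻¹) := by ext β v; simp [A, B]
  have h1 : τ.linHom τ' x - 1 = (A - 1 - (B x - 1)) * B x⁻¹ := by
    rw [sub_sub_sub_cancel_right, sub_mul, hB]; rfl
  have h2 := sum_pow_eq (τ.linHom τ' x) 1
  have h3 := sub_pow_pred (A := A - 1) (B := B x - 1) (by ext β v; simp [A, B]; abel) 1
  rw [pow_one] at h2 h3
  have h4 : ∀ (i : ℕ) β v, ((A - 1) ^ i) β v = ((τ' x - 1) ^ i) (β v) := fun i => by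
    induction i with
    | zero => simp
    | succ i ih => intro β v; simp [pow_succ, ih, A]
  have h5 : ∀ (i : ℕ) β v, ((B x - 1) ^ i) β v = β (((τ x - 1) ^ i) v) := fun i => by
    induction i with
    | zero => simp
    | succ i ih => intro β v; rw [pow_succ, pow_succ', End.mul_apply, ih]; simp [B]
  simp only [map_pow]
  rw [← LinearMap.sum_apply _ _ α, h2, h1, Commute.mul_pow (by simpa using hc), h3, End.mul_apply,
    LinearMap.sum_apply, LinearMap.sum_apply]
  refine sum_mem fun i hi => ?_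
  rw [End.mul_apply, h4, h5]
  by_cases h6 : s ≤ p - 1 - i
  · simp [pow_apply_eq_zero hu h6]
  · rw [show i = p - s + (i - (p - s)) by have := mem_range.1 hi; omega, ← pow_apply_pow]
    exact ⟨_, rfl⟩

/-- All endomorphisms are scalars modulo nilpotent ones. -/
def Loc (τ : Representation F G U) : Prop :=
  ∀ f : End F U, (∀ g, Commute (τ g) f) → ∃ c : F, IsNilpotent (f - c • 1)

/-- The centre acts by scalars. -/
def ZSc (τ : Representation F G U) : Prop := ∀ z ∈ center G, ∃ c : F, τ z = c • 1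

namespace Ex

variable (h : Ex p x y b e t) {τ : Representation F G U} {τ' : Representation F G W}
include h

theorem exists_lift (hZ : ZSc τ) {f : End F U} (hx : Commute (τ x) f) (hy : Commute (τ y) f) :
    ∃ ψ : End F U, (∀ g, Commute (τ g) ψ) ∧ ∀ (s : ℕ) v, ((τ x - 1) ^ s) v = 0 →
      ψ v - f v ∈ LinearMap.range ((τ x - 1) ^ (p - s)) := by
  have := Fintype.ofFinite (zpowers x)
  have hi : ∀ g, τ g * τ g⁻¹ = 1 := fun g => by rw [← map_mul, mul_inv_cancel, map_one]
  have hconj : ∀ (g : G) (f : End F U), (τ.linHom τ) g f = τ g * f * τ g⁻¹ := fun g f => rfl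
  have h1 : ∀ g, Commute (τ g) f → (τ.linHom τ) g f = f := fun g hg => by
    rw [hconj, hg.eq, mul_assoc, hi, mul_one]
  obtain ⟨ψ, α, h2, h3⟩ := exists_fixed_eq (τ.linHom τ) (m := f) le_normalizer h.hTI
    (h.fixed _ (h1 x hx) (h1 y hy) fun z hz => h1 z (by
      obtain ⟨c, hc⟩ := hZ z hz
      exact hc ▸ (Commute.one_left f).smul_left c))
  refine ⟨ψ, fun g => ?_, fun s v hv => ?_⟩
  · have := congrArg (· * τ g) (h2 g)
    simp only [hconj, mul_assoc, ← map_mul, inv_mul_cancel, map_one, mul_one] at this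
    exact this
  · rw [h3, LinearMap.add_apply, add_sub_cancel_left, sum_zpowers rfl
      (fun u => (τ.linHom τ) u α), h.ord]
    exact tr_apply_mem τ τ α hv

/-- There is at most one non-projective block. -/
theorem eq_of_lt (hZ : ZSc τ) (hl : Loc τ) (J : Jor (lg F p (τ x)) (τ y)) {r r' : J.ι}
    (hr : J.s r < p) (hr' : J.s r' < p) : r = r' := by
  classical
  by_contra hne
  have hA := asc_lg (h.x_pow τ)
  obtain ⟨ψ, h1, h2⟩ := h.exists_lift hZ (commute_of_lg (h.x_pow τ) (J.commute_proj r)).symm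
    (J.commute_proj' (h.weight τ) r).symm
  obtain ⟨c, n, hn⟩ := hl ψ h1
  have hT : Commute (τ x - 1) (ψ - c • 1) :=
    ((h1 x).sub_right ((Commute.one_right _).smul_right c)).sub_left (Commute.one_left _)
  have key : ∀ (q : J.ι) (lam : F), J.s q < p → J.proj r (J.u q) = lam • J.u q → lam = c := by
    intro q lam hq h3
    have h4 : ∀ k, ((ψ - c • 1) ^ k) (J.u q) - (lam - c) ^ k • J.u q ∈
        LinearMap.range (τ x - 1) := fun k => by
      induction k with
      | zero => simp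
      | succ k ih =>
        obtain ⟨w, hw⟩ := ih
        obtain ⟨w', hw'⟩ := h2 _ _ (((hA _).2 _).1 (J.nil q))
        rw [show p - J.s q = p - J.s q - 1 + 1 by omega, ← apply_pow, h3] at hw'
        refine ⟨(ψ - c • 1) w + (lam - c) ^ k • ((τ x - 1) ^ (p - J.s q - 1)) w', ?_⟩
        rw [map_add, map_smul, hw', ← End.mul_apply, hT.eq, End.mul_apply, hw, map_sub, map_smul,
          apply_pow, LinearMap.sub_apply, LinearMap.smul_apply, End.one_apply]
        module
    have h5 := h4 n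
    rw [hn, LinearMap.zero_apply, zero_sub, neg_mem_iff] at h5
    by_contra h6
    refine J.notMem_range q ?_
    have h7 := (hA 1).1
    rw [pow_one, pow_one] at h7
    exact h7 ▸ (Submodule.smul_mem_iff _ (pow_ne_zero _ (sub_ne_zero.2 h6))).1 h5
  have e1 := key r 1 hr (by simpa using J.proj_apply r r 0)
  have e2 := key r' 0 hr' (by simpa [Ne.symm hne] using J.proj_apply r r' 0)
  exact one_ne_zero (e1.trans e2.symm)

omit [Finite G] in
/-- The bound for the space of relatively projective homomorphisms. -/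
theorem finrank_le [FiniteDimensional F W] (J : Jor (lg F p (τ x)) (τ y)) (S : Submodule F W)
    (X : Submodule F (U →ₗ[F] W))
    (hX : ∀ f ∈ X, (∃ α, f = ∑ j ∈ range p, τ.linHom τ' (x ^ j) α) ∧
      τ.linHom τ' y f = f ∧ ∀ v, f v ∈ S) :
    finrank F X ≤ ∑ r, finrank F ↥(LinearMap.range ((τ' x - 1) ^ (p - J.s r)) ⊓
      End.eigenspace (τ' y) (J.μ r) ⊓ S) := by
  have h1 : ∀ g (f : U →ₗ[F] W), τ.linHom τ' g f = f → ∀ v, f (τ g v) = τ' g (f v) :=
    fun g f hf v => by
      nth_rw 1 [← hf]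
      simp [← End.mul_apply, ← map_mul]
  rw [← finrank_pi_fintype]
  refine LinearMap.finrank_le_finrank_of_injective (f := LinearMap.pi fun r =>
    LinearMap.codRestrict _ (LinearMap.applyₗ (J.u r) ∘ₗ X.subtype) fun f => ?_) ?_
  · obtain ⟨⟨α, e⟩, h2, h3⟩ := hX f f.2
    refine ⟨⟨?_, End.mem_eigenspace_iff.2 ?_⟩, h3 _⟩
    · change f.1 (J.u r) ∈ _
      exact e ▸ tr_apply_mem τ τ' α (((asc_lg (h.x_pow τ) _).2 _).1 (J.nil r))
    · change τ' y (f.1 (J.u r)) = J.μ r • f.1 (J.u r)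
      rw [← h1 y f h2, J.wt, map_smul]
  · rw [injective_iff_map_eq_zero]
    rintro ⟨f, hf⟩ h2
    obtain ⟨⟨α, e⟩, -⟩ := hX f hf
    have h3 : τ.linHom τ' x f = f := by
      have := mul_geom_sum (τ.linHom τ' x) p
      rw [← map_pow, h.pow_p, map_one, sub_self, sub_mul, one_mul, sub_eq_zero] at this
      simp only [e, map_pow, ← LinearMap.sum_apply _ _ α]
      rw [← End.mul_apply, this]
    refine Subtype.ext (J.ext' fun r i => ?_)
    have h4 : f (J.u r) = 0 := congrArg Subtype.val (congrFun h2 r)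
    change f _ = 0
    induction i with
    | zero => exact h4
    | succ i ih => rw [← apply_pow, lg_apply (h1 x f h3), ih, map_zero]

/-- A fixed vector of small positive height gives a map to `PGL₂`. -/
theorem exists_pgl [IsAlgClosed F] [FiniteDimensional F U] (hZ : ZSc τ)
    (h0 : (τ x - 1) ^ (p - 1) = 0) {z : U} (hz : (τ x - 1) z = 0) {c : F} (hc : τ y z = c • z)
    (h1 : z ∈ LinearMap.range (τ x - 1)) {k : ℕ} (h2 : z ∉ LinearMap.range ((τ x - 1) ^ k))
    (hk : 2 * k + 1 ≤ p) (h7 : 7 ≤ p) : ∃ π : G →* PGL(2, F), π x ≠ 1 := by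
  classical
  have hA := asc_lg (h.x_pow τ)
  have hw := h.weight τ
  obtain ⟨L, hL⟩ : ∃ L, L = lg F p (τ x) := ⟨_, rfl⟩
  rw [← hL] at hA hw
  rw [← (hA k).1] at h2
  rw [← pow_one (τ x - 1), ← (hA 1).1] at h1
  rw [← pow_one (τ x - 1), ← (hA 1).2, pow_one] at hz
  have h3 : ∃ k, z ∉ LinearMap.range (L ^ k) := ⟨k, h2⟩
  have h4 := Nat.find_min' h3 h2
  obtain ⟨m, hm⟩ : ∃ m, Nat.find h3 = m + 2 := by
    have e1 : Nat.find h3 ≠ 0 := fun e => (e ▸ Nat.find_spec h3) ⟨z, rfl⟩
    have e2 : Nat.find h3 ≠ 1 := fun e => (e ▸ Nat.find_spec h3) h1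
    exact ⟨Nat.find h3 - 2, by omega⟩
  have h5 : z ∉ LinearMap.range (L ^ (m + 2)) := hm ▸ Nat.find_spec h3
  obtain ⟨w, hw0⟩ := not_not.1 (Nat.find_min h3 (m := m + 1) (by omega))
  have hz0 : z ≠ 0 := fun e => h5 (e ▸ zero_mem _)
  obtain ⟨u, μ, hu, hμ⟩ : ∃ u μ, (L ^ (m + 1)) u = z ∧ τ y u = μ • u := by
    have h6 : ∀ v, (L ^ (m + 1)) (τ y v) = ((b.val : F) ^ (m + 1))⁻¹ • τ y ((L ^ (m + 1)) v) :=
      fun v => by rw [weight_pow hw, inv_smul_smul₀ (pow_ne_zero _ h.a_ne)]
    have h7 := pow_eq_one_of_apply (y_pow τ y) hc hz0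
    have h8 : c ≠ 0 := fun e => by
      rw [e, zero_pow (orderOf_pos y).ne'] at h7; exact zero_ne_one h7
    have h9 : ((b.val : F) ^ (m + 1))⁻¹ * c ≠ 0 :=
      mul_ne_zero (inv_ne_zero (pow_ne_zero _ h.a_ne)) h8
    refine ⟨prE (orderOf y) (τ y) (((b.val : F) ^ (m + 1))⁻¹ * c) w, _, ?_,
      apply_prE (y_pow τ y) (by
        rw [mul_pow, h7, mul_one, inv_pow, ← pow_mul,
          h.pow_eq_one_iff'.2 (h.dvd_orderOf.mul_left _), inv_one]) h9 w⟩
    have h10 : ∀ i v, (L ^ (m + 1)) v = z → (L ^ (m + 1))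
        ((((((b.val : F) ^ (m + 1))⁻¹ * c)⁻¹ • τ y) ^ i) v) = z := fun i => by
      induction i with
      | zero => simp
      | succ i ih =>
        intro v hv
        rw [pow_succ, End.mul_apply]
        refine ih _ ?_
        rw [LinearMap.smul_apply, map_smul, h6, hv, hc, ← mul_smul _ c, inv_smul_smul₀ h9]
    simp only [pr, LinearMap.smul_apply, LinearMap.sum_apply, map_smul, map_sum, h10 _ _ hw0]
    simp [← Nat.cast_smul_eq_nsmul F, h.o_ne]
  obtain ⟨f, f1, f2, -⟩ := exists_functional h.o_ne (y_pow τ y) (S := LinearMap.range (L ^ (m + 2)))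
    (by
      rintro _ ⟨v, rfl⟩
      rw [weight_pow hw]
      exact Submodule.smul_mem _ _ ⟨_, rfl⟩) hc h5
  have h6 : (L ^ (m + 1 + 1)) u = 0 := by rw [← apply_pow, hu, hz]
  have hcm := isCompl_chain (hu ▸ f1) (fun v => f2 _ ⟨v, rfl⟩) h6
  have h8 : ∀ v ∈ chain L u, τ x v ∈ chain L u := mem_of_lg (h.x_pow τ) (hL ▸ chain_inv_self)
  have h9 : ∀ v ∈ kerAll L f, τ x v ∈ kerAll L f := mem_of_lg (h.x_pow τ) (hL ▸ kerAll_inv)
  have h10 : ∀ v ∈ chain L u, τ y v ∈ chain L u := chain_inv fun i => by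
    rw [weight_pow' hw i hμ]; exact Submodule.smul_mem _ _ (pow_mem_chain u i)
  obtain ⟨H, hH, hs⟩ := h.exists_compl
  obtain ⟨ρ, hρ⟩ := h.exists_green τ h0 (chain L u).subtype
    ((chain L u).projectionOnto _ hcm) (by simp) (fun v => by
      obtain ⟨a, ha, a', ha', rfl⟩ := Submodule.mem_sup.1 (hcm.sup_eq_top.ge (Submodule.mem_top (x := v)))
      simp only [map_add]
      rw [Submodule.projectionOnto_apply_left hcm ⟨_, h8 a ha⟩,
        Submodule.projectionOnto_apply_right hcm ⟨_, h9 a' ha'⟩,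
        Submodule.projectionOnto_apply_left hcm ⟨_, ha⟩,
        Submodule.projectionOnto_apply_right hcm ⟨_, ha'⟩]
      simp) hH hs fun k hk v => by
      obtain ⟨z', hz', i, j, rfl⟩ := h.gen k (hs.le (mem_sup_right hk))
      obtain ⟨c, hc⟩ := hZ z' hz'
      simp only [map_mul, map_pow, hc, End.mul_apply, Submodule.range_subtype]
      exact Submodule.smul_mem _ _ (End.pow_apply_mem_of_forall_mem _ h8 _
        (End.pow_apply_mem_of_forall_mem _ h10 _ v.2))
  replace hρ : ∀ v, (ρ x v : U) = τ x v := hρ x (le_normalizer (mem_zpowers x))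
  have h11 : ∀ (i : ℕ) (v : chain L u), (((ρ x - 1) ^ i) v : U) = ((τ x - 1) ^ i) v := fun i => by
    induction i with
    | zero => simp
    | succ i ih => intro v; simp [pow_succ', ih, hρ]
  let B := LinearMap.toMatrixAlgEquiv (Module.finBasis F (chain L u))
  refine h.exists_pgl_of_pow (B.toMonoidHom.comp ρ) (s := m + 2) (fun e => hz0 ?_) ?_ (by omega) h7
  · have e1 : ρ x = 1 := B.injective (e.trans (map_one B).symm)
    have e2 := h11 1 ⟨u, pow_mem_chain u 0⟩
    rw [e1, sub_self, pow_one, eq_comm] at e2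
    rw [← hu]
    exact pow_apply_eq_zero (((hA 1).2 u).2 e2) (by omega)
  · change (B (ρ x) - 1) ^ (m + 2) = 0
    rw [← map_one B, ← map_sub, ← map_pow, map_eq_zero_iff _ B.injective]
    refine LinearMap.ext fun v => Subtype.ext ((h11 _ v).trans (((hA _).2 _).1 ?_))
    refine (Submodule.span_le.2 ?_ : _ ≤ LinearMap.ker (L ^ (m + 2))) v.2
    rintro _ ⟨i, rfl⟩
    exact (pow_apply_pow _ _ _).trans (pow_apply_eq_zero h6 (by omega))

end Ex

end CL.M1
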