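import Cfsg.Agent.BLK.M1Lat

/-! Comparison of the fixed points of the normalizer and of the group on a lattice. -/

set_option autoImplicit false
set_option linter.unusedSectionVars false
open Cfsg Module Finset Subgroup CL.D1T CL.Blk CL.Char IsLocalRing
open scoped Kronecker Matrix

namespace CL.M1

section kron
variable {A R : Type*} [CommRing A] [CommRing R] (f : A →+* R) {n m : Type*} [Fintype n]
  [DecidableEq n] [Fintype m] [DecidableEq m] {G : Type*} [Group G]

/-- The tensor product of two matrix representations. -/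
def kron (σ : G →* Matrix n n A) (σ' : G →* Matrix m m A) : G →* Matrix (n × m) (n × m) A where
  toFun g := σ g ⊗ₖ σ' g
  map_one' := by simp
  map_mul' g h := by simp [Matrix.mul_kronecker_mul]

/-- The dual of a matrix representation. -/
def dual (σ : G →* Matrix n n A) : G →* Matrix n n A where
  toFun g := (σ g⁻¹)ᵀ
  map_one' := by simp
  map_mul' g h := by simp

/-- The tensor product of two vectors. -/
def ten (R n m : Type*) [CommRing R] : (n → R) →ₗ[R] (m → R) →ₗ[R] n × m → R :=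
  LinearMap.mk₂ R (fun v w q => v q.1 * w q.2) (fun _ _ _ => by ext; simp [add_mul])
    (fun _ _ _ => by ext; simp [mul_assoc]) (fun _ _ _ => by ext; simp [mul_add])
    fun _ _ _ => by ext; simp [mul_left_comm]

theorem ten_apply (v : n → R) (w : m → R) (q : n × m) : ten R n m v w q = v q.1 * w q.2 := rfl

theorem lin_ten (E : Matrix n n A) (E' : Matrix m m A) (v : n → R) (w : m → R) :
    lin f (E ⊗ₖ E') (ten R n m v w) = ten R n m (lin f E v) (lin f E' w) := by
  ext q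
  simp only [lin_apply, ten_apply, Matrix.mulVec, dotProduct, Fintype.sum_prod_type, sum_mul_sum,
    Matrix.map_apply, Matrix.kroneckerMap_apply, map_mul]
  exact sum_congr rfl fun _ _ => sum_congr rfl fun _ _ => by ring

theorem span_ten {S : Submodule R (n × m → R)} {ι κ : Type*} {v : ι → n → R} {w : κ → m → R}
    (hv : Submodule.span R (Set.range v) = ⊤) (hw : Submodule.span R (Set.range w) = ⊤)
    (h : ∀ i j, ten R n m (v i) (w j) ∈ S) : S = ⊤ := by
  have h1 : ∀ a b, ten R n m a b ∈ S := fun a b => by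
    refine (Submodule.span_le.2 ?_ : _ ≤ S.comap ((ten R n m).flip b)) (hv.ge trivial)
    rintro _ ⟨i, rfl⟩
    refine (Submodule.span_le.2 ?_ : _ ≤ S.comap (ten R n m (v i))) (hw.ge trivial)
    rintro _ ⟨j, rfl⟩
    exact h i j
  refine eq_top_iff.2 fun u _ => ?_
  rw [pi_eq_sum_univ' u]
  refine S.sum_mem fun q _ => S.smul_mem _ ?_
  convert h1 (Pi.single q.1 1) (Pi.single q.2 1) using 1
  ext r
  simp [ten_apply, Pi.single_apply, Prod.ext_iff, ite_and]
  split_ifs <;> rfl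

/-- Vectors as linear maps. -/
noncomputable def hom (R n m : Type*) [CommRing R] [Fintype n] [DecidableEq n] :
    (m × n → R) ≃ₗ[R] (n → R) →ₗ[R] m → R :=
  (LinearEquiv.curry R R m n).trans ((Matrix.ofLinearEquiv R).trans Matrix.toLin')

theorem hom_apply (v : m × n → R) (w : n → R) (i : m) :
    hom R n m v w i = ∑ j, v (i, j) * w j := rfl

theorem hom_lin (E : Matrix n n A) (E' : Matrix m m A) (v : m × n → R) :
    hom R n m (lin f (E' ⊗ₖ Eᵀ) v) = lin f E' ∘ₗ hom R n m v ∘ₗ lin f E := by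
  ext1 w
  ext i
  simp only [hom_apply, lin_apply, Matrix.mulVec, dotProduct, Fintype.sum_prod_type,
    Matrix.map_apply, Matrix.kroneckerMap_apply, map_mul, LinearMap.comp_apply, sum_mul, mul_sum,
    Matrix.transpose_apply]
  rw [sum_comm]
  refine sum_congr rfl fun _ _ => ?_
  rw [sum_comm]
  exact sum_congr rfl fun _ _ => sum_congr rfl fun _ _ => by ring

end kron

variable {G : Type*} [Group G] {p : ℕ} [hp : Fact p.Prime]

/-- `p * orderOf y` times the multiplicity of the eigenvalue `c` of `y` on the fixed points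
of `x`. -/
noncomputable def Q (p : ℕ) [Fact p.Prime] (x y : G) (c : ℂ) (f : G → ℂ) : ℂ :=
  ∑ i ∈ range (orderOf y), ∑ j : ZMod p, c⁻¹ ^ i * f (x ^ j.val * y ^ i)

variable [Finite G] {x y : G} {b : ZMod p} {e t : ℕ}

theorem sum_range_eq (h : P1 p x) {A : Type*} [AddCommMonoid A] (f : G → A) :
    ∑ j ∈ range p, f (x ^ j) = ∑ j : ZMod p, f (x ^ j.val) := by
  have := Fintype.ofFinite (zpowers x)
  rw [← h.sum_zpowers', sum_zpowers rfl, h.ord]

namespace Ex

variable (h : Ex p x y b e t)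
include h

theorem exists_proj {U : Type*} [AddCommGroup U] [Module ℂ U] [FiniteDimensional ℂ U]
    (ρ : Representation ℂ G U) {E : End ℂ U} (hE : E * E = E) (hc : ∀ g, Commute E (ρ g)) {c : ℂ}
    (hco : c ^ orderOf y = 1) : ∃ S : Submodule ℂ U,
      Q p x y c (fun g => LinearMap.trace ℂ U (ρ g * E)) = p * orderOf y * finrank ℂ S ∧
      ∀ v ∈ S, ρ x v = v ∧ ρ y v = c • v ∧ E v = v := by
  have hp0 : (p : ℂ) ≠ 0 := Nat.cast_ne_zero.2 hp.out.ne_zero
  have ho : (orderOf y : ℂ) ≠ 0 := Nat.cast_ne_zero.2 (orderOf_pos y).ne'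
  have hc0 : c ≠ 0 := fun e => by
    rw [e, zero_pow (orderOf_pos y).ne'] at hco; exact zero_ne_one hco
  have hx : ρ x ^ p = 1 := by rw [← map_pow, h.pow_p, map_one]
  have hy := smul_pow_eq_one (y_pow ρ y) hco
  have h1 : Commute (ρ y) (pr (p : ℂ)⁻¹ p (ρ x)) := by
    refine Commute.smul_right ?_ _
    simp only [← map_pow]
    rw [Commute, SemiconjBy, sum_range_eq h.toP1 ρ, mul_sum, sum_mul]
    refine Fintype.sum_equiv (Equiv.mulLeft₀ b h.b_ne) _ _ fun j => ?_
    rw [Equiv.mulLeft₀_apply, h.pow_val_mul, ← h.conj, _root_.conj_pow, ← map_mul, ← map_mul,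
      inv_mul_cancel_right]
  obtain ⟨A, hA⟩ : ∃ A, A = pr (p : ℂ)⁻¹ p (ρ x) := ⟨_, rfl⟩
  obtain ⟨B, hB⟩ : ∃ B, B = prE (orderOf y) (ρ y) c := ⟨_, rfl⟩
  have h2 : Commute A B := hA ▸ hB ▸ commute_pr (h1.symm.smul_right _)
  have h3 : Commute E A := hA ▸ commute_pr (hc x)
  have h4 : Commute E B := hB ▸ commute_pr ((hc y).smul_right _)
  have h5 : IsIdempotentElem (A * B * E) := (IsIdempotentElem.mul_of_commute h2
    (hA ▸ pr_idem (inv_mul_cancel₀ hp0) hx) (hB ▸ pr_idem (inv_mul_cancel₀ ho) hy)).mul_of_commute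
      (h3.mul_right h4).symm hE
  refine ⟨LinearMap.range (A * B * E), ?_, ?_⟩
  · rw [← trace_idem h5, hA, hB, Q]
    simp only [pr, smul_mul_assoc, mul_smul_comm, map_smul, smul_eq_mul, ← map_pow, smul_pow]
    rw [sum_range_eq h.toP1 ρ, sum_mul_sum, sum_comm]
    simp only [sum_mul, map_sum, mul_smul_comm, smul_mul_assoc, map_smul, smul_eq_mul, map_mul]
    field_simp
  · rintro _ ⟨v, rfl⟩
    refine ⟨?_, ?_, ?_⟩
    · rw [← End.mul_apply, ← mul_assoc, ← mul_assoc, hA, mul_pr hx]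
    · rw [h2.eq, mul_assoc, End.mul_apply, hB]
      exact apply_prE (y_pow ρ y) hco hc0 _
    · rw [← End.mul_apply, ← mul_assoc, (h3.mul_right h4).eq, mul_assoc, hE]

theorem exists_nat_Q {χ : G → ℂ} (hχ : IsCharacter G χ) {c : ℂ} (hco : c ^ orderOf y = 1) :
    ∃ k : ℕ, Q p x y c χ = p * orderOf y * k := by
  obtain ⟨n, ρ, rfl⟩ := hχ
  obtain ⟨S, hS, -⟩ := h.exists_proj ρ (one_mul 1) (fun _ => Commute.one_left _) hco
  exact ⟨_, by simp only [mul_one] at hS; exact hS⟩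

variable {M : Ideal AlgInt} {n m : Type*} [Fintype n] [DecidableEq n] [Fintype m] [DecidableEq m]
  [Fintype G]

theorem star (σ : G →* Matrix n n (V M)) {E : Matrix n n (V M)} (hE : E * E = E)
    (hc : ∀ g, Commute E (σ g)) (hZ : ∀ z ∈ center G, σ z = 1) : ∃ a k : ℕ,
      Q p x y 1 (fun g => (σ g * E).trace) = p * orderOf y * a ∧
      ∑ g, ((σ g * E).trace : ℂ) = Nat.card G * k ∧
      a ≤ k + finrank (F M) ↥(LinearMap.range (∑ j ∈ range p, rep (res M) σ (x ^ j)) ⊓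
        LinearMap.ker (rep (res M) σ y - 1) ⊓ LinearMap.ker (lin (res M) E - 1)) := by
  have := Fintype.ofFinite (G ⧸ normalizer (zpowers x : Set G))
  have := Fintype.ofFinite (zpowers x)
  have hG : (Nat.card G : ℂ) ≠ 0 := Nat.cast_ne_zero.2 Nat.card_pos.ne'
  obtain ⟨ρ, hρ⟩ : ∃ ρ, ρ = rep (inc M) σ := ⟨_, rfl⟩
  obtain ⟨E', hE'⟩ : ∃ E', E' = lin (inc M) E := ⟨_, rfl⟩
  have h1 : ∀ g, LinearMap.trace ℂ _ (ρ g * E') = (σ g * E).trace := fun g => by
    rw [hρ, hE', rep_apply, ← map_mul, trace_lin]; rfl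
  have h2 : E' * E' = E' := by rw [hE', ← map_mul, hE]
  have h3 : ∀ g, Commute E' (ρ g) := fun g => hρ ▸ hE' ▸ (hc g).map (lin (inc M))
  obtain ⟨S, hS, hS'⟩ := h.exists_proj ρ h2 h3 (one_pow _)
  have h4 : ∀ v, (∀ g, ρ g v = v) → E' v = v →
      ((Nat.card G : ℂ)⁻¹ • ∑ g, ρ g * E') v = v := fun v hv hv' => by
    simp [hv, hv', ← Nat.cast_smul_eq_nsmul ℂ]
  have h5 : ((Nat.card G : ℂ)⁻¹ • ∑ g, ρ g * E') * ((Nat.card G : ℂ)⁻¹ • ∑ g, ρ g * E') =
      (Nat.card G : ℂ)⁻¹ • ∑ g, ρ g * E' := LinearMap.ext fun v => h4 _ (fun g => by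
        simp only [LinearMap.smul_apply, map_smul, LinearMap.sum_apply, map_sum, End.mul_apply]
        exact congrArg _ (Fintype.sum_equiv (Equiv.mulLeft g) _ _ fun k => by simp)) (by
        simp only [LinearMap.smul_apply, map_smul, LinearMap.sum_apply, map_sum]
        simp only [← End.mul_apply, ← mul_assoc, (h3 _).eq]
        simp only [mul_assoc, h2])
  have h6 : ∀ v ∈ S, ∀ k ∈ normalizer (zpowers x : Set G), ρ k v = v := fun v hv =>
    h.fixed ρ (hS' v hv).1 (by simpa using (hS' v hv).2.1) fun z hz => by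
      simp [hρ, rep_apply, hZ z hz]
  refine ⟨_, finrank ℂ (LinearMap.range ((Nat.card G : ℂ)⁻¹ • ∑ g, ρ g * E')),
    by simpa only [h1] using hS, ?_, ?_⟩
  · rw [← trace_idem h5, map_smul, map_sum, smul_eq_mul, mul_inv_cancel_left₀ hG]
    simp only [h1]
  rw [finrank_le_inf_add S (relTr ρ (normalizer (zpowers x : Set G))), add_comm]
  refine add_le_add (Submodule.finrank_mono ?_) (finrank_le_of_red _ _ fun w hw => ?_)
  · rintro _ ⟨v, hv, rfl⟩
    refine ⟨_, h4 _ (relTr_fixed ρ (h6 v hv)) ?_⟩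
    rw [relTr_apply, map_sum]
    exact sum_congr rfl fun ω _ => by
      rw [← End.mul_apply, (h3 _).eq, End.mul_apply, (hS' v hv).2.2]
  have h7 : ∀ D : Matrix n n (V M), lin (inc M) D (inc M ∘ w) = inc M ∘ w → D.mulVec w = w :=
    fun D hD => funext fun i => Subtype.ext (congrFun ((lin_comp _ _ _).symm.trans hD) i)
  have h8 : ∀ D : Matrix n n (V M), lin (inc M) D (inc M ∘ w) = inc M ∘ w →
      res M ∘ w ∈ LinearMap.ker (lin (res M) D - 1) := fun D hD => by
    rw [LinearMap.mem_ker, LinearMap.sub_apply, lin_comp, h7 D hD]; simp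
  subst hρ hE'
  refine ⟨⟨?_, h8 _ (h6 _ hw.1 y h.y_mem)⟩, h8 _ (hS' _ hw.1).2.2⟩
  obtain ⟨α, hα⟩ := relTr_eq (rep (RingHom.id _) σ) le_normalizer h.hTI (m := w)
    fun k hk => h7 _ (h6 _ hw.1 k hk)
  have h9 : relTr (rep (RingHom.id _) σ) (normalizer (zpowers x : Set G)) w = 0 := by
    refine comp_eq_zero (Eq.trans ?_ hw.2)
    rw [relTr_apply, relTr_apply]
    exact (map_sum ((inc M).toAddMonoidHom.compLeft n) _ _).trans
      (sum_congr rfl fun ω _ => (lin_comp (inc M) (σ ω.out) w).symm)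
  rw [h9, eq_comm, add_eq_zero_iff_eq_neg, sum_zpowers rfl (fun u => rep (RingHom.id _) σ u α),
    h.ord] at hα
  refine ⟨-(res M ∘ α), ?_⟩
  rw [hα, map_neg, LinearMap.sum_apply]
  refine Eq.trans (congrArg _ ?_) (map_neg ((res M).toAddMonoidHom.compLeft n) _).symm
  exact ((map_sum ((res M).toAddMonoidHom.compLeft n) _ _).trans
    (sum_congr rfl fun j _ => (lin_comp (res M) (σ (x ^ j)) α).symm)).symm

/-- The basic inequality. -/
theorem hom_star [CharP (F M) p] (σ : G →* Matrix n n (V M)) (σ' : G →* Matrix m m (V M))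
    {E : Matrix m m (V M)} (hE : E * E = E) (hc : ∀ g, Commute E (σ' g))
    (hZ : ∀ z ∈ center G, ∃ c : V M, σ z = c • 1 ∧ σ' z = c • 1)
    (J : Jor (lg (F M) p (rep (res M) σ x)) (rep (res M) σ y)) : ∃ a k : ℕ,
      Q p x y 1 (fun g => (σ' g * E).trace * (σ g⁻¹).trace) = p * orderOf y * a ∧
      ∑ g, ((σ' g * E).trace * (σ g⁻¹).trace : ℂ) = Nat.card G * k ∧
      a ≤ k + ∑ r, finrank (F M) ↥(LinearMap.range ((rep (res M) σ' x - 1) ^ (p - J.s r)) ⊓
        End.eigenspace (rep (res M) σ' y) (J.μ r) ⊓ LinearMap.ker (lin (res M) E - 1)) := by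
  obtain ⟨a, k, h1, h2, h3⟩ := h.star (kron σ' (dual σ)) (E := E ⊗ₖ (1 : Matrix n n (V M))ᵀ)
    (by rw [← Matrix.mul_kronecker_mul, hE]; simp)
    (fun g => by
      change _ * (_ ⊗ₖ _) = (_ ⊗ₖ _) * _
      rw [← Matrix.mul_kronecker_mul, ← Matrix.mul_kronecker_mul, (hc g).eq]; simp)
    fun z hz => by
      obtain ⟨c, e1, e2⟩ := hZ z hz
      have e3 : c • σ z⁻¹ = 1 := by
        rw [← one_mul (σ z⁻¹), ← smul_mul_assoc, ← e1, ← map_mul, mul_inv_cancel, map_one]
      change σ' z ⊗ₖ (σ z⁻¹)ᵀ = 1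
      rw [e2, Matrix.smul_kronecker, ← Matrix.kronecker_smul, ← Matrix.transpose_smul, e3]
      simp
  have h4 : ∀ g, ((kron σ' (dual σ) g * E ⊗ₖ (1 : Matrix n n (V M))ᵀ).trace : ℂ) =
      (σ' g * E).trace * (σ g⁻¹).trace := fun g => by
    change (((σ' g ⊗ₖ (σ g⁻¹)ᵀ) * _).trace : ℂ) = _
    rw [← Matrix.mul_kronecker_mul, Matrix.trace_kronecker]
    simp
  simp only [h4] at h1 h2
  refine ⟨a, k, h1, h2, h3.trans (Nat.add_le_add_left ?_ k)⟩
  rw [← LinearEquiv.finrank_map_eq (hom (F M) n m)]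
  have h5 : ∀ g v, hom (F M) n m (rep (res M) (kron σ' (dual σ)) g v) =
      (rep (res M) σ).linHom (rep (res M) σ') g (hom (F M) n m v) := fun g v => hom_lin _ _ _ v
  refine h.finrank_le J _ _ ?_
  rintro _ ⟨v, ⟨⟨⟨α, rfl⟩, h6⟩, h7⟩, rfl⟩
  refine ⟨⟨hom (F M) n m α, by simp only [LinearMap.sum_apply, LinearEquiv.coe_coe, map_sum, h5]⟩, (h5 y _).symm.trans (congrArg _ (sub_eq_zero.1 h6)),
    fun w => sub_eq_zero.2 ?_⟩
  have h8 := LinearMap.congr_fun ((hom_lin _ _ _ _).symm.trans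
    (congrArg (hom (F M) n m) (sub_eq_zero.1 h7))) w
  rw [map_one] at h8
  exact h8

end Ex

end CL.M1
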