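import Cfsg.Agent.BLK.MKTools
import Cfsg.Agent.CHAR.Galois
import Mathlib.GroupTheory.SchurZassenhaus

/-! Extensions of characters of `p'`-degree over a `p`-group, normalised by determinants. -/

set_option autoImplicit false
open Cfsg Subgroup
open scoped ComplexConjugate commutatorElement

namespace CL.OW
open CL.Char CL.Glb CL.MSS

variable {Γ : Type*} [Group Γ] {L K M T G S C : Subgroup Γ} {p : ℕ}

theorem exists_hom_sup (hS : S ≤ normalizer (K : Set Γ)) {A : Type*} [Group A] (μ : S →* A)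
    (hμ : ∀ s : S, (s : Γ) ∈ K → μ s = 1) : ∃ lam : (K ⊔ S : Subgroup Γ) →* A,
      (∀ g : (K ⊔ S : Subgroup Γ), (g : Γ) ∈ K → lam g = 1) ∧
        ∀ s, lam (inclusion le_sup_right s) = μ s := by
  have h1 : ∀ g : (K ⊔ S : Subgroup Γ), ∃ s : S, (g : Γ) * (s : Γ)⁻¹ ∈ K := fun g => by
    obtain ⟨k, hk, s, hs, h⟩ := mem_sup_norm hS g.2
    exact ⟨⟨s, hs⟩, by simpa [h] using hk⟩
  choose f hf using h1
  have h2 : ∀ (g : (K ⊔ S : Subgroup Γ)) (s : S), (g : Γ) * (s : Γ)⁻¹ ∈ K → μ (f g) = μ s :=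
    fun g s hs => by
    rw [← mul_inv_eq_one, ← map_inv, ← map_mul]
    exact hμ _ (by simpa [mul_assoc] using K.mul_mem (K.inv_mem (hf g)) hs)
  refine ⟨MonoidHom.mk' (fun g => μ (f g)) fun a b => ?_, fun g hg => ?_, fun s => ?_⟩
  · rw [← map_mul]
    refine h2 _ _ ?_
    simpa [mul_assoc] using K.mul_mem (hf a) (conj_mem_of_norm (hS (f a).2) (hf b))
  · exact (h2 g 1 (by simpa using hg)).trans (map_one μ)
  · exact h2 _ s (by simp)

theorem exists_equiv_of_rel {A B : Type*} (r : A → B → Prop) (h1 : ∀ a, ∃ b, r a b)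
    (h2 : ∀ b, ∃ a, r a b) (h3 : ∀ a b b', r a b → r a b' → b = b')
    (h4 : ∀ a a' b, r a b → r a' b → a = a') : ∃ e : A ≃ B, ∀ a, r a (e a) := by
  choose f hf using h1
  exact ⟨Equiv.ofBijective f ⟨fun a a' h => h4 a a' _ (hf a) (h ▸ hf a'), fun b =>
    (h2 b).imp fun a ha => h3 a _ _ (hf a) ha⟩, hf⟩

variable [Finite Γ]

theorem relIndex_eq_pow [hp : Fact p.Prime] (h : K ≤ M) (hM : M ≤ normalizer (K : Set Γ)) {a : ℕ}
    (ha : ∀ g ∈ M, g ^ p ^ a ∈ K) : ∃ b, K.relIndex M = p ^ b := by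
  have := (normal_subgroupOf_iff_le_normalizer h).mpr hM
  refine IsPGroup.iff_card.1 (show IsPGroup p (M ⧸ K.subgroupOf M) from fun x => ?_)
  obtain ⟨x, rfl⟩ := QuotientGroup.mk_surjective x
  exact ⟨a, by rw [← QuotientGroup.mk_pow, QuotientGroup.eq_one_iff]; exact ha x x.2⟩

omit [Finite Γ] in
theorem pow_relIndex_mem (h : K ≤ M) (hM : M ≤ normalizer (K : Set Γ)) {g : Γ} (hg : g ∈ M) :
    g ^ K.relIndex M ∈ K := by
  have := (normal_subgroupOf_iff_le_normalizer h).mpr hM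
  exact (K.subgroupOf M).pow_index_mem ⟨g, hg⟩

theorem exists_compl_amb [hp : Fact p.Prime] (h : C ≤ M) (h' : M ≤ T)
    (hC : T ≤ normalizer (C : Set Γ)) (hM : T ≤ normalizer (M : Set Γ)) {a : ℕ}
    (ha : ∀ g ∈ M, g ^ p ^ a ∈ C) (hi : ¬ p ∣ M.relIndex T) : ∃ (B : Subgroup Γ) (m : ℕ),
      C ≤ B ∧ B ≤ T ∧ ¬ p ∣ m ∧ (∀ b ∈ B, b ^ m ∈ C) ∧ ∀ t ∈ T, ∃ g ∈ M, ∃ b ∈ B, t = g * b := by
  have := (normal_subgroupOf_iff_le_normalizer (h.trans h')).mpr hC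
  have := (normal_subgroupOf_iff_le_normalizer h').mpr hM
  let π := QuotientGroup.mk' (C.subgroupOf T)
  have hπ : ∀ y : T, π y = 1 ↔ (y : Γ) ∈ C := fun y => QuotientGroup.eq_one_iff y
  have hs : Function.Surjective π := QuotientGroup.mk'_surjective _
  have : ((M.subgroupOf T).map π).Normal := Normal.map inferInstance π hs
  have h1 : ((M.subgroupOf T).map π).index = M.relIndex T :=
    index_map_eq _ hs fun y hy => h ((hπ y).1 hy)
  have h2 : IsPGroup p ((M.subgroupOf T).map π) := by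
    rintro ⟨_, y, hy, rfl⟩
    exact ⟨a, Subtype.ext ((map_pow π y _).symm.trans ((hπ _).2 (ha y hy)))⟩
  obtain ⟨b, hb⟩ := IsPGroup.iff_card.1 h2
  obtain ⟨H, hH⟩ := exists_right_complement'_of_coprime (N := (M.subgroupOf T).map π) (by
    rw [hb, h1]; exact Nat.Coprime.pow_left _ ((Nat.Prime.coprime_iff_not_dvd hp.out).2 hi))
  refine ⟨(H.comap π).map T.subtype, Nat.card H, fun c hc => ⟨⟨c, h' (h hc)⟩, ?_, rfl⟩,
    map_subtype_le _, by rwa [← hH.symm.index_eq_card, h1], ?_, fun t ht => ?_⟩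
  · show π _ ∈ H
    rw [(hπ _).2 hc]; exact one_mem H
  · rintro _ ⟨y, hy, rfl⟩
    exact (hπ (y ^ Nat.card H)).1 ((map_pow π y _).trans
      (congrArg Subtype.val (pow_card_eq_one' (x := (⟨π y, hy⟩ : H)))))
  · obtain ⟨⟨⟨_, g, hg, rfl⟩, y⟩, h3⟩ := hH.2 (π ⟨t, ht⟩)
    refine ⟨g, hg, (g⁻¹ * ⟨t, ht⟩ : T), ⟨g⁻¹ * ⟨t, ht⟩, ?_, rfl⟩, by simp⟩
    show π _ ∈ H
    rw [map_mul, map_inv, ← h3]
    simp

theorem res_eq_of_pow [hp : Fact p.Prime] {h : K ≤ M} (hM : M ≤ normalizer (K : Set Γ)) {a : ℕ}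
    (ha : ∀ g ∈ M, g ^ p ^ a ∈ K) {ψ : M → ℂ} (hψ : IsIrrCharacter M ψ) {θ : K → ℂ}
    (hθ : IsIrrCharacter K θ) (ho : Ov h ψ θ) (hd : ¬ p ∣ charDegree ψ ∨
      (M ≤ stab K θ ∧ Rel p (inclusion h) ψ θ)) (k : K) : ψ (inclusion h k) = θ k := by
  obtain ⟨e, he, h1, h2⟩ := degree_amb hM hψ hθ ho
  obtain ⟨b, hb⟩ := relIndex_eq_pow h hM ha
  have h3 : e * (stab K θ).relIndex M = 1 := by
    refine Nat.eq_one_of_dvd_coprimes (Nat.Coprime.pow_left b
      ((Nat.Prime.coprime_iff_not_dvd hp.out).2 fun h0 => ?_)) (hb ▸ h2) dvd_rfl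
    rcases hd with hd | ⟨hd, m, hm, hm'⟩
    · exact hd (h1 ▸ h0.mul_right _)
    · rw [relIndex_eq_one.2 hd, mul_one, Nat.cast_injective (R := ℂ) (he.symm.trans hm)] at h0
      exact hm' h0
  rw [res_eq_of_IS hθ (relIndex_eq_one.1 (Nat.eq_one_of_mul_eq_one_left h3)) hψ ho, he,
    Nat.eq_one_of_mul_eq_one_right h3, Nat.cast_one, one_mul]

theorem irr_res_of_not_dvd [hp : Fact p.Prime] (h : K ≤ M) (hM : M ≤ normalizer (K : Set Γ))
    {a : ℕ} (ha : ∀ g ∈ M, g ^ p ^ a ∈ K) {ψ : M → ℂ} (hψ : IsIrrCharacter M ψ)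
    (hd : ¬ p ∣ charDegree ψ) : IsIrrCharacter K fun k => ψ (inclusion h k) := by
  obtain ⟨θ, hθ, ho⟩ := exists_under h hψ
  rwa [funext (res_eq_of_pow hM ha hψ hθ ho (Or.inl hd))]

theorem detHom_comp {A B : Type*} [Group A] [Group B] [Finite A] [Finite B] {χ : A → ℂ}
    (hχ : IsCharacter A χ) (f : B →* A) (x : B) :
    detHom (fun x => χ (f x)) x = detHom χ (f x) :=
  Units.ext (hχ.detChar_comp f x)

theorem detHom_hom_mul {A : Type*} [Group A] [Finite A] {χ : A → ℂ} (hχ : IsCharacter A χ)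
    (lam : A →* ℂˣ) (g : A) :
    detHom (fun g => lam g * χ g) g = lam g ^ charDegree χ * detHom χ g :=
  Units.ext (hχ.detChar_hom_mul hχ.apply_one_eq_charDegree lam g)

theorem detHom_gal {A : Type*} [Group A] [Finite A] {χ : A → ℂ} (hχ : IsCharacter A χ)
    (σ : ℂ →+* ℂ) (g : A) : (detHom (fun g => σ (χ g)) g : ℂ) = σ (detHom χ g) := by
  obtain ⟨n, ρ, rfl⟩ := hχ
  rw [← funext (galRep_character σ ρ), detHom_apply, detHom_apply, detChar_character,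
    detChar_character, det_galRep]

theorem det_res_inv {h : L ≤ M} {ν : L → ℂ} (hν : IsIrrCharacter L ν) (hM : M ≤ stab L ν)
    {ψ : M → ℂ} (hψ : IsIrrCharacter M ψ) (ho : Ov h ψ ν) : ∃ e : ℕ,
      charDegree ψ = e * charDegree ν ∧ ∀ l, detHom ψ (inclusion h l) = detHom ν l ^ e := by
  obtain ⟨e, he, h1, -⟩ := degree_amb (fun _ hg => (hM hg).1) hψ hν ho
  rw [relIndex_eq_one.2 hM, mul_one] at h1
  refine ⟨e, h1, fun l => ?_⟩
  have h2 : (fun k => ψ (inclusion h k)) = (e : ℂ) • ν :=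
    funext fun k => by rw [res_eq_of_IS hν hM hψ ho, he]; rfl
  rw [← detHom_comp hψ.isCharacter, h2]
  exact Units.ext (congrFun (hν.isCharacter.detChar_natCast_smul e) l)

theorem exists_hom_of_res_eq {h : K ≤ M} (hM : M ≤ normalizer (K : Set Γ)) {η η' : M → ℂ}
    (hη : IsCharacter M η) (hη' : IsCharacter M η')
    (hirr : IsIrrCharacter K fun k => η (inclusion h k))
    (he : ∀ k, η' (inclusion h k) = η (inclusion h k)) :
    ∃ lam : M →* ℂˣ, (∀ g : M, (g : Γ) ∈ K → lam g = 1) ∧ η' = fun g => lam g * η g := by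
  have := inclusion_range_normal h hM
  obtain ⟨lam, h1, h2⟩ := exists_hom_mul (inclusion_injective h) hη' hη (by rwa [funext he]) he
  exact ⟨lam, fun g hg => h1 ⟨g, hg⟩, funext h2⟩

theorem eq_of_det [hp : Fact p.Prime] (hS : IsPGroup p S) (hSK : S ≤ normalizer (K : Set Γ))
    {η η' : (K ⊔ S : Subgroup Γ) → ℂ} (hη : IsCharacter _ η) (hη' : IsCharacter _ η')
    (hirr : IsIrrCharacter K fun k => η (inclusion le_sup_left k))
    (he : ∀ k, η' (inclusion le_sup_left k) = η (inclusion le_sup_left k))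
    (hd : ¬ p ∣ charDegree η) {d : ℕ} (hd' : ¬ p ∣ d)
    (hdet : ∀ s, detHom η' (inclusion le_sup_right s) ^ d =
      detHom η (inclusion le_sup_right s) ^ d) : η' = η := by
  obtain ⟨lam, h1, rfl⟩ := exists_hom_of_res_eq (sup_le le_normalizer hSK) hη hη' hirr he
  have h2 : ∀ s : S, lam (inclusion le_sup_right s) = 1 := fun s => by
    obtain ⟨a, ha⟩ := hS s
    have h3 := hdet s
    rw [detHom_hom_mul hη, mul_pow, mul_eq_right, ← pow_mul] at h3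
    refine mem_bot.1 (mem_of_coprime_pow_mem ⊥ (Nat.Coprime.pow_left a
      ((Nat.Prime.coprime_iff_not_dvd hp.out).2 fun h0 => (hp.out.dvd_mul.1 h0).elim hd hd')) ?_ h3)
    rw [← map_pow, ← map_pow, ha, map_one, map_one]
    exact one_mem _
  funext g
  obtain ⟨k, hk, s, hs, h3⟩ := mem_sup_norm hSK g.2
  rw [show lam g = lam (⟨k, mem_sup_left hk⟩ * inclusion le_sup_right ⟨s, hs⟩) from
    congrArg lam (Subtype.ext h3), map_mul, h1 _ hk, h2, one_mul, Units.val_one, one_mul]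

theorem exists_of_det [hp : Fact p.Prime] (hS : IsPGroup p S) (hSK : S ≤ normalizer (K : Set Γ))
    {η : (K ⊔ S : Subgroup Γ) → ℂ} (hη : IsIrrCharacter _ η) (hd : ¬ p ∣ charDegree η) {d : ℕ}
    (hd' : ¬ p ∣ d) (μ : S →* ℂˣ)
    (hμ : ∀ s : S, (s : Γ) ∈ K → μ s = detHom η (inclusion le_sup_right s) ^ d) :
    ∃ η' : (K ⊔ S : Subgroup Γ) → ℂ, IsIrrCharacter _ η' ∧
      (∀ k, η' (inclusion le_sup_left k) = η (inclusion le_sup_left k)) ∧
      ∀ s, detHom η' (inclusion le_sup_right s) ^ d = μ s := by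
  obtain ⟨lam, h1, h2⟩ := exists_hom_sup hSK
    (μ / ((detHom η).comp (inclusion le_sup_right)) ^ d) fun s hs => by simp [hμ s hs]
  obtain ⟨a, ha⟩ := IsPGroup.iff_card.1 hS
  obtain ⟨k, -, hk⟩ := Nat.exists_mul_mod_eq_of_coprime 1 (Nat.Coprime.pow_right a
    ((Nat.Prime.coprime_iff_not_dvd hp.out).2 fun h0 =>
      (hp.out.dvd_mul.1 h0).elim hd hd').symm) (pow_ne_zero a hp.out.ne_zero)
  refine ⟨_, hη.hom_mul (lam ^ k), fun g => by
    simp [h1 (inclusion le_sup_left g) g.2], fun s => ?_⟩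
  have h3 : lam (inclusion le_sup_right s) ^ p ^ a = 1 := by
    rw [← map_pow, ← map_pow, ← ha, pow_card_eq_one', map_one, map_one]
  rw [detHom_hom_mul hη.isCharacter, mul_pow, MonoidHom.pow_apply, ← pow_mul, ← pow_mul, mul_comm k,
    pow_eq_pow_mod _ h3, hk, ← pow_eq_pow_mod _ h3, pow_one, h2]
  simp

theorem exists_ext_amb [hp : Fact p.Prime] (h : K ≤ M) {θ : K → ℂ} (hθ : IsIrrCharacter K θ)
    (hM : M ≤ stab K θ) {a : ℕ} (ha : ∀ g ∈ M, g ^ p ^ a ∈ K) (hd : ¬ p ∣ charDegree θ) {m : ℕ}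
    (hm : ¬ p ∣ m) (τ : M →* ℂˣ) (hτ : ∀ k, τ (inclusion h k) = detHom θ k ^ m) :
    ∃ η : M → ℂ, IsIrrCharacter M η ∧ ∀ k, η (inclusion h k) = θ k := by
  have hN : M ≤ normalizer (K : Set Γ) := fun _ hg => (hM hg).1
  have := (normal_subgroupOf_iff_le_normalizer h).mpr hN
  obtain ⟨b, hb⟩ := relIndex_eq_pow h hN ha
  have hc : ∀ {m}, ¬ p ∣ m → (K.subgroupOf M).index.Coprime m := fun hm =>
    (show (K.subgroupOf M).index = p ^ b from hb) ▸ Nat.Coprime.pow_left b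
      ((Nat.Prime.coprime_iff_not_dvd hp.out).2 hm)
  have hinv := inertia_eq_top_iff.1 (inertia_subOf_eq h hN θ ▸ subgroupOf_eq_top.2 hM)
  obtain ⟨δ, hδ⟩ := exists_hom_ext_of_pow _ (detHom (subOf K M θ))
    (fun g n => Units.ext ((hθ.subOf h).isCharacter.detChar_invariant g (hinv g) n)) (hc hm) τ
    fun n => (hτ (subgroupOfEquivOfLe h n)).trans (by
      rw [subOf_eq_comp h]
      exact congrArg (· ^ m) (detHom_comp hθ.isCharacter (subgroupOfEquivOfLe h).toMonoidHom n).symm)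
  obtain ⟨η, hη, h1⟩ := exists_ext_of_det _ (hθ.subOf h) hinv
    ((subOf_one θ).trans hθ.apply_one_eq_charDegree) (hc hd) δ hδ
  exact ⟨η, hη, fun k => h1 ⟨⟨k, h k.2⟩, k.2⟩⟩

theorem exists_transfer_amb (h : L ≤ T) (h' : T ≤ M) (hM : M ≤ normalizer (L : Set Γ))
    (lam : L →* ℂˣ) (hl : ∀ g ∈ M, ∀ a b : L, (b : Γ) = g * a * g⁻¹ → lam b = lam a)
    (μ : T →* ℂˣ) (hμ : ∀ l, μ (inclusion h l) = lam l) :
    ∃ τ : M →* ℂˣ, ∀ l, τ (inclusion (h.trans h') l) = lam l ^ T.relIndex M := by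
  have := (normal_subgroupOf_iff_le_normalizer (h.trans h')).mpr hM
  obtain ⟨τ, hτ⟩ := mem_extendible.1 (pow_index_mem_extendible_of_le (L.subgroupOf M)
    (lam.comp (subgroupOfEquivOfLe (h.trans h')).toMonoidHom) (fun g n => hl g g.2 _ _ rfl)
    (T.subgroupOf M) (fun _ hx => h hx) (μ.comp (subgroupOfEquivOfLe h').toMonoidHom)
    fun n => hμ (subgroupOfEquivOfLe (h.trans h') n))
  exact ⟨τ, fun l => hτ ⟨⟨l, h' (h l.2)⟩, l.2⟩⟩

end CL.OW
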