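import Cfsg.Agent.BLK.OW
import Cfsg.Agent.TECH.SylIn
import Cfsg.Agent.CHAR.Triple
import Cfsg.Agent.CHAR.Faithful

/-! Clifford theory inside an ambient group, and counting characters of `p'`-degree through their
invariant constituents. -/

set_option autoImplicit false
open Cfsg Subgroup
open scoped ComplexConjugate commutatorElement

namespace CL.OW
open CL.Char CL.Glb CL.MSS

variable {Γ : Type*} [Group Γ] [Finite Γ]

noncomputable scoped instance (priority := low) ftSub (H : Subgroup Γ) : Fintype H :=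
  Fintype.ofFinite H

variable {L K T G S : Subgroup Γ} {p : ℕ}

theorem exists_between {h : L ≤ T} {h' : T ≤ G} {χ : G → ℂ} (hχ : IsCharacter G χ) {ν : L → ℂ}
    (hν : IsCharacter L ν) (ho : Ov (h.trans h') χ ν) :
    ∃ ψ, IsIrrCharacter T ψ ∧ Ov h' χ ψ ∧ Ov h ψ ν := by
  have h1 := mult_comp (inclusion h) (hχ.comp (inclusion h')) hν
  have h2 : mult (fun c => χ (inclusion h' (inclusion h c))) ν ≠ 0 := fun h0 =>
    ho ((inner_eq_mult (hχ.comp _) hν).trans (Nat.cast_eq_zero.2 h0))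
  obtain ⟨ψ, -, h3⟩ := Finset.exists_ne_zero_of_sum_ne_zero (h1 ▸ h2)
  refine ⟨ψ, ψ.2, fun h0 => left_ne_zero_of_mul h3 ?_, fun h0 => right_ne_zero_of_mul h3 ?_⟩
  · exact mult_eq (h0.trans Nat.cast_zero.symm)
  · exact mult_eq (h0.trans Nat.cast_zero.symm)

omit [Finite Γ] in
theorem inertia_subOf_eq (h : K ≤ G) (hN : G ≤ normalizer (K : Set Γ)) [(K.subgroupOf G).Normal]
    (θ : K → ℂ) : inertia (K.subgroupOf G) (subOf K G θ) = (stab K θ).subgroupOf G :=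
  inertia_eq_of_iff fun g => ⟨fun hg _ => hg.2 _ _ rfl, fun hg => ⟨hN g.2, fun n _ hn =>
    Eq.trans (congrArg θ (Subtype.ext hn)) (hg ⟨⟨n, h n.2⟩, n.2⟩)⟩⟩

theorem degree_amb {h : K ≤ G} (hN : G ≤ normalizer (K : Set Γ)) {χ : G → ℂ}
    (hχ : IsIrrCharacter G χ) {θ : K → ℂ} (hθ : IsIrrCharacter K θ) (ho : Ov h χ θ) :
    ∃ e : ℕ, classInner (fun k => χ (inclusion h k)) θ = e ∧
      charDegree χ = e * (stab K θ).relIndex G * charDegree θ ∧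
      e * (stab K θ).relIndex G ∣ K.relIndex G := by
  have := (normal_subgroupOf_iff_le_normalizer h).mpr hN
  obtain ⟨e, he⟩ := (hχ.isCharacter.comp (inclusion h)).exists_nat_inner hθ.isCharacter
  have he' : classInner (fun n : K.subgroupOf G => χ n) (subOf K G θ) = e :=
    (classInner_res_subOf h χ θ).trans he
  have he0 : e ≠ 0 := by rintro rfl; exact ho (he.trans Nat.cast_zero)
  have h1 := clifford_degree hχ (hθ.subOf h) (by rw [he']; exact Nat.cast_ne_zero.2 he0)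
  have h2 := inner_res_dvd_relIndex hχ (hθ.subOf h) he' he0
  have h3 := relIndex_mul_index (le_inertia (hθ.subOf h).isClassFunction)
  rw [inertia_subOf_eq h hN] at h1 h2 h3
  refine ⟨e, he, charDegree_eq_of_apply_one ?_, ?_⟩
  · rw [h1, he', subOf_one, hθ.isCharacter.apply_one_eq_charDegree]
    push_cast
    rfl
  · exact (Nat.mul_dvd_mul_right h2 _).trans (dvd_of_eq h3)

theorem degree_dvd_amb {h : K ≤ G} (hN : G ≤ normalizer (K : Set Γ)) {χ : G → ℂ}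
    (hχ : IsIrrCharacter G χ) {θ : K → ℂ} (hθ : IsIrrCharacter K θ) (ho : Ov h χ θ) :
    charDegree θ ∣ charDegree χ := by
  obtain ⟨e, -, h1, -⟩ := degree_amb hN hχ hθ ho
  exact Dvd.intro_left _ h1.symm

theorem not_dvd_degree_amb (hp : p.Prime) {h : K ≤ G} (hN : G ≤ normalizer (K : Set Γ))
    (hi : ¬ p ∣ K.relIndex G) {χ : G → ℂ} (hχ : IsIrrCharacter G χ) {θ : K → ℂ}
    (hθ : IsIrrCharacter K θ) (ho : Ov h χ θ) (hd : ¬ p ∣ charDegree θ) : ¬ p ∣ charDegree χ := by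
  obtain ⟨e, -, h1, h2⟩ := degree_amb hN hχ hθ ho
  rw [h1]
  exact fun h0 => (hp.dvd_mul.1 h0).elim (fun h3 => hi (h3.trans h2)) hd

theorem clifford_amb {h : L ≤ T} (h' : T ≤ G) (hN : G ≤ normalizer (L : Set Γ)) {ν : L → ℂ}
    (hν : IsIrrCharacter L ν) (hT : G ⊓ stab L ν ≤ T) {ψ : T → ℂ} (hψ : IsIrrCharacter T ψ)
    (h1 : Ov h ψ ν) {χ : G → ℂ} (hχ : IsIrrCharacter G χ) (h2 : Ov h' χ ψ) :
    charDegree χ = T.relIndex G * charDegree ψ ∧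
      ∀ ψ', IsIrrCharacter T ψ' → Ov h ψ' ν → Ov h' χ ψ' → ψ' = ψ := by
  have := (normal_subgroupOf_iff_le_normalizer (h.trans h')).mpr hN
  have hle : L.subgroupOf G ≤ T.subgroupOf G := fun _ hx => h hx
  have hi : inertia (L.subgroupOf G) (subOf L G ν) ≤ T.subgroupOf G := by
    rw [inertia_subOf_eq (h.trans h') hN]
    exact fun g hg => hT ⟨g.2, hg⟩
  have key : ∀ ψ', IsIrrCharacter T ψ' → Ov h ψ' ν → Ov h' χ ψ' →
      indFun (T.subgroupOf G) (subOf T G ψ') = χ ∧ classInner (fun n : L.subgroupOf G =>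
        subOf T G ψ' ⟨n, hle n.2⟩) (subOf L G ν) ≠ 0 := fun ψ' h3 h4 h5 => by
    have h6 : classInner (fun n : L.subgroupOf G => subOf T G ψ' ⟨n, hle n.2⟩) (subOf L G ν) ≠ 0 :=
      fun h0 => h4 ((classInner_subOf (h.trans h') (fun n => ψ' (inclusion h n)) ν).symm.trans h0)
    exact ⟨(clifford_corr_aux hle (hν.subOf (h.trans h')) hi (h3.subOf h') h6 hχ
      (by rwa [classInner_res_subOf h'])).1, h6⟩
  obtain ⟨h3, h4⟩ := key ψ hψ h1 h2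
  refine ⟨?_, fun ψ' h5 h6 h7 => ?_⟩
  · rw [← h3, charDegree_indFun _ (hψ.subOf h').isCharacter]
    rfl
  · obtain ⟨h8, h9⟩ := key ψ' h5 h6 h7
    exact subOf_injective h' (clifford_ind_inj hle (hν.subOf (h.trans h')) hi (h5.subOf h')
      (hψ.subOf h') h9 h4 (h8.trans h3.symm))

/-- The Clifford correspondence as a count. -/
theorem card_clifford {h : L ≤ T} (h' : T ≤ G) (hN : G ≤ normalizer (L : Set Γ)) {ν : L → ℂ}
    (hν : IsIrrCharacter L ν) (hT : G ⊓ stab L ν ≤ T) (X : (G → ℂ) → Prop) (Y : (T → ℂ) → Prop)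
    (hXY : ∀ χ ψ, IsIrrCharacter G χ → IsIrrCharacter T ψ → Ov h ψ ν → Ov h' χ ψ → (X χ ↔ Y ψ)) :
    Nat.card {χ : IrrCharacter G // X χ.1 ∧ Ov (h.trans h') χ.1 ν} =
      Nat.card {ψ : IrrCharacter T // Y ψ.1 ∧ Ov h ψ.1 ν} := by
  choose f hf1 hf2 hf3 using fun χ : {χ : IrrCharacter G // X χ.1 ∧ Ov (h.trans h') χ.1 ν} =>
    exists_between (h := h) (h' := h') χ.1.2.isCharacter hν.isCharacter χ.2.2
  refine Nat.card_eq_of_bijective (fun χ => ⟨⟨f χ, hf1 χ⟩,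
    (hXY _ _ χ.1.2 (hf1 χ) (hf3 χ) (hf2 χ)).1 χ.2.1, hf3 χ⟩) ⟨fun χ χ' he => ?_, fun ψ => ?_⟩
  · have he' : f χ = f χ' := congrArg (fun a => a.1.1) he
    obtain ⟨_, -, -, h1⟩ := exists_unique_ov h' hN hν hT (hf1 χ) (hf3 χ)
    exact Subtype.ext (Subtype.ext ((h1 _ χ.1.2 (hf2 χ)).trans (h1 _ χ'.1.2 (he' ▸ hf2 χ')).symm))
  · obtain ⟨χ, hχ, h1⟩ := exists_ov h' ψ.1.2
    let a : {χ : IrrCharacter G // X χ.1 ∧ Ov (h.trans h') χ.1 ν} :=
      ⟨⟨χ, hχ⟩, (hXY _ _ hχ ψ.1.2 ψ.2.2 h1).2 ψ.2.1,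
        h1.trans hχ.isCharacter ψ.1.2 hν.isCharacter ψ.2.2⟩
    exact ⟨a, Subtype.ext (Subtype.ext
      ((clifford_amb h' hN hν hT ψ.1.2 ψ.2.2 hχ h1).2 _ (hf1 a) (hf3 a) (hf2 a)))⟩

omit [Finite Γ] in
theorem mem_stab_cj {θ : K → ℂ} {g x : Γ} (hg : g ∈ normalizer (K : Set Γ)) :
    x ∈ stab K (fun k => θ (cjE K hg k)) ↔ g * x * g⁻¹ ∈ stab K θ := by
  refine ⟨fun h => ⟨mul_mem (mul_mem hg h.1) (inv_mem hg), fun a b hab => ?_⟩, fun h =>
    ⟨by simpa [mul_assoc] using mul_mem (mul_mem (inv_mem hg) h.1) hg, fun a b hab =>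
      h.2 _ _ (by rw [coe_cjE, coe_cjE, hab]; group)⟩⟩
  have := h.2 ((cjE K hg).symm a) ((cjE K hg).symm b) (by
    have h1 := coe_cjE K hg ((cjE K hg).symm a)
    have h2 := coe_cjE K hg ((cjE K hg).symm b)
    rw [MulEquiv.apply_symm_apply] at h1 h2
    rw [h1, h2] at hab
    calc _ = g⁻¹ * (g * ((cjE K hg).symm b : Γ) * g⁻¹) * g := by group
      _ = _ := by rw [hab]; group)
  simpa using this

omit [Finite Γ] in
theorem Ov_cj_right [Fintype K] {h : K ≤ G} {χ : G → ℂ} (hχ : IsClassFunction G χ) {θ : K → ℂ}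
    (ho : Ov h χ θ) {g : Γ} (hg : g ∈ G) (hg' : g ∈ normalizer (K : Set Γ)) :
    Ov h χ fun k => θ (cjE K hg' k) := by
  have := ho.cj (le_normalizer hg) hg'
  rwa [(IS_self G hχ).cj hg] at this

variable [hp : Fact p.Prime]

theorem exists_inv_under {h : K ≤ G} (hN : G ≤ normalizer (K : Set Γ)) (hS : SylIn p S G)
    {χ : G → ℂ} (hχ : IsIrrCharacter G χ) (hd : ¬ p ∣ charDegree χ) :
    ∃ θ, IsIrrCharacter K θ ∧ Ov h χ θ ∧ S ≤ stab K θ := by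
  obtain ⟨θ, hθ, ho⟩ := exists_under h hχ
  obtain ⟨e, -, h1, -⟩ := degree_amb hN hχ hθ ho
  obtain ⟨R, hR⟩ := exists_sylIn p (G ⊓ stab K θ)
  have h2 : SylIn p R G := sylIn_of_not_dvd_relIndex hR.pgroup (hR.le.trans inf_le_left) (by
    rw [← relIndex_mul_relIndex R _ G hR.le inf_le_left, inf_relIndex_left]
    exact fun h0 => (hp.out.dvd_mul.1 h0).elim hR.not_dvd_relIndex fun h3 =>
      hd (h1 ▸ (h3.mul_left e).mul_right _))
  obtain ⟨x, hx, h3⟩ := hS.exists_conj h2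
  exact ⟨_, hθ.comp_mulEquiv (cjE K (hN hx)), Ov_cj_right hχ.isClassFunction ho hx _,
    fun s hs => (mem_stab_cj _).2 (hR.le (h3.le ⟨s, hs, rfl⟩)).2⟩

theorem exists_cj_of_inv {h : K ≤ G} (hN : G ≤ normalizer (K : Set Γ)) (hS : SylIn p S G)
    {χ : G → ℂ} (hχ : IsIrrCharacter G χ) {θ φ : K → ℂ} (hθ : IsIrrCharacter K θ)
    (hφ : IsIrrCharacter K φ) (h1 : Ov h χ θ) (h2 : Ov h χ φ) (h3 : S ≤ stab K θ)
    (h4 : S ≤ stab K φ) : ∃ (g : Γ) (hg : g ∈ G), g ∈ normalizer (S : Set Γ) ∧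
      φ = fun k => θ (cjE K (hN hg) k) := by
  obtain ⟨g, hg, rfl⟩ := exists_cj_of_ov hN hχ hθ hφ h1 h2
  obtain ⟨t, ht, h5⟩ := ((hS.cj_of_mem hg).inf_of_le (K := stab K θ) (by
    rintro _ ⟨s, hs, rfl⟩
    exact (mem_stab_cj _).1 (h4 hs))).exists_conj (hS.inf_of_le h3)
  refine ⟨t * g, mul_mem ht.1 hg, mem_normalizer_fintype fun s hs =>
    h5.le ⟨_, ⟨s, hs, rfl⟩, by simp [mul_assoc]⟩, funext fun k => ?_⟩
  exact (ht.2.2 _ _ (by simp [coe_cjE, mul_assoc])).symm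

theorem card_inv_under {h : K ≤ G} (hN : G ≤ normalizer (K : Set Γ)) (hS : SylIn p S G)
    {χ : G → ℂ} (hχ : IsIrrCharacter G χ) {θ : K → ℂ} (hθ : IsIrrCharacter K θ) (h1 : Ov h χ θ)
    (h3 : S ≤ stab K θ) : Nat.card {φ : IrrCharacter K // S ≤ stab K φ.1 ∧ Ov h χ φ.1} =
      (stab K θ).relIndex (G ⊓ normalizer (S : Set Γ)) := by
  have hle : G ⊓ normalizer (S : Set Γ) ≤ normalizer (K : Set Γ) := inf_le_left.trans hN
  let := irrAct hle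
  have hsm : ∀ (x : (G ⊓ normalizer (S : Set Γ) : Subgroup Γ)) (φ : IrrCharacter K),
    x • φ = cjI (hle x⁻¹.2) φ := fun _ _ => rfl
  have h4 : (stab K θ).subgroupOf (G ⊓ normalizer (S : Set Γ)) =
      MulAction.stabilizer _ (⟨θ, hθ⟩ : IrrCharacter K) := by
    ext x
    rw [MulAction.mem_stabilizer_iff, mem_subgroupOf, ← inv_mem_iff, hsm]
    refine ⟨fun hx => Subtype.ext (funext fun k => hx.2 _ _ rfl), fun hx => ⟨hle x⁻¹.2, ?_⟩⟩
    intro a b hab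
    exact Eq.trans (congrArg θ (Subtype.ext hab)) (congrFun (congrArg Subtype.val hx) a)
  rw [relIndex, h4, MulAction.index_stabilizer, ← Nat.card_coe_set_eq]
  refine Nat.card_congr (Equiv.subtypeEquivRight fun φ => ⟨fun hφ => ?_, ?_⟩)
  · obtain ⟨g, hg, hg', h5⟩ := exists_cj_of_inv hN hS hχ hθ φ.2 h1 hφ.2 h3 hφ.1
    exact ⟨⟨g, hg, hg'⟩⁻¹, Subtype.ext (h5.symm ▸ funext fun k => congrArg θ (Subtype.ext
      (by simp [coe_cjE])))⟩
  · rintro ⟨x, rfl⟩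
    exact ⟨fun s hs => (mem_stab_cj _).2 (h3 (conj_mem_of_norm x⁻¹.2.2 hs)),
      Ov_cj_right hχ.isClassFunction h1 x⁻¹.2.1 _⟩

theorem card_eq_sum_div {A B : Type*} [Finite A] [Fintype B] (r : A → B → Prop) (w : B → ℕ)
    (h1 : ∀ a, ∃ b, r a b) (h2 : ∀ a b, r a b → Nat.card {b' // r a b'} = w b) :
    (Nat.card A : ℚ) = ∑ b, (Nat.card {a // r a b} : ℚ) / w b := by
  classical
  have := Fintype.ofFinite A
  have h3 : ∀ a, ∑ b, (if r a b then (w b : ℚ)⁻¹ else 0) = 1 := fun a => by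
    obtain ⟨b, hb⟩ := h1 a
    have h4 : w b ≠ 0 := by
      rw [← h2 a b hb]
      exact (Nat.card_pos_iff.2 ⟨⟨⟨b, hb⟩⟩, inferInstance⟩).ne'
    rw [Finset.sum_congr rfl fun b' _ => if_ctx_congr Iff.rfl
      (fun h => by rw [← h2 a b' h, h2 a b hb]) fun _ => rfl, ← Finset.sum_filter,
      Finset.sum_const, ← Fintype.card_subtype, ← Nat.card_eq_fintype_card, h2 a b hb,
      nsmul_eq_mul, mul_inv_cancel₀ (Nat.cast_ne_zero.2 h4)]
  rw [Nat.card_eq_fintype_card, Fintype.card_eq_sum_ones, Nat.cast_sum]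
  rw [Finset.sum_congr rfl fun a _ => Nat.cast_one.trans (h3 a).symm, Finset.sum_comm]
  refine Finset.sum_congr rfl fun b _ => ?_
  rw [← Finset.sum_filter, Finset.sum_const, ← Fintype.card_subtype, ← Nat.card_eq_fintype_card,
    nsmul_eq_mul, div_eq_mul_inv]

open Classical in
/-- Counting characters of `p'`-degree through their invariant constituents. -/
theorem card_eq_sum_inv {h : K ≤ G} (hN : G ≤ normalizer (K : Set Γ)) (hS : SylIn p S G)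
    (Z Y : (G → ℂ) → Prop) (hZ : ∀ χ, Z χ → ¬ p ∣ charDegree χ) (X : (K → ℂ) → Prop)
    (hXY : ∀ χ θ, IsIrrCharacter G χ → IsIrrCharacter K θ → Z χ → Ov h χ θ → (Y χ ↔ X θ)) :
    (Nat.card {χ : IrrCharacter G // Z χ.1 ∧ Y χ.1} : ℚ) =
      ∑ θ : {θ : IrrCharacter K // S ≤ stab K θ.1 ∧ X θ.1},
        (Nat.card {χ : IrrCharacter G // Z χ.1 ∧ Ov h χ.1 θ.1.1} : ℚ) /
          (stab K θ.1.1).relIndex (G ⊓ normalizer (S : Set Γ)) := by
  rw [card_eq_sum_div (fun (χ : {χ : IrrCharacter G // Z χ.1 ∧ Y χ.1})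
    (θ : {θ : IrrCharacter K // S ≤ stab K θ.1 ∧ X θ.1}) => Ov h χ.1.1 θ.1.1)
    (fun θ => (stab K θ.1.1).relIndex (G ⊓ normalizer (S : Set Γ))) (fun χ => ?_) fun χ θ ho => ?_]
  · refine Finset.sum_congr rfl fun θ _ => ?_
    congr 2
    exact Nat.card_congr ⟨fun a => ⟨a.1.1, a.1.2.1, a.2⟩, fun a => ⟨⟨a.1, a.2.1,
      (hXY _ _ a.1.2 θ.1.2 a.2.1 a.2.2).2 θ.2.2⟩, a.2.2⟩, fun _ => rfl, fun _ => rfl⟩
  · obtain ⟨θ, hθ, h1, h2⟩ := exists_inv_under (h := h) hN hS χ.1.2 (hZ _ χ.2.1)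
    exact ⟨⟨⟨θ, hθ⟩, h2, (hXY _ _ χ.1.2 hθ χ.2.1 h1).1 χ.2.2⟩, h1⟩
  · rw [← card_inv_under hN hS χ.1.2 θ.1.2 ho θ.2.1]
    exact Nat.card_congr ⟨fun a => ⟨a.1.1, a.1.2.1, a.2⟩, fun a => ⟨⟨a.1, a.2.1,
      (hXY _ _ χ.1.2 a.1.2 χ.2.1 a.2.2).1 χ.2.2⟩, a.2.2⟩, fun _ => rfl, fun _ => rfl⟩

end CL.OW
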