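import Cfsg.Agent.CHAR.Ext
import Cfsg.Agent.CHAR.Gallagher
import Cfsg.Agent.CHAR.CliffordCorr
import Cfsg.Agent.CHAR.Galois
import Cfsg.Agent.CHAR.Quot
import Cfsg.Agent.CHAR.BrauerPerm
import Cfsg.Agent.SOLV.MinNormal

/-! Characters fixed by a field automorphism over a normal subgroup of odd index. -/

set_option autoImplicit false
open Cfsg Subgroup
open scoped ComplexConjugate

namespace CL.OddExt
open CL.Char

universe u

/-- `σ` inverts the `m`-th roots of unity, `m` is odd and kills `G / N`. -/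
structure Hyp {G : Type*} [Group G] (σ : ℂ →+* ℂ) (m : ℕ) (N : Subgroup G) : Prop where
  odd : Odd m
  pow : ∀ g : G, g ^ m ∈ N
  inv : ∀ z : ℂ, z ^ m = 1 → σ z * z = 1

variable {G : Type*} [Group G] {σ : ℂ →+* ℂ} {m : ℕ} {N : Subgroup G}

theorem Hyp.mono (h : Hyp σ m N) {M : Subgroup G} (hM : N ≤ M) : Hyp σ m M :=
  ⟨h.odd, fun g => hM (h.pow g), h.inv⟩

theorem Hyp.subgroupOf (h : Hyp σ m N) (T : Subgroup G) : Hyp σ m (N.subgroupOf T) :=
  ⟨h.odd, fun g => h.pow g, h.inv⟩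

theorem Hyp.hom_pow (h : Hyp σ m N) {lam : G →* ℂˣ} (hl : ∀ n ∈ N, lam n = 1) (g : G) :
    (lam g : ℂ) ^ m = 1 := by
  rw [← Units.val_pow_eq_pow_val, ← map_pow, hl _ (h.pow g), Units.val_one]

theorem Hyp.odd_card [Finite G] [N.Normal] (h : Hyp σ m N) : Odd (Nat.card (G ⧸ N)) := by
  rw [← Nat.not_even_iff_odd, even_iff_two_dvd]
  intro h2
  obtain ⟨x, hx⟩ := exists_prime_orderOf_dvd_card' (G := G ⧸ N) 2 h2
  obtain ⟨g, rfl⟩ := QuotientGroup.mk_surjective x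
  have : orderOf (g : G ⧸ N) ∣ m := orderOf_dvd_of_pow_eq_one (by
    rw [← QuotientGroup.mk_pow, QuotientGroup.eq_one_iff]; exact h.pow g)
  rw [hx] at this
  exact (Nat.not_even_iff_odd.2 h.odd) (even_iff_two_dvd.2 this)

theorem Hyp.eq_one [Finite G] [N.Normal] (h : Hyp σ m N) {β : G → ℂ} (hβ : IsIrrCharacter G β)
    (hN : ∀ n ∈ N, β n = β 1) (hσ : ∀ g, σ (β g) = β g) : β = fun _ => 1 := by
  obtain ⟨ψ, hψ, rfl⟩ := hβ.exists_quot N hN
  obtain ⟨j, hj⟩ : ∃ j, m = j + 1 := ⟨m - 1, by have := h.odd.pos; omega⟩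
  have h1 : ∀ z : ℂ, z ^ m = 1 → σ z = z ^ j := fun z hz => by
    have hz0 : z ≠ 0 := by rintro rfl; simp [hj] at hz
    apply mul_right_cancel₀ hz0
    rw [h.inv z hz, ← pow_succ, ← hj, hz]
  rw [hψ.eq_one_of_real_of_odd h.odd_card fun x => ?_]
  obtain ⟨g, rfl⟩ := QuotientGroup.mk_surjective x
  have h2 : (g : G ⧸ N) ^ m = 1 := by
    rw [← QuotientGroup.mk_pow, QuotientGroup.eq_one_iff]; exact h.pow g
  have h3 := hψ.isCharacter.gal_apply h1 h2
  have h4 : (g : G ⧸ N) ^ j = (g : G ⧸ N)⁻¹ := eq_inv_of_mul_eq_one_left (by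
    rw [← pow_succ, ← hj, h2])
  rw [hσ g, h4, hψ.apply_inv] at h3
  exact Complex.conj_eq_iff_im.1 h3.symm

theorem Hyp.unique [Finite G] [N.Normal] [Fintype N] (h : Hyp σ m N) {χ₀ χ : G → ℂ}
    (h0 : IsCharacter G χ₀) (h0N : IsIrrCharacter N fun n => χ₀ n) (h0σ : ∀ g, σ (χ₀ g) = χ₀ g)
    (hχ : IsIrrCharacter G χ) (hσ : ∀ g, σ (χ g) = χ g)
    (hin : classInner (fun n : N => χ n) (fun n => χ₀ n) ≠ 0) : χ = χ₀ := by
  obtain ⟨β, hβ, hβN, rfl⟩ := gallagher_surj h0 h0N hχ hin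
  have h1 : (fun g => σ (β g)) = β :=
    gallagher_inj h0 h0N (hβ.gal σ) hβ (fun n hn => by rw [hβN n hn]) hβN (funext fun g => by
      have := hσ g
      rw [Pi.mul_apply, map_mul, h0σ] at this
      exact this)
  rw [h.eq_one hβ hβN (congrFun h1)]
  funext g
  simp

theorem Hyp.exists_fixed [Finite G] [N.Normal] (h : Hyp σ m N) {θ : N → ℂ}
    (hθ : IsIrrCharacter N θ) (hθσ : ∀ n, σ (θ n) = θ n) {η : G → ℂ} (hη : IsIrrCharacter G η)
    (hηθ : ∀ n : N, η n = θ n) :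
    ∃ χ, IsIrrCharacter G χ ∧ (∀ n : N, χ n = θ n) ∧ ∀ g, σ (χ g) = χ g := by
  obtain ⟨ν, hν, hν'⟩ := exists_hom_of_ext_ext N hθ hη.isCharacter (hη.gal σ).isCharacter hηθ
    (fun n => by rw [hηθ, hθσ])
  obtain ⟨j, hj⟩ := h.odd
  have hνN : ∀ n ∈ N, ν n = 1 := fun n hn => hν ⟨n, hn⟩
  refine ⟨fun g => η g * ((ν ^ (j + 1)) g : ℂˣ), hη.mul_hom _, fun n => by simp [hν, hηθ],
    fun g => ?_⟩
  have h1 := h.hom_pow hνN g
  have h2 := h.inv _ h1
  have h3 : (ν g : ℂ) ≠ 0 := Units.ne_zero _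
  simp only [MonoidHom.pow_apply, Units.val_pow_eq_pow_val, map_mul, map_pow]
  rw [hν' g]
  apply mul_right_cancel₀ (pow_ne_zero (j + 1) h3)
  rw [mul_assoc, ← mul_pow, h2, one_pow, mul_one, mul_assoc, ← pow_add]
  rw [show j + 1 + (j + 1) = m + 1 by omega, pow_succ, h1, one_mul]

theorem exists_ext_aux (σ : ℂ →+* ℂ) (m : ℕ) (c : ℕ) : ∀ (G : Type u) [Group G] [Finite G]
    (N : Subgroup G) [hN : N.Normal], Nat.card G = c → Hyp σ m N → ∀ θ : N → ℂ,
    IsIrrCharacter N θ → (∀ n, σ (θ n) = θ n) →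
    (∀ (g : G) (n : N), θ ⟨g * n * g⁻¹, hN.conj_mem n n.2 g⟩ = θ n) →
    ∃ χ, IsIrrCharacter G χ ∧ (∀ n : N, χ n = θ n) ∧ ∀ g, σ (χ g) = χ g := by
  induction c using Nat.strong_induction_on with
  | _ c ih =>
  intro G _ _ N hN hc h θ hθ hθσ hinv
  classical
  have sub : ∀ (P : Subgroup G) (hNP : N ≤ P), P ≠ ⊤ → ∃ η : P → ℂ, IsIrrCharacter P η ∧
      (∀ n : N, η ⟨n, hNP n.2⟩ = θ n) ∧ ∀ g, σ (η g) = η g := fun P hNP hP => by
    have hlt : Nat.card P < c := by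
      rw [← hc, ← card_top (G := G)]
      exact card_lt_of_lt (lt_top_iff_ne_top.2 hP)
    obtain ⟨η, hη, hη1, hη2⟩ := ih _ hlt P (N.subgroupOf P) rfl (h.subgroupOf P) (subOf N P θ)
      (hθ.subOf hNP) (fun n => hθσ _) (fun g n => hinv g ⟨n, n.2⟩)
    exact ⟨η, hη, fun n => hη1 ⟨⟨n, hNP n.2⟩, n.2⟩, hη2⟩
  by_cases hS : ∃ p, ∃ _ : Fact p.Prime, ∃ S : Sylow p G, N ⊔ S = ⊤
  · obtain ⟨p, _, S, hS⟩ := hS
    have hp : IsPGroup p (G ⧸ N) := by
      have := S.isPGroup'.map (QuotientGroup.mk' N)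
      have h1 : (S : Subgroup G).map (QuotientGroup.mk' N) = ⊤ := by
        rw [← map_top_of_surjective _ (QuotientGroup.mk'_surjective N), ← hS, Subgroup.map_sup,
          QuotientGroup.map_mk'_self, bot_sup_eq]
      rw [h1] at this
      exact this.of_equiv topEquiv
    rcases subsingleton_or_nontrivial (G ⧸ N) with h1 | h1
    · obtain ⟨η, hη, hηθ⟩ := exists_ext_of_isCyclic N inferInstance hθ hinv
      exact h.exists_fixed hθ hθσ hη hηθ
    have := hp.isNilpotent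
    obtain ⟨M', hM'n, hM'⟩ := CL.exists_normal_index_prime (G ⧸ N)
    set M := M'.comap (QuotientGroup.mk' N) with hM
    have hMi : M.index = M'.index := index_comap_of_surjective _ (QuotientGroup.mk'_surjective N)
    have hNM : N ≤ M := fun n hn => by
      rw [hM, mem_comap, QuotientGroup.mk'_apply, (QuotientGroup.eq_one_iff n).2 hn]
      exact one_mem _
    have hMt : M ≠ ⊤ := fun h0 => by
      rw [h0, index_top] at hMi
      exact hM'.one_lt.ne hMi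
    obtain ⟨η, hη, hηθ, hησ⟩ := sub M hNM hMt
    have hres : ∀ {ψ : M → ℂ}, (∀ n : N, ψ ⟨n, hNM n.2⟩ = θ n) →
        (fun x : N.subgroupOf M => ψ x) = subOf N M θ := fun hψ =>
      funext fun x => hψ ⟨x, x.2⟩
    have := Fintype.ofFinite (N.subgroupOf M)
    have hinvη : ∀ (g : G) (x : M),
        η ⟨g * x * g⁻¹, (inferInstance : M.Normal).conj_mem x x.2 g⟩ = η x := fun g => by
      have h2 : ∀ n : N, conjN M g η ⟨n, hNM n.2⟩ = θ n := fun n => by
        rw [← hinv g n, ← hηθ]; rfl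
      have h3 := (h.subgroupOf M).unique hη.isCharacter (by rw [hres hηθ]; exact hθ.subOf hNM) hησ
        (hη.conjN g) (fun x => hησ _) (by
          rw [hres hηθ, hres h2, (hθ.subOf hNM).inner_self]; exact one_ne_zero)
      exact congrFun h3
    have : Fact M'.index.Prime := ⟨hM'⟩
    obtain ⟨ξ, hξ, hξη⟩ := exists_ext_of_isCyclic M (isCyclic_of_prime_card hMi) hη hinvη
    exact h.exists_fixed hθ hθσ hξ fun n => by rw [← hηθ, ← hξη]
  · obtain ⟨η, hη, hηθ⟩ := exists_ext_of_sylow N hθ hinv fun p hp => by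
      have : Fact p.Prime := ⟨hp⟩
      obtain ⟨S⟩ : Nonempty (Sylow p G) := inferInstance
      obtain ⟨η, hη, hηθ, -⟩ := sub (N ⊔ S) le_sup_left fun h0 => hS ⟨p, this, S, h0⟩
      exact ⟨N ⊔ S, le_sup_left, η, ((hp.coprime_iff_not_dvd).2 fun hd =>
        S.not_dvd_index (hd.trans (index_dvd_of_le le_sup_right))).symm, hη, hηθ⟩
    exact h.exists_fixed hθ hθσ hη hηθ

theorem Hyp.exists_ext [Finite G] [hN : N.Normal] (h : Hyp σ m N) {θ : N → ℂ}
    (hθ : IsIrrCharacter N θ) (hθσ : ∀ n, σ (θ n) = θ n)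
    (hinv : ∀ (g : G) (n : N), θ ⟨g * n * g⁻¹, hN.conj_mem n n.2 g⟩ = θ n) :
    ∃ χ, IsIrrCharacter G χ ∧ (∀ n : N, χ n = θ n) ∧ ∀ g, σ (χ g) = χ g :=
  exists_ext_aux σ m _ G N rfl h θ hθ hθσ hinv

/-- There is a unique fixed irreducible character over a fixed irreducible character, and the
multiplicity is one. -/
theorem Hyp.exists_unique [Finite G] [hN : N.Normal] [Fintype N] (h : Hyp σ m N) {θ : N → ℂ}
    (hθ : IsIrrCharacter N θ) (hθσ : ∀ n, σ (θ n) = θ n) :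
    ∃ χ, IsIrrCharacter G χ ∧ classInner (fun n : N => χ n) θ = 1 ∧ (∀ g, σ (χ g) = χ g) ∧
      ∀ χ', IsIrrCharacter G χ' → classInner (fun n : N => χ' n) θ ≠ 0 →
        (∀ g, σ (χ' g) = χ' g) → χ' = χ := by
  classical
  have := Fintype.ofFinite G
  set T := inertia N θ with hT
  have hNT : N ≤ T := le_inertia hθ.isCharacter.isClassFunction
  obtain ⟨ψ, hψ, hψθ, hψσ⟩ := (h.subgroupOf T).exists_ext (hθ.subOf hNT) (fun n => hθσ _)
    (fun g n => mem_inertia.1 g.2 ⟨n, n.2⟩)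
  have hψθ' : (fun n : N => ψ ⟨n, hNT n.2⟩) = θ := funext fun n => hψθ ⟨⟨n, hNT n.2⟩, n.2⟩
  have h1 : classInner (fun n : N => ψ ⟨n, hNT n.2⟩) θ = 1 := by rw [hψθ', hθ.inner_self]
  have h1' : classInner (fun n : N => ψ ⟨n, hNT n.2⟩) θ ≠ 0 := h1 ▸ one_ne_zero
  refine ⟨indFun T ψ, clifford_ind_irr hNT hθ le_rfl hψ h1',
    (clifford_ind_inner hNT hθ le_rfl hψ h1').trans h1, fun g => ?_, fun χ' hχ' hin hσ' => ?_⟩
  · rw [← indFun_gal]
    simp only [hψσ]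
  · obtain ⟨ψ', hψ', rfl, hin'⟩ := clifford_ind_surj hNT hθ le_rfl hχ' hin
    rw [← hin'] at hin
    have h2 : (fun t => σ (ψ' t)) = ψ' := by
      refine clifford_ind_inj hNT hθ le_rfl (hψ'.gal σ) hψ' ?_ hin (funext fun g => ?_)
      · have := classInner_gal (fun n : N => ψ' ⟨n, hNT n.2⟩) hθ.isGen σ
        simp only [hθσ] at this
        rw [this]
        exact (map_ne_zero σ).2 hin
      · rw [indFun_gal, hσ']
    have h3 : (fun x : N.subgroupOf T => ψ x) = subOf N T θ := funext hψθ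
    rw [(h.subgroupOf T).unique hψ.isCharacter (by rw [h3]; exact hθ.subOf hNT) hψσ hψ'
      (congrFun h2) (by rw [h3, classInner_res_subOf hNT]; exact hin)]

end CL.OddExt
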