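import Cfsg.Agent.BLK.MKExt
import Cfsg.Agent.BLK.OddExt

/-! The relative McKay count for `p`-solvable groups (Okuyama-Wajima argument). -/

set_option autoImplicit false
open Cfsg Subgroup
open scoped ComplexConjugate commutatorElement

namespace CL.OW
open CL.Char CL.Glb CL.MSS

variable {Γ : Type*} [Group Γ] {L K M T G S C B : Subgroup Γ} {p n : ℕ}

theorem stab_res {h : K ≤ M} {ψ : M → ℂ} {x : Γ} (hx : x ∈ stab M ψ)
    (hK : x ∈ normalizer (K : Set Γ)) : x ∈ stab K fun k => ψ (inclusion h k) :=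
  ⟨hK, fun _ _ e => hx.2 _ _ e⟩

theorem mem_stab_iff {θ : K → ℂ} {x : Γ} (hx : x ∈ normalizer (K : Set Γ)) :
    x ∈ stab K θ ↔ (fun k => θ (cjE K hx k)) = θ :=
  ⟨fun h => funext fun _ => h.2 _ _ rfl, fun h => ⟨hx, fun a b e =>
    (congrArg θ (Subtype.ext e : b = cjE K hx a)).trans (congrFun h a)⟩⟩

theorem charDegree_comp {A A' : Type*} [Group A] [Group A'] (χ : A → ℂ) (f : A' →* A) :
    charDegree (fun a => χ (f a)) = charDegree χ := by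
  simp only [charDegree, map_one]

theorem charDegree_of_res {h : K ≤ M} {ψ : M → ℂ} {θ : K → ℂ}
    (he : ∀ k, ψ (inclusion h k) = θ k) : charDegree ψ = charDegree θ := by
  rw [← funext he, charDegree_comp]

theorem relIndex_congr {A A' H : Subgroup Γ} (h : ∀ x ∈ H, x ∈ A ↔ x ∈ A') :
    A.relIndex H = A'.relIndex H :=
  congrArg index (Subgroup.ext fun x => h x x.2)

variable [Finite Γ]

theorem ov_iff {h : L ≤ B} {h' : B ≤ T} {ν : L → ℂ} (hν : IsIrrCharacter L ν)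
    (hT : T ≤ stab L ν) {χ : T → ℂ} (hχ : IsIrrCharacter T χ) {η : B → ℂ}
    (hη : IsIrrCharacter B η) (ho : Ov h' χ η) : Ov (h.trans h') χ ν ↔ Ov h η ν := by
  refine ⟨fun h1 => ?_, fun h1 => Ov.trans hχ.isCharacter hη hν.isCharacter ho h1⟩
  obtain ⟨ν', h2, h3⟩ := exists_under h hη
  rwa [← eq_of_ov_of_IS (fun _ hg => (hT hg).1) hχ hν h2 h1
    (Ov.trans hχ.isCharacter hη h2.isCharacter ho h3) fun _ hg => (hT hg).2]

theorem det_compat {h : L ≤ M} {h' : L ≤ T} {ν : L → ℂ} (hν : IsIrrCharacter L ν)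
    (hM : M ≤ stab L ν) (hT : T ≤ stab L ν) {ψ : M → ℂ} (hψ : IsIrrCharacter M ψ) {φ : T → ℂ}
    (hφ : IsIrrCharacter T φ) (h1 : Ov h ψ ν) (h2 : Ov h' φ ν) (l : L) :
    detHom ψ (inclusion h l) ^ charDegree φ = detHom φ (inclusion h' l) ^ charDegree ψ := by
  obtain ⟨e, he, h3⟩ := det_res_inv hν hM hψ h1
  obtain ⟨e', he', h4⟩ := det_res_inv hν hT hφ h2
  rw [h3, h4, he, he', ← pow_mul, ← pow_mul, mul_left_comm]

variable [hp : Fact p.Prime]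

theorem frat (hS : SylIn p S G) (h : K ≤ G) (hK : S ≤ normalizer (K : Set Γ)) {g : Γ} (hg : g ∈ G)
    (hg' : g ∈ normalizer ((K ⊔ S : Subgroup Γ) : Set Γ)) :
    ∃ k ∈ K, ∃ y ∈ G ⊓ normalizer (S : Set Γ), g = k * y := by
  obtain ⟨m, hm, y, hy, rfl⟩ := (hS.of_le le_sup_right (sup_le h hS.le)).frattini hg'
  obtain ⟨k, hk, s, hs, rfl⟩ := mem_sup_norm hK hm
  exact ⟨k, hk, s * y, ⟨by simpa [mul_assoc] using G.mul_mem (G.inv_mem (h hk)) hg,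
    mul_mem (le_normalizer hs) hy⟩, mul_assoc ..⟩

theorem not_dvd_relIndex_of_syl (hS : SylIn p S G) (h1 : S ≤ M) (h2 : S ≤ T) (h3 : T ≤ G) :
    ¬ p ∣ M.relIndex T := fun h =>
  (hS.of_le h2 h3).not_dvd_relIndex (h.trans (relIndex_dvd_of_le_left T h1))

/-- The normaliser in `G` of `L S`. -/
abbrev nP (G L S : Subgroup Γ) : Subgroup Γ := G ⊓ normalizer ((L ⊔ S : Subgroup Γ) : Set Γ)

omit [Finite Γ] hp in
theorem le_nP (h : G ≤ normalizer (L : Set Γ)) : G ⊓ normalizer (S : Set Γ) ≤ nP G L S :=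
  fun _ hx => ⟨hx.1, normalizer_inf_normalizer_le_normalizer_sup L S ⟨h hx.1, hx.2⟩⟩

omit [Finite Γ] hp in
theorem sup_le_nP (h : L ≤ G) (h' : S ≤ G) : L ⊔ S ≤ nP G L S :=
  le_inf (sup_le h h') le_normalizer

omit [Finite Γ] hp in
theorem nP_inf (h : G ≤ normalizer (L : Set Γ)) :
    nP G L S ⊓ normalizer (S : Set Γ) = G ⊓ normalizer (S : Set Γ) :=
  le_antisymm (inf_le_inf_right _ inf_le_left) (le_inf (le_nP h) inf_le_right)

/-- The configuration left by the reductions. -/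
structure Cfg (p n : ℕ) (L K C S G : Subgroup Γ) (ν : L → ℂ) : Prop where
  hn : ¬ p ∣ n
  syl : SylIn p S G
  LK : L ≤ K
  KG : K ≤ G
  nK : G ≤ normalizer (K : Set Γ)
  nM : G ≤ normalizer ((K ⊔ S : Subgroup Γ) : Set Γ)
  pow : ∀ k ∈ K, k ^ n ∈ L
  hC : ∀ k, k ∈ C ↔ k ∈ K ∧ ∀ s ∈ S, s * k * s⁻¹ * k⁻¹ ∈ L
  irr : IsIrrCharacter L ν
  inv : G ≤ stab L ν

namespace Cfg
variable {ν : L → ℂ} (h : Cfg p n L K C S G ν)
include h

omit [Finite Γ] hp in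
theorem nL : G ≤ normalizer (L : Set Γ) := fun _ hg => (h.inv hg).1

omit [Finite Γ] hp in
theorem SK : S ≤ normalizer (K : Set Γ) := h.syl.le.trans h.nK

omit [Finite Γ] hp in
theorem CK : C ≤ K := fun k hk => ((h.hC k).1 hk).1

omit [Finite Γ] hp in
theorem LC : L ≤ C := fun l hl => (h.hC l).2
  ⟨h.LK hl, fun _ hs => mul_mem (conj_mem_of_norm (h.nL (h.syl.le hs)) hl) (inv_mem hl)⟩

omit [Finite Γ] hp in
theorem MG : K ⊔ S ≤ G := sup_le h.KG h.syl.le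

omit [Finite Γ] in
theorem mem_L {x : Γ} (hx : x ∈ K) {a : ℕ} (ha : x ^ p ^ a ∈ L) : x ∈ L :=
  mem_of_coprime_pow_mem L (Nat.Coprime.pow_left a
    ((Nat.Prime.coprime_iff_not_dvd hp.out).2 h.hn)) ha (h.pow x hx)

omit [Finite Γ] in
theorem SL {s : S} (hs : (s : Γ) ∈ K) : (s : Γ) ∈ L := by
  obtain ⟨a, ha⟩ := h.syl.pgroup s
  exact h.mem_L hs (a := a) (by rw [← coe_pow, ha]; exact one_mem L)

theorem C_eq : C = K ⊓ nP G L S := by
  have hSL := h.syl.le.trans h.nL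
  refine le_antisymm (le_inf h.CK (le_inf (h.CK.trans h.KG) (le_norm_of_conj fun c hc g hg => ?_)))
    fun k hk => (h.hC k).2 ⟨hk.1, fun s hs => ?_⟩
  · obtain ⟨l, hl, s, hs, rfl⟩ := mem_sup_norm hSL hg
    simpa [mul_assoc] using mul_mem (mul_mem (mem_sup_left (T := S)
      (conj_mem_of_norm (h.nL (h.KG (h.CK hc))) hl)) (mem_sup_left
        (inv_mem (((h.hC c).1 hc).2 s hs)))) (mem_sup_right hs)
  · obtain ⟨a, ha⟩ := exists_pow_mem_of_sup hSL hp.out h.syl.pgroup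
    refine h.mem_L (mul_mem (conj_mem_of_norm (h.SK hs) hk.1) (inv_mem hk.1)) (ha _ ?_)
    simpa [mul_assoc] using mul_mem (mem_sup_right (S := L) hs)
      (conj_mem_of_norm hk.2.2 (mem_sup_right (inv_mem hs)))

theorem CN : C ≤ nP G L S := h.C_eq.le.trans inf_le_right

omit [Finite Γ] hp in
theorem SN : S ≤ nP G L S := le_sup_right.trans (sup_le_nP (h.LK.trans h.KG) h.syl.le)

theorem M'N : C ⊔ S ≤ nP G L S := sup_le h.CN h.SN

theorem M'_eq : C ⊔ S = (K ⊔ S) ⊓ nP G L S := by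
  refine le_antisymm (le_inf (sup_le_sup_right h.CK S) h.M'N) fun m hm => ?_
  obtain ⟨k, hk, s, hs, rfl⟩ := mem_sup_norm h.SK hm.1
  exact mul_mem (mem_sup_left (h.C_eq.ge ⟨hk, (mul_mem_cancel_right (h.SN hs)).1 hm.2⟩))
    (mem_sup_right hs)

theorem nC : nP G L S ≤ normalizer (C : Set Γ) := le_norm_of_conj fun _ hx _ hc => h.C_eq.ge
  ⟨conj_mem_of_norm (h.nK hx.1) (h.CK hc), conj_mem_of_norm (le_normalizer hx) (h.CN hc)⟩

theorem nM' : nP G L S ≤ normalizer ((C ⊔ S : Subgroup Γ) : Set Γ) :=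
  le_norm_of_conj fun _ hx _ hc => h.M'_eq.ge ⟨conj_mem_of_norm (h.nM hx.1) (h.M'_eq.le hc).1,
    conj_mem_of_norm (le_normalizer hx) (h.M'N hc)⟩

theorem SC : S ≤ normalizer (C : Set Γ) := h.SN.trans h.nC

theorem corr : Corr p (inclusion h.CK) (IS S K) (IS S C) :=
  corr_pgroup hp.out h.syl.pgroup h.hn (h.syl.le.trans h.nL) K (h.KG.trans h.nL) h.SK h.pow h.hC
    h.CK

end Cfg

/-- An irreducible character of degree prime to `p`. -/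
def IrrP (p : ℕ) (H : Subgroup Γ) (χ : H → ℂ) : Prop := IsIrrCharacter H χ ∧ ¬ p ∣ charDegree χ

theorem IrrP.res (hS : IsPGroup p S) (hK : S ≤ normalizer (K : Set Γ))
    {ψ : (K ⊔ S : Subgroup Γ) → ℂ} (hψ : IrrP p _ ψ) :
    IsIrrCharacter K (fun k => ψ (inclusion le_sup_left k)) ∧
      IS S K fun k => ψ (inclusion le_sup_left k) := by
  obtain ⟨a, ha⟩ := exists_pow_mem_of_sup hK hp.out hS
  exact ⟨irr_res_of_not_dvd _ (sup_le le_normalizer hK) ha hψ.1 hψ.2,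
    ((IS_self _ hψ.1.isCharacter.isClassFunction).mono le_sup_right).res _⟩

omit [Finite Γ] hp in
theorem IrrP.cj {ψ : M → ℂ} (hψ : IrrP p M ψ) {x : Γ} (hx : x ∈ normalizer (M : Set Γ)) :
    IrrP p M fun m => ψ (cjE M hx m) :=
  ⟨(cjI hx ⟨ψ, hψ.1⟩).2, (charDegree_comp ψ (cjE M hx).toMonoidHom).symm ▸ hψ.2⟩

omit hp in
theorem IrrP.gal {ψ : M → ℂ} (hψ : IrrP p M ψ) (σ : ℂ →+* ℂ) : IrrP p M fun m => σ (ψ m) :=
  ⟨hψ.1.gal σ, (hψ.1.isCharacter.charDegree_gal σ).symm ▸ hψ.2⟩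

/-- The correspondence between characters of `K S` and of `C S`. -/
def RM (p : ℕ) (h : C ≤ K) (ψ : (K ⊔ S : Subgroup Γ) → ℂ) (φ : (C ⊔ S : Subgroup Γ) → ℂ) : Prop :=
  Rel p (inclusion h) (fun k => ψ (inclusion le_sup_left k)) (fun c => φ (inclusion le_sup_left c)) ∧
    ∀ s, detHom ψ (inclusion le_sup_right s) ^ charDegree φ =
      detHom φ (inclusion le_sup_right s) ^ charDegree ψ

omit hp in
theorem RM.gal {h : C ≤ K} {ψ : (K ⊔ S : Subgroup Γ) → ℂ} {φ : (C ⊔ S : Subgroup Γ) → ℂ}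
    (hψ : IsCharacter _ ψ) (hφ : IsCharacter _ φ) (hr : RM p h ψ φ) (σ : ℂ →+* ℂ) :
    RM p h (fun m => σ (ψ m)) fun m => σ (φ m) := by
  obtain ⟨⟨m, hm, hm'⟩, h2⟩ := hr
  refine ⟨⟨m, ?_, hm'⟩, fun s => Units.ext ?_⟩
  · rw [classInner_gal _ (hφ.comp _).isGen, hm, map_natCast]
  · rw [Units.val_pow_eq_pow_val, Units.val_pow_eq_pow_val, detHom_gal hψ, detHom_gal hφ,
      hψ.charDegree_gal, hφ.charDegree_gal, ← map_pow, ← map_pow, ← Units.val_pow_eq_pow_val, h2,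
      Units.val_pow_eq_pow_val]

omit hp in
theorem RM.cj {h : C ≤ K} {ψ : (K ⊔ S : Subgroup Γ) → ℂ} {φ : (C ⊔ S : Subgroup Γ) → ℂ}
    (hψ : IsCharacter _ ψ) (hφ : IsCharacter _ φ) (hr : RM p h ψ φ) {x : Γ}
    (hK : x ∈ normalizer (K : Set Γ)) (hC : x ∈ normalizer (C : Set Γ))
    (hS : x ∈ normalizer (S : Set Γ)) (h1 : x ∈ normalizer ((K ⊔ S : Subgroup Γ) : Set Γ))
    (h2 : x ∈ normalizer ((C ⊔ S : Subgroup Γ) : Set Γ)) :
    RM p h (fun m => ψ (cjE _ h1 m)) fun m => φ (cjE _ h2 m) := by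
  refine ⟨hr.1.cj hK hC, fun s => ?_⟩
  have e1 := detHom_comp hψ (cjE _ h1).toMonoidHom (inclusion le_sup_right s)
  have e2 := detHom_comp hφ (cjE _ h2).toMonoidHom (inclusion le_sup_right s)
  have e3 := charDegree_comp ψ (cjE _ h1).toMonoidHom
  have e4 := charDegree_comp φ (cjE _ h2).toMonoidHom
  simp only [MulEquiv.coe_toMonoidHom] at e1 e2 e3 e4
  rw [e1, e2, e3, e4]
  exact hr.2 (cjE S hS s)

namespace Cfg
variable {ν : L → ℂ} (h : Cfg p n L K C S G ν) {ψ ψ' : (K ⊔ S : Subgroup Γ) → ℂ}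
  {φ φ' : (C ⊔ S : Subgroup Γ) → ℂ}
include h

theorem uniq (hψ : IrrP p _ ψ) (hφ : IrrP p _ φ) (hφ' : IrrP p _ φ') (h1 : RM p h.CK ψ φ)
    (h2 : RM p h.CK ψ φ') : φ = φ' := by
  obtain ⟨a1, a2⟩ := hψ.res h.syl.pgroup h.SK
  obtain ⟨b1, b2⟩ := hφ.res h.syl.pgroup h.SC
  obtain ⟨c1, c2⟩ := hφ'.res h.syl.pgroup h.SC
  have e := congrFun (h.corr.uniq _ a1 a2 _ _ b1 b2 c1 c2 h1.1 h2.1)
  refine eq_of_det h.syl.pgroup h.SC hφ'.1.isCharacter hφ.1.isCharacter c1 e hφ'.2 hψ.2 fun s => ?_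
  rw [← h1.2, ← h2.2, charDegree_of_res e, charDegree_comp]

theorem inj (hψ : IrrP p _ ψ) (hψ' : IrrP p _ ψ') (hφ : IrrP p _ φ) (h1 : RM p h.CK ψ φ)
    (h2 : RM p h.CK ψ' φ) : ψ = ψ' := by
  obtain ⟨a1, a2⟩ := hψ.res h.syl.pgroup h.SK
  obtain ⟨b1, b2⟩ := hφ.res h.syl.pgroup h.SC
  obtain ⟨c1, c2⟩ := hψ'.res h.syl.pgroup h.SK
  have e := congrFun (h.corr.inj _ _ a1 a2 c1 c2 _ b1 b2 h1.1 h2.1)
  refine eq_of_det h.syl.pgroup h.SK hψ'.1.isCharacter hψ.1.isCharacter c1 e hψ'.2 hφ.2 fun s => ?_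
  rw [h1.2, h2.2, charDegree_of_res e, charDegree_comp]

theorem ex (hψ : IrrP p _ ψ) (ho : Ov (h.LK.trans le_sup_left) ψ ν) :
    ∃ φ, IrrP p _ φ ∧ Ov (h.LC.trans le_sup_left) φ ν ∧ RM p h.CK ψ φ := by
  obtain ⟨a1, a2⟩ := hψ.res h.syl.pgroup h.SK
  obtain ⟨ξ, b1, b2, hr⟩ := h.corr.ex _ a1 a2
  have hle : C ⊔ S ≤ K ⊔ S := sup_le_sup_right h.CK S
  have h1 := (rel_iff_mult a1.isCharacter b1.isCharacter).1 hr
  have h2 := mult_comp (inclusion (le_sup_left : C ≤ C ⊔ S)) (hψ.1.isCharacter.comp (inclusion hle))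
    b1.isCharacter
  obtain ⟨η, -, h3⟩ := Finset.exists_ne_zero_of_sum_ne_zero
    (Nat.cast_sum (R := ZMod p) _ _ ▸ h2 ▸ h1)
  rw [Nat.cast_mul] at h3
  obtain ⟨a, ha⟩ := exists_pow_mem_of_sup h.SC hp.out h.syl.pgroup
  have h4 := (rel_iff_mult η.2.isCharacter b1.isCharacter).2 (right_ne_zero_of_mul h3)
  have h5 := res_eq_of_pow (sup_le le_normalizer h.SC) ha η.2 b1 h4.ov (Or.inr ⟨sup_le
    (le_stab_self _ b1.isCharacter.isClassFunction) ((IS_iff_le_stab h.SC).1 b2), h4⟩)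
  have h6 : ¬ p ∣ charDegree η.1 := fun h0 => hψ.2 ((ZMod.natCast_eq_zero_iff _ _).1 (by
    rw [← charDegree_comp ψ (inclusion le_sup_left), h.corr.degree h.SK h.SC hp.out h.syl.pgroup a1
      a2 b1 b2 hr, ← charDegree_of_res h5, (ZMod.natCast_eq_zero_iff _ _).2 h0, mul_zero]))
  have h7 : Ov (h.LC.trans le_sup_left) η.1 ν := (ov_iff h.irr (h.MG.trans h.inv) hψ.1 η.2
    (((rel_iff_mult hψ.1.isCharacter η.2.isCharacter).2 (left_ne_zero_of_mul h3)).ov)).1 ho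
  obtain ⟨φ, c1, c2, c3⟩ := exists_of_det h.syl.pgroup h.SC η.2 h6 hψ.2
    (((detHom ψ).comp (inclusion le_sup_right)) ^ charDegree η.1) fun s hs =>
      det_compat h.irr (h.MG.trans h.inv) ((hle.trans h.MG).trans h.inv) hψ.1 η.2 ho h7
        ⟨s, h.SL (h.CK hs)⟩
  have h8 : charDegree φ = charDegree η.1 := by rw [charDegree_of_res c2, charDegree_comp]
  refine ⟨φ, ⟨c1, h8 ▸ h6⟩, ?_, ?_, fun s => h8 ▸ (c3 s).symm⟩
  · exact fun h0 => h7 (h0 ▸ congrArg (classInner · ν) (funext fun l => (c2 ⟨l, h.LC l.2⟩).symm))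
  · rwa [funext c2, funext h5]

theorem surj (hφ : IrrP p _ φ) (ho : Ov (h.LC.trans le_sup_left) φ ν) :
    ∃ ψ, IrrP p _ ψ ∧ Ov (h.LK.trans le_sup_left) ψ ν ∧ RM p h.CK ψ φ := by
  obtain ⟨b1, b2⟩ := hφ.res h.syl.pgroup h.SC
  obtain ⟨θ, a1, a2, hr⟩ := h.corr.surj _ b1 b2
  have hle : C ⊔ S ≤ K ⊔ S := sup_le_sup_right h.CK S
  have hM := h.MG.trans h.inv
  have h1 : ¬ p ∣ charDegree θ := fun h0 => by
    have := h.corr.degree h.SK h.SC hp.out h.syl.pgroup a1 a2 b1 b2 hr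
    rw [(ZMod.natCast_eq_zero_iff _ _).2 h0, charDegree_comp] at this
    exact (mul_eq_zero.1 this.symm).elim ((rel_iff_mult a1.isCharacter b1.isCharacter).1 hr)
      fun h2 => hφ.2 ((ZMod.natCast_eq_zero_iff _ _).1 h2)
  have h2 : Ov h.LK θ ν := Ov.trans (h := h.LC) a1.isCharacter b1 h.irr.isCharacter hr.ov ho
  obtain ⟨e, -, he⟩ := det_res_inv h.irr (h.KG.trans h.inv) a1 h2
  obtain ⟨e', h3, he'⟩ := det_res_inv h.irr (hle.trans hM) hφ.1 ho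
  obtain ⟨τ, hτ⟩ := exists_transfer_amb (h.LC.trans le_sup_left) hle (h.MG.trans h.nL)
    (detHom ν ^ e') (fun g hg a b hab => congrArg (· ^ e') (Units.ext (by
      have := detHom_comp h.irr.isCharacter (cjE L (hM hg).1).toMonoidHom a
      simp only [MulEquiv.coe_toMonoidHom] at this
      rw [(mem_stab_iff _).1 (hM hg)] at this
      rw [this, show b = cjE L (hM hg).1 a from Subtype.ext hab]))) (detHom φ) he'
  obtain ⟨a, ha⟩ := exists_pow_mem_of_sup h.SK hp.out h.syl.pgroup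
  obtain ⟨η, c1, c2⟩ := exists_ext_amb le_sup_left a1 (sup_le
    (le_stab_self _ a1.isCharacter.isClassFunction) ((IS_iff_le_stab h.SK).1 a2)) ha h1
    (m := n * (e' * (C ⊔ S).relIndex (K ⊔ S))) (fun h0 => (hp.out.dvd_mul.1 h0).elim h.hn fun h0 =>
      (hp.out.dvd_mul.1 h0).elim (fun h0 => hφ.2 (h3 ▸ h0.mul_right _))
        (not_dvd_relIndex_of_syl h.syl le_sup_right le_sup_right h.MG)) (τ ^ (n * e)) fun k => by
    rw [MonoidHom.pow_apply, pow_mul, pow_mul, ← map_pow τ, ← map_pow (detHom θ) k]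
    refine (congrArg (· ^ e) (hτ ⟨k ^ n, h.pow k k.2⟩)).trans (Eq.trans ?_
      (congrArg (· ^ (e' * (C ⊔ S).relIndex (K ⊔ S))) (he ⟨k ^ n, h.pow k k.2⟩)).symm)
    simp only [MonoidHom.pow_apply, ← pow_mul, mul_comm]
  have h6 : ¬ p ∣ charDegree η := charDegree_of_res c2 ▸ h1
  have h7 : Ov (h.LK.trans le_sup_left) η ν :=
    Ov.trans c1.isCharacter a1 h.irr.isCharacter (ov_of_res a1 c2) h2
  obtain ⟨ψ, d1, d2, d3⟩ := exists_of_det h.syl.pgroup h.SK c1 h6 hφ.2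
    (((detHom φ).comp (inclusion le_sup_right)) ^ charDegree η) fun s hs =>
      det_compat h.irr (hle.trans hM) hM hφ.1 c1 ho h7 ⟨s, h.SL hs⟩
  have h8 : charDegree ψ = charDegree η := by rw [charDegree_of_res d2, charDegree_comp]
  refine ⟨ψ, ⟨d1, h8 ▸ h6⟩, ?_, ?_, fun s => h8 ▸ d3 s⟩
  · exact fun h0 => h7 (h0 ▸ congrArg (classInner · ν) (funext fun l => (d2 ⟨l, h.LK l.2⟩).symm))
  · rwa [funext d2, funext c2]

theorem gal_iff (hψ : IrrP p _ ψ) (hφ : IrrP p _ φ) (hr : RM p h.CK ψ φ) (σ : ℂ →+* ℂ) :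
    (fun m => σ (ψ m)) = ψ ↔ (fun m => σ (φ m)) = φ := by
  have h1 := hr.gal hψ.1.isCharacter hφ.1.isCharacter σ
  exact ⟨fun e => h.uniq hψ (hφ.gal σ) hφ (e ▸ h1) hr, fun e => h.inj (hψ.gal σ) hψ hφ (e ▸ h1) hr⟩

theorem stab_iff (hψ : IrrP p _ ψ) (hφ : IrrP p _ φ) (hr : RM p h.CK ψ φ) {x : Γ}
    (hx : x ∈ nP G L S) : x ∈ stab _ ψ ↔ x ∈ stab _ φ := by
  obtain ⟨l, hl, y, hy, rfl⟩ := frat (h.syl.of_le h.SN inf_le_left) (K := L)
    (le_sup_left.trans (sup_le_nP (h.LK.trans h.KG) h.syl.le)) (h.syl.le.trans h.nL) hx hx.2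
  have h1 := hr.cj hψ.1.isCharacter hφ.1.isCharacter (h.nK hy.1.1) (h.nC hy.1) hy.2
    (h.nM hy.1.1) (h.nM' hy.1)
  rw [mul_mem_cancel_left (le_stab_self _ hψ.1.isCharacter.isClassFunction (mem_sup_left (h.LK hl))),
    mul_mem_cancel_left (le_stab_self _ hφ.1.isCharacter.isClassFunction (mem_sup_left (h.LC hl))),
    mem_stab_iff (h.nM hy.1.1), mem_stab_iff (h.nM' hy.1)]
  exact ⟨fun e => h.uniq hψ (hφ.cj _) hφ (e ▸ h1) hr, fun e => h.inj (hψ.cj _) hψ hφ (e ▸ h1) hr⟩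

theorem bi_eq (hψ : IrrP p _ ψ) (hφ : IrrP p _ φ) (hr : RM p h.CK ψ φ) :
    ∀ x ∈ nP G L S ⊓ stab _ φ, ∀ y ∈ nP G L S ⊓ stab _ φ, bi _ ψ x y = bi _ φ x y := by
  obtain ⟨a1, a2⟩ := hψ.res h.syl.pgroup h.SK
  obtain ⟨b1, b2⟩ := hφ.res h.syl.pgroup h.SC
  obtain ⟨a, ha⟩ := exists_pow_mem_of_sup h.SC hp.out h.syl.pgroup
  have hle := le_inf h.M'N (le_stab_self _ hφ.1.isCharacter.isClassFunction)
  obtain ⟨B, m, hCB, hB, hm, hBm, hgen⟩ := exists_compl_amb le_sup_left hle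
    (inf_le_left.trans h.nC) (inf_le_left.trans h.nM') ha (not_dvd_relIndex_of_syl h.syl
      le_sup_right (le_sup_right.trans hle) (inf_le_left.trans inf_le_left))
  have hBψ : ∀ b ∈ B, b ∈ stab _ ψ := fun b hb => (h.stab_iff hψ hφ hr (hB hb).1).2 (hB hb).2
  have hBC : B ≤ normalizer (C : Set Γ) := fun b hb => h.nC (hB hb).1
  intro x hx y hy
  obtain ⟨g, hg, b, hb, rfl⟩ := hgen x hx
  obtain ⟨g', hg', b', hb', rfl⟩ := hgen y hy
  rw [bi_mul_left hg, bi_mul_right hg', bi_mul_left (h.M'_eq.le hg).1,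
    bi_mul_right (h.M'_eq.le hg').1]
  have hc : ⁅b, b'⁆ ∈ B := mul_mem (mul_mem (mul_mem hb hb') (inv_mem hb)) (inv_mem hb')
  by_cases hbb : ⁅b, b'⁆ ∈ C
  swap
  · have h1 : ⁅b, b'⁆ ∉ C ⊔ S := fun h0 => hbb (mem_of_coprime_pow_mem C (Nat.Coprime.pow_left a
      ((Nat.Prime.coprime_iff_not_dvd hp.out).2 hm)) (ha _ h0) (hBm _ hc))
    rw [bi_eq_zero (hB hb).2.1 (hB hb').2.1 h1, bi_eq_zero (hBψ b hb).1 (hBψ b' hb').1 fun h0 =>
      h1 (h.M'_eq.ge ⟨h0, (hB hc).1⟩)]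
  rw [bi_res le_sup_left hψ.1 a1 (fun _ => rfl) (h.MG.trans h.nK) (hBψ b hb) (hBψ b' hb')
    (h.nK (hB hb).1.1) (h.nK (hB hb').1.1) (h.CK hbb), bi_res le_sup_left hφ.1 b1 (fun _ => rfl)
    (h.M'N.trans h.nC) (hB hb).2 (hB hb').2 (hBC hb) (hBC hb') hbb]
  let V := relCent B C hBC {b, b'}
  let U := relCent V C (relCent_le.trans hBC) V
  have hU : U ≤ B := relCent_le.trans relCent_le
  have h1 : ∀ c ∈ C, ∀ x ∈ B, x * c * x⁻¹ * c⁻¹ ∈ C := fun c hc x hx =>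
    mul_mem (conj_mem_of_norm (hBC hx) hc) (inv_mem hc)
  have h2 : ∀ x ∈ ({b, b'} : Set Γ), x ∈ V → x ∈ U := fun x hx hV => mem_relCent.2 ⟨hV, fun v hv =>
    by simpa [mul_assoc] using inv_mem ((mem_relCent.1 hv).2 x hx)⟩
  refine bi_eq_of_rel (U := U) (n := m * n) hp.out h.syl.pgroup (fun h0 =>
    (hp.out.dvd_mul.1 h0).elim hm h.hn) (h.syl.le.trans h.nL) (h.LC.trans fun c hc => ?_)
    (fun u hu => h.nL (hB (hU hu)).1.1) (fun u hu => (hB (hU hu)).1.2) (fun u hu => ?_)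
    (fun x hx y hy => (mem_relCent.1 hy).2 x (relCent_le hx)) b1 ((IS_iff_le_stab h.SC).1 b2)
    (fun u hu => stab_res (hB (hU hu)).2 (hBC (hU hu))) K h.LK (h.KG.trans h.nL) (fun k hk => ?_)
    h.hC h.CK a1 ((IS_iff_le_stab h.SK).1 a2) (fun u hu => stab_res (hBψ u (hU hu))
      (h.nK (hB (hU hu)).1.1)) hr.1 b (h2 b (by simp) (mem_relCent.2 ⟨hb, ?_⟩)) b'
      (h2 b' (by simp) (mem_relCent.2 ⟨hb', ?_⟩))
  · exact mem_relCent.2 ⟨mem_relCent.2 ⟨hCB hc, fun x hx => h1 c hc x (by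
      rcases hx with rfl | rfl; exacts [hb, hb'])⟩, fun x hx => h1 c hc x (relCent_le hx)⟩
  · rw [pow_mul]; exact h.pow _ (h.CK (hBm u (hU hu)))
  · rw [mul_comm, pow_mul]; exact pow_mem (h.pow k hk) m
  · rintro x (rfl | rfl)
    exacts [by simp, by simpa [commutatorElement_def, mul_assoc] using inv_mem hbb]
  · rintro x (rfl | rfl)
    exacts [hbb, by simp]

theorem card_eq (hψ : IrrP p _ ψ) (hφ : IrrP p _ φ) (hr : RM p h.CK ψ φ)
    (h1 : K ⊔ S ≤ G ⊓ stab _ ψ) (h2 : C ⊔ S ≤ nP G L S ⊓ stab _ φ) :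
    Nat.card {χ : IrrCharacter _ // Ov h1 χ.1 ψ} = Nat.card {χ : IrrCharacter _ // Ov h2 χ.1 φ} := by
  refine card_ov_eq (N := nP G L S ⊓ stab _ φ) h1 (fun x hx => ⟨hx.1.1, (h.stab_iff hψ hφ hr hx.1).2 hx.2⟩) h2
    (fun g hg => ?_) (le_antisymm (le_inf (sup_le_sup_right h.CK S) h2)
      ((inf_le_inf_left _ inf_le_left).trans h.M'_eq.ge)) hψ.1 hφ.1 inf_le_right inf_le_right
    (h.bi_eq hψ hφ hr)
  obtain ⟨k, hk, y, hy, rfl⟩ := frat h.syl h.KG h.SK hg.1 (h.nM hg.1)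
  exact ⟨k, mem_sup_left hk, y, ⟨le_nP h.nL hy, (h.stab_iff hψ hφ hr (le_nP h.nL hy)).1
    (((stab _ ψ).mul_mem_cancel_left (h1 (mem_sup_left hk)).2).1 hg.2)⟩, rfl⟩

end Cfg

/-- Properties of characters that pass through the reductions. -/
structure Good (p : ℕ) (Pr : ∀ H : Subgroup Γ, (H → ℂ) → Prop) : Prop where
  clif : ∀ {L T G : Subgroup Γ} (h : L ≤ T) (h' : T ≤ G) {ν : L → ℂ} {ψ : T → ℂ} {χ : G → ℂ},
    G ≤ normalizer (L : Set Γ) → T = G ⊓ stab L ν → ¬ p ∣ T.relIndex G → IsIrrCharacter L ν →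
    IsIrrCharacter T ψ → IsIrrCharacter G χ → Ov h ψ ν → Ov h' χ ψ → (Pr G χ ↔ Pr T ψ)
  fin : ∀ {M T M' T' : Subgroup Γ} (h : M ≤ T) (h' : M' ≤ T') {ψ : M → ℂ} {φ : M' → ℂ},
    IsIrrCharacter M ψ → IsIrrCharacter M' φ → T ≤ stab M ψ → T' ≤ stab M' φ →
    ¬ p ∣ M.relIndex T → ¬ p ∣ M'.relIndex T' →
    (∀ σ : ℂ →+* ℂ, (fun m => σ (ψ m)) = ψ ↔ (fun m => σ (φ m)) = φ) →
    Nat.card {χ : IrrCharacter T // Ov h χ.1 ψ} = Nat.card {χ : IrrCharacter T' // Ov h' χ.1 φ} →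
    Nat.card {χ : IrrCharacter T // Pr T χ.1 ∧ Ov h χ.1 ψ} =
      Nat.card {χ : IrrCharacter T' // Pr T' χ.1 ∧ Ov h' χ.1 φ}

/-- The number of characters of `p'`-degree over `ν` with property `Pr`. -/
noncomputable def Ct (p : ℕ) (Pr : ∀ H : Subgroup Γ, (H → ℂ) → Prop) (h : L ≤ G) (ν : L → ℂ) : ℕ :=
  Nat.card {χ : IrrCharacter G // (¬ p ∣ charDegree χ.1 ∧ Pr G χ.1) ∧ Ov h χ.1 ν}

variable {Pr : ∀ H : Subgroup Γ, (H → ℂ) → Prop} {ν : L → ℂ}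

omit hp in
theorem Ct_congr {G' : Subgroup Γ} (e : G = G') (h : L ≤ G) (h' : L ≤ G') :
    Ct p Pr h ν = Ct p Pr h' ν := by subst e; rfl

theorem Ct_clif (hg : Good p Pr) (h : L ≤ G) (hN : G ≤ normalizer (L : Set Γ))
    (hν : IsIrrCharacter L ν) (hS : SylIn p S G) (hi : S ≤ stab L ν) (h' : L ≤ G ⊓ stab L ν) :
    Ct p Pr h ν = Ct p Pr h' ν := by
  have h1 := not_dvd_relIndex_of_syl hS (le_inf hS.le hi) hS.le le_rfl
  refine card_clifford (h := h') inf_le_left hN hν le_rfl (fun χ => ¬ p ∣ charDegree χ ∧ Pr G χ)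
    (fun ψ => ¬ p ∣ charDegree ψ ∧ Pr _ ψ) fun χ ψ hχ hψ h2 h3 => ?_
  rw [hg.clif h' inf_le_left hN rfl h1 hν hψ hχ h2 h3,
    (clifford_amb inf_le_left hN hν le_rfl hψ h2 hχ h3).1, hp.out.dvd_mul, or_iff_right h1]

open Classical in
theorem Ct_sum (h : L ≤ K) (h' : K ≤ G) (hN : G ≤ normalizer (K : Set Γ))
    (hν : IsIrrCharacter L ν) (hS : SylIn p S G) (hi : G ≤ stab L ν) :
    (Ct p Pr (h.trans h') ν : ℚ) = ∑ θ : {θ : IrrCharacter K // S ≤ stab K θ.1 ∧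
      ¬ p ∣ charDegree θ.1 ∧ Ov h θ.1 ν},
        (Ct p Pr h' θ.1.1 : ℚ) / (stab K θ.1.1).relIndex (G ⊓ normalizer (S : Set Γ)) := by
  refine (card_eq_sum_inv (h := h') hN hS (fun χ => ¬ p ∣ charDegree χ ∧ Pr G χ)
    (Ov (h.trans h') · ν) (fun _ h => h.1) (fun θ => ¬ p ∣ charDegree θ ∧ Ov h θ ν)
    fun χ θ hχ hθ hZ ho => ?_).trans (Finset.sum_congr (by congr!) fun _ _ => rfl)
  rw [ov_iff hν hi hχ hθ ho, and_iff_right fun h0 => hZ.1 (h0.trans (degree_dvd_amb hN hχ hθ ho))]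

theorem Ct_inv (h : M ≤ T) {ψ : M → ℂ} (hψ : IrrP p M ψ) (hN : T ≤ normalizer (M : Set Γ))
    (hi : ¬ p ∣ M.relIndex T) :
    Ct p Pr h ψ = Nat.card {χ : IrrCharacter T // Pr T χ.1 ∧ Ov h χ.1 ψ} :=
  Nat.card_congr (Equiv.subtypeEquivRight fun χ => and_congr_left fun ho =>
    and_iff_right (not_dvd_degree_amb hp.out hN hi χ.2 hψ.1 ho hψ.2))

theorem Cfg.Ct_eq (hg : Good p Pr) (h : Cfg p n L K C S G ν) (h1 : L ≤ G) (h2 : L ≤ nP G L S) :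
    Ct p Pr h1 ν = Ct p Pr h2 ν := by
  classical
  have hS := h.syl.of_le h.SN inf_le_left
  refine Nat.cast_injective (R := ℚ) ((Ct_sum (h.LK.trans le_sup_left) h.MG h.nM h.irr h.syl
    h.inv).trans (Eq.trans ?_ (Ct_sum (h.LC.trans le_sup_left) h.M'N h.nM' h.irr hS
      (inf_le_left.trans h.inv)).symm))
  have hst : ∀ {H : Subgroup Γ} {χ : (H ⊔ S : Subgroup Γ) → ℂ}, IsIrrCharacter _ χ →
      H ⊔ S ≤ stab _ χ := fun hχ => le_stab_self _ hχ.isCharacter.isClassFunction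
  obtain ⟨e, he⟩ := exists_equiv_of_rel
    (fun (a : {θ : IrrCharacter (K ⊔ S : Subgroup Γ) // S ≤ stab _ θ.1 ∧
      ¬ p ∣ charDegree θ.1 ∧ Ov (h.LK.trans le_sup_left) θ.1 ν})
      (b : {θ : IrrCharacter (C ⊔ S : Subgroup Γ) // S ≤ stab _ θ.1 ∧
      ¬ p ∣ charDegree θ.1 ∧ Ov (h.LC.trans le_sup_left) θ.1 ν}) => RM p h.CK a.1.1 b.1.1)
    (fun a => (h.ex ⟨a.1.2, a.2.2.1⟩ a.2.2.2).elim fun φ hφ =>
      ⟨⟨⟨φ, hφ.1.1⟩, le_sup_right.trans (hst hφ.1.1), hφ.1.2, hφ.2.1⟩, hφ.2.2⟩)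
    (fun b => (h.surj ⟨b.1.2, b.2.2.1⟩ b.2.2.2).elim fun φ hφ =>
      ⟨⟨⟨φ, hφ.1.1⟩, le_sup_right.trans (hst hφ.1.1), hφ.1.2, hφ.2.1⟩, hφ.2.2⟩)
    (fun a b b' r r' => Subtype.ext (Subtype.ext
      (h.uniq ⟨a.1.2, a.2.2.1⟩ ⟨b.1.2, b.2.2.1⟩ ⟨b'.1.2, b'.2.2.1⟩ r r')))
    (fun a a' b r r' => Subtype.ext (Subtype.ext
      (h.inj ⟨a.1.2, a.2.2.1⟩ ⟨a'.1.2, a'.2.2.1⟩ ⟨b.1.2, b.2.2.1⟩ r r')))
  refine Fintype.sum_equiv e _ _ fun a => ?_
  have hψ : IrrP p _ a.1.1 := ⟨a.1.2, a.2.2.1⟩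
  have hφ : IrrP p _ (e a).1.1 := ⟨(e a).1.2, (e a).2.2.1⟩
  have h3 := le_inf h.MG (hst hψ.1)
  have h4 := le_inf h.M'N (hst hφ.1)
  have h5 := not_dvd_relIndex_of_syl h.syl (M := K ⊔ S) le_sup_right (le_sup_right.trans h3)
    inf_le_left
  have h6 := not_dvd_relIndex_of_syl hS (M := C ⊔ S) le_sup_right (le_sup_right.trans h4)
    inf_le_left
  rw [nP_inf h.nL, relIndex_congr fun x hx => h.stab_iff hψ hφ (he a) (le_nP h.nL hx),
    Ct_clif hg _ h.nM hψ.1 h.syl a.2.1 h3, Ct_clif hg _ h.nM' hφ.1 hS (e a).2.1 h4,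
    Ct_inv h3 hψ (inf_le_left.trans h.nM) h5, Ct_inv h4 hφ (inf_le_left.trans h.nM') h6,
    hg.fin h3 h4 hψ.1 hφ.1 inf_le_right inf_le_right h5 h6 (h.gal_iff hψ hφ (he a))
      (h.card_eq hψ hφ (he a) h3 h4)]

omit [Finite Γ] hp in
theorem exists_layer (hΓ : IsPSolvable p Γ) (h : L < G) (hN : G ≤ normalizer (L : Set Γ)) :
    ∃ K, L < K ∧ K ≤ G ∧ G ≤ normalizer (K : Set Γ) ∧ ∃ n, (∀ k ∈ K, k ^ n ∈ L) ∧
      ((∃ a, n = p ^ a) ∨ n.Coprime p) := by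
  obtain ⟨m, H, h0, h1, h2, h3, h4⟩ := hΓ
  have : ∃ i : Fin m, G ⊓ H i.castSucc ≤ L ∧ ¬ G ⊓ H i.succ ≤ L := by
    by_contra hc
    push Not at hc
    have h5 : ∀ i, G ⊓ H i ≤ L := Fin.induction (by simp [h0]) hc
    exact h.not_ge (by simpa [h1] using h5 (Fin.last m))
  obtain ⟨i, h5, h6⟩ := this
  have := h3 i.succ
  have := h3 i.castSucc
  have h7 : G ≤ normalizer ((G ⊓ H i.succ : Subgroup Γ) : Set Γ) := le_norm_of_conj fun g hg x hx =>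
    ⟨conj_mem_of_norm (le_normalizer hg) hx.1, (h3 _).conj_mem x hx.2 g⟩
  refine ⟨L ⊔ G ⊓ H i.succ, left_lt_sup.2 h6, sup_le h.le inf_le_left, fun g hg =>
    normalizer_inf_normalizer_le_normalizer_sup _ _ ⟨hN hg, h7 hg⟩, _, fun k hk => ?_, h4 i⟩
  obtain ⟨l, hl, x, hx, rfl⟩ := mem_sup_norm (inf_le_left.trans hN) hk
  exact (L.mul_mem_cancel_right (inv_mem (h5 ⟨pow_mem hx.1 _, pow_relIndex_mem
    (h2 i.castSucc_le_succ) le_normalizer_of_normal hx.2⟩))).1 (pow_mul_mem hl (hN hx.1) _)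

/-- The relative McKay count. -/
theorem Ct_eq (hΓ : IsPSolvable p Γ) (hg : Good p Pr) (G : Subgroup Γ) (hS : SylIn p S G)
    (L : Subgroup Γ) (h : L ≤ G) (hN : G ≤ normalizer (L : Set Γ)) {ν : L → ℂ}
    (hν : IsIrrCharacter L ν) (hi : S ≤ stab L ν) (h' : L ≤ nP G L S) :
    Ct p Pr h ν = Ct p Pr h' ν := by
  induction G using WellFoundedLT.induction generalizing L with | ind G ihG => ?_
  induction L using WellFoundedGT.induction with | ind L ihL => ?_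
  have hst := le_stab_self _ hν.isCharacter.isClassFunction
  have hL := le_inf h hst
  by_cases hT : G ≤ stab L ν
  swap
  · rw [Ct_clif hg h hN hν hS hi hL, Ct_clif hg h' (inf_le_left.trans hN) hν (hS.of_le
      (le_sup_right.trans (sup_le_nP h hS.le)) inf_le_left) hi (le_inf h' hst),
      ihG _ (inf_lt_left.2 hT) (hS.inf_of_le hi) L hL (inf_le_left.trans hN) hν hi
        (le_sup_left.trans (sup_le_nP hL (le_inf hS.le hi)))]
    exact Ct_congr (inf_right_comm ..) _ _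
  rcases h.eq_or_lt with rfl | hlt
  · exact Ct_congr (left_eq_inf.2 (by rw [sup_of_le_left hS.le]; exact le_normalizer)) _ _
  obtain ⟨K, h1, h2, h3, n, h4, h5⟩ := exists_layer hΓ hlt hN
  have h6 := sup_le_nP h2 hS.le
  have h7 := hS.of_le (le_sup_right.trans h6) inf_le_left
  have h8 : Ct p Pr h ν = Ct p Pr (h1.le.trans (le_sup_left.trans h6)) ν := by
    refine Nat.cast_injective (R := ℚ) ((Ct_sum h1.le h2 h3 hν hS hT).trans (Eq.trans ?_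
      (Ct_sum h1.le (le_sup_left.trans h6) (inf_le_left.trans h3) hν h7
        (inf_le_left.trans hT)).symm))
    refine Finset.sum_congr rfl fun θ _ => ?_
    rw [nP_inf h3, ihL K h1 h2 h3 θ.1.2 θ.2.1]
  have hSL := hS.le.trans hN
  by_cases h9 : G ≤ normalizer ((K ⊔ S : Subgroup Γ) : Set Γ)
  swap
  · rw [h8, ihG _ (inf_lt_left.2 h9) h7 L _ (inf_le_left.trans hN) hν hi
      (le_sup_left.trans (sup_le_nP (h1.le.trans (le_sup_left.trans h6)) h7.le))]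
    refine Ct_congr (le_antisymm (inf_le_inf_right _ inf_le_left) (le_inf (le_inf inf_le_left
      fun x hx => ?_) inf_le_right)) _ _
    rw [← sup_of_le_left h1.le, sup_assoc]
    exact normalizer_inf_normalizer_le_normalizer_sup _ _ ⟨h3 hx.1, hx.2⟩
  rcases h5 with ⟨a, rfl⟩ | h5
  · refine Ct_congr (left_eq_inf.2 ?_) _ _
    obtain ⟨b, hb⟩ := relIndex_eq_pow h1.le (h2.trans hN) h4
    rwa [← show K ⊔ S = L ⊔ S from le_antisymm (sup_le (relIndex_eq_one.1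
      (Nat.eq_one_of_dvd_coprimes (Nat.Coprime.pow_left b ((Nat.Prime.coprime_iff_not_dvd hp.out).2
        (hS.inf_normal_of_le h3 h2).not_dvd_relIndex)) (hb ▸ relIndex_dvd_of_le_left K le_sup_left)
        (relIndex_dvd_of_le_left K (inf_le_left.trans le_sup_right)))) le_sup_right)
      (sup_le_sup_right h1.le S)]
  · exact Cfg.Ct_eq (C := relCent K L (h2.trans hN) S) hg ⟨(Nat.Prime.coprime_iff_not_dvd hp.out).1
      h5.symm, hS, h1.le, h2, h3, h9, h4, fun _ => mem_relCent, hν, hT⟩ h h'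

theorem card_eq_Ct (hΓ : IsPSolvable p Γ) (hg : Good p Pr) [L.Normal] (S : Sylow p Γ)
    (hν : IsIrrCharacter L ν) (hi : (S : Subgroup Γ) ≤ stab L ν)
    (h : L ≤ normalizer ((L ⊔ S : Subgroup Γ) : Set Γ)) :
    Nat.card {χ : IrrCharacter Γ // (¬ p ∣ charDegree χ.1 ∧ Pr ⊤ fun g => χ.1 g) ∧
      classInner (fun l : L => χ.1 l) ν ≠ 0} = Ct p Pr h ν :=
  (Nat.card_congr ((irrCongr topEquiv).subtypeEquiv fun _ => Iff.rfl)).trans
    ((Ct_eq hΓ hg ⊤ (sylIn_top S) L le_top le_normalizer_of_normal hν hi (le_inf le_top h)).trans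
      (Ct_congr (top_inf_eq _) _ _))

omit hp in
theorem good_true : Good p fun (_ : Subgroup Γ) _ => True :=
  ⟨fun _ _ _ _ _ _ _ _ _ _ _ _ _ => Iff.rfl, fun _ _ _ _ _ _ _ _ _ _ _ h => by simpa using h⟩

omit hp in
theorem Ov_gal {h : L ≤ G} {χ : G → ℂ} (hν : IsCharacter L ν) (ho : Ov h χ ν) (σ : ℂ →+* ℂ) :
    Ov h (fun g => σ (χ g)) fun l => σ (ν l) := fun h0 =>
  ho ((map_eq_zero σ).1 ((classInner_gal _ hν.isGen σ).symm.trans h0))

omit hp in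
theorem real_of_ov {h : L ≤ G} (hN : G ≤ normalizer (L : Set Γ)) (hν : IsIrrCharacter L ν)
    (hi : ¬ 2 ∣ (G ⊓ stab L ν).relIndex G) {χ : G → ℂ} (hχ : IsIrrCharacter G χ) (ho : Ov h χ ν)
    (hr : (fun g => conj (χ g)) = χ) : (fun l => conj (ν l)) = ν := by
  obtain ⟨g, hg, e⟩ := exists_cj_of_ov hN hχ hν (hν.gal conj) ho
    (hr ▸ Ov_gal hν.isCharacter ho conj)
  have h1 : ∀ x, x ∈ stab L ν ↔ g * x * g⁻¹ ∈ stab L ν := fun x => by
    rw [← mem_stab_cj (hN hg), ← e]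
    exact and_congr_right fun _ => forall₃_congr fun _ _ _ => (star_inj (R := ℂ)).symm
  have h2 : g ∈ G ⊓ normalizer ((G ⊓ stab L ν : Subgroup Γ) : Set Γ) :=
    ⟨hg, mem_normalizer_iff.2 fun x => and_congr (mem_normalizer_iff.1 (le_normalizer hg) x) (h1 x)⟩
  have h3 := le_inf inf_le_left (le_normalizer (H := G ⊓ stab L ν))
  have h4 : g ∈ G ⊓ stab L ν := mem_of_coprime_pow_mem _ ((Nat.Prime.coprime_iff_not_dvd
    Nat.prime_two).2 fun h0 => hi (h0.trans (Dvd.intro _ (relIndex_mul_relIndex _ _ _ h3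
      inf_le_left)))) ⟨pow_mem hg 2, pow_mem (hN hg) 2, fun a b hab => by
      rw [show b = cjE L (hN hg) (cjE L (hN hg) a) from Subtype.ext (by
        rw [hab, coe_cjE, coe_cjE, pow_two]; group), ← congrFun e, ← congrFun e, Complex.conj_conj]⟩
    (pow_relIndex_mem h3 inf_le_right h2)
  exact e.trans ((mem_stab_iff _).1 h4.2)

omit hp in
theorem card_real_ov (h : M ≤ T) {ψ : M → ℂ} (hψ : IsIrrCharacter M ψ) (hT : T ≤ stab M ψ)
    (hi : ¬ 2 ∣ M.relIndex T) :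
    Nat.card {χ : IrrCharacter T // (fun g => conj (χ.1 g)) = χ.1 ∧ Ov h χ.1 ψ} =
      if (fun m => conj (ψ m)) = ψ then 1 else 0 := by
  have hN : T ≤ normalizer (M : Set Γ) := fun _ hg => (hT hg).1
  split_ifs with hr
  · have := (normal_subgroupOf_iff_le_normalizer h).mpr hN
    have hm := Nat.odd_iff.2 (Nat.two_dvd_ne_zero.1 hi)
    obtain ⟨χ, h1, h2, h3, h4⟩ := OddExt.Hyp.exists_unique (σ := conj) (N := M.subgroupOf T)
      ⟨hm, fun g => pow_relIndex_mem h hN g.2, fun z hz => by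
        rw [Complex.conj_mul', Complex.norm_eq_one_of_pow_eq_one hz hm.pos.ne']; simp⟩
      (hψ.subOf h) fun _ => congrFun hr _
    exact Nat.card_eq_one_iff_exists.2 ⟨⟨⟨χ, h1⟩, funext h3, fun h0 => one_ne_zero
      (h2.symm.trans ((classInner_res_subOf h χ ψ).trans h0))⟩, fun x => Subtype.ext (Subtype.ext
        (h4 _ x.1.2 (fun h0 => x.2.2 ((classInner_res_subOf h _ ψ).symm.trans h0)) (congrFun x.2.1)))⟩
  · exact Nat.card_eq_zero.2 (Or.inl ⟨fun x => hr (eq_of_ov_of_IS hN x.1.2 hψ (hψ.gal conj) x.2.2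
      (x.2.1 ▸ Ov_gal hψ.isCharacter x.2.2 conj) fun _ hg => (hT hg).2)⟩)

omit hp in
theorem good_real : Good 2 fun (_ : Subgroup Γ) χ => (fun g => conj (χ g)) = χ := by
  refine ⟨fun h h' ν ψ χ hN hT hi hν hψ hχ h1 h2 => ⟨fun hr => ?_, fun hr => ?_⟩,
    fun h h' ψ φ hψ hφ h1 h2 h3 h4 h5 _ => ?_⟩
  · have h3 := real_of_ov hN hν (hT ▸ hi) hχ (Ov.trans hχ.isCharacter hψ hν.isCharacter h2 h1) hr
    exact (clifford_amb h' hN hν hT.ge hψ h1 hχ h2).2 _ (hψ.gal conj)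
      (h3 ▸ Ov_gal hν.isCharacter h1 conj) (hr ▸ Ov_gal hψ.isCharacter h2 conj)
  · obtain ⟨χ', -, -, h3⟩ := exists_unique_ov h' hN hν hT.ge hψ h1
    exact (h3 _ (hχ.gal conj) (hr ▸ Ov_gal hψ.isCharacter h2 conj)).trans (h3 _ hχ h2).symm
  · rw [card_real_ov h hψ h1 h3, card_real_ov h' hφ h2 h4, if_congr (h5 conj) rfl rfl]

end CL.OW
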