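import Cfsg.Agent.BLK.Ito
import Cfsg.Agent.S4445
import Cfsg.Agent.SOLV.PSolvable
import Cfsg.Agent.SOLV.CoprimeSylow
import Cfsg.Agent.PLOC.PFrattini
import Cfsg.Agent.CHAR.Ext
import Cfsg.Agent.CHAR.Linear

/-! Navarro–Wolf for groups that are `p`- and `q`-solvable: if every irreducible character of
degree prime to `p` has degree prime to `q` then `N(P) ≤ N(Q)` for suitable Sylow subgroups. -/

set_option autoImplicit false

open Cfsg Subgroup CL.Char CL.MSS CL.Blk
open scoped CL.MSS Pointwise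

namespace CL.NW

universe u

section
variable {G : Type*} [Group G] [Finite G] {p q : ℕ}

/-- a character of a subgroup of `p'`-index and `p'`-degree lies under a `p'`-degree character -/
theorem exists_over_not_dvd (hp : p.Prime) {L : Subgroup G} [Fintype L] (hL : ¬ p ∣ L.index)
    {ψ : L → ℂ} (hψ : IsIrrCharacter L ψ) (hd : ¬ p ∣ charDegree ψ) :
    ∃ χ, IsIrrCharacter G χ ∧ ¬ p ∣ charDegree χ ∧ classInner (fun x : L => χ x) ψ ≠ 0 := by
  classical
  have := Fintype.ofFinite G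
  have hi := hψ.isCharacter.ind
  obtain ⟨n, hn, hs⟩ := hi.exists_nat_coeffs
  by_contra! hc
  have h1 := congrFun hs 1
  rw [indFun_one, hψ.apply_one_eq_charDegree, Finset.sum_apply] at h1
  have h2 : ((L.index * charDegree ψ : ℕ) : ℂ) =
      ((∑ χ : IrrCharacter G, n χ * charDegree (χ : G → ℂ) : ℕ) : ℂ) := by
    push_cast
    rw [h1]
    refine Finset.sum_congr rfl fun χ _ => ?_
    rw [Pi.smul_apply, χ.2.apply_one_eq_charDegree, smul_eq_mul]
  have h3 : p ∣ L.index * charDegree ψ := by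
    rw [Nat.cast_injective h2]
    refine Finset.dvd_sum fun χ _ => ?_
    by_cases hχ : p ∣ charDegree (χ : G → ℂ)
    · exact hχ.mul_left _
    · have h4 := hc χ χ.2 hχ
      rw [← inner_ind_eq_inner_res hψ.isCharacter χ.2.isCharacter, hn] at h4
      rw [Nat.cast_eq_zero.1 h4, zero_mul]
      exact dvd_zero _
  exact ((Nat.Prime.dvd_mul hp).1 h3).elim hL hd

/-- an extendible character of `p'`-degree has inertia group of `q'`-index -/
theorem not_dvd_index_inertia (hp : p.Prime)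
    (h : ∀ χ : IrrCharacter G, ¬ p ∣ charDegree (χ : G → ℂ) → ¬ q ∣ charDegree (χ : G → ℂ))
    {N L : Subgroup G} [N.Normal] (hNL : N ≤ L) (hL : ¬ p ∣ L.index) {θ : N → ℂ}
    (hθ : IsIrrCharacter N θ) {ψ : L → ℂ} (hψ : IsIrrCharacter L ψ)
    (hd : ¬ p ∣ charDegree θ) (he : ∀ n : N, ψ ⟨n, hNL n.2⟩ = θ n) :
    ¬ q ∣ (inertia N θ).index := by
  have := Fintype.ofFinite L
  have := Fintype.ofFinite N
  have hd' : charDegree ψ = charDegree θ := by
    have h1 := he 1
    rw [hθ.apply_one_eq_charDegree] at h1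
    have h2 : ψ 1 = charDegree θ := h1
    rw [hψ.apply_one_eq_charDegree] at h2
    exact_mod_cast h2
  obtain ⟨χ, h1, h2, h3⟩ := exists_over_not_dvd hp hL hψ (hd' ▸ hd)
  have h4 : classInner (fun n : N => χ n) θ ≠ 0 := by
    refine inner_comp_ne_zero_of_constituent (inclusion hNL) (h1.isCharacter.res L) hψ h3
      hθ.isCharacter ?_
    have : (fun x : N => ψ (inclusion hNL x)) = θ := funext he
    rw [this, hθ.inner_self]
    exact one_ne_zero
  exact fun hq => h ⟨χ, h1⟩ h2 (hq.trans (index_inertia_dvd_of_under h1 hθ h4))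

variable [hp : Fact p.Prime] [hq : Fact q.Prime]

theorem trich {N : Subgroup G} (hN : IsMinNormal N) (hps : IsPSolvable p G)
    (hqs : IsPSolvable q G) :
    IsPGroup p N ∨ IsPGroup q N ∨ (Nat.card N).Coprime p ∧ (Nat.card N).Coprime q := by
  rcases hN.isPGroup_or_coprime (IsPSolvable.subgroup hps N) with h1 | h1
  · exact Or.inl h1
  rcases hN.isPGroup_or_coprime (IsPSolvable.subgroup hqs N) with h2 | h2
  · exact Or.inr (Or.inl h2)
  · exact Or.inr (Or.inr ⟨h1, h2⟩)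

theorem sep (hps : IsPSolvable p G) (hqs : IsPSolvable q G) :
    IsPiSeparable ({p, q} : Set ℕ) G := by
  refine hasNormalSeries_of_forall_quotient fun N _ ht => ?_
  have := nontrivial_quotient_of_ne_top ht
  obtain ⟨M, hM⟩ := exists_isMinNormal (G ⧸ N)
  refine ⟨M, hM.normal, hM.ne_bot, ?_⟩
  rcases trich hM (IsPSolvable.quotient hps N) (IsPSolvable.quotient hqs N) with h | h | ⟨h1, h2⟩
  · exact Or.inl (IsPiNum.of_isPGroup h (by simp))
  · exact Or.inl (IsPiNum.of_isPGroup h (by simp))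
  · refine Or.inr (isPiNum_compl_iff.2 fun r hr hm hd => ?_)
    rcases hm with rfl | rfl
    · exact hr.one_lt.ne' (Nat.eq_one_of_dvd_coprimes h1 hd dvd_rfl)
    · exact hr.one_lt.ne' (Nat.eq_one_of_dvd_coprimes h2 hd dvd_rfl)

theorem hall_le (hps : IsPSolvable p G) (hqs : IsPSolvable q G) {P Q T : Subgroup G}
    (hP : SylIn p P ⊤) (hQ : SylIn q Q ⊤)
    (hN : normalizer (P : Set G) ≤ normalizer (Q : Set G)) (hPT : P ≤ T)
    (hT : ¬ q ∣ T.index) : Q ≤ T := by
  have hs := sep hps hqs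
  have hPQ : P ≤ normalizer (Q : Set G) := le_normalizer.trans hN
  have hsP : Group.IsSolvable P := by have := hP.pgroup.isNilpotent; infer_instance
  have hsQ : Group.IsSolvable Q := by have := hQ.pgroup.isNilpotent; infer_instance
  obtain ⟨H, hH, hPH⟩ := (hs.subgroup T).exists_isPiHall_ge (K := P.subgroupOf T)
    (IsPiNum.of_isPGroup (isPGroup_subgroupOf hP.pgroup T) (by simp))
    (Or.inl (by have := (isPGroup_subgroupOf hP.pgroup T).isNilpotent; infer_instance))
  have hH' : IsPiHall ({p, q} : Set ℕ) (H.map T.subtype) := by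
    refine IsPiHall.map_subtype hH (isPiNum_compl_iff.2 fun r _ hm hd => ?_)
    rcases hm with rfl | rfl
    · have := hP.not_dvd_relIndex
      rw [relIndex_top_right] at this
      exact this (hd.trans (index_dvd_of_le hPT))
    · exact hT hd
  have hPH' : P ≤ H.map T.subtype := by
    intro x hx
    exact ⟨⟨x, hPT hx⟩, hPH hx, rfl⟩
  obtain ⟨g, hg⟩ := hs.exists_le_conj hH' (K := P ⊔ Q)
    (((IsPiNum.of_isPGroup hP.pgroup (by simp)).mul
      (IsPiNum.of_isPGroup hQ.pgroup (by simp))).of_dvd (card_sup_dvd_mul_of_le_normalizer hPQ))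
    (Or.inl (isSolvable_sup_of_le_normalizer hPQ hsP hsQ))
  have hg' : P ⊔ Q ≤ g •ᶜ (H.map T.subtype) := hg
  have h1 : SylIn p P (g •ᶜ (H.map T.subtype)) := hP.of_le (le_sup_left.trans hg') le_top
  have h2 : SylIn p (g •ᶜ P) (g •ᶜ (H.map T.subtype)) := (hP.of_le hPH' le_top).cj g
  obtain ⟨x, hx, hx'⟩ := h2.exists_conj h1
  rw [← cj_mul] at hx'
  have h3 : (x * g) •ᶜ Q = Q := cj_eq_of_mem_normalizer (hN (mem_normalizer_iff_cj.2 hx'))
  have h4 : (x * g) •ᶜ Q ≤ (x * g) •ᶜ (H.map T.subtype) := by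
    rw [h3, cj_mul, cj_eq_of_mem hx]
    exact le_sup_right.trans hg'
  exact ((cj_le_cj_iff _).1 h4).trans (map_subtype_le _)

/-- the case of a normal `p`-subgroup -/
theorem caseP (hpq : p ≠ q)
    (h : ∀ χ : IrrCharacter G, ¬ p ∣ charDegree (χ : G → ℂ) → ¬ q ∣ charDegree (χ : G → ℂ))
    {N P K Q : Subgroup G} [N.Normal] (hN : IsPGroup p N) (hP : SylIn p P ⊤)
    (hQ : SylIn q Q K) (hK : Q ⊔ N = K) (hPK : normalizer (P : Set G) ≤ normalizer (K : Set G))
    (hF : ∀ T : Subgroup G, N ≤ T → P ≤ T → ¬ q ∣ T.index → K ≤ T) :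
    normalizer (P : Set G) ≤ normalizer (Q : Set G) := by
  have hNP : N ≤ P := hP.le_of_normalized hN le_top (by rw [normalizer_eq_top]; exact le_top)
  have hQN : Q ≤ normalizer (N : Set G) := by rw [normalizer_eq_top]; exact le_top
  have hfr : ∀ x ∈ normalizer (K : Set G), ∃ n ∈ N, n⁻¹ * x ∈ normalizer (Q : Set G) := by
    intro x hx
    obtain ⟨k, hk, y, hy, rfl⟩ := hQ.frattini hx
    rw [← hK, sup_comm] at hk
    obtain ⟨n, hn, z, hz, rfl⟩ := (mem_sup_of_normalizes_left hQN).1 hk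
    refine ⟨n, hn, ?_⟩
    rw [show n⁻¹ * (n * z * y) = z * y by group]
    exact mul_mem (le_normalizer hz) hy
  suffices hs : N ≤ normalizer (Q : Set G) by
    intro x hx
    obtain ⟨n, hn, hn'⟩ := hfr x (hPK hx)
    have := mul_mem (hs hn) hn'
    rwa [mul_inv_cancel_left] at this
  by_contra hc
  have hne : (normalizer (Q : Set G)).subgroupOf P ≠ ⊤ := fun e =>
    hc fun n hn => (subgroupOf_eq_top.1 e) (hNP hn)
  obtain ⟨U, hU, hU'⟩ := (eq_top_or_exists_le_coatom _).resolve_left hne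
  have hcU := CL.PG.commutator_le_coatom hP.pgroup hU
  have hNU : ¬ N.subgroupOf P ≤ U := by
    intro hle
    apply hU.1
    rw [eq_top_iff]
    intro x _
    obtain ⟨n, hn, hn'⟩ := hfr x (hPK (le_normalizer x.2))
    have h1 : (⟨n, hNP hn⟩ : P) ∈ U := hle hn
    have h2 : (⟨n, hNP hn⟩ : P)⁻¹ * x ∈ U := hU' hn'
    have := mul_mem h1 h2
    rwa [mul_inv_cancel_left] at this
  obtain ⟨x, hx, hxU⟩ := Set.not_subset.1 hNU
  obtain ⟨μ, hμ, hμx⟩ := exists_hom_of_not_mem U hcU hxU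
  let θ : N → ℂ := fun n => (μ.comp (inclusion hNP) n : ℂ)
  have hθ : IsIrrCharacter N θ := isIrrCharacter_hom _
  have hd : charDegree θ = 1 := by
    have := hθ.apply_one_eq_charDegree
    have h1 : θ 1 = 1 := by simp [θ]
    rw [h1] at this
    exact_mod_cast this.symm
  have hPi : ¬ p ∣ P.index := by
    have := hP.not_dvd_relIndex
    rwa [relIndex_top_right] at this
  have hi := not_dvd_index_inertia hp.out h hNP hPi hθ (isIrrCharacter_hom μ)
    (by rw [hd, Nat.dvd_one]; exact hp.out.one_lt.ne') (fun n => rfl)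
  have hPT : P ≤ inertia N θ := by
    intro g hg
    rw [mem_inertia]
    intro n
    have : inclusion hNP ⟨g * n * g⁻¹, (inferInstance : N.Normal).conj_mem _ n.2 g⟩ =
        (⟨g, hg⟩ : P) * inclusion hNP n * (⟨g, hg⟩ : P)⁻¹ := rfl
    simp only [θ, MonoidHom.comp_apply, this, map_mul, map_inv]
    rw [mul_comm (μ _), mul_inv_cancel_right]
  have hKT := hF _ (le_inertia hθ.isClassFunction) hPT hi
  have hker : ⁅N, Q⁆ ≤ (μ.ker).map P.subtype := by
    rw [commutator_le]
    intro n hn y hy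
    have h1 := mem_inertia.1 (hKT (hK ▸ le_sup_left (b := N) hy)) ⟨n⁻¹, inv_mem hn⟩
    have h2 : y * n⁻¹ * y⁻¹ ∈ N := (inferInstance : N.Normal).conj_mem _ (inv_mem hn) y
    refine ⟨⟨n, hNP hn⟩ * ⟨_, hNP h2⟩, ?_, by simp [commutatorElement_def, mul_assoc]⟩
    have h3 : μ ⟨_, hNP h2⟩ = μ (⟨n, hNP hn⟩ : P)⁻¹ := Units.val_injective h1
    rw [SetLike.mem_coe, MonoidHom.mem_ker, map_mul, h3, map_inv, mul_inv_cancel]
  obtain ⟨a, -⟩ := hQ.pgroup.exists_card_eq
  obtain ⟨s, hs, c, hc', he⟩ := coprime_exists_commutator_mul_centralizer Q N hQN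
    (IsPGroup.coprime_card_of_ne q p hpq.symm Q N hQ.pgroup hN)
    (Or.inl (by have := hQ.pgroup.isNilpotent; infer_instance)) x hx
  obtain ⟨s', hs', rfl⟩ := hker hs
  have h4 : (⟨c, hNP hc'.1⟩ : P) ∈ U := hU' (centralizer_le_normalizer _ hc'.2)
  apply hμx
  rw [show x = s' * ⟨c, hNP hc'.1⟩ from Subtype.ext he, map_mul, hμ _ h4, mul_one]
  exact hs'

/-- the case of a normal subgroup of order prime to `p` and `q` -/
theorem caseC (hpq : p ≠ q)
    (h : ∀ χ : IrrCharacter G, ¬ p ∣ charDegree (χ : G → ℂ) → ¬ q ∣ charDegree (χ : G → ℂ))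
    {N P K Q : Subgroup G} [hNn : N.Normal] (hNp : (Nat.card N).Coprime p)
    (hNq : (Nat.card N).Coprime q) (hP : SylIn p P ⊤)
    (hQ : SylIn q Q K) (hK : Q ⊔ N = K) (hPQ : P ≤ normalizer (Q : Set G))
    (hPK : normalizer (P : Set G) ≤ normalizer (K : Set G))
    (hF : ∀ T : Subgroup G, N ≤ T → P ≤ T → ¬ q ∣ T.index → K ≤ T) :
    normalizer (P : Set G) ≤ normalizer (Q : Set G) := by
  classical
  have := Fintype.ofFinite G
  have := Fintype.ofFinite N
  have hnN : ∀ X : Subgroup G, X ≤ normalizer (N : Set G) := fun X => by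
    rw [normalizer_eq_top]; exact le_top
  have hsP : Group.IsSolvable P := by have := hP.pgroup.isNilpotent; infer_instance
  have hsQ : Group.IsSolvable Q := by have := hQ.pgroup.isNilpotent; infer_instance
  have hsH := isSolvable_sup_of_le_normalizer hPQ hsP hsQ
  obtain ⟨a, ha⟩ := hP.pgroup.exists_card_eq
  obtain ⟨b, hb⟩ := hQ.pgroup.exists_card_eq
  have hcP : (Nat.card N).Coprime (Nat.card P) := ha ▸ hNp.pow_right a
  have hcQ : (Nat.card N).Coprime (Nat.card Q) := hb ▸ hNq.pow_right b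
  have hcH : (Nat.card N).Coprime (Nat.card (P ⊔ Q : Subgroup G)) :=
    (Nat.Coprime.mul_right hcP hcQ).coprime_dvd_right (card_sup_dvd_mul_of_le_normalizer hPQ)
  have hPi : ¬ p ∣ P.index := by
    have := hP.not_dvd_relIndex
    rwa [relIndex_top_right] at this
  -- `P`-invariant characters are `Q`-invariant
  have hinv : ∀ θ : N → ℂ, IsIrrCharacter N θ → P ≤ inertia N θ → P ⊔ Q ≤ inertia N θ := by
    intro θ hθ hPT
    have hNL : N ≤ N ⊔ P := le_sup_left
    let e := subgroupOfEquivOfLe hNL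
    have hLT : N ⊔ P ≤ inertia N θ := sup_le (le_inertia hθ.isClassFunction) hPT
    obtain ⟨ψ, hψ, he, -⟩ := exists_ext_of_coprime_card (N.subgroupOf (N ⊔ P))
      (hθ.comp_mulEquiv e) (fun g n => mem_inertia.1 (hLT g.2) (e n)) (by
        rw [Nat.card_congr e.toEquiv]
        have h1 : (N.subgroupOf (N ⊔ P)).index ∣ Nat.card P := by
          have := relIndex_sup_left P N
          change N.relIndex (N ⊔ P) ∣ _
          rw [this]
          exact relIndex_dvd_card N P
        exact (hcP.coprime_dvd_right h1).symm)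
    have hi := not_dvd_index_inertia hp.out h hNL
      (fun hd => hPi (hd.trans (index_dvd_of_le le_sup_right))) hθ hψ
      (fun hd => hp.out.one_lt.ne' (Nat.eq_one_of_dvd_coprimes hNp
        (hd.trans hθ.charDegree_dvd_card) dvd_rfl)) (fun n => he ⟨⟨n, hNL n.2⟩, n.2⟩)
    exact sup_le hPT ((hK ▸ le_sup_left : Q ≤ K).trans
      (hF _ (le_inertia hθ.isClassFunction) hPT hi))
  have c1 := Cfsg.Agent.S4445.result N P (fun s _ g hg => hNn.conj_mem g hg s) hcP hsP
  have c2 := Cfsg.Agent.S4445.result N (P ⊔ Q) (fun s _ g hg => hNn.conj_mem g hg s) hcH hsH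
  have c3 : Nat.card {χ : IrrCharacter N // ∀ s ∈ P, ∀ g g' : N, (g' : G) = s * g * s⁻¹ →
        (χ : N → ℂ) g' = (χ : N → ℂ) g} =
      Nat.card {χ : IrrCharacter N // ∀ s ∈ P ⊔ Q, ∀ g g' : N, (g' : G) = s * g * s⁻¹ →
        (χ : N → ℂ) g' = (χ : N → ℂ) g} := by
    refine Nat.card_congr (Equiv.subtypeEquivRight fun χ => ⟨fun hχ s hs g g' e => ?_,
      fun hχ s hs => hχ s (le_sup_left (b := Q) hs)⟩)
    have h1 := hinv χ χ.2 fun s hs => mem_inertia.2 fun n => hχ s hs n _ rfl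
    rw [← mem_inertia.1 (h1 hs) g]
    exact congrArg _ (Subtype.ext e)
  rw [c1, c2] at c3
  have c4 : ∀ C : ConjClasses N, (∀ s ∈ P, ∀ g g' : N, (g' : G) = s * g * s⁻¹ →
      ConjClasses.mk g = C → ConjClasses.mk g' = C) → ∀ s ∈ P ⊔ Q, ∀ g g' : N,
      (g' : G) = s * g * s⁻¹ → ConjClasses.mk g = C → ConjClasses.mk g' = C := by
    intro C hC
    have hb := (Nat.bijective_iff_injective_and_card (fun x : {C : ConjClasses N //
        ∀ s ∈ P ⊔ Q, ∀ g g' : N, (g' : G) = s * g * s⁻¹ → ConjClasses.mk g = C →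
          ConjClasses.mk g' = C} => (⟨x.1, fun s hs => x.2 s (le_sup_left (b := Q) hs)⟩ :
        {C : ConjClasses N // ∀ s ∈ P, ∀ g g' : N, (g' : G) = s * g * s⁻¹ →
          ConjClasses.mk g = C → ConjClasses.mk g' = C}))).2
      ⟨fun x y e => by have e' := Subtype.ext_iff.1 e; exact Subtype.ext e', c3.symm⟩
    obtain ⟨x, hx⟩ := hb.2 ⟨C, hC⟩
    have : x.1 = C := Subtype.ext_iff.1 hx
    exact this ▸ x.2
  -- the fixed points of `P` are fixed by `Q`
  have hD : N ⊓ centralizer (P : Set G) ≤ centralizer ((P ⊔ Q : Subgroup G) : Set G) := by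
    have key : (centralizer ((P ⊔ Q : Subgroup G) : Set G)).subgroupOf
        (N ⊓ centralizer (P : Set G)) = ⊤ := by
      refine eq_top_of_forall_exists_conj_mem fun x => ?_
      have hx := c4 (ConjClasses.mk ⟨x, x.2.1⟩) (fun s hs g g' e hg => by
        rw [← hg, ConjClasses.mk_eq_mk_iff_isConj]
        obtain ⟨c, hc⟩ := isConj_iff.1 (ConjClasses.mk_eq_mk_iff_isConj.1 hg)
        have hc' : (c : G) * g * (c : G)⁻¹ = x := congrArg Subtype.val hc
        have hsx : s * x * s⁻¹ = x := by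
          rw [mem_centralizer_iff.1 x.2.2 s hs, mul_inv_cancel_right]
        refine isConj_iff.2 ⟨c⁻¹ * ⟨s * c * s⁻¹, hNn.conj_mem _ c.2 s⟩, Subtype.ext ?_⟩
        change (c : G)⁻¹ * (s * c * s⁻¹) * g' * ((c : G)⁻¹ * (s * c * s⁻¹))⁻¹ = g
        rw [e]
        calc (c : G)⁻¹ * (s * c * s⁻¹) * (s * g * s⁻¹) * ((c : G)⁻¹ * (s * c * s⁻¹))⁻¹
            = (c : G)⁻¹ * (s * (c * g * (c : G)⁻¹) * s⁻¹) * c := by group
          _ = g := by rw [hc', hsx, ← hc']; group)
      obtain ⟨k, hk, hk'⟩ := coprime_exists_conj_mem (P ⊔ Q) N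
        (centralizer ({(x : G)} : Set G)) (hnN _) hcH.symm (Or.inl hsH) (fun a ha => by
          have h1 := hx a ha ⟨x, x.2.1⟩ ⟨a * x * a⁻¹, hNn.conj_mem _ x.2.1 a⟩ rfl rfl
          obtain ⟨n, hn⟩ := isConj_iff.1 (ConjClasses.mk_eq_mk_iff_isConj.1 h1.symm)
          have hn' : (n : G) * x * (n : G)⁻¹ = a * x * a⁻¹ := congrArg Subtype.val hn
          refine ⟨n, n.2, (n : G)⁻¹ * a, ?_, by group⟩
          rw [mem_centralizer_singleton_iff]
          calc (n : G)⁻¹ * a * x = (n : G)⁻¹ * (a * x * a⁻¹) * a := by group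
            _ = (n : G)⁻¹ * (n * x * (n : G)⁻¹) * a := by rw [hn']
            _ = x * ((n : G)⁻¹ * a) := by group)
      have hkx : k * x * k⁻¹ ∈ centralizer ((P ⊔ Q : Subgroup G) : Set G) := by
        refine mem_centralizer_iff.2 fun a ha => ?_
        have h1 := mem_centralizer_singleton_iff.1 (hk' a ha)
        calc a * (k * x * k⁻¹) = k * (k⁻¹ * a * k * x) * k⁻¹ := by group
          _ = k * (x * (k⁻¹ * a * k)) * k⁻¹ := by rw [h1]
          _ = k * x * k⁻¹ * a := by group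
      obtain ⟨c, hc, hc'⟩ := coprime_conj_elem_trans P N (hnN _) hcP.symm (Or.inl hsP) x x.2.2 k hk
        (centralizer_le (le_sup_left (b := Q)) hkx)
      refine ⟨⟨c, hc⟩, mem_subgroupOf.2 ?_⟩
      change c * x * c⁻¹ ∈ _
      rwa [hc']
    exact subgroupOf_eq_top.1 key
  intro g hg
  have h1 : SylIn q (g •ᶜ Q) K := hQ.cj_of_mem_normalizer (hPK hg)
  obtain ⟨k, hk, hk'⟩ := hQ.exists_conj h1
  rw [← hK, sup_comm] at hk
  obtain ⟨n, hn, z, hz, rfl⟩ := (mem_sup_of_normalizes_left (hnN Q)).1 hk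
  rw [cj_mul, cj_eq_of_mem hz] at hk'
  have h2 : P ≤ normalizer ((MulAut.conj n • Q : Subgroup G) : Set G) := by
    change P ≤ normalizer ((n •ᶜ Q : Subgroup G) : Set G)
    rw [hk', ← cj_normalizer, ← cj_eq_of_mem_normalizer hg]
    exact cj_mono _ hPQ
  obtain ⟨c, hc, hc'⟩ := coprime_invariant_conj_trans P N (hnN _) hcP.symm (Or.inl hsP) Q hPQ n hn h2
  have h3 : c •ᶜ Q = n •ᶜ Q := hc'
  rw [mem_normalizer_iff_cj, ← hk', ← h3]
  exact cj_eq_of_mem_centralizer (centralizer_le (le_sup_right (a := P)) (hD hc))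

end

/-- **Navarro–Wolf** -/
theorem exists_normalizer_le {p q : ℕ} [hp : Fact p.Prime] [hq : Fact q.Prime] (hpq : p ≠ q)
    {G : Type u} [Group G] [Finite G] (hps : IsPSolvable p G) (hqs : IsPSolvable q G)
    (h : ∀ χ : IrrCharacter G, ¬ p ∣ charDegree (χ : G → ℂ) → ¬ q ∣ charDegree (χ : G → ℂ)) :
    ∃ (P : Sylow p G) (Q : Sylow q G),
      normalizer ((P : Subgroup G) : Set G) ≤ normalizer ((Q : Subgroup G) : Set G) := by
  induction hn : Nat.card G using Nat.strong_induction_on generalizing G with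
  | _ n ih =>
  rcases subsingleton_or_nontrivial G with hG | hG
  · obtain ⟨P⟩ : Nonempty (Sylow p G) := inferInstance
    obtain ⟨Q⟩ : Nonempty (Sylow q G) := inferInstance
    exact ⟨P, Q, fun x _ => by rw [Subsingleton.elim x 1]; exact one_mem _⟩
  obtain ⟨N, hN⟩ := exists_isMinNormal G
  have := hN.normal
  have hπ := QuotientGroup.mk'_surjective N
  obtain ⟨P', Q', hPQ'⟩ := ih _ (hn ▸ card_quotient_lt hN.ne_bot)
    (IsPSolvable.quotient hps N) (IsPSolvable.quotient hqs N) (fun ψ hψ => by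
      have h1 := h ⟨_, ψ.2.comp_surjective _ hπ⟩
      simp only [charDegree_comp] at h1
      exact h1 hψ) rfl
  obtain ⟨P, rfl⟩ := Sylow.mapSurjective_surjective hπ p P'
  rw [Sylow.coe_mapSurjective] at hPQ'
  set K := (Q' : Subgroup (G ⧸ N)).comap (QuotientGroup.mk' N) with hKd
  have hNK : N ≤ K := le_comap_mk' N _
  have hKm : K.map (QuotientGroup.mk' N) = Q' := map_comap_eq_self_of_surjective hπ _
  have hKi : ¬ q ∣ K.index := by
    rw [hKd, index_comap_of_surjective _ hπ]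
    exact Q'.not_dvd_index
  have hPK : normalizer ((P : Subgroup G) : Set G) ≤ normalizer (K : Set G) := by
    intro g hg
    have h1 := hPQ' (le_normalizer_map (QuotientGroup.mk' N) ⟨g, hg, rfl⟩)
    exact le_normalizer_comap (QuotientGroup.mk' N) h1
  have hF : ∀ T : Subgroup G, N ≤ T → (P : Subgroup G) ≤ T → ¬ q ∣ T.index → K ≤ T := by
    intro T hNT hPT hT
    have h1 := hall_le (IsPSolvable.quotient hps N) (IsPSolvable.quotient hqs N)
      (sylIn_top (P.mapSurjective hπ)) (sylIn_top Q') hPQ' (T := T.map (QuotientGroup.mk' N))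
      (map_mono hPT) (by rwa [index_map_eq _ hπ (by rwa [QuotientGroup.ker_mk'])])
    have h2 := comap_mono (f := QuotientGroup.mk' N) h1
    rwa [comap_map_eq, QuotientGroup.ker_mk', sup_of_le_left hNT] at h2
  have hS : ∀ Q : Subgroup G, SylIn q Q K → Q ⊔ N = K ∧ ∃ Q₁ : Sylow q G, (Q₁ : Subgroup G) = Q := by
    intro Q hQ
    constructor
    · have h1 := hQ.map (QuotientGroup.mk' N)
      rw [hKm] at h1
      rw [hKd, ← h1.eq_of_isPGroup Q'.isPGroup', comap_map_eq, QuotientGroup.ker_mk']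
    · refine sylIn_top_iff.1 (sylIn_of_not_dvd_relIndex hQ.pgroup le_top ?_)
      rw [relIndex_top_right, ← relIndex_mul_index hQ.le, hq.out.dvd_mul]
      exact fun hd => hd.elim hQ.not_dvd_relIndex hKi
  rcases trich hN hps hqs with h1 | h1 | ⟨h1, h2⟩
  · obtain ⟨Q, hQ⟩ := exists_sylIn q K
    obtain ⟨h2, Q₁, rfl⟩ := hS Q hQ
    exact ⟨P, Q₁, caseP hpq h h1 (sylIn_top P) hQ h2 hPK hF⟩
  · obtain ⟨Q, hQ⟩ := exists_sylIn q K
    obtain ⟨h2, Q₁, rfl⟩ := hS Q hQ
    have h3 : N ≤ (Q₁ : Subgroup G) := (sylIn_top Q₁).le_of_normalized h1 le_top (by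
      rw [normalizer_eq_top]; exact le_top)
    rw [sup_of_le_left h3] at h2
    exact ⟨P, Q₁, h2 ▸ hPK⟩
  · obtain ⟨Q, hQ⟩ := exists_sylIn q K
    have hKp : (Nat.card P).Coprime (Nat.card K) := by
      obtain ⟨a, ha⟩ := P.isPGroup'.exists_card_eq
      obtain ⟨b, hb⟩ := hQ.pgroup.exists_card_eq
      rw [ha, ← (hS Q hQ).1]
      refine (Nat.Coprime.coprime_dvd_right (card_sup_dvd_mul Q N) ?_).pow_left a
      rw [hb]
      exact Nat.Coprime.mul_right
        (((Nat.coprime_primes hp.out hq.out).2 hpq).pow_right b) h1.symm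
    obtain ⟨Q₀, hQ₀⟩ := coprime_exists_invariant_sylow (P : Subgroup G) K
      (le_normalizer.trans hPK) hKp
      (Or.inl (by have := P.isPGroup'.isNilpotent; infer_instance)) q
    obtain ⟨h3, Q₁, h4⟩ := hS _ (sylIn_map_subtype Q₀)
    exact ⟨P, Q₁, h4 ▸ caseC hpq h h1 h2 (sylIn_top P) (sylIn_map_subtype Q₀) h3 hQ₀ hPK hF⟩

end CL.NW
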