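import Mathlib
import Cfsg.Agent.BLK.Gen64

/-! Blocks with two-generated defect groups of order thirty-two whose commutator subgroup is not
cyclic are nilpotent. -/

set_option autoImplicit false

open Cfsg MonoidAlgebra Subgroup CL.Char
open scoped CL.MSS ComplexConjugate commutatorElement

namespace CL.Blk

universe u

variable {G : Type u} [Group G] [Finite G] {p : ℕ} {M : Ideal AlgInt} {B : Set (IrrCharacter G)}
  {P Q R : Subgroup G} {e : (F M)[G]} {g : G}

theorem exists_pow_mem_cent_of_relIndex (hR : IsPGroup 2 R) (h : Q.relIndex R = 2)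
    (hg : g ∈ normalizer (R : Set G)) (hc : ∃ k : ℕ, g ^ 2 ^ k ∈ centralizer (Q : Set G)) :
    ∃ k : ℕ, g ^ 2 ^ k ∈ centralizer (R : Set G) := by
  obtain ⟨k, hk⟩ := hc
  obtain ⟨m, hm⟩ := exists_pow_mem_cent_of_two hR (fun _ hu _ hv => mul_inv_mem_of_relIndex h hu hv)
    (pow_mem hg _) (centralizer_anti inf_le_right hk)
  exact ⟨k + m, by rwa [pow_add, pow_mul]⟩

namespace MaxP

theorem nil_of_chain (h : MaxP p M B P e)
    (H : ∀ R < P, P ⊓ centralizer (R : Set G) ≤ R → ∃ Q Z W : Subgroup G, Q ≤ P ∧ ¬ Q ≤ R ∧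
      R ≤ normalizer (Q : Set G) ∧ ⁅Q, Z⁆ ≤ ⊥ ∧ ⁅Q, W⁆ ≤ Z ∧ ⁅Q, R⁆ ≤ W ∧
      ∀ g, PFus p P e R g → g ∈ normalizer (R : Set G) → ∀ y ∈ R,
        (y ∈ Z → g * y * g⁻¹ ∈ Z) ∧ (y ∈ W → g * y * g⁻¹ ∈ W))
    (H' : ∀ g ∈ normalizer (P : Set G), ∃ k : ℕ, g ^ p ^ k ∈ centralizer (P : Set G)) :
    IsNilpotentBlock p M B := by
  have := Fact.mk h.prime
  obtain ⟨𝓕, h1⟩ := h.pair.exists_isPairFus h.prime h.hF
  have h2 := h1.isSaturated h.prime h.hF h.isSB h.rel h.sdef
  suffices h0 : ∀ R, ¬ 𝓕.IsEssential p R by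
    refine h.nil_of_pFus fun R g hg hN => ?_
    obtain ⟨f, h3, h4⟩ := Fus.exists_extend_top_of_no_essential h.pgroup h2 h0 (h1.mor_cj hg)
    obtain ⟨n, hn, h5⟩ := (h1 _ _).1 h3
    obtain ⟨k, hk⟩ := H' n (h.mem_pairStab_of_pFus hn).1
    refine ⟨k, fun x hx => ?_⟩
    have h6 : ∀ x ∈ R, g * x * g⁻¹ = n * x * n⁻¹ := fun x hx => (h4 hx).symm.trans (h5 (hg.le hx))
    have h7 : ∀ m : ℕ, g ^ m * x * (g ^ m)⁻¹ = n ^ m * x * (n ^ m)⁻¹ := fun m => by
      induction m with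
      | zero => simp
      | succ m ih =>
        have := h6 _ ((mem_normalizer_iff.1 (pow_mem hN m) x).1 hx)
        nth_rewrite 2 [ih] at this
        simpa [pow_succ', mul_assoc] using this
    rw [eq_comm, ← mul_inv_eq_iff_eq_mul, h7, ← hk x (hg.le hx), mul_inv_cancel_right]
  intro R hR
  have h3 := Fus.lt_of_essential h.pgroup h2 hR
  have h4 := Fus.centralizerIn_le_of_isCentric hR.1
  obtain ⟨Q, Z, W, h5, h6, h7, h8, h9, h10, h11⟩ := H R h3 h4
  have h12 : ∀ α ∈ 𝓕.autGroup R, ∀ y ∈ R,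
      (y ∈ Z → Fus.autFun α y ∈ Z) ∧ (y ∈ W → Fus.autFun α y ∈ W) := fun α hα y hy => by
    obtain ⟨k, hk, h5⟩ := (h1 _ _).1 ((Fus.mem_autGroup_iff h3.le).1 hα)
    exact h5 hy ▸ h11 k hk (MSS.mem_normalizer_of_cj_le (MSS.cj_le_iff_forall.2 fun x hx =>
      show Fus.cj k x ∈ R from h5 hx ▸ Fus.autFun_mem α hx)) y hy
  have hZ : Fus.AutInv (𝓕.autGroup R) Z := fun α hα y hy => (h12 α hα y hy).1
  have hW : Fus.AutInv (𝓕.autGroup R) W := fun α hα y hy => (h12 α hα y hy).2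
  exact h6 (Fus.le_of_radical_of_chain h.pgroup h4 (Fus.isRadical_of_essential h.pgroup h2 hR) h5 h7
    fun x hx hn => ⟨R, le_rfl, .tail (.tail (.single (Fus.stabStep_of_commutator (Fus.autInv_bot _)
      hZ h8 hx hn)) (Fus.stabStep_of_commutator hZ hW h9 hx hn))
        (Fus.stabStep_of_commutator hW (Fus.autInv_of_le _ le_rfl) h10 hx hn)⟩)

variable (h : MaxP 2 M B P e) {z c : P} {Φ : Subgroup P} (H : G7 z c Φ)
include h H

theorem eq_of_fConj_g7 {u : P} (hu : u ∈ Φ) (hz : FConj 2 P e u z) : u = z := by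
  by_contra h1
  have h2 : u ∉ center P := fun e => H.ne (Subtype.ext (by
    simpa [(H.mem_iff.1 (H.center_eq.le e)).resolve_right h1] using (hz.pow_eq_one 1).2))
  have h3 := H.index_cent' h2 (H.comm_Φ u hu)
  obtain ⟨g, hg, h4⟩ := h.exists_pFus_of_comm hz fun y hy => congrArg Subtype.val (H.zc ⟨y, hy⟩)
  obtain ⟨a, ha, b, hb, h5⟩ := H.exists_eq_of_index h3
  have h6 : ∀ a ∈ centralizer {u}, g * a * g⁻¹ ∈ g •ᶜ (P ⊓ cZ u) := fun a ha => MSS.conj_mem_cj
    ⟨a.2, mem_cent_zpowers.2 (congrArg Subtype.val (mem_centralizer_singleton_iff.1 ha).symm)⟩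
  have h7 : ((g •ᶜ (P ⊓ cZ u)).subgroupOf P).index = 2 := by
    have h7 := ((g •ᶜ (P ⊓ cZ u)).subgroupOf P).card_mul_index
    rw [Nat.card_congr (subgroupOfEquivOfLe hg.cj_le).toEquiv, MSS.card_cj, ← cP_eq_of_index h3,
      mul_comm] at h7
    exact Nat.eq_of_mul_eq_mul_right (cP_pos P u) h7
  have h8 := H.mem_iff.1 (H.comm_mem_of_index h7 (a := ⟨_, hg.cj_le (h6 a ha)⟩)
    (b := ⟨_, hg.cj_le (h6 b hb)⟩) (h6 a ha) (h6 b hb))
  have h9 : (⁅(⟨_, hg.cj_le (h6 a ha)⟩ : P), (⟨_, hg.cj_le (h6 b hb)⟩ : P)⁆ : P) = g * z * g⁻¹ := by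
    simp [← h5, commutatorElement_def, mul_assoc]
  rcases h8 with e | e <;> rw [e] at h9
  · exact H.ne (by simpa using h9.symm)
  · exact h1 (Subtype.ext (by simpa using h4.trans h9))

theorem conj_z_g7 (hR : P ⊓ centralizer (R : Set G) ≤ R) (hg : PFus 2 P e R g)
    (hN : g ∈ normalizer (R : Set G)) : g * z * g⁻¹ = z := by
  have h1 : ∀ t : P, (∀ r : P, (r : G) ∈ R → r * t = t * r) → (t : G) ∈ R := fun t ht =>
    hR ⟨t.2, fun r hr => congrArg Subtype.val (ht ⟨r, hg.le hr⟩ hr)⟩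
  have hz := h1 z fun r _ => H.zc r
  have h2 := h.fConj_of_pFus hg hz
  let y : P := ⟨_, h2.right⟩
  have h3 : y ∈ centralizer {c} := H.mem_M_iff.2 (by
    rw [show y ^ 2 = 1 from Subtype.ext ((h2.pow_eq_one 2).2 (congrArg Subtype.val
      ((pow_two z).trans H.zz)))]; exact one_mem _)
  by_cases h4 : y ∈ Φ
  · exact congrArg Subtype.val (h.eq_of_fConj_g7 H h4 h2.symm)
  have h5 : ∀ r : P, (r : G) ∈ R → r ∈ commutator P ∨ r * y⁻¹ ∈ commutator P := fun r hr =>
    H.mem_of_comm h3 h4 (Subtype.ext (by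
      have := congrArg Subtype.val (H.zc ⟨_, hg.le ((mem_normalizer_iff''.1 hN r).1 hr)⟩)
      calc _ = g * (g⁻¹ * r * g * z) * g⁻¹ := by simp [y, mul_assoc]
        _ = g * (z * (g⁻¹ * r * g)) * g⁻¹ := congrArg (g * · * g⁻¹) this
        _ = _ := by simp [y, mul_assoc]))
  have hc : (c : G) ∈ R := h1 c fun r hr => mem_centralizer_singleton_iff.1 ((h5 r hr).elim
    (fun e => H.Φ_le (H.K_le e)) fun e =>
      (Subgroup.mul_mem_cancel_right _ (inv_mem h3)).1 (H.Φ_le (H.K_le e)))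
  have h6 : ∀ k ∈ commutator P, k ∉ center P → ∀ hk : (k : G) ∈ R,
      (⟨_, (h.fConj_of_pFus hg hk).right⟩ : P) ∈ commutator P := fun k hk hk' hkR =>
    (h5 _ ((mem_normalizer_iff.1 hN k).1 hkR)).resolve_right fun e => by
      obtain ⟨s, hs⟩ := H.exists_conj h3 h4 e
      rw [inv_mul_cancel_right] at hs
      have h6 := h.fConj_conj y.2 s.2
      rw [show (s : G) * y * (s : G)⁻¹ = g * k * g⁻¹ from congrArg Subtype.val hs] at h6
      exact hk' (h.eq_of_fConj_g7 H (H.K_le hk) (h.fConj_trans (h.fConj_of_pFus hg hkR)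
        (h.fConj_trans h6.symm h2.symm)) ▸ H.cen)
  refine (h4 (H.K_le ?_)).elim
  convert mul_mem (inv_mem (h6 c H.c_mem H.nc hc)) (h6 (c * z) (mul_mem H.c_mem H.z_mem)
    (mt (Subgroup.mul_mem_cancel_right _ H.cen).1 H.nc) (mul_mem hc hz))
  exact Subtype.ext (by simp [y, mul_assoc])

theorem nil_of_g7 : IsNilpotentBlock 2 M B := by
  have hm : ∀ {K : Subgroup P} {x : P}, (x : G) ∈ K.map P.subtype ↔ x ∈ K :=
    mem_map_iff_mem (subtype_injective P)
  have hcm : ∀ {A C D : Subgroup P}, (∀ a ∈ A, ∀ c ∈ C, ⁅a, c⁆ ∈ D) →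
      ⁅A.map P.subtype, C.map P.subtype⁆ ≤ D.map P.subtype := fun h =>
    (Subgroup.map_commutator _ _ _).ge.trans (map_mono (commutator_le.2 h))
  have ht : (⊤ : Subgroup P).map P.subtype = P := by rw [← MonoidHom.range_eq_map, range_subtype]
  have hn : ∀ (K : Subgroup P) [K.Characteristic],
      normalizer (P : Set G) ≤ normalizer ((K.map P.subtype : Subgroup G) : Set G) := fun K _ =>
    normalizer_le_normalizer_map_subtype P K
  have := H.char
  refine h.nil_of_chain (fun R hR hC => ?_) fun g hg => ?_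
  · obtain ⟨R, rfl⟩ : ∃ R' : Subgroup P, R'.map P.subtype = R :=
      ⟨R.subgroupOf P, map_subgroupOf_eq_of_le hR.le⟩
    have hz : ∀ g, PFus 2 P e (R.map P.subtype) g →
        g ∈ normalizer ((R.map P.subtype : Subgroup G) : Set G) →
          ∀ y ∈ (zpowers z).map P.subtype, g * y * g⁻¹ ∈ (zpowers z).map P.subtype := by
      rintro g hg hN _ ⟨_, ⟨i, rfl⟩, rfl⟩
      refine ⟨z ^ i, ⟨i, rfl⟩, ?_⟩
      simp [← conj_zpow, h.conj_z_g7 H hC hg hN]
    have h1 : ∀ A : Subgroup P, ⁅A.map P.subtype, (zpowers z).map P.subtype⁆ ≤ ⊥ := fun A =>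
      (hcm (D := ⊥) fun a _ y hy => commutatorElement_eq_one_iff_mul_comm.2
        (mem_center_iff.1 (H.center_eq.ge hy) a)).trans (Subgroup.map_bot _).le
    by_cases h2 : Φ ≤ R
    swap
    · exact ⟨_, _, _, map_subtype_le Φ, mt (map_le_map_iff_of_injective (subtype_injective P)).1 h2,
        (map_subtype_le R).trans (le_normalizer.trans (hn Φ)), h1 Φ, (h1 Φ).trans bot_le,
        hcm fun a ha y _ => by simpa using inv_mem (H.comm_Φ a ha y),
        fun g hg hN y _ => ⟨hz g hg hN y, hz g hg hN y⟩⟩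
    have h3 : ¬ (⊤ : Subgroup P).map P.subtype ≤ R.map P.subtype := ht.symm ▸ hR.not_ge
    have h4 : R.map P.subtype ≤ normalizer (((⊤ : Subgroup P).map P.subtype : Subgroup G) : Set G) :=
      (map_mono le_top).trans le_normalizer
    have h5 : ∀ {g}, g ∈ normalizer ((R.map P.subtype : Subgroup G) : Set G) → ∀ y ∈ R, ∃ t ∈ R,
        (t : G) = g * y * g⁻¹ := fun hN y hy => (mem_normalizer_iff.1 hN y).1 (hm.2 hy)
    by_cases h6 : centralizer {c} ≤ R
    · refine ⟨_, _, (commutator P).map P.subtype, map_subtype_le ⊤, h3, h4, h1 ⊤,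
        hcm fun a _ y hy => H.comm_Φ y (H.K_le hy) a, hcm fun a _ y _ => comm_mem a y,
        fun g hg hN y hy => ⟨hz g hg hN y, ?_⟩⟩
      rintro ⟨y, hy', rfl⟩
      obtain ⟨t, ht, h7⟩ := h5 hN y (hm.1 hy)
      obtain rfl : centralizer {c} = R := by
        have h8 := two_mul_card_le_of_lt hR
        rw [card_map_of_injective (subtype_injective P), H.card] at h8
        exact eq_of_le_of_card_ge h6 (by rw [H.card_M]; omega)
      refine ⟨t, H.mem_K ht fun s hs => Subtype.ext ?_, h7⟩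
      obtain ⟨r, hr, h8⟩ := h5 (inv_mem hN) s hs
      have := congrArg Subtype.val (H.comm_k hr hy').eq
      simp only [Subgroup.coe_mul, h7, h8] at this ⊢
      calc _ = g * (g⁻¹ * s * g⁻¹⁻¹ * y) * g⁻¹ := by group
        _ = _ := by rw [this]; group
    refine ⟨_, _, Φ.map P.subtype, map_subtype_le ⊤, h3, h4, h1 ⊤,
      hcm fun a _ y hy => H.comm_Φ y hy a, hcm fun a _ y _ => H.K_le (comm_mem a y),
      fun g hg hN y hy => ⟨hz g hg hN y, ?_⟩⟩
    rintro ⟨y, hy', rfl⟩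
    obtain ⟨t, ht, h7⟩ := h5 hN y (hm.1 hy)
    refine ⟨t, by_contra fun e => h6 fun s hs => by_contra fun e' => e' ?_, h7⟩
    refine (R.mul_mem_cancel_right (inv_mem ht)).1 (h2 (mul_inv_mem_of_relIndex H.idx_Φ hs
      (H.mem_M_iff.2 (hm.1 ?_)) (mt (h2 ·) e') e))
    rw [Subgroup.coe_pow, h7, conj_pow]
    exact hz g hg hN _ (hm.2 (H.mem_M_iff.1 (H.Φ_le hy')))
  have h1 : ∀ {K L : Subgroup P} [L.Characteristic], K.relIndex L = 2 →
      (∃ k : ℕ, g ^ 2 ^ k ∈ centralizer ((K.map P.subtype : Subgroup G) : Set G)) →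
        ∃ k : ℕ, g ^ 2 ^ k ∈ centralizer ((L.map P.subtype : Subgroup G) : Set G) := fun {K L} _ h1 =>
    exists_pow_mem_cent_of_relIndex (h.pgroup.to_le (map_subtype_le L))
      ((relIndex_map_map_of_injective K L (subtype_injective P)).trans h1) (hn L hg)
  have : (centralizer {c}).Characteristic := by
    rw [show centralizer {c} = centralizer (commutator P : Set P) from le_antisymm
      (fun y hy k hk => (H.comm_k hy hk).symm) (centralizer_le (by simpa using H.c_mem))]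
    infer_instance
  have h2 : Nat.card (center P) = 2 := by
    rw [H.center_eq, Nat.card_zpowers, orderOf_eq_prime ((pow_two z).trans H.zz) H.ne]
  exact ht ▸ h1 ((relIndex_top_right _).trans H.index_cent) (h1 H.idx_Φ (h1 H.idx_K
    (h1 (Fus.relIndex_eq_of_card (H.center_eq.trans_le (zpowers_le.2 H.z_mem)) (by rw [h2, H.card_K]))
      (h1 ((relIndex_bot_left _).trans h2) ⟨0, by simp [mem_centralizer_iff]⟩))))

end MaxP

omit [Finite G] in
theorem commutator_eq_map {T : Type*} [Group T] {π : G →* T} (hπ : Function.Surjective π) :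
    commutator T = (commutator G).map π := by
  rw [map_commutator_eq, π.range_eq_top_of_surjective hπ, commutator_def]

theorem l3_of_g7 (hM : IsPModular 2 M) (h32 : Nat.card G = 32) {a b : G}
    (h : zpowers a ⊔ zpowers b = ⊤) (hc : ¬ IsCyclic (commutator G)) : L3 M G := by
  rintro K _ _ b E hb hE ⟨φ⟩
  obtain ⟨e, h1⟩ := exists_maxP hM hb hE
  obtain ⟨z, c, Φ, H⟩ := exists_g7 ((Nat.card_congr φ.toEquiv).trans h32)
    (gen_map (π := φ.symm.toMonoidHom) φ.symm.surjective h) fun e => hc (by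
      rw [commutator_eq_map (π := φ.toMonoidHom) φ.surjective]
      exact isCyclic_of_surjective _ (φ.toMonoidHom.subgroupMap_surjective _))
  simp [(h1.nil_of_g7 H).blockRank_eq_one hM]

theorem MaxP.card_le_of_gen (h : MaxP 2 M B P e) (hP : Nat.card P ≤ 64) {a b : P}
    (hg : zpowers a ⊔ zpowers b = ⊤) : Nat.card B ≤ Nat.card P := by
  have h1 : ∀ w ∈ center P, Nat.card P ≤ orderOf w * 16 → Nat.card B ≤ Nat.card P := fun w hw e =>
    h.card_le_of_le w.2 (fun y hy => congrArg Subtype.val (mem_center_iff.1 hw ⟨y, hy⟩))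
      (by rwa [Subgroup.orderOf_coe])
  have h0 : ∀ (x : P) (n : ℕ), x ^ 2 ^ n ≠ 1 → 2 ^ (n + 1) ≤ orderOf x := fun x n hx => by
    obtain ⟨k, hk⟩ := IsPGroup.iff_orderOf.1 h.pgroup x
    exact hk ▸ Nat.pow_le_pow_right two_pos (by_contra fun e => hx (orderOf_dvd_iff_pow_eq_one.1
      (hk ▸ pow_dvd_pow 2 (by omega))))
  by_cases h2 : Nat.card P ≤ 16
  · exact h1 1 (one_mem _) (by simpa)
  by_cases h3 : Nat.card P ≤ 32
  · have : Nontrivial P := Finite.one_lt_card_iff_nontrivial.1 (by omega)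
    have := h.pgroup.center_nontrivial
    obtain ⟨w, hw⟩ := exists_ne (1 : center P)
    have := h0 w 0 fun e => hw (Subtype.ext (by simpa using e))
    exact h1 w w.2 (by omega)
  have h64 : Nat.card P = 64 := by
    rw [h.card_eq] at h3 hP ⊢
    have h4 := (Nat.pow_le_pow_iff_right (a := 2) (m := 6) one_lt_two).1 hP
    have h5 := mt (Nat.pow_le_pow_iff_right (a := 2) (m := 5) one_lt_two).2 h3
    rw [show blockDefect 2 B = 6 by omega]
    rfl
  by_cases h4 : ∀ w ∈ center P, w ^ 2 = 1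
  swap
  · push Not at h4
    obtain ⟨w, hw, h4⟩ := h4
    have := h0 w 1 h4
    exact h1 w hw (by omega)
  by_cases h8 : ∀ x : P, x ^ 8 = 1
  swap
  · obtain ⟨x, hx⟩ := not_forall.1 h8
    have h5 : 16 ≤ _ := h0 x 3 hx
    have h6 := (zpowers x).card_mul_index
    rw [Nat.card_zpowers] at h6
    exact (qGood_of_index_le h.pgroup (c := x) (by nlinarith)).card_le h.hM h.blk h.isDefectGroup
  by_cases hc : IsCyclic (commutator P)
  · obtain ⟨z, hz, h5⟩ := exists_metacyclic_quot hg h8 h4 hc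
    exact QGood.card_le h.hM h.blk h.isDefectGroup
      ⟨z, hz, fun T _ π hπ hk => Or.inl (h5 T π hπ (hk.ge (mem_zpowers z)))⟩
  obtain ⟨z, hz, h5, h6⟩ := exists_not_le_sup h64 hg h4 hc
  have := normal_of_le_center' (zpowers_le.2 hz)
  have h7 := (zpowers z).card_mul_index
  rw [Nat.card_zpowers, orderOf_eq_prime (h4 z hz) h5, index_eq_card] at h7
  refine card_le_of_quot h.hM h.blk h.isDefectGroup hz (l3_of_g7 h.hM (by omega)
    (gen_map (QuotientGroup.mk'_surjective _) hg) fun e => ?_)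
  rw [commutator_eq_map (QuotientGroup.mk'_surjective _)] at e
  obtain ⟨k, hk⟩ := (Subgroup.isCyclic_iff_exists_zpowers_eq_top _).1 e
  obtain ⟨k, hk', rfl⟩ := hk.le (mem_zpowers k)
  refine h6 k hk' ((le_comap_map (QuotientGroup.mk' (zpowers z)) _).trans ?_)
  rw [← hk, ← MonoidHom.map_zpowers, comap_map_eq, QuotientGroup.ker_mk']

end CL.Blk
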