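import Mathlib
import Cfsg.Agent.BLK.SmithTyrer
import Cfsg.Agent.BLK.FreeAct
import Cfsg.Agent.BLK.BrLeon
import Cfsg.Agent.BLK.D1Det
import Cfsg.Agent.BLK.D1Tr
import Cfsg.Agent.S3784
import Cfsg.Agent.S3968
import Cfsg.Agent.S4503

/-!
# Simple groups of order `9 * 2 ^ a * q ^ b`: degrees, and the case of a cyclic Sylow 3-subgroup
-/

set_option autoImplicit false

open Cfsg Subgroup CL.Char CL.Blk
open scoped ComplexConjugate

namespace CL.Nine

theorem eq_one_of_pow {q i j : ℕ} (hq : q.Prime) (h2 : q ≠ 2) (h3 : q ≠ 3) (hi : 1 ≤ i)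
    (hj : 1 ≤ j) (h : q ^ j = 2 ^ i + 1 ∨ 2 ^ i = q ^ j + 1) : j = 1 := by
  have h9 : q ^ j ≠ 9 := fun e => h3 ((Nat.prime_dvd_prime_iff_eq hq Nat.prime_three).1
    (hq.dvd_of_dvd_pow (n := 2) ((dvd_pow_self q (by omega)).trans e.dvd)))
  rcases h with h | h
  · rcases Cfsg.Agent.S3784.result q 2 j i hq Nat.prime_two hj hi h with e | e | e
    exacts [absurd e.1 h2, e.2.1, absurd e.1 h9]
  · rcases Cfsg.Agent.S3784.result 2 q i j Nat.prime_two hq hi hj h with e | e | e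
    exacts [e.2.1, absurd e.1 h2, absurd ((dvd_pow_self 2 (by omega)).trans e.1.dvd) (by decide)]

variable {G : Type*} [Group G] [Finite G] [IsSimpleGroup G] {q a b : ℕ}

theorem perfect (hG : ¬ IsMulCommutative G) : commutator G = ⊤ :=
  (Normal.eq_bot_or_eq_top inferInstance).resolve_left fun h => hG ⟨⟨fun x y =>
    commutatorElement_eq_one_iff_mul_comm.1 (mem_bot.1
      (h ▸ commutator_mem_commutator (mem_top x) (mem_top y)))⟩⟩

theorem center_eq_bot (hG : ¬ IsMulCommutative G) : center G = ⊥ :=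
  (Normal.eq_bot_or_eq_top inferInstance).resolve_right fun h => hG ⟨⟨fun x y =>
    mem_center_iff.1 (h ▸ mem_top y) x⟩⟩

theorem ker_eq_bot {χ : IrrCharacter G} (h : χ ≠ Blk.irrOne G) : charKer χ.1 = ⊥ :=
  χ.2.charKer_eq_bot_of_simple fun e => h (Subtype.ext e)

theorem faith {χ : IrrCharacter G} (h : χ ≠ Blk.irrOne G) (g : G) (hg : χ.1 g = χ.1 1) : g = 1 :=
  mem_bot.1 (ker_eq_bot h ▸ χ.2.mem_charKer.2 hg)

theorem one_lt_deg (hG : ¬ IsMulCommutative G) {χ : IrrCharacter G} (h : χ ≠ Blk.irrOne G) :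
    1 < charDegree χ.1 := by
  refine (Nat.succ_le_of_lt (Blk.charDegree_pos χ)).lt_of_ne fun e => ?_
  have h1 := χ.2.commutator_le_charKer_iff.2 (by rw [irr_one_eq, ← e]; simp)
  rw [perfect hG, ker_eq_bot h] at h1
  exact absurd (le_bot_iff.1 h1) top_ne_bot

theorem norm_lt (hG : ¬ IsMulCommutative G) {χ : IrrCharacter G} (h : χ ≠ Blk.irrOne G) {g : G}
    (hg : g ≠ 1) : ‖χ.1 g‖ < charDegree χ.1 :=
  (χ.2.isCharacter.norm_le g).lt_of_ne fun e => hg (mem_bot.1 (center_eq_bot hG ▸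
    χ.2.charCenter_eq_center (ker_eq_bot h) ▸ χ.2.mem_charCenter.2 e))

/-- The hypotheses on the order. -/
structure Hyp (G : Type*) [Group G] (q a b : ℕ) : Prop where
  nc : ¬ IsMulCommutative G
  prime : q.Prime
  ne2 : q ≠ 2
  ne3 : q ≠ 3
  card : Nat.card G = 9 * 2 ^ a * q ^ b

namespace Hyp

variable (H : Hyp G q a b)
include H

omit [Finite G] [IsSimpleGroup G] in
theorem form {n : ℕ} (h : n ∣ Nat.card G) (h3 : ¬ 3 ∣ n) : ∃ i j, j ≤ b ∧ n = 2 ^ i * q ^ j := by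
  rw [H.card, mul_assoc] at h
  obtain ⟨u, v, hu, hv, rfl⟩ := (Nat.dvd_mul).1 
    (((Nat.prime_three.coprime_iff_not_dvd.2 h3).pow_left 2).symm.dvd_of_dvd_mul_left h)
  obtain ⟨i, -, rfl⟩ := (Nat.dvd_prime_pow Nat.prime_two).1 hu
  obtain ⟨j, hj, rfl⟩ := (Nat.dvd_prime_pow H.prime).1 hv
  exact ⟨i, j, hj, rfl⟩

omit [Finite G] [IsSimpleGroup G] in
theorem odd_q : Odd q := H.prime.odd_of_ne_two H.ne2

omit [Finite G] [IsSimpleGroup G] in
theorem five_le : 5 ≤ q := H.prime.five_le_of_ne_two_of_ne_three H.ne2 H.ne3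

theorem pair_deg {χ ψ : IrrCharacter G} (hχ : χ ≠ Blk.irrOne G) (hψ : ψ ≠ Blk.irrOne G) {A B : ℤ}
    (hA : A.natAbs = charDegree χ.1) (hB : B.natAbs = charDegree ψ.1) (hs : A + B = -1)
    (h3 : ¬ 3 ∣ A) (h3' : ¬ 3 ∣ B) (ho : Odd A) :
    b = 1 ∧ A.natAbs = q ∧ ∃ i, B.natAbs = 2 ^ i := by
  obtain ⟨i, j, hj, e1⟩ := H.form χ.2.charDegree_dvd_card (hA ▸ fun e => h3 (Int.natCast_dvd.2 e))
  obtain ⟨k, l, -, e2⟩ := H.form ψ.2.charDegree_dvd_card (hB ▸ fun e => h3' (Int.natCast_dvd.2 e))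
  have l1 := one_lt_deg H.nc hχ
  have l2 := one_lt_deg H.nc hψ
  obtain rfl : i = 0 := by_contra fun e => Nat.not_even_iff_odd.2 (Int.natAbs_odd.2 ho)
    (by rw [hA, e1]; exact (Nat.even_pow.2 ⟨even_two, e⟩).mul_right _)
  rw [pow_zero, one_mul] at e1
  have j1 : 1 ≤ j := Nat.pos_of_ne_zero fun e => by simp [e1, e] at l1
  obtain rfl : l = 0 := by_contra fun e => by
    have d1 : (q : ℤ) ∣ A := Int.natCast_dvd.2 (by rw [hA, e1]; exact dvd_pow_self q (by omega))
    have d2 : (q : ℤ) ∣ B := Int.natCast_dvd.2 (by rw [hB, e2]; exact (dvd_pow_self q e).mul_left _)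
    exact H.prime.not_dvd_one (Int.natCast_dvd.1 (hs ▸ dvd_add d1 d2))
  rw [pow_zero, mul_one] at e2
  have k1 : 1 ≤ k := Nat.pos_of_ne_zero fun e => by simp [e2, e] at l2
  obtain rfl := eq_one_of_pow H.prime H.ne2 H.ne3 k1 j1 (by omega)
  rw [pow_one] at e1
  refine ⟨le_antisymm (not_lt.1 fun e => ?_) hj, hA.trans e1, k, hB.trans e2⟩
  exact Cfsg.Agent.S3968.result q H.prime χ (by rw [irr_one_eq, e1]) (faith hχ)
    (H.card ▸ (pow_dvd_pow q e).mul_left _) (center_eq_bot H.nc)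

/-- If `q` divides the order exactly once then `q ≤ 19`. -/
theorem le_nineteen (hb : b = 1) : q ≤ 19 := by
  subst hb
  have hq := H.prime
  have := Fact.mk hq
  have h1 : q ∣ Nat.card G := H.card ▸ by simp
  have hc : (q ^ 1).Coprime (9 * 2 ^ a) := (Nat.Coprime.mul_right
    (((Nat.coprime_primes hq Nat.prime_three).2 H.ne3).pow_right 2)
    (((Nat.coprime_primes hq Nat.prime_two).2 H.ne2).pow_right a)).pow_left 1
  have h2 : ¬ q ^ (1 + 1) ∣ Nat.card G := fun e => by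
    rw [H.card, pow_succ, mul_comm _ (q ^ 1), Nat.mul_dvd_mul_iff_left (pow_pos hq.pos 1)] at e
    exact hq.one_lt.ne' (Nat.eq_one_of_dvd_coprimes hc (by simp) e)
  obtain ⟨y, hy⟩ := exists_prime_orderOf_dvd_card' q h1
  obtain ⟨M, hM⟩ := Glb.exists_isPModular hq
  obtain ⟨χ, -, h3, h4, h5⟩ := exists_principal_not_dvd hM Nat.prime_two hy.symm.dvd
  have h6 : ¬ q ∣ charDegree χ.1 := fun e =>
    h5 (χ.2.eq_zero_of_defect_zero hq h2 (by rwa [pow_one]) hy.symm.dvd)
  have h7 : charDegree χ.1 ∣ 9 :=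
    ((Nat.prime_two.coprime_iff_not_dvd.2 h4).pow_left a).symm.dvd_of_dvd_mul_right
      (((hq.coprime_iff_not_dvd.2 h6).pow_left 1).symm.dvd_of_dvd_mul_right
        (H.card ▸ χ.2.charDegree_dvd_card))
  have h8 := Nat.le_of_dvd (by norm_num) h7
  refine (Cfsg.Agent.S4503.result q hq h1 h2 (fun K hK e => ?_) χ.1 χ.2.isCharacter
    (faith fun e => h3 (congrArg Subtype.val e))).trans (by omega)
  rcases hK.eq_bot_or_eq_top with rfl | rfl
  · exact hq.one_lt.ne (by simpa using e)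
  · exact H.nc (isCyclic_of_prime_card (card_top.symm.trans e)).isMulCommutative

omit [IsSimpleGroup G] in
theorem card_sylow (P : Sylow 3 G) : Nat.card (P : Subgroup G) = 9 := by
  have h : ¬ 3 ∣ 2 ^ a * q ^ b := fun e => by
    rcases (Nat.prime_three.dvd_mul).1 e with e | e
    · exact absurd (Nat.prime_three.dvd_of_dvd_pow e) (by decide)
    · exact H.ne3 ((Nat.prime_dvd_prime_iff_eq Nat.prime_three H.prime).1
        (Nat.prime_three.dvd_of_dvd_pow e)).symm
  rw [P.card_eq_multiplicity, H.card, mul_assoc, show 9 = 3 ^ 2 from rfl,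
    Nat.factorization_mul (by norm_num) (by rintro e; simp [e] at h), Finsupp.add_apply,
    Nat.factorization_eq_zero_of_not_dvd h, Nat.prime_three.factorization_pow]
  simp

theorem residual : pResidual 3 G = ⊤ :=
  (Tr.pResidual_eq_top_iff_sylow_le_commutator (default : Sylow 3 G)).2 (perfect H.nc ▸ le_top)

omit [IsSimpleGroup G] in
theorem comm (P : Sylow 3 G) : IsMulCommutative (P : Subgroup G) :=
  IsPGroup.isMulCommutative_of_card_eq_prime_sq (p := 3) (H.card_sylow P)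

end Hyp

omit [IsSimpleGroup G] in
theorem exists_two' {p : ℕ} [Fact p.Prime] {M : Ideal AlgInt} {P : Sylow p G} (hM : IsPModular p M)
    (F : FrobSyl P) (h9 : 9 ≤ Nat.card (P : Subgroup G))
    (hi : (centralizer ((P : Subgroup G) : Set G)).relIndex (normalizer ((P : Subgroup G) : Set G)) = 2) :
    ∃ χ ∈ principalBlock M G, ∃ δ ε : ℤ, χ ≠ Blk.irrOne G ∧ δ ^ 2 = 1 ∧ ε ^ 2 = 1 ∧
      (∀ ψ ∈ principalBlock M G, ψ ≠ Blk.irrOne G → ψ ≠ χ →
        ∀ g, ¬ p ∣ orderOf g → ψ.1 g = ε + ε * (δ * χ.1 g)) ∧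
      ∀ z y, IsPPart p z y → y ∈ (P : Subgroup G) → y ≠ 1 → χ.1 z = δ := by
  classical
  obtain ⟨n, h1, h2⟩ : ∃ n ∈ normalizer ((P : Subgroup G) : Set G),
      n ∉ centralizer ((P : Subgroup G) : Set G) :=
    SetLike.not_le_iff_exists.1 fun h => absurd ((relIndex_eq_one.2 h).symm.trans hi) (by decide)
  have h9' : 9 ≤ Nat.card P := h9
  obtain ⟨-, X, Y, -, hB, -, -, -, ⟨χ₁, hχ₁, e1⟩, a, d, δ, -, hδ, ha, -, -, -, -, h3, -, h4⟩ :=
    Cfsg.Agent.S4709.result p M hM P F.comm (by omega) 2 one_lt_two (by omega) hi ⟨n, h1,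
      (eq_or_eq_of_relIndex_prime (hi ▸ Nat.prime_two) le_sup_left
        (sup_le (centralizer_le_normalizer _) (zpowers_le.2 h1))).resolve_left
        fun e => h2 (e.le (mem_sup_right (mem_zpowers n)))⟩ F.free
  obtain rfl : χ₁ = Blk.irrOne G := Subtype.ext e1
  obtain ⟨X, rfl⟩ := X.toFinite.exists_finset_coe
  simp only [finsum_mem_coe_finset] at h3 h4
  have : Nontrivial (P : Subgroup G) := Finite.one_lt_card_iff_nontrivial.1 (by omega)
  obtain ⟨y, hy⟩ := exists_ne (1 : (P : Subgroup G))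
  have h5 : a (Blk.irrOne G) = 1 := by
    exact_mod_cast ((ha _ hχ₁).2 y y (isPPart_self hM.1 (pElt_of_mem_isPGroup hM.1 P.isPGroup' y.2))
      y.2 (by simpa using hy)).symm.trans (Blk.irrOne_apply _)
  have hδ2 : δ ^ 2 = 1 := by rcases hδ with rfl | rfl <;> rfl
  rw [← Finset.add_sum_erase _ _ hχ₁, h5] at h3
  have h6 := Finset.sum_nonneg fun χ (_ : χ ∈ X.erase (Blk.irrOne G)) => sq_nonneg (a χ)
  obtain rfl : d = 0 := by
    have h7 : (3 : ℤ) ≤ (Nat.card P - 1) / (2 : ℕ) - 1 := by omega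
    by_contra h8
    have h9 := mul_le_mul h7 (Int.add_one_le_of_lt (sq_pos_of_ne_zero h8)) (by norm_num) (by omega)
    have := sq_nonneg (d - δ)
    omega
  obtain ⟨χ, hχ, h7, h8⟩ := ST.exists_sq_one (s := X.erase (Blk.irrOne G)) (e := a) (n := 1)
    (by push_cast at h3; linear_combination h3 - hδ2) one_pos (by norm_num)
  obtain ⟨h9, h10⟩ := Finset.mem_erase.1 hχ
  have h11 : ∀ ψ ∈ X, ψ ≠ Blk.irrOne G ∧ ψ ≠ χ → False := fun ψ hψ hn => (ha ψ hψ).1
    (pow_eq_zero_iff two_ne_zero |>.1 ((Finset.sum_eq_zero_iff_of_nonneg fun k _ => sq_nonneg _).1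
      (h8.trans (sub_self _)) ψ (by simp [hn.1, hn.2, hψ])))
  refine ⟨χ, hB ▸ Or.inl h10, a χ, δ, h9, h7, hδ2, fun ψ hψ n1 n2 g hg => ?_, (ha χ h10).2⟩
  have h12 := h4 ψ ((hB.le hψ).resolve_left fun h => h11 ψ h ⟨n1, n2⟩) g hg
  rw [Finset.sum_eq_add_of_mem _ _ hχ₁ h10 h9.symm fun ψ hψ hn => (h11 ψ hψ hn).elim, h5,
    Blk.irrOne_apply] at h12
  have h13 : (δ : ℂ) ^ 2 = 1 := by exact_mod_cast hδ2
  push_cast at h12
  linear_combination -δ * h12 - ψ.1 g * h13

omit [IsSimpleGroup G] in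
theorem exists_nat_sum_pow {χ : G → ℂ} (hχ : IsCharacter G χ) (g : G) :
    ∃ n : ℕ, ∑ i ∈ Finset.range (orderOf g), χ (g ^ i) = orderOf g * n := by
  have := Fintype.ofFinite (zpowers g)
  obtain ⟨n, hn⟩ := (hχ.res (zpowers g)).exists_nat_inner isCharacter_one
  refine ⟨n, ?_⟩
  rw [← D1T.sum_zpowers rfl, ← hn, ← Nat.card_zpowers, card_mul_classInner]
  simp

omit [Finite G] [IsSimpleGroup G] in
theorem exists_pairCt_eq [Fintype G] (z g : G) :
    ∃ m : ℕ, pairCt z z g = Nat.card (centralizer ({z} : Set G)) ^ 2 * m := by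
  classical
  have h := fun φ : G → ℂ => sum_conj_eq_smul ⊤ z φ
  simp only [mem_top, Finset.filter_true, top_inf_eq, true_and, nsmul_eq_mul] at h
  refine ⟨∑ w with ∃ u, u * z * u⁻¹ = w, ∑ w' with ∃ u, u * z * u⁻¹ = w',
    if w * w' = g then 1 else 0, ?_⟩
  rw [pairCt]
  rw [h fun w => ∑ v, if w * (v * z * v⁻¹) = g then 1 else 0, sq, mul_assoc]
  push_cast
  refine congrArg _ (Eq.trans ?_ (Finset.mul_sum _ _ _).symm)
  exact Finset.sum_congr rfl fun w _ => h fun w' => if w * w' = g then 1 else 0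

omit [IsSimpleGroup G] in
theorem frobSyl {p : ℕ} [hp : Fact p.Prime] (h2 : p ≠ 2) {P : Sylow p G}
    (hab : IsMulCommutative (P : Subgroup G)) (hO : pResidual p G = ⊤)
    (hi : (centralizer ((P : Subgroup G) : Set G)).relIndex (normalizer ((P : Subgroup G) : Set G)) = 2) :
    FrobSyl P := ⟨hab, fun y hy h1 => le_antisymm (fun n hn =>
    by_contra fun h3 => h1 (eq_one_of_pElt_of_pReg (pElt_of_mem_isPGroup hp.out P.isPGroup' hy)
      fun e => h2 ((Nat.prime_dvd_prime_iff_eq hp.out Nat.prime_two).1 (e.trans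
        (orderOf_dvd_of_pow_eq_one (by
          rw [sq, ← eq_inv_iff_mul_eq_one, ← ST.inverts hab hO hi hn.2 h3 hy,
            mem_centralizer_singleton_iff.1 hn.1, mul_inv_cancel_right]))))))
    (le_inf (centralizer_le (by simpa)) (centralizer_le_normalizer _))⟩

theorem Hyp.not_le (H : Hyp G q a b) (P : Sylow 3 G) :
    ¬ normalizer ((P : Subgroup G) : Set G) ≤ centralizer ((P : Subgroup G) : Set G) := fun h => by
  have h1 := npc_not_dvd Nat.prime_three (hasNPC_of_normalizer_le_centralizer P h)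
  rw [H.residual, card_top, H.card, mul_assoc] at h1
  exact h1 (Dvd.dvd.mul_right (by decide) _)

theorem Hyp.card_of_cyclic (H : Hyp G q a b) (P : Sylow 3 G) (hc : IsCyclic (P : Subgroup G)) :
    Nat.card G = 504 ∨ Nat.card G = 2448 := by
  classical
  have := Fintype.ofFinite G
  have p3 := Nat.prime_three
  have h9 := H.card_sylow P
  have := H.comm P
  have hi : (centralizer ((P : Subgroup G) : Set G)).relIndex
      (normalizer ((P : Subgroup G) : Set G)) = 2 := by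
    have key := card_dvd_of_injective _
      (QuotientGroup.kerLift_injective (P : Subgroup G).normalizerMonoidHom)
    rw [normalizerMonoidHom_ker, ← index, ← relIndex, hc.card_mulAut, h9,
      show Nat.totient 9 = 6 by decide] at key
    have h1 := mt relIndex_eq_one.1 (H.not_le P)
    have h3 := mt (fun h : 3 ∣ _ => h.trans ((relIndex_dvd_of_le_left _
      (P : Subgroup G).le_centralizer).trans (relIndex_dvd_index_of_le le_normalizer))) P.not_dvd_index
    have h4 := Nat.le_of_dvd (by decide) key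
    generalize (centralizer ((P : Subgroup G) : Set G)).relIndex _ = n at *
    interval_cases n <;> simp_all
  have F := frobSyl (by decide) this H.residual hi
  obtain ⟨M, hM⟩ := Glb.exists_isPModular p3
  obtain ⟨χ, hχ, δ, ε, n1, hδ, hε, hY, hX⟩ := exists_two' hM F h9.ge hi
  obtain ⟨⟨x, hx⟩, ox⟩ := hc.exists_ofOrder_eq_natCard
  rw [h9, orderOf_mk] at ox
  have px : ∃ k, orderOf x = 3 ^ k := ⟨2, ox⟩
  have x1 : x ≠ 1 := fun e => by simp [e] at ox
  have r1 : ¬ 3 ∣ orderOf (1 : G) := by simp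
  have hxk : ∀ k, Commute x k → ¬ 3 ∣ orderOf k → ∀ i, ¬ 9 ∣ i → χ.1 ((x * k) ^ i) = δ :=
    fun k c r i h => hX _ _ ((isPPart_mul c px r).pow p3 i) (pow_mem hx i)
      (by rwa [Ne, ← orderOf_dvd_iff_pow_eq_one, ox])
  have hx0 : χ.1 x = δ := by simpa using hxk 1 (Commute.one_right x) r1 1 (by decide)
  have d1 := irr_one_eq χ
  have l1 := one_lt_deg H.nc n1
  set d := charDegree χ.1 with hd
  obtain ⟨n, hn⟩ : ∃ n : ℕ, (d : ℤ) + 8 * δ = 9 * n := by
    obtain ⟨n, hn⟩ := exists_nat_sum_pow χ.2.isCharacter x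
    rw [ox, Finset.sum_range_succ', Finset.sum_congr rfl fun i hi => by
      simpa using hxk 1 (Commute.one_right x) r1 (i + 1) (by simp at hi; omega), pow_zero, d1] at hn
    exact ⟨n, Int.cast_injective (α := ℂ) (by simp at hn ⊢; linear_combination hn)⟩
  set B := Finset.univ.filter (· ∈ principalBlock M G) with hB
  set Y := (B.erase (Blk.irrOne G)).erase χ with hYd
  have hsum : ∀ f : IrrCharacter G → ℂ, ∑ ψ ∈ B, f ψ = f (Blk.irrOne G) + (f χ + ∑ ψ ∈ Y, f ψ) :=
    fun f => by rw [Finset.add_sum_erase _ _ (by simp [hB, hχ, n1]),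
      Finset.add_sum_erase _ _ (by simp [hB, irrOne_mem_principalBlock hM])]
  have hY' : ∀ ψ ∈ Y, ψ ≠ Blk.irrOne G ∧ ∀ g, ¬ 3 ∣ orderOf g → ψ.1 g = ε + ε * (δ * χ.1 g) :=
    fun ψ h => by
      simp only [hYd, hB, Finset.mem_erase, Finset.mem_filter] at h
      exact ⟨h.2.1, hY ψ h.2.2.2 h.2.1 h.1⟩
  have s1 := sum_degree_mul_eq_zero hM (isPBlock_principalBlock (G := G)) (y := x)
    (by rw [ox]; decide)
  rw [hsum, Finset.sum_congr rfl fun ψ h => by rw [(hY' ψ h).2 1 r1], ← Finset.mul_sum, hx0, d1,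
    Blk.irrOne_apply, Blk.irrOne_apply] at s1
  have hε' : (ε : ℂ) ^ 2 = 1 := by exact_mod_cast hε
  have s2 : ∑ ψ ∈ Y, ψ.1 x = -ε := by
    have h0 : (1 + δ * d : ℂ) ≠ 0 := by
      norm_cast
      rcases sq_eq_one_iff.1 hδ with rfl | rfl <;> omega
    exact mul_left_cancel₀ h0 (by linear_combination ε * s1 - (1 + δ * d) * (∑ ψ ∈ Y, ψ.1 x) * hε')
  obtain ⟨ψ, hψ, -⟩ := Finset.exists_ne_zero_of_sum_ne_zero
    (s2.trans_ne (neg_ne_zero.2 fun e => by simp [e] at hε'))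
  obtain ⟨n2, hψ'⟩ := hY' ψ hψ
  have d2 : (charDegree ψ.1 : ℤ) = ε + ε * (δ * d) := by
    have := hψ' 1 r1
    rw [irr_one_eq, d1] at this
    exact_mod_cast this
  have l2 := one_lt_deg H.nc n2
  have q5 := H.five_le
  obtain ⟨rfl, rfl, rfl, hq⟩ : b = 1 ∧ δ = -1 ∧ ε = -1 ∧ (d = 8 ∧ q = 7 ∨ d = 17 ∧ q = 17) := by
    have h5 : ∀ i, 2 ^ i % 5 ≠ 0 := fun i e =>
      absurd (Nat.prime_five.dvd_of_dvd_pow (Nat.dvd_of_mod_eq_zero e)) (by decide)
    obtain ⟨r, hr⟩ := H.odd_q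
    have a1 : (δ * d).natAbs = d := by rcases sq_eq_one_iff.1 hδ with rfl | rfl <;> omega
    have a2 : (-1 - δ * d).natAbs = charDegree ψ.1 := by
      rcases sq_eq_one_iff.1 hε with rfl | rfl <;> omega
    have a3 : ¬ 3 ∣ δ * d ∧ ¬ 3 ∣ -1 - δ * d := by
      rcases sq_eq_one_iff.1 hδ with rfl | rfl <;> omega
    rcases Int.even_or_odd (δ * d) with e | e
    · obtain ⟨e1, e2, i, e3⟩ := H.pair_deg n2 n1 a2 a1 (by ring) a3.2 a3.1
        (odd_neg_one.sub_even e)
      have := H.le_nineteen e1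
      have := h5 i
      rcases sq_eq_one_iff.1 hδ with rfl | rfl <;> rcases sq_eq_one_iff.1 hε with rfl | rfl <;> omega
    · obtain ⟨e1, e2, i, e3⟩ := H.pair_deg n1 n2 a1 a2 (by ring) a3.1 a3.2 e
      have := H.le_nineteen e1
      have := h5 i
      rcases sq_eq_one_iff.1 hδ with rfl | rfl <;> rcases sq_eq_one_iff.1 hε with rfl | rfl <;> omega
  have four := fun {u : G} (hu : orderOf u = 2) => D1T.exists_four_mul (perfect H.nc)
    χ.2.isCharacter (u := u) (by rw [← sq, ← hu, pow_orderOf_eq_one])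
  have hodd : ¬ 2 ∣ Nat.card (centralizer ({x} : Set G)) := fun e => by
    obtain ⟨⟨k, hk⟩, ok⟩ := exists_prime_orderOf_dvd_card' 2 e
    rw [orderOf_mk] at ok
    have c : Commute x k := (mem_centralizer_singleton_iff.1 hk).symm
    obtain ⟨m, hm⟩ := exists_nat_sum_pow χ.2.isCharacter (x * k)
    obtain ⟨β, hβ⟩ := four ok
    rw [c.orderOf_mul_eq_mul_orderOf_of_coprime (by rw [ox, ok]; decide), ox, ok,
      Finset.sum_congr rfl (g := fun i => if i = 0 then χ.1 1 else if i = 9 then χ.1 k else -1)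
        fun i hi => by
          split_ifs with e0 e9
          · rw [e0, pow_zero]
          · rw [e9, c.mul_pow, ← ox, pow_orderOf_eq_one, one_mul, ox, ← pow_mod_orderOf, ok, pow_one]
          · simpa using hxk k c (by rw [ok]; decide) i (by simp at hi; omega)] at hm
    simp [Finset.sum_range_succ] at hm
    have h1 : 2 * d = 16 + 18 * m + 4 * β := Nat.cast_injective (R := ℂ) (by
      push_cast; linear_combination hm + hβ - 2 * d1)
    obtain rfl : β = 0 := by omega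
    simp [faith n1 k (by linear_combination -hβ)] at ok
  have hdv : 2 ^ (if d = 8 then 3 else 4) ∣ 2 ^ a := by
    have h1 := χ.2.charDegree_dvd_card
    have h2 := ψ.2.charDegree_dvd_card
    rw [H.card, mul_right_comm] at h1 h2
    rcases hq with ⟨e, rfl⟩ | ⟨e, rfl⟩
    · rw [if_pos e]; exact Nat.Coprime.dvd_of_dvd_mul_left (by decide) ((hd.symm.trans e) ▸ h1)
    · rw [if_neg (by omega)]
      exact Nat.Coprime.dvd_of_dvd_mul_left (by decide) ((by omega : charDegree ψ.1 = 16) ▸ h2)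
  rw [Nat.pow_dvd_pow_iff_le_right one_lt_two] at hdv
  obtain ⟨S⟩ : Nonempty (Sylow 2 G) := inferInstance
  obtain ⟨z, hz, oz⟩ := exists_center_orderOf Nat.prime_two S.isPGroup' fun e => S.not_dvd_index (by
    rw [← one_mul (index _), ← e, card_mul_index, H.card]
    exact ((dvd_pow_self 2 (by split_ifs at hdv <;> omega)).mul_left _).mul_right _)
  rw [← orderOf_coe] at oz
  obtain ⟨c, hc⟩ : 2 ^ a ∣ Nat.card (centralizer ({(z : G)} : Set G)) :=
    ((Nat.prime_two.coprime_iff_not_dvd.2 (not_dvd_index_centralizer_of_sylow S fun u hu =>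
      congrArg Subtype.val (mem_center_iff.1 hz ⟨u, hu⟩))).pow_left a).dvd_of_dvd_mul_right
      (by rw [card_mul_index, H.card]; exact (dvd_mul_left _ _).mul_right _)
  obtain ⟨β, hβ⟩ := four oz
  have zz : (z : G) * z = 1 := by rw [← sq]; exact orderOf_dvd_iff_pow_eq_one.1 oz.dvd
  have rz : ¬ 3 ∣ orderOf (z : G) := by rw [oz]; decide
  have e := sum_reg_eq_blockPart hM px rfl (F.npc hx x1) (isClassFunction_pairCt (z : G) z)
  choose m hm using exists_pairCt_eq (z : G)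
  simp only [hm, ← Finset.mul_sum, ← Nat.cast_sum, blockPart_pairCt, irr_conj_of_mul_self _ zz] at e
  rw [hsum, Finset.sum_congr (s₁ := Y) rfl fun ψ h => by
    rw [(hY' ψ h).2 1 r1, (hY' ψ h).2 z rz, mul_div_right_comm], ← Finset.mul_sum Y, s2, hx0, d1,
    H.card, hc, show χ.1 z = d - 4 * β by linear_combination d1 - hβ] at e
  simp only [Blk.irrOne_apply] at e
  have hβ1 := norm_lt H.nc n2 (g := z) fun e => by simp [e] at oz
  rw [hψ' z rz, show χ.1 z = d - 4 * β by linear_combination d1 - hβ] at hβ1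
  replace hβ1 : |(-1 + -1 * (-1 * (d - 4 * β)) : ℤ)| < charDegree ψ.1 := by
    rw [← Int.cast_lt (R := ℝ), Int.cast_abs, ← Complex.norm_intCast]
    exact_mod_cast hβ1
  rw [abs_lt] at hβ1
  have hK := mt (fun h : 2 ∣ _ => h.trans (card_subgroup_dvd_card
    (pResidual 3 (centralizer ({x} : Set G))))) hodd
  generalize Nat.card (pResidual 3 (centralizer ({x} : Set G))) = K at e hK
  generalize ∑ i : centralizer ({x} : Set G) with ¬ 3 ∣ orderOf i, m (x * i) = m at e
  have h2 : ((2 : ℂ) ^ a) ≠ 0 := by simp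
  rcases hq with ⟨hd8, rfl⟩ | ⟨hd8, rfl⟩
  · have h1 : 2 ^ a * (c ^ 2 * m) = 18 * K * β ^ 2 := Nat.cast_injective (R := ℂ) (by
      rw [hd8] at e; push_cast at e ⊢
      exact mul_left_cancel₀ h2 (by linear_combination e))
    obtain rfl : a = 3 := by
      by_contra h3
      have h4 := ((pow_dvd_pow 2 (show 4 ≤ a by simp [hd8] at hdv; omega)).mul_right _).trans h1.dvd
      obtain rfl | rfl | rfl : β = 1 ∨ β = 2 ∨ β = 3 := by omega
      all_goals omega
    exact Or.inl H.card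
  · have h1 : 2 ^ a * (c ^ 2 * m) = 9 * K * β ^ 2 := Nat.cast_injective (R := ℂ) (by
      rw [hd8] at e; push_cast at e ⊢
      exact mul_left_cancel₀ h2 (by linear_combination e))
    obtain rfl : a = 4 := by
      by_contra h3
      have h4 := ((pow_dvd_pow 2 (show 5 ≤ a by simp [hd8] at hdv; omega)).mul_right _).trans h1.dvd
      have h5 : 0 < β ∧ β < 8 := by omega
      obtain ⟨h5, h6⟩ := h5
      interval_cases β <;> omega
    exact Or.inr H.card

end CL.Nine
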