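import Mathlib
import Cfsg.Agent.BLK.Nine
import Cfsg.Agent.BLK.Star

/-!
# Simple groups of order `9 * 2 ^ a * q ^ b`: a four-group as automizer of the Sylow 3-subgroup
-/

set_option autoImplicit false

open Cfsg Subgroup CL.Char CL.Blk
open scoped ComplexConjugate

namespace CL.Nine

section comb

variable {I : Type*} [Fintype I] [DecidableEq I] {M : I → I → ℤ} {e d : I → ℤ} {o i j k : I}

/-- Three times an integral projection fixing `e` and killing `d`. -/
structure Proj (M : I → I → ℤ) (e d : I → ℤ) (o : I) : Prop where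
  symm : ∀ i j, M i j = M j i
  sq : ∀ i j, ∑ k, M i k * M k j = 3 * M i j
  deg : ∀ i, ∑ k, M i k * d k = 0
  fix : ∀ i, ∑ k, M i k * e k = 3 * e i
  ne : ∀ i, e i ≠ 0
  norm : ∑ i, e i ^ 2 = 9
  eo : e o = 1
  do_ : d o = 1
  lt : ∀ i, i ≠ o → 1 < d i

/-- The row of `i` is supported on `i, j, k`. -/
structure Row (M : I → I → ℤ) (i j k : I) : Prop where
  ji : j ≠ i
  ki : k ≠ i
  jk : j ≠ k
  dg : M i i = 1 ∨ M i i = 2
  sj : M i j = 1 ∨ M i j = -1
  sk : M i k = 1 ∨ M i k = -1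
  supp : ∀ l, l ≠ i → l ≠ j → l ≠ k → M i l = 0

omit [Fintype I] [DecidableEq I] in
theorem Row.swap (r : Row M i j k) : Row M i k j :=
  ⟨r.ki, r.ji, r.jk.symm, r.dg, r.sk, r.sj, fun l a b c => r.supp l a c b⟩

theorem Row.sum (r : Row M i j k) (f : I → ℤ) :
    ∑ l, M i l * f l = M i i * f i + (M i j * f j + M i k * f k) := by
  rw [← Finset.add_sum_erase _ _ (Finset.mem_univ i), Finset.sum_eq_add_of_mem j k (by simp [r.ji])
    (by simp [r.ki]) r.jk fun l hl h => by rw [r.supp l (by simpa using hl) h.1 h.2, zero_mul]]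

namespace Proj

variable (h : Proj M e d o)
include h

theorem le_nine (s : Finset I) : ∑ i ∈ s, e i ^ 2 ≤ 9 :=
  h.norm ▸ Finset.sum_le_sum_of_subset_of_nonneg s.subset_univ fun _ _ _ => sq_nonneg _

theorem val (i : I) : e i = 1 ∨ e i = -1 ∨ e i = 2 ∨ e i = -2 := by
  by_cases hi : i = o
  · exact Or.inl (hi ▸ h.eo)
  have h1 := h.le_nine {i, o}
  rw [Finset.sum_pair hi, h.eo] at h1
  have := h.ne i
  have : e i < 3 := by nlinarith
  have : -3 < e i := by nlinarith
  omega

omit [DecidableEq I] in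
theorem pos (i : I) : 0 < d i := by
  by_cases hi : i = o
  · rw [hi, h.do_]; exact one_pos
  · exact one_pos.trans (h.lt i hi)

theorem row (i : I) : ∃ j k, Row M i j k := by
  have h1 : ∑ l ∈ Finset.univ.erase i, M i l ^ 2 = 3 * M i i - M i i ^ 2 := by
    rw [← h.sq i i, ← Finset.add_sum_erase _ _ (Finset.mem_univ i), _root_.sq, add_sub_cancel_left]
    exact Finset.sum_congr rfl fun l _ => by rw [_root_.sq, h.symm l i]
  have h2 := Finset.sum_nonneg fun l (_ : l ∈ Finset.univ.erase i) => sq_nonneg (M i l)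
  have h3 : 3 * M i i - M i i ^ 2 = 0 → ∀ f : I → ℤ, ∑ l, M i l * f l = M i i * f i := fun h0 f =>
    Finset.sum_eq_single i (fun l _ hl => by
      rw [pow_eq_zero_iff two_ne_zero |>.1 ((Finset.sum_eq_zero_iff_of_nonneg
        fun k _ => sq_nonneg _).1 (h1.trans h0) l (by simpa using hl)), zero_mul]) (by simp)
  have h4 : M i i ≠ 0 := fun h0 => h.ne i (by
    have := (h.fix i).symm.trans (h3 (by simp [h0]) e); rw [h0] at this; omega)
  have h5 : M i i ≠ 3 := fun h0 => (h.pos i).ne' (by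
    have := (h.deg i).symm.trans (h3 (by simp [h0]) d); rw [h0] at this; omega)
  have h6 : M i i = 1 ∨ M i i = 2 := by
    have : 0 ≤ M i i := by nlinarith
    have : M i i ≤ 3 := by nlinarith
    omega
  obtain ⟨j, hj, e1, h7⟩ := ST.exists_sq_one (n := 2) (h1.trans (by rcases h6 with a | a <;> simp [a]))
    (by norm_num) (by norm_num)
  obtain ⟨k, hk, e2, h8⟩ := ST.exists_sq_one h7 (by norm_num) (by norm_num)
  simp only [Finset.mem_erase] at hj hk
  exact ⟨j, k, hj.1, hk.2.1, hk.1.symm, h6, sq_eq_one_iff.1 e1, sq_eq_one_iff.1 e2, fun l a b c =>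
    pow_eq_zero_iff two_ne_zero |>.1 ((Finset.sum_eq_zero_iff_of_nonneg
      fun k _ => sq_nonneg _).1 (h8.trans (by norm_num)) l (by simp [a, b, c]))⟩

theorem row' (hj : j ≠ i) (h0 : M i j ≠ 0) : ∃ k, Row M i j k := by
  obtain ⟨x, y, r⟩ := h.row i
  by_cases hx : j = x
  · exact ⟨y, hx ▸ r⟩
  · exact ⟨x, (by_contra fun hy => h0 (r.supp j hj hx hy) : j = y) ▸ r.swap⟩

theorem two_aux (r : Row M i j k) (h2 : M i i = 2) (hi : e i = 1 ∨ e i = -1)
    (hj : e j = 2 ∨ e j = -2) : d j = d i ∧ d k = d i := by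
  obtain ⟨l, r'⟩ := h.row' r.ji.symm (by rw [h.symm]; have := r.sj; omega)
  have a1 := (r'.sum e).symm.trans (h.fix j)
  have a2 := (r.sum fun l => M l j).symm.trans (h.sq i j)
  have a3 := (r.sum d).symm.trans (h.deg i)
  have a4 := (r'.sum d).symm.trans (h.deg j)
  have a5 := h.val l
  have a6 := h.pos i
  have a7 := h.pos j
  have a9 := h.pos k
  rw [h.symm j i] at a1 a4
  rw [h.symm k j] at a2
  have a8 : M j j = 2 := r'.dg.resolve_left fun a => by
    rcases r.sj with b | b <;> rcases r'.sk with c | c <;> rw [a, b, c] at a1 <;> omega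
  obtain rfl : k = l := by_contra fun a => by
    rw [r'.supp k r.jk.symm r.ki a, h2, a8] at a2
    have := r.sj; omega
  rcases r.sj with b | b <;> rcases r.sk with c | c <;> rcases r'.sk with c' | c' <;>
    simp only [h2, a8, b, c, c'] at a2 a3 a4 <;> omega

theorem two (r : Row M i j k) (h2 : M i i = 2) (hi : e i = 1 ∨ e i = -1) :
    d j = d i ∧ d k = d i ∧ (e j ^ 2 = 4 ∨ e k ^ 2 = 4) := by
  have a1 := (r.sum e).symm.trans (h.fix i)
  have a2 := h.val j
  have a3 := h.val k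
  obtain a | a : (e j = 2 ∨ e j = -2) ∨ (e k = 2 ∨ e k = -2) := by
    rcases r.sj with b | b <;> rcases r.sk with c | c <;> rw [h2, b, c] at a1 <;> omega
  · have := h.two_aux r h2 hi a
    exact ⟨this.1, this.2, Or.inl (by rcases a with a | a <;> simp [a])⟩
  · have := h.two_aux r.swap h2 hi a
    exact ⟨this.2, this.1, Or.inr (by rcases a with a | a <;> simp [a])⟩

/-- The row of the principal character. -/
theorem base (r : Row M o j k) : M o o = 1 ∧ M o j = e j ∧ M o k = e k ∧ (e j = 1 ∨ e j = -1) ∧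
    M j j = 1 ∧ e j * d j + e k * d k = -1 := by
  have a0 : M o o = 1 := r.dg.resolve_right fun a =>
    (h.lt j r.ji).ne' ((h.two r a (Or.inl h.eo)).1.trans h.do_)
  have a1 := (r.sum e).symm.trans (h.fix o)
  have a2 := (r.sum d).symm.trans (h.deg o)
  have a3 := h.ne j
  have a4 := h.ne k
  have a5 := h.val j
  have a6 := h.val k
  rw [a0, h.eo] at a1
  rw [a0, h.do_] at a2
  obtain ⟨b1, b2, b3⟩ : M o j = e j ∧ M o k = e k ∧ (e j = 1 ∨ e j = -1) := by
    rcases r.sj with b | b <;> rcases r.sk with c | c <;> rw [b, c] at a1 <;> omega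
  obtain ⟨l, r'⟩ := h.row' r.ji.symm (by rw [h.symm, b1]; exact a3)
  exact ⟨a0, b1, b2, b3, r'.dg.resolve_right fun a =>
    (h.lt j r.ji).ne (h.do_.symm.trans (h.two r' a b3).1), by rw [← b1, ← b2]; omega⟩

theorem four (hi : e i ^ 2 = 4) : ∃ j k, i ≠ j ∧ i ≠ k ∧ j ≠ k ∧ M i i = 2 ∧ M j j = 2 ∧ M k k = 2 ∧
    d j = d i ∧ d k = d i := by
  obtain ⟨j, k, r⟩ := h.row i
  have a1 := (r.sum e).symm.trans (h.fix i)
  have a2 := h.val j
  have a3 := h.val k
  have a4 : e i = 2 ∨ e i = -2 := by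
    rcases h.val i with a | a | a | a <;> simp [a] at hi ⊢
  have a5 := h.le_nine {i, j, k}
  rw [Finset.sum_insert (by simp [r.ji.symm, r.ki.symm]), Finset.sum_pair r.jk, hi] at a5
  have a6 : M i i = 2 := r.dg.resolve_left fun a => by
    have b : (e j = 2 ∨ e j = -2) ∧ (e k = 2 ∨ e k = -2) := by
      rcases r.sj with b | b <;> rcases r.sk with c | c <;> rw [a, b, c] at a1 <;> omega
    rcases b.1 with b1 | b1 <;> rcases b.2 with b2 | b2 <;> simp [b1, b2] at a5
  have key : ∀ {j k}, Row M i j k → M j j = 2 ∧ d j = d i := fun {j k} r => by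
    have a1 := (r.sum e).symm.trans (h.fix i)
    have a2 := h.val j
    have a3 := h.val k
    obtain ⟨l, r'⟩ := h.row' r.ji.symm (by rw [h.symm]; have := r.sj; omega)
    have b1 := (r'.sum e).symm.trans (h.fix j)
    have b2 := h.ne l
    rw [h.symm j i] at b1
    have b3 : (e j = 1 ∨ e j = -1) ∧ M j j = 2 := by
      rcases r.sj with b | b <;> rcases r.sk with c | c <;> rcases r'.sk with c' | c' <;>
        rcases r'.dg with c'' | c'' <;> simp only [a6, b, c, c', c''] at a1 b1 <;> omega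
    exact ⟨b3.2, (h.two r' b3.2 b3.1).1.symm⟩
  exact ⟨j, k, r.ji.symm, r.ki.symm, r.jk, a6, (key r).1, (key r.swap).1, (key r).2, (key r.swap).2⟩

theorem one (h1 : ∀ i, e i = 1 ∨ e i = -1) (r : Row M i j k) :
    e i * d i + (e j * d j + e k * d k) = 0 ∧ M j k ≠ 0 := by
  have h2 : ∀ i, M i i = 1 := fun i => by
    obtain ⟨j, k, r⟩ := h.row i
    refine r.dg.resolve_right fun a => ?_
    rcases (h.two r a (h1 i)).2.2 with b | b
    · rcases h1 j with c | c <;> simp [c] at b
    · rcases h1 k with c | c <;> simp [c] at b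
  have a1 := (r.sum e).symm.trans (h.fix i)
  have a2 := (r.sum fun l => M l j).symm.trans (h.sq i j)
  have a3 := (r.sum d).symm.trans (h.deg i)
  rw [h.symm k j] at a2
  rcases r.sj with b | b <;> rcases r.sk with c | c <;> rcases h1 i with c1 | c1 <;>
    rcases h1 j with c2 | c2 <;> rcases h1 k with c3 | c3 <;>
    simp only [h2, b, c, c1, c2, c3] at a1 a2 a3 ⊢ <;> omega

theorem elim {N : I → I → ℤ} (h' : Proj N e d o) (hp : ∀ i j, ∑ k, M i k * N k j = e i * e j)
    (hm : ∀ i, d i % 3 = e i % 3) {q : ℤ} (hq : 5 ≤ q) (hq2 : Odd q) (hq3 : q % 3 ≠ 0)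
    (hd : ∀ i j, i ≠ o → j ≠ o → (e i = 1 ∨ e i = -1) → (e j = 1 ∨ e j = -1) →
      e i * d i + e j * d j = -1 → Odd (d i) →
      (∃ n, d j = 2 ^ n) ∧ ∀ l, ∃ n, d l = 2 ^ n ∨ d l = 2 ^ n * q) : False := by
  have par : ∀ {M : I → I → ℤ}, Proj M e d o → ∃ j k, Row M o j k ∧ Odd (d j) := fun {M} h => by
    obtain ⟨j, k, r⟩ := h.row o
    obtain ⟨-, -, -, a1, -, a2⟩ := h.base r
    obtain ⟨-, -, -, a3, -⟩ := h.base r.swap
    refine (Int.even_or_odd (d j)).elim (fun ⟨x, hx⟩ => ⟨k, j, r.swap, Int.odd_iff.2 ?_⟩)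
      fun a => ⟨j, k, r, a⟩
    rcases a1 with b | b <;> rcases a3 with c | c <;> rw [b, c] at a2 <;> omega
  obtain ⟨a', a, r, oa⟩ := par h
  obtain ⟨b', b, s, ob⟩ := par h'
  obtain ⟨r0, r1, r2, r3, r4, r5⟩ := h.base r
  obtain ⟨-, -, -, r6, r7, -⟩ := h.base r.swap
  obtain ⟨s0, s1, s2, s3, -, s5⟩ := h'.base s
  obtain ⟨-, -, -, s6, -⟩ := h'.base s.swap
  have t1 := (r.sum fun l => N l o).symm.trans (hp o o)
  have t2 : ∀ l, l ≠ o → N l o = 0 ∨ N l o = e l := fun l hl => by
    rw [h'.symm]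
    by_cases c1 : l = b'
    · exact Or.inr (c1 ▸ s1)
    by_cases c2 : l = b
    · exact Or.inr (c2 ▸ s2)
    exact Or.inl (s.supp l hl c1 c2)
  obtain ⟨t3, t4⟩ : N a' o = 0 ∧ N a o = 0 := by
    rw [r0, s0, r1, r2, h.eo] at t1
    rcases t2 a' r.ji with c | c <;> rcases t2 a r.ki with c' | c' <;> rcases r3 with c1 | c1 <;>
      rcases r6 with c2 | c2 <;> simp only [c, c', c1, c2] at t1 <;> omega
  have n1 : b' ≠ a' := fun c => h.ne b' (by rw [← s1, h'.symm, c, t3])
  have n2 : b' ≠ a := fun c => h.ne b' (by rw [← s1, h'.symm, c, t4])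
  have n3 : b ≠ a' := fun c => h.ne b (by rw [← s2, h'.symm, c, t3])
  have n4 : b ≠ a := fun c => h.ne b (by rw [← s2, h'.symm, c, t4])
  have sq1 : ∀ l, 1 ≤ e l ^ 2 := fun l => Int.add_one_le_of_lt (sq_pos_of_ne_zero (h.ne l))
  have h1 : ∀ i, e i = 1 ∨ e i = -1 := fun i => by_contra fun c => by
    have c4 : e i ^ 2 = 4 := by rcases h.val i with a | a | a | a <;> simp [a] at c ⊢
    obtain ⟨j, k, c1, c2, c3, m1, m2, m3, d1, d2⟩ := h.four c4
    have key : ∀ l, l ≠ o → l ≠ a' → l ≠ a → d l = d i := fun l l1 l2 l3 => by_contra fun l4 => by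
      have nn : ∀ {x y}, M x x = 1 → M y y = 2 → x ≠ y := fun u v w => by rw [w] at u; omega
      have l5 : l ≠ i := fun w => l4 (w ▸ rfl)
      have l6 : l ≠ j := fun w => l4 (w ▸ d1)
      have l7 : l ≠ k := fun w => l4 (w ▸ d2)
      have := h.le_nine {l, o, a', a, i, j, k}
      rw [Finset.sum_insert (by simp [*]), Finset.sum_insert
        (by simp [r.ji.symm, r.ki.symm, nn r0 m1, nn r0 m2, nn r0 m3]), Finset.sum_insert
        (by simp [r.jk, nn r4 m1, nn r4 m2, nn r4 m3]), Finset.sum_insert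
        (by simp [nn r7 m1, nn r7 m2, nn r7 m3]), Finset.sum_insert (by simp [c1, c2]),
        Finset.sum_pair c3] at this
      linarith [sq1 l, sq1 o, sq1 a', sq1 a, sq1 j, sq1 k]
    rw [key b' s.ji n1 n2, key b s.ki n3 n4] at s5
    rcases s3 with u | u <;> rcases s6 with v | v <;> rw [u, v] at s5 <;> omega
  obtain ⟨⟨n, hn⟩, hf⟩ := hd a' a r.ji r.ki r3 r6 r5 oa
  have k1 : ∀ l, l ≠ o → Odd (d l) → d l = q := fun l l1 l2 => by
    obtain ⟨_ | m, hm⟩ := hf l
    · have := h.lt l l1; omega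
    · have := Int.odd_iff.1 l2
      rw [pow_succ, mul_right_comm _ 2 q] at hm; omega
  have qa := k1 a' r.ji oa
  have hq' : ∀ l, l ≠ o → Odd (e l * d l) → e l * d l = e a' * q := fun l l1 l2 => by
    have c1 := k1 l l1 (Int.odd_mul.1 l2).2
    have := hm l
    have := hm a'
    have := h1 l
    rw [c1, show e l = e a' by omega]
  have tr : ∀ {M : I → I → ℤ}, Proj M e d o → ∀ {j k l}, Row M o j k → l ≠ o → l ≠ j → l ≠ k →
      M l o = 0 ∧ M l j = 0 := fun {M} h {j k l} r l1 l2 l3 => by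
    obtain ⟨m, r'⟩ := h.row' r.ji.symm (by rw [h.symm]; have := r.sj; omega)
    obtain rfl : k = m := by_contra fun c => (h.one h1 r).2 (r'.supp k r.jk.symm r.ki c)
    exact ⟨(h.symm _ _).trans (r.supp l l1 l2 l3), (h.symm _ _).trans (r'.supp l l2 l1 l3)⟩
  obtain ⟨w, -, hw⟩ := Finset.exists_ne_zero_of_sum_ne_zero
    ((hp b' a).trans_ne (mul_ne_zero (h.ne _) (h.ne _)))
  obtain ⟨w1, w2⟩ := mul_ne_zero_iff.1 hw
  rw [h'.symm] at w2
  obtain ⟨z1, z2⟩ := tr h r.swap s.ji n2 n1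
  obtain ⟨z3, z4⟩ := tr h' s r.ki n2.symm n4.symm
  obtain ⟨y, u⟩ := h.row' (fun c => w2 (by rw [c, z4])) w1
  obtain ⟨y', u'⟩ := h'.row' (fun c => w1 (by rw [c, z2])) w2
  have y1 : y ≠ o := fun c => by have := u.sk; rw [c] at this; omega
  have y2 : y' ≠ o := fun c => by have := u'.sk; rw [c] at this; omega
  have f1 := (h.one h1 u).1
  have f2 := (h'.one h1 u').1
  have f3 := hq' b' s.ji (Int.odd_mul.2 ⟨by rcases s3 with c | c <;> simp [c], ob⟩)
  have f4 := h.lt y' y2
  rw [qa] at r5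
  obtain ⟨t, ht⟩ := hq2
  rcases Int.even_or_odd (e w * d w) with ⟨x, c⟩ | c
  · have f5 := hq' y y1 (Int.odd_iff.2 (by rcases r3 with c | c <;> rw [c] at f3 <;> omega))
    have f6 : 4 ∣ d a := by
      rw [hn]
      refine pow_dvd_pow 2 (not_lt.1 fun c => ?_ : 2 ≤ n)
      rcases r3 with c1 | c1 <;> rcases r6 with c2 | c2 <;> rw [c1, c2, hn] at r5 <;>
        interval_cases n <;> omega
    obtain ⟨m, c | c⟩ := hf y'
    · have f7 : 4 ∣ d y' := by
        rw [c]
        refine pow_dvd_pow 2 (not_lt.1 fun c' => ?_ : 2 ≤ m)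
        rcases r3 with c1 | c1 <;> rcases h1 y' with c2 | c2 <;> rw [c2] at f2 <;>
          rw [c1] at r5 f3 f5 <;> interval_cases m <;> omega
      rcases r3 with c1 | c1 <;> rcases h1 y' with c2 | c2 <;> rcases r6 with c3 | c3 <;>
        rw [c2, c3] at f2 <;> rw [c1] at r5 f3 f5 <;> rw [c3] at r5 <;> omega
    · have := Int.le_of_dvd one_pos (⟨e y' * 2 ^ m - 3 * e a', by
        rw [c] at f2; linear_combination -f2 + r5 + f1 - f3 - f5⟩ : q ∣ 1)
      omega
  · have f5 := hq' w (fun c => w1 (by rw [c, z1])) c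
    rcases h1 y' with c2 | c2 <;> rw [c2] at f2 <;> omega

end Proj

end comb

variable {G : Type*} [Group G] [Finite G]

theorem isGen_pp {p : ℕ} [hp : Fact p.Prime] (P : Sylow p G) {θ : G → ℂ} (hθ : IsClassFunction G θ)
    (h : IsGeneralizedCharacter (P : Subgroup G) fun y => θ y) :
    IsGeneralizedCharacter G fun g => θ (pp p g) := by
  refine isGen_of_prod (fun g x => ?_) P.card_coprime_index
    (P : Subgroup G).card_mul_index.symm.dvd fun A B hc hA hB _ => ?_
  · simp only [((isPPart_pp hp.out g).conj x).pp_eq hp.out, hθ _ x]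
  obtain ⟨n, hn⟩ := P.isPGroup'.exists_card_eq
  obtain ⟨j, -, hj⟩ := (Nat.dvd_prime_pow hp.out).1 (hn ▸ hA)
  obtain ⟨g, hg⟩ := Tr.exists_conj_le_sylow P (IsPGroup.of_card hj)
  convert h.comp (MonoidHom.mk' (fun x : A × B => ⟨g * x.1 * g⁻¹, hg _ x.1.2⟩) fun x y =>
    Subtype.ext (by simp)) using 2 with x
  rw [(isPPart_mul (hc _ x.1.2 _ x.2.2) (pElt_of_mem_isPGroup hp.out (IsPGroup.of_card hj) x.1.2)
    fun e => P.not_dvd_index (e.trans ((B.orderOf_dvd_natCard x.2.2).trans hB))).pp_eq hp.out]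
  exact (hθ _ g).symm

open Classical in
/-- Three times the indicator of the elements whose 3-part is not conjugate into `U`. -/
noncomputable def eta3 (U : Subgroup G) (g : G) : ℂ := if ∃ y ∈ U, IsConj y (pp 3 g) then 0 else 3

/-- A strongly closed subgroup of index three. -/
structure SC (P U : Subgroup G) : Prop where
  idx : U.relIndex P = 3
  cl : ∀ y ∈ U, ∀ y' ∈ P, IsConj y y' → y' ∈ U

theorem SC.isGen {P : Sylow 3 G} {U : Subgroup G} (h : SC P U)
    (hc : IsMulCommutative (P : Subgroup G)) : IsGeneralizedCharacter G (eta3 U) := by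
  classical
  refine isGen_pp P (θ := fun g => if ∃ y ∈ U, IsConj y g then 0 else 3) (fun g x => if_congr
    (exists_congr fun y => and_congr_right fun _ => ⟨fun a => a.trans (isConj_iff.2 ⟨x, rfl⟩).symm,
      fun a => a.trans (isConj_iff.2 ⟨x, rfl⟩)⟩) rfl rfl) ?_
  have : (U.subgroupOf P).Normal := ⟨fun n hn g => by rwa [hc.is_comm.comm g, mul_inv_cancel_right]⟩
  convert (isGen_one.natCast_smul 3).sub ((isCharacter_regular (G := _ ⧸ _)).isGen.comp
    (QuotientGroup.mk' (U.subgroupOf P))) using 2 with y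
  have h1 : (∃ z ∈ U, IsConj z y) ↔ y.1 ∈ U :=
    ⟨fun ⟨z, a, b⟩ => h.cl z a y y.2 b, fun a => ⟨y, a, IsConj.refl _⟩⟩
  have h2 : Nat.card ((P : Subgroup G) ⧸ U.subgroupOf P) = 3 := h.idx
  by_cases h3 : y.1 ∈ U <;> simp [h1, h2, h3, mem_subgroupOf, -isConj_iff]

theorem exists_mat [Fintype G] {M : Ideal AlgInt} (hM : IsPModular 3 M) {U : Subgroup G}
    (h : IsGeneralizedCharacter G (eta3 U)) [Fintype (principalBlock M G)] :
    ∃ m : principalBlock M G → principalBlock M G → ℤ,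
      (∀ i j, classInner (eta3 U * i.1.1) j.1.1 = m i j) ∧
      ∀ i g, eta3 U g * i.1.1 g = ∑ j, m i j * j.1.1 g := by
  classical
  choose m hm using fun i j : principalBlock M G =>
    (h.mul i.1.2.isGen).exists_int_inner j.1.2.isGen
  refine ⟨m, hm, fun i g => ((h.mul i.1.2.isGen).isClassFunction.apply_eq_sum g).trans ?_⟩
  simp only [← hm]
  rw [← Finset.sum_subtype (Finset.univ.filter (· ∈ principalBlock M G)) (by simp)
    fun ψ => classInner (eta3 U * i.1.1) ψ.1 * ψ.1 g]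
  refine (Finset.sum_filter_of_ne fun ψ _ h0 => by_contra fun hψ => h0 ?_).symm
  have h1 := sum_section_eq_zero_of_int hM ((isBlockUnion_of_block hM
    isPBlock_principalBlock).isInt hM) i.2 hψ {g | ¬ ∃ y ∈ U, IsConj y (pp 3 g)}
    fun g g' x y hx hy c a ⟨z, b, b'⟩ => a ⟨z, b, by
      rw [hx.pp_eq hM.1]; rw [hy.pp_eq hM.1] at b'; exact b'.trans c.symm⟩
  rw [classInner_def, Finset.sum_congr rfl (g := fun g => 3 * if ¬ ∃ y ∈ U, IsConj y (pp 3 g) then
    i.1.1 g * conj (ψ.1 g) else 0) fun g _ => by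
      rw [Pi.mul_apply, eta3]; split_ifs <;> ring, ← Finset.mul_sum, ← Finset.sum_filter]
  simp only [Set.mem_setOf_eq] at h1
  rw [h1, mul_zero, mul_zero, zero_mul]

theorem Hyp.not_v4 [IsSimpleGroup G] {q a b : ℕ} (H : Hyp G q a b) {P : Sylow 3 G}
    {U V : Subgroup G} (hU : SC P U) (hV : SC P V) {x : G} (hx : x ∈ (P : Subgroup G)) (xU : x ∉ U)
    (xV : x ∉ V) (x3 : x ^ 3 = 1) (hc : ∀ y ∈ (P : Subgroup G), y ∉ U → y ∉ V → IsConj x y)
    (hn : HasNormalPComplement 3 (centralizer ({x} : Set G))) : False := by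
  classical
  have := Fintype.ofFinite G
  have p3 := Nat.prime_three
  obtain ⟨M, hM⟩ := Glb.exists_isPModular p3
  have cP := H.comm P
  have px := pElt_of_mem_isPGroup p3 P.isPGroup' hx
  have hPx : ∀ u ∈ (P : Subgroup G), u * x = x * u := fun u hu =>
    congrArg Subtype.val (cP.is_comm.comm ⟨u, hu⟩ ⟨x, hx⟩)
  choose e he using fun i : principalBlock M G => i.1.2.isGen.exists_int_of_pow three_ne_zero x3
    fun k hk => by
      rw [pow_eq_pow_mod k x3]
      obtain h | h : k % 3 = 1 ∨ k % 3 = 2 := by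
        have := mt Nat.dvd_of_mod_eq_zero (p3.coprime_iff_not_dvd.1 hk.symm); omega
      · rw [h, pow_one]
      · rw [h, show x ^ 2 = x⁻¹ from eq_inv_of_mul_eq_one_left (by rw [← pow_succ, x3])]
        exact (i.1.2.isClassFunction.eq_of_isConj (hc _ (inv_mem hx) (by simpa) (by simpa))).symm
  let o : principalBlock M G := ⟨_, irrOne_mem_principalBlock hM⟩
  let d : principalBlock M G → ℤ := fun i => charDegree i.1.1
  have hd : ∀ i : principalBlock M G, i.1.1 1 = d i := fun i => by simp [d, irr_one_eq]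
  have eo : e o = 1 := by exact_mod_cast (he o).symm.trans (Blk.irrOne_apply x)
  have e9 : ∑ i, e i ^ 2 = 9 := by
    have h1 := column_principal_of_npc hM px hn
    rw [Finset.sum_subtype (p := (· ∈ principalBlock M G)) _ (by simp), ← Nat.cast_pow, ← (P.subtype (N := centralizer {x}) fun u hu =>
        mem_centralizer_singleton_iff.2 (hPx u hu)).card_eq_multiplicity, Sylow.coe_subtype,
      Nat.card_congr (subgroupOfEquivOfLe fun u hu =>
        mem_centralizer_singleton_iff.2 (hPx u hu)).toEquiv, H.card_sylow] at h1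
    simp only [he, map_intCast, ← sq] at h1
    exact_mod_cast h1
  have inn : ∀ {U V : Subgroup G} {m n : principalBlock M G → principalBlock M G → ℤ},
      (∀ i g, eta3 U g * i.1.1 g = ∑ j, m i j * j.1.1 g) →
      (∀ i j, classInner (eta3 V * i.1.1) j.1.1 = n i j) → ∀ i j,
      ((∑ k, m i k * n k j : ℤ) : ℂ) = classInner (eta3 V * (eta3 U * i.1.1)) j.1.1 :=
    fun {U V m n} h1 h2 i j => by
      rw [show eta3 V * (eta3 U * i.1.1) = ∑ k, (m i k : ℂ) • (eta3 V * k.1.1) from funext fun g => by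
        simp [h1, Finset.mul_sum, mul_left_comm], classInner_sum_left]
      simp [classInner_smul_left, h2]
  have pr : ∀ {U}, SC P U → x ∉ U → ∀ {m : principalBlock M G → principalBlock M G → ℤ},
      (∀ i j, classInner (eta3 U * i.1.1) j.1.1 = m i j) →
      (∀ i g, eta3 U g * i.1.1 g = ∑ j, m i j * j.1.1 g) → Proj m e d o := fun {U} hU xU m h1 h2 => by
    refine ⟨fun i j => Int.cast_injective (α := ℂ) ?_, fun i j => Int.cast_injective (α := ℂ) ?_,
      fun i => Int.cast_injective (α := ℂ) ?_, fun i => Int.cast_injective (α := ℂ) ?_,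
      fun i h0 => principal_apply_ne_zero' hM i.2 (not_dvd_index_centralizer_of_sylow P hPx)
        (by simp [he, h0]), e9, eo, by exact_mod_cast (hd o).symm.trans (Blk.irrOne_apply 1),
      fun i hi => Int.ofNat_lt.2 (one_lt_deg H.nc fun c => hi (Subtype.ext c))⟩
    · rw [← map_intCast (starRingEnd ℂ) (m j i), ← h1, ← h1, classInner_conj_symm, classInner_def,
        classInner_def]
      exact congrArg _ (Finset.sum_congr rfl fun g _ => by
        simp only [Pi.mul_apply, eta3]; split_ifs <;> simp [map_ofNat]; ring)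
    · rw [inn h2 h1, Int.cast_mul, ← h1, Int.cast_ofNat, ← classInner_smul_left]
      exact congrArg (classInner · _) (funext fun g => by
        simp only [Pi.mul_apply, Pi.smul_apply, eta3]; split_ifs <;> simp)
    · have := h2 i 1
      rw [eta3, if_pos ⟨1, one_mem _, by rw [(isPPart_self p3 pElt_one).pp_eq p3]⟩] at this
      simpa [hd] using this.symm
    · have := h2 i x
      rw [eta3, (isPPart_self p3 px).pp_eq p3, if_neg fun ⟨y, a, b⟩ => xU (hU.cl y a x hx b)] at this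
      simpa [he] using this.symm
  obtain ⟨m, m1, m2⟩ := exists_mat hM (hU.isGen cP)
  obtain ⟨n, n1, n2⟩ := exists_mat hM (hV.isGen cP)
  have hm := pr hU xU m1 m2
  have hn' := pr hV xV n1 n2
  have k1 : ∀ g (i : principalBlock M G), eta3 V g * eta3 U g * i.1.1 g = eta3 V g * eta3 U g * e i :=
    fun g i => by
      simp only [eta3]
      split_ifs with c1 c2 c2
      · simp
      · simp
      · simp
      have h1 := isPPart_pp p3 g
      obtain ⟨t, ht⟩ := Tr.exists_conj_le_sylow P (isPGroup_zpowers_of_pElt h1.pElt)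
      have h2 : IsConj (t * pp 3 g * t⁻¹) (pp 3 g) := (isConj_iff.2 ⟨t, rfl⟩).symm
      obtain ⟨c, hc'⟩ := isConj_iff.1 ((hc _ (ht _ (mem_zpowers _)) (fun a => c2 ⟨_, a, h2⟩)
        fun a => c1 ⟨_, a, h2⟩).trans h2).symm
      rw [← he, ← principal_apply_of_isPPart hM (hc' ▸ h1.conj c) hn i.2, i.1.2.isClassFunction]
  have k2 : ∀ i j, ((∑ k, m i k * n k j : ℤ) : ℂ) =
      ((Nat.card G : ℂ)⁻¹ * ∑ g, eta3 V g * eta3 U g) * (e i * e j) := fun i j => by
    rw [inn m2 n1, classInner_def, mul_assoc, Finset.sum_mul]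
    refine congrArg _ (Finset.sum_congr rfl fun g _ => ?_)
    have h1 := congrArg conj (k1 g j)
    have h2 : conj (eta3 V g * eta3 U g) = eta3 V g * eta3 U g := by
      simp only [eta3]; split_ifs <;> simp [map_ofNat]
    rw [map_mul, map_mul _ _ (e j : ℂ), h2, map_intCast] at h1
    simp only [Pi.mul_apply]
    linear_combination conj (j.1.1 g) * k1 g i + e i * h1
  generalize (Nat.card G : ℂ)⁻¹ * ∑ g, eta3 V g * eta3 U g = c at k2
  obtain rfl : c = 1 := by
    have h1 : ∑ j, (∑ k, m o k * n k j) * e j = 9 := by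
      simp only [Finset.sum_mul, mul_assoc]
      rw [Finset.sum_comm]
      simp only [← Finset.mul_sum, hn'.fix, mul_left_comm _ (3 : ℤ), hm.fix, eo]
      rfl
    have h2 := congrArg (Int.cast (R := ℂ)) h1
    have h3 := congrArg (Int.cast (R := ℂ)) e9
    simp only [Int.cast_sum (s := Finset.univ) (f := fun j => _ * e j), Int.cast_mul _ (e _), k2, eo,
      Int.cast_one, one_mul, mul_assoc, ← sq, ← Finset.mul_sum] at h2
    push_cast at h2 h3
    rw [h3] at h2
    linear_combination h2 / 9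
  have hm3 : ∀ i, d i % 3 = e i % 3 := fun i =>
    (i.1.2.isGen.int_modEq_one p3 (k := 1) (by rwa [pow_one]) (he i) (hd i)).symm
  have nq : ¬ 3 ∣ q := fun c => H.ne3 ((Nat.prime_dvd_prime_iff_eq p3 H.prime).1 c).symm
  refine hm.elim hn' (fun i j => Int.cast_injective (α := ℂ) (by rw [k2]; simp)) hm3 (q := q)
    (by exact_mod_cast H.five_le) (by exact_mod_cast H.odd_q) (by omega) fun i j i1 j1 i2 j2 h h' => ?_
  have a1 := hm3 i
  have a2 := hm3 j
  obtain ⟨rfl, -, t, ht⟩ := H.pair_deg (fun c => i1 (Subtype.ext c)) (fun c => j1 (Subtype.ext c))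
    (by rcases i2 with c | c <;> simp [c, d]) (by rcases j2 with c | c <;> simp [c, d]) h
    (by rcases i2 with c | c <;> rw [c] at a1 ⊢ <;> omega)
    (by rcases j2 with c | c <;> rw [c] at a2 ⊢ <;> omega)
    (Int.odd_mul.2 ⟨by rcases i2 with c | c <;> simp [c], h'⟩)
  refine ⟨⟨t, by rcases j2 with c | c <;> simpa [c, d, ← Int.natCast_inj] using ht⟩, fun l => ?_⟩
  obtain ⟨u, v, hv, h1⟩ := H.form l.1.2.charDegree_dvd_card (by
    have := hm3 l; have := hm.val l; simp only [d] at *; omega)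
  refine ⟨u, ?_⟩
  interval_cases v <;> simp [d, h1]

end CL.Nine
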