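import Mathlib
import Cfsg.Agent.BLK.NineV4
import Cfsg.Agent.S1011
import Cfsg.Agent.S1020

/-!
# Simple groups of order `9 * 2 ^ a * q ^ b` with three classes of 3-elements
-/

set_option autoImplicit false

open Cfsg Subgroup CL.Char CL.Blk MulAction

namespace CL.Nine

variable {G : Type*} [Group G] [Finite G] [IsSimpleGroup G] {q a b : ℕ}

omit [Finite G] [IsSimpleGroup G] in
theorem mem_three {u y : G} (hu : u ^ 3 = 1) (h : y ∈ zpowers u) : y = 1 ∨ y = u ∨ y = u⁻¹ := by
  obtain ⟨k, rfl⟩ := h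
  have h1 : u ^ k = u ^ (k % (3 : ℕ)) := zpow_eq_zpow_emod' k hu
  obtain h | h | h : k % (3 : ℕ) = 0 ∨ k % (3 : ℕ) = 1 ∨ k % (3 : ℕ) = 2 := by omega
  all_goals rw [h] at h1
  · exact Or.inl (by simpa using h1)
  · exact Or.inr (Or.inl (by simpa using h1))
  · exact Or.inr (Or.inr (h1.trans (eq_inv_of_mul_eq_one_left (by rw [← hu]; group))))

theorem iso_of_card (h : Nat.card G = 504 ∨ Nat.card G = 2448) :
    (∃ (F : Type) (_ : Field F) (_ : Fintype F), Fintype.card F = 8 ∧
        Nonempty (G ≃* Matrix.ProjectiveSpecialLinearGroup (Fin 2) F)) ∨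
      Nonempty (G ≃* Matrix.ProjectiveSpecialLinearGroup (Fin 2) (ZMod 17)) := by
  have := Fact.mk (by norm_num : Nat.Prime 17)
  have := Fintype.ofFinite (GaloisField 2 3)
  have h8 : Fintype.card (GaloisField 2 3) = 8 := by
    rw [← Nat.card_eq_fintype_card, GaloisField.card 2 3 (by norm_num)]; rfl
  exact h.imp (fun h => ⟨_, _, _, h8, Cfsg.Agent.S1011.result h h8⟩)
    fun h => Cfsg.Agent.S1020.result h (ZMod.card 17)

namespace Hyp

variable (H : Hyp G q a b) {P : Sylow 3 G}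
include H

theorem not_fixed {y : (P : Subgroup G)}
    (h : ∀ n : normalizer ((P : Subgroup G) : Set G), n • y = y) : y = 1 := by
  have hc := H.comm P
  have h1 := Tr.commutator_inf_sylow_eq_of_controls P le_normalizer
    (Tr.abelian_sylow_controls_elem P hc)
  rw [perfect H.nc, ← map_subtype_commutator] at h1
  obtain ⟨⟨z, hz, e⟩, -⟩ := h1.le ⟨mem_top y.1, y.2⟩
  have h2 := Tr.pow_index_eq_one_of_mem_center_commutator
    (H := (P : Subgroup G).subgroupOf _) inferInstance (mem_center_iff.2 fun n => Subtype.ext (by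
      have := congrArg Subtype.val (h n)
      rw [coe_normalizer_smul, ← e, mul_inv_eq_iff_eq_mul] at this
      exact this)) hz
  refine Subtype.ext (eq_one_of_pElt_of_pReg (pElt_of_mem_isPGroup Nat.prime_three P.isPGroup' y.2)
    fun d => Tr.not_dvd_relIndex_sylow P le_normalizer (d.trans ?_))
  rw [← e]
  exact (orderOf_coe z).dvd.trans (orderOf_dvd_of_pow_eq_one h2)

theorem ncard_orbit {y : (P : Subgroup G)} (h : y ≠ 1) :
    (orbit (normalizer ((P : Subgroup G) : Set G)) y).ncard = 2 ∨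
      4 ≤ (orbit (normalizer ((P : Subgroup G) : Set G)) y).ncard := by
  rw [← index_stabilizer]
  have h0 := (stabilizer (normalizer ((P : Subgroup G) : Set G)) y).index_ne_zero_of_finite
  have h1 := mt index_eq_one.1 fun e : stabilizer (normalizer ((P : Subgroup G) : Set G)) y = ⊤ =>
    h (H.not_fixed fun n => e.ge (mem_top n))
  have h3 := mt (fun d : 3 ∣ _ => d.trans (index_dvd_of_le (H := (P : Subgroup G).subgroupOf _)
    (K := stabilizer (normalizer ((P : Subgroup G) : Set G)) y) fun n hn => Subtype.ext (by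
      rw [coe_normalizer_smul, mul_inv_eq_iff_eq_mul]
      exact congrArg Subtype.val ((H.comm P).is_comm.comm ⟨n, hn⟩ y))))
    (Tr.not_dvd_relIndex_sylow P le_normalizer)
  omega

theorem pm {y : (P : Subgroup G)} (h : (orbit (normalizer ((P : Subgroup G) : Set G)) y).ncard = 2)
    (n : normalizer ((P : Subgroup G) : Set G)) : n • y = y ∨ n • y = y⁻¹ := by
  obtain ⟨u, v, h1, h2⟩ := Set.ncard_eq_two.1 h
  have h3 : ∀ m : normalizer ((P : Subgroup G) : Set G), ∀ w, w = u ∨ w = v → m • w = u ∨ m • w = v :=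
    fun m w hw => h2.le (mem_orbit_of_mem_orbit m (h2.ge hw))
  have h4 : u * v = 1 := H.not_fixed fun m => by
    rw [smul_mul']
    rcases h3 m u (Or.inl rfl) with c | c <;> rcases h3 m v (Or.inr rfl) with c' | c'
    · exact absurd (smul_left_cancel m (c.trans c'.symm)) h1
    · rw [c, c']
    · rw [c, c', (H.comm P).is_comm.comm]
    · exact absurd (smul_left_cancel m (c.trans c'.symm)) h1
  obtain rfl := eq_inv_of_mul_eq_one_left h4
  rcases h2.le (mem_orbit_self y) with rfl | rfl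
  · simpa using h3 n _ (Or.inl rfl)
  · exact (h3 n _ (Or.inr rfl)).symm

theorem exists_inv {y : (P : Subgroup G)} (h1 : y ≠ 1)
    (h : ∀ n : normalizer ((P : Subgroup G) : Set G), n • y = y ∨ n • y = y⁻¹) :
    ∃ n : normalizer ((P : Subgroup G) : Set G), n • y = y⁻¹ :=
  by_contra fun c => h1 (H.not_fixed fun n => (h n).resolve_right fun e => c ⟨n, e⟩)

omit [IsSimpleGroup G] in
theorem sc {u : (P : Subgroup G)} (h1 : u ≠ 1) (h3 : u ^ 3 = 1)
    (h : ∀ n : normalizer ((P : Subgroup G) : Set G), n • u = u ∨ n • u = u⁻¹) :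
    SC P ((zpowers u).map (P : Subgroup G).subtype) := by
  refine ⟨?_, ?_⟩
  · have := (zpowers u).card_mul_index
    rw [Nat.card_zpowers, orderOf_eq_prime h3 h1, H.card_sylow] at this
    rw [relIndex, subgroupOf, comap_map_eq_self_of_injective (subtype_injective _)]
    omega
  · rintro _ ⟨_, ⟨k, rfl⟩, rfl⟩ y hy hc
    obtain ⟨g, rfl⟩ := isConj_iff.1 hc
    obtain ⟨n, hn, e⟩ := Tr.abelian_sylow_controls_elem P (H.comm P) _ (u ^ k).2 g hy
    refine ⟨(⟨n, hn⟩ : normalizer ((P : Subgroup G) : Set G)) • u ^ k, ?_, e⟩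
    rw [smul_zpow']
    exact zpow_mem ((h _).elim (fun c => c.symm ▸ mem_zpowers u)
      fun c => c.symm ▸ inv_mem (mem_zpowers u)) k

theorem not_pm (hn : ¬ IsCyclic (P : Subgroup G)) {u v : (P : Subgroup G)} (u1 : u ≠ 1) (v1 : v ≠ 1)
    (hu : ∀ n : normalizer ((P : Subgroup G) : Set G), n • u = u ∨ n • u = u⁻¹)
    (hv : ∀ n : normalizer ((P : Subgroup G) : Set G), n • v = v ∨ n • v = v⁻¹)
    (huv : v ∉ orbit (normalizer ((P : Subgroup G) : Set G)) u) : False := by
  have hc := H.comm P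
  have cm := hc.is_comm.comm
  have e3 : ∀ y : (P : Subgroup G), y ^ 3 = 1 := fun y => by
    have h1 := orderOf_dvd_natCard y
    have h2 := mt (isCyclic_of_orderOf_eq_card y) hn
    rw [H.card_sylow] at h1 h2
    obtain ⟨k, hk, e⟩ := (Nat.dvd_prime_pow Nat.prime_three (m := 2)).1 h1
    refine orderOf_dvd_iff_pow_eq_one.1 ?_
    interval_cases k <;> simp_all
  have e2 : ∀ y : (P : Subgroup G), y⁻¹ = y → y = 1 := fun y h => by
    rw [← e3 y, pow_three, inv_eq_iff_mul_eq_one.1 h, mul_one]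
  obtain ⟨m, hm⟩ := H.exists_inv u1 hu
  obtain ⟨m', hm'⟩ := H.exists_inv v1 hv
  have vu : v ∉ zpowers u := fun h => by
    rcases mem_three (e3 u) h with c | c | c
    exacts [v1 c, huv (by rw [c]; exact mem_orbit_self u), huv ⟨m, hm.trans c.symm⟩]
  have uv : u ∉ zpowers v := fun h => by
    rcases mem_three (e3 v) h with c | c | c
    exacts [u1 c, vu (c ▸ mem_zpowers u), vu (by rw [c]; simp)]
  have nm : ∀ K : Subgroup (P : Subgroup G), K.Normal := fun K =>
    ⟨fun n hn g => by rwa [cm g, mul_inv_cancel_right]⟩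
  have gen : ∀ y, ∃ s ∈ zpowers u, ∃ t ∈ zpowers v, s * t = y := fun y => by
    have h1 := (zpowers u).card_mul_index
    rw [Nat.card_zpowers, orderOf_eq_prime (e3 u) u1, H.card_sylow] at h1
    rw [← mem_sup_of_normal_right, (Tr.isCoatom_of_index_prime
      (by rw [show (zpowers u).index = 3 by omega]; exact Nat.prime_three)).2 _
      (left_lt_sup.2 fun h => vu (h (mem_zpowers v)))]
    trivial
  have cen : ∀ n : normalizer ((P : Subgroup G) : Set G), n • u = u → n • v = v →
      n.1 ∈ centralizer ((P : Subgroup G) : Set G) := fun n a b => mem_centralizer_iff.2 fun y hy => by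
    obtain ⟨_, ⟨i, rfl⟩, _, ⟨j, rfl⟩, e⟩ := gen ⟨y, hy⟩
    have : n • (⟨y, hy⟩ : (P : Subgroup G)) = ⟨y, hy⟩ := by
      rw [← e, smul_mul', smul_zpow', smul_zpow', a, b]
    exact (mul_inv_eq_iff_eq_mul.1 (congrArg Subtype.val this)).symm
  by_cases hr : ∃ n : normalizer ((P : Subgroup G) : Set G),
      n • u = u ∧ n • v = v⁻¹ ∨ n • u = u⁻¹ ∧ n • v = v
  · obtain ⟨⟨s, s1, s2⟩, t, t1, t2⟩ : (∃ n : normalizer ((P : Subgroup G) : Set G),
        n • u = u ∧ n • v = v⁻¹) ∧ ∃ n : normalizer ((P : Subgroup G) : Set G),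
          n • u = u⁻¹ ∧ n • v = v := by
      obtain ⟨n, c | c⟩ := hr
      · exact ⟨⟨n, c⟩, (hv m).elim (fun d => ⟨m, hm, d⟩) fun d => ⟨m * n, by
          simp [mul_smul, c, hm, d]⟩⟩
      · exact ⟨(hu m').elim (fun d => ⟨m', d, hm'⟩) fun d => ⟨m' * n, by
          simp [mul_smul, c, hm', d]⟩, n, c⟩
    have inj := fun K x => mem_map_iff_mem (K := K) (x := x) (P : Subgroup G).subtype_injective
    have cj : ∀ n : normalizer ((P : Subgroup G) : Set G), IsConj (u * v).1 (n • (u * v)).1 :=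
      fun n => isConj_iff.2 ⟨n, rfl⟩
    have hle : (P : Subgroup G) ≤ centralizer {(u * v).1} := fun x hx =>
      mem_centralizer_singleton_iff.2 (congrArg Subtype.val (cm ⟨x, hx⟩ _))
    refine H.not_v4 (H.sc u1 (e3 u) hu) (H.sc v1 (e3 v) hv) (u * v).2
      (fun h => vu ((mul_mem_cancel_left (mem_zpowers u)).1 ((inj _ _).1 h)))
      (fun h => uv ((mul_mem_cancel_right (mem_zpowers v)).1 ((inj _ _).1 h)))
      (congrArg Subtype.val (e3 _)) (fun y hy yU yV => ?_)
      (hasNPC_of_normalizer_le_centralizer (P.subtype hle) fun n hn => ?_)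
    · obtain ⟨i, hi, j, hj, e⟩ := gen ⟨y, hy⟩
      obtain rfl : (i * j).1 = y := congrArg Subtype.val e
      rcases mem_three (e3 u) hi with rfl | rfl | rfl
      · exact absurd ((inj _ (1 * j)).2 (by simpa)) yV
      all_goals rcases mem_three (e3 v) hj with rfl | rfl | rfl
      · exact absurd ((inj _ (_ * 1)).2 (by simp)) yU
      · exact IsConj.refl _
      · simpa only [smul_mul', s1, s2] using cj s
      · exact absurd ((inj _ (_ * 1)).2 (by simp)) yU
      · simpa only [smul_mul', t1, t2] using cj t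
      · simpa only [mul_smul, smul_mul', s1, s2, t1, t2, smul_inv'] using cj (s * t)
    · have hn' : (n : G) ∈ normalizer ((P : Subgroup G) : Set G) := by
        have h2 : n ∈ normalizer (((P : Subgroup G).subgroupOf (centralizer {(u * v).1}) :
          Subgroup _) : Set _) := hn
        rwa [← subgroupOf_normalizer_eq hle] at h2
      have h1 : (⟨n, hn'⟩ : normalizer ((P : Subgroup G) : Set G)) • (u * v) = u * v :=
        Subtype.ext (mul_inv_eq_iff_eq_mul.2 (mem_centralizer_singleton_iff.1 n.2))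
      have : (n : G) ∈ centralizer ((P : Subgroup G) : Set G) := by
        rw [smul_mul'] at h1
        rcases hu ⟨n, hn'⟩ with c | c <;> rcases hv ⟨n, hn'⟩ with d | d
        · exact cen _ c d
        · exact absurd (e2 _ (by simpa [c, d] using h1)) v1
        · exact absurd (e2 _ (by simpa [c, d] using h1)) u1
        · rw [c, d, ← mul_inv_rev, cm v] at h1
          exact absurd (eq_inv_of_mul_eq_one_right (e2 _ h1) ▸ inv_mem (mem_zpowers u)) vu
      exact mem_centralizer_iff.2 fun x hx => Subtype.ext (mem_centralizer_iff.1 this x hx)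
  · have h1 : ∀ n : normalizer ((P : Subgroup G) : Set G),
        n • u = u ∧ n • v = v ∨ n • u = u⁻¹ ∧ n • v = v⁻¹ := fun n => by
      have := hu n; have := hv n; have := not_exists.1 hr n; tauto
    have h2 := (h1 m).resolve_left fun c => u1 (e2 _ (hm.symm.trans c.1))
    have h3 := pLengthLE_one_iff.1 (ST.smith_tyrer (by decide) hc hn
      (relIndex_eq_two_iff_exists_notMem_and.2 ⟨m, m.2, fun c => u1 (e2 _ (hm.symm.trans
        (Subtype.ext (mul_inv_eq_iff_eq_mul.2 (mem_centralizer_iff.1 c u u.2).symm)))),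
        fun n hn => (h1 ⟨n, hn⟩).symm.imp (fun c => cen (⟨n, hn⟩ * m) (by simp [mul_smul, h2, c])
          (by simp [mul_smul, h2, c])) fun c => cen _ c.1 c.2⟩) H.residual)
    have h4 : 3 ∣ Nat.card G := by rw [H.card, mul_assoc]; exact Dvd.dvd.mul_right (by decide) _
    have h5 : pPrimeCore 3 G = ⊥ := (Normal.eq_bot_or_eq_top inferInstance).resolve_right fun e =>
      (Nat.prime_three.coprime_iff_not_dvd.1 (coprime_card_pPrimeCore 3 G).symm)
        (by rwa [e, card_top])
    rw [pPrimePCore_eq_pCore h5] at h3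
    rcases Normal.eq_bot_or_eq_top (inferInstance : (pCore 3 G).Normal) with e | e
    · exact Nat.prime_three.coprime_iff_not_dvd.1 h3.symm (by rwa [e, index_bot])
    · have := (pCore_eq_top_iff.1 e).isNilpotent
      exact H.nc ⟨⟨IsSimpleGroup.comm_iff_isSolvable.2 inferInstance⟩⟩

theorem card_of_classes
    (h3 : 3 ≤ Nat.card {C : ConjClasses G // ∃ g ∈ C.carrier, g ≠ 1 ∧ orderOf g ∣ 9}) :
    Nat.card G = 504 ∨ Nat.card G = 2448 := by
  obtain ⟨P⟩ : Nonempty (Sylow 3 G) := inferInstance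
  refine H.card_of_cyclic P (by_contra fun hn => ?_)
  have := Fintype.ofFinite {C : ConjClasses G // ∃ g ∈ C.carrier, g ≠ 1 ∧ orderOf g ∣ 9}
  have h1 : ∀ C : {C : ConjClasses G // ∃ g ∈ C.carrier, g ≠ 1 ∧ orderOf g ∣ 9},
      ∃ y : (P : Subgroup G), y ≠ 1 ∧ ConjClasses.mk y.1 = C := fun ⟨C, g, h1, h2, h3⟩ => by
    obtain ⟨k, -, hk⟩ := (Nat.dvd_prime_pow Nat.prime_three (m := 2)).1 h3
    obtain ⟨t, ht⟩ := Tr.exists_conj_le_sylow P (isPGroup_zpowers_of_pElt ⟨k, hk⟩)
    exact ⟨⟨_, ht g (mem_zpowers g)⟩, by simpa using h2, (ConjClasses.mk_eq_mk_iff_isConj.2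
      (isConj_iff.2 ⟨t, rfl⟩).symm).trans (ConjClasses.mem_carrier_iff_mk_eq.1 h1)⟩
  choose y y1 hy using h1
  have h2 : ∀ {A B}, A ≠ B → y B ∉ orbit (normalizer ((P : Subgroup G) : Set G)) (y A) :=
    fun {A B} h ⟨n, e⟩ => h (Subtype.ext ((hy A).symm.trans ((ConjClasses.mk_eq_mk_iff_isConj.2
      (isConj_iff.2 ⟨n.1, congrArg Subtype.val e⟩)).trans (hy B))))
  have h4 : ∀ {A B}, A ≠ B → Disjoint (orbit (normalizer ((P : Subgroup G) : Set G)) (y A))
      (orbit (normalizer ((P : Subgroup G) : Set G)) (y B)) := fun h => Set.disjoint_left.2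
    fun z a b => h2 h (orbit_eq_iff.2 a ▸ orbit_eq_iff.2 b ▸ mem_orbit_self _)
  obtain ⟨A, B, C, n1, n2, n3⟩ := Fintype.two_lt_card_iff.1 (h3.trans_eq Nat.card_eq_fintype_card)
  have h5 : ∀ A, orbit (normalizer ((P : Subgroup G) : Set G)) (y A) ⊆ {1}ᶜ :=
    fun A z ⟨n, e⟩ c => y1 A (smul_left_cancel n ((e.trans c).trans (smul_one n).symm))
  have h6 := Set.ncard_le_ncard (Set.union_subset (Set.union_subset (h5 A) (h5 B)) (h5 C))
  rw [Set.ncard_union_eq (Set.disjoint_union_left.2 ⟨h4 n2, h4 n3⟩), Set.ncard_union_eq (h4 n1),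
    Set.ncard_compl, H.card_sylow, Set.ncard_singleton] at h6
  have h7 := fun {A B} (h : A ≠ B) => not_and_or.1 fun ⟨a, b⟩ =>
    H.not_pm hn (y1 A) (y1 B) (H.pm a) (H.pm b) (h2 h)
  have := H.ncard_orbit (y1 A)
  have := H.ncard_orbit (y1 B)
  have := H.ncard_orbit (y1 C)
  have := h7 n1
  have := h7 n2
  have := h7 n3
  omega

end Hyp

end CL.Nine
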