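import Mathlib
import Cfsg.Agent.BLK.NineRed
import Cfsg.Agent.S0497
import Cfsg.Agent.INV.U3Ch.Arith
import Cfsg.Agent.KSG.PSL2Basic
import Cfsg.Agent.PLOC.S4F.GoldA

/-! Simple groups of order `9 · 2^a · q^b` among the groups without elements of order `6`. -/

set_option autoImplicit false

open Cfsg Subgroup

namespace CL.Nine

theorem exists_prime_five_le {n : ℕ} (h2 : ¬ 2 ∣ n) (h9 : ¬ 9 ∣ n) (h : 3 < n) :
    ∃ p, p.Prime ∧ p ≠ 2 ∧ p ≠ 3 ∧ p ∣ n := by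
  by_cases h3 : 3 ∣ n
  · obtain ⟨m, rfl⟩ := h3
    obtain ⟨p, hp, hpm⟩ := Nat.exists_prime_and_dvd (n := m) (by omega)
    refine ⟨p, hp, ?_, ?_, hpm.mul_left 3⟩
    · rintro rfl; omega
    · rintro rfl; omega
  · obtain ⟨p, hp, hpm⟩ := Nat.exists_prime_and_dvd (n := n) (by omega)
    refine ⟨p, hp, ?_, ?_, hpm⟩
    · rintro rfl; omega
    · rintro rfl; omega

theorem exists_prime_pm {x : ℕ} (h2 : ¬ 2 ∣ x) (h : 3 ≤ x) :
    ∃ p, p.Prime ∧ p ≠ 2 ∧ p ≠ 3 ∧ (p ∣ x ∨ p ∣ x + 2) := by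
  by_cases h3 : 3 ∣ x
  · obtain ⟨p, hp, a, b, c⟩ := exists_prime_five_le (n := x + 2) (by omega) (by omega) (by omega)
    exact ⟨p, hp, a, b, Or.inr c⟩
  · obtain ⟨p, hp, a, b, c⟩ := exists_prime_five_le (n := x) h2 (by omega) (by omega)
    exact ⟨p, hp, a, b, Or.inl c⟩

theorem exists_two_pow {n : ℕ} (h0 : n ≠ 0) (h : ∀ p, p.Prime → p ∣ n → p = 2) : ∃ k, n = 2 ^ k :=
  ⟨_, Nat.eq_prime_pow_of_unique_prime_dvd h0 fun hd hdn => h _ hd hdn⟩

variable {G : Type*} [Group G] [Finite G] [IsSimpleGroup G] {q a b : ℕ}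

namespace Hyp

variable (H : Hyp G q a b)
include H

omit [Finite G] [IsSimpleGroup G] in
theorem eq_q {p : ℕ} (hp : p.Prime) (h2 : p ≠ 2) (h3 : p ≠ 3) (h : p ∣ Nat.card G) : p = q := by
  rw [H.card] at h
  rcases (Nat.Prime.dvd_mul hp).1 h with h | h
  · rcases (Nat.Prime.dvd_mul hp).1 h with h | h
    · exact absurd ((Nat.prime_dvd_prime_iff_eq hp Nat.prime_three).1
        (hp.dvd_of_dvd_pow (n := 2) (by simpa using h))) h3
    · exact absurd ((Nat.prime_dvd_prime_iff_eq hp Nat.prime_two).1 (hp.dvd_of_dvd_pow h)) h2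
  · exact (Nat.prime_dvd_prime_iff_eq hp H.prime).1 (hp.dvd_of_dvd_pow h)

omit [Finite G] [IsSimpleGroup G] in
theorem eq_q' {p d y : ℕ} (hp : p.Prime) (h2 : p ≠ 2) (h3 : p ≠ 3)
    (h : p ∣ Nat.gcd d y * Nat.card G) (hd : d = 2 ∨ d = 3) : p = q := by
  rcases (Nat.Prime.dvd_mul hp).1 h with h | h
  · have := h.trans (Nat.gcd_dvd_left d y)
    rcases hd with rfl | rfl
    · exact absurd ((Nat.prime_dvd_prime_iff_eq hp Nat.prime_two).1 this) h2
    · exact absurd ((Nat.prime_dvd_prime_iff_eq hp Nat.prime_three).1 this) h3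
  · exact H.eq_q hp h2 h3 h

omit [Finite G] [IsSimpleGroup G] in
theorem not_27 {y : ℕ} : ¬ 27 ∣ Nat.gcd 2 y * Nat.card G := by
  intro h
  have h1 : Nat.Coprime 27 (Nat.gcd 2 y) :=
    Nat.Coprime.coprime_dvd_right (Nat.gcd_dvd_left 2 y) (by norm_num)
  have h2 := h1.dvd_of_dvd_mul_left h
  rw [H.card, mul_assoc, show (27 : ℕ) = 9 * 3 by norm_num] at h2
  have h3 := Nat.dvd_of_mul_dvd_mul_left (by norm_num) h2
  rcases (Nat.Prime.dvd_mul Nat.prime_three).1 h3 with h | h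
  · exact absurd (Nat.prime_three.dvd_of_dvd_pow h) (by norm_num)
  · exact H.ne3 ((Nat.prime_dvd_prime_iff_eq Nat.prime_three H.prime).1
      (Nat.prime_three.dvd_of_dvd_pow h)).symm

omit [Finite G] [IsSimpleGroup G] in
theorem not_L3 {x : ℕ} (h2 : ¬ 2 ∣ x) (hx : 3 ≤ x)
    (h : Nat.gcd 3 x * Nat.card G = (x + 1) ^ 3 * (x ^ 2 * (x + 2) * (x * (x + 3) + 3))) : False := by
  obtain ⟨p, hp, p2, p3, hpx⟩ := exists_prime_pm h2 hx
  obtain ⟨r, hr, r2, r3, hrx⟩ := exists_prime_five_le (n := x * (x + 3) + 3)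
    (by
      obtain ⟨y, rfl⟩ : ∃ y, x = 2 * y + 1 := ⟨x / 2, by omega⟩
      have : (2 * y + 1) * (2 * y + 1 + 3) + 3 = 2 * (2 * y * y + 5 * y + 3) + 1 := by ring
      omega)
    (by
      have : x % 9 < 9 := Nat.mod_lt _ (by norm_num)
      rw [Nat.dvd_iff_mod_eq_zero, Nat.add_mod, Nat.mul_mod, Nat.add_mod x]
      interval_cases x % 9 <;> norm_num)
    (by nlinarith)
  have e1 : r = q := H.eq_q' hr r2 r3 (h ▸ (hrx.mul_left _).mul_left _) (Or.inr rfl)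
  have e2 : p = q := H.eq_q' hp p2 p3 (by
    rw [h]
    rcases hpx with h' | h'
    · exact (((h'.pow two_ne_zero).mul_right _).mul_right _).mul_left _
    · exact ((h'.mul_left _).mul_right _).mul_left _) (Or.inr rfl)
  obtain rfl := e1.trans e2.symm
  rcases hpx with h' | h'
  · exact p3 ((Nat.prime_dvd_prime_iff_eq hp Nat.prime_three).1
      ((Nat.dvd_add_right (h'.mul_right _)).1 hrx))
  · rw [show x * (x + 3) + 3 = (x + 2) * (x + 1) + 1 by ring] at hrx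
    exact hp.one_lt.ne' (Nat.dvd_one.1 ((Nat.dvd_add_right (h'.mul_right _)).1 hrx))

omit [Finite G] [IsSimpleGroup G] in
theorem not_U3 {x : ℕ} (h2 : ¬ 2 ∣ x) (hx : 3 ≤ x)
    (h : Nat.gcd 3 (x + 2) * Nat.card G = (x + 1) ^ 3 * ((x + 2) ^ 2 * x * (x * (x + 1) + 1))) :
    False := by
  obtain ⟨p, hp, p2, p3, hpx⟩ := exists_prime_pm h2 hx
  obtain ⟨r, hr, r2, r3, hrx⟩ := exists_prime_five_le (n := x * (x + 1) + 1)
    (by
      obtain ⟨y, rfl⟩ : ∃ y, x = 2 * y + 1 := ⟨x / 2, by omega⟩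
      have : (2 * y + 1) * (2 * y + 1 + 1) + 1 = 2 * (2 * y * y + 3 * y + 1) + 1 := by ring
      omega)
    (by
      have : x % 9 < 9 := Nat.mod_lt _ (by norm_num)
      rw [Nat.dvd_iff_mod_eq_zero, Nat.add_mod, Nat.mul_mod, Nat.add_mod x]
      interval_cases x % 9 <;> norm_num)
    (by nlinarith)
  have e1 : r = q := H.eq_q' hr r2 r3 (h ▸ (hrx.mul_left _).mul_left _) (Or.inr rfl)
  have e2 : p = q := H.eq_q' hp p2 p3 (by
    rw [h]
    rcases hpx with h' | h'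
    · exact ((h'.mul_left _).mul_right _).mul_left _
    · exact (((h'.pow two_ne_zero).mul_right _).mul_right _).mul_left _) (Or.inr rfl)
  obtain rfl := e1.trans e2.symm
  rcases hpx with h' | h'
  · exact hp.one_lt.ne' (Nat.dvd_one.1 ((Nat.dvd_add_right (h'.mul_right _)).1 hrx))
  · obtain ⟨y, rfl⟩ : ∃ y, x = y + 1 := ⟨x - 1, by omega⟩
    rw [show (y + 1) * (y + 1 + 1) + 1 = (y + 1 + 2) * y + 3 by ring] at hrx
    exact p3 ((Nat.prime_dvd_prime_iff_eq hp Nat.prime_three).1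
      ((Nat.dvd_add_right (h'.mul_right _)).1 hrx))

omit [Finite G] [IsSimpleGroup G] in
theorem L2_cases {p n x : ℕ} (hp : p.Prime) (hn : n ≠ 0) (hx : x + 1 = p ^ n)
    (h : Nat.gcd 2 x * Nat.card G = (x + 1) * (x + 2) * x) : x = 7 ∨ x = 8 ∨ x = 16 := by
  have h27 : ¬ 27 ∣ (x + 1) * (x + 2) * x := h ▸ H.not_27
  have h9 : 9 ∣ (x + 1) * (x + 2) * x := by
    rw [← h, H.card, mul_assoc 9]; exact (dvd_mul_right _ _).mul_left _
  have hq : ∀ r, r.Prime → r ≠ 2 → r ≠ 3 → r ∣ (x + 1) * (x + 2) * x → r = q :=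
    fun r hr r2 r3 hd => H.eq_q' hr r2 r3 (h ▸ hd) (Or.inl rfl)
  have hpx : p ∣ x + 1 := hx ▸ dvd_pow_self p hn
  have hx0 : x ≠ 0 := by
    rintro rfl
    exact hp.one_lt.ne' (Nat.dvd_one.1 hpx)
  have m9 : x % 9 = 0 ∨ x % 9 = 7 ∨ x % 9 = 8 := by
    have : x % 9 < 9 := Nat.mod_lt _ (by norm_num)
    rw [Nat.dvd_iff_mod_eq_zero, Nat.mul_mod, Nat.mul_mod (x + 1), Nat.add_mod x, Nat.add_mod x 2]
      at h9
    interval_cases x % 9 <;> simp_all
  have d0 : ∀ r, r ∣ x → r ∣ (x + 1) * (x + 2) * x := fun r hr => hr.mul_left _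
  have d1 : ∀ r, r ∣ x + 1 → r ∣ (x + 1) * (x + 2) * x := fun r hr => (hr.mul_right _).mul_right _
  have d2 : ∀ r, r ∣ x + 2 → r ∣ (x + 1) * (x + 2) * x := fun r hr => (hr.mul_left _).mul_right _
  by_cases p3 : p = 3
  · subst p3
    have : n < 3 := by
      by_contra hh
      exact h27 (d1 _ (hx ▸ pow_dvd_pow 3 (by omega : 3 ≤ n)))
    interval_cases n <;> omega
  have n3 : ¬ 3 ∣ x + 1 := fun hh => p3 ((Nat.prime_dvd_prime_iff_eq Nat.prime_three hp).1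
    (Nat.prime_three.dvd_of_dvd_pow (hx ▸ hh))).symm
  -- a number `9 m` among `x, x + 2` has `3 ∤ m`
  have k0 : ∀ m, x = 9 * m → ¬ 3 ∣ m := by
    rintro m rfl ⟨k, rfl⟩; exact h27 (d0 _ ⟨k, by ring⟩)
  have k2 : ∀ m, x + 2 = 9 * m → ¬ 3 ∣ m := by
    rintro m hm ⟨k, rfl⟩; exact h27 (d2 _ ⟨k, by rw [hm]; ring⟩)
  by_cases p2 : p = 2
  · subst p2
    have key : ∀ r s, r.Prime → s.Prime → r ≠ 3 → s ≠ 3 → r ∣ x → s ∣ x + 2 → False := by
      intro r s hr hs r3 s3 hrx hsx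
      have r2 : r ≠ 2 := by rintro rfl; omega
      have s2 : s ≠ 2 := by rintro rfl; omega
      obtain rfl := hq r hr r2 r3 (d0 _ hrx)
      obtain rfl := hq s hs s2 s3 (d2 _ hsx)
      exact s2 ((Nat.prime_dvd_prime_iff_eq hs Nat.prime_two).1 ((Nat.dvd_add_right hrx).1 hsx))
    rcases m9 with m | m | m
    · obtain ⟨m, hm⟩ : 9 ∣ x := by omega
      by_cases m1 : m = 1
      · subst m1 hm
        exfalso
        have : n < 4 := by
          by_contra hh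
          have := Nat.pow_le_pow_right (by norm_num : 0 < 2) (by omega : 4 ≤ n)
          omega
        interval_cases n <;> omega
      obtain ⟨r, hr, hrm⟩ := Nat.exists_prime_and_dvd m1
      obtain ⟨s, hs, hsx⟩ := Nat.exists_prime_and_dvd (n := x + 2) (by omega)
      exact (key r s hr hs (by rintro rfl; exact k0 m hm hrm) (by rintro rfl; omega)
        (hm ▸ hrm.mul_left _) hsx).elim
    · obtain ⟨m, hm⟩ : 9 ∣ x + 2 := by omega
      by_cases m1 : m = 1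
      · omega
      obtain ⟨s, hs, hsm⟩ := Nat.exists_prime_and_dvd m1
      obtain ⟨r, hr, hrx⟩ := Nat.exists_prime_and_dvd (n := x) (by omega)
      exact (key r s hr hs (by rintro rfl; omega) (by rintro rfl; exact k2 m hm hsm) hrx
        (hm ▸ hsm.mul_left _)).elim
    · omega
  have hpq : p = q := hq p hp p2 p3 (d1 _ hpx)
  have hodd : ¬ 2 ∣ x + 1 := fun hh => p2 ((Nat.prime_dvd_prime_iff_eq Nat.prime_two hp).1
    (Nat.prime_two.dvd_of_dvd_pow (hx ▸ hh))).symm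
  have e0 : ∀ r, r.Prime → r ≠ 3 → r ∣ x → r = 2 := by
    intro r hr r3 hrx
    by_contra r2
    obtain rfl := (hq r hr r2 r3 (d0 _ hrx)).trans hpq.symm
    exact hr.one_lt.ne' (Nat.dvd_one.1 ((Nat.dvd_add_right hrx).1 hpx))
  have e2 : ∀ r, r.Prime → r ≠ 3 → r ∣ x + 2 → r = 2 := by
    intro r hr r3 hrx
    by_contra r2
    obtain rfl := (hq r hr r2 r3 (d2 _ hrx)).trans hpq.symm
    exact hr.one_lt.ne' (Nat.dvd_one.1 ((Nat.dvd_add_right hpx).1 hrx))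
  have four : ∀ {y i : ℕ}, y = 2 ^ i → y = 1 ∨ y = 2 ∨ 4 ∣ y := by
    rintro y i rfl
    rcases i with _ | _ | i
    · simp
    · simp
    · exact Or.inr (Or.inr ⟨2 ^ i, by ring⟩)
  rcases m9 with m | m | m
  · obtain ⟨m, hm⟩ : 9 ∣ x := by omega
    obtain ⟨i, hi⟩ := exists_two_pow (n := m) (by omega) fun r hr hrm =>
      e0 r hr (by rintro rfl; exact k0 m hm hrm) (hm ▸ hrm.mul_left _)
    obtain ⟨j, hj⟩ := exists_two_pow (n := x + 2) (by omega) fun r hr hrm =>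
      e2 r hr (by rintro rfl; omega) hrm
    exfalso
    have h1 := four hi
    have h2 := four hj
    have : x = 18 := by omega
    subst this
    have : 5 ∣ 2 ^ j := hj ▸ by norm_num
    exact absurd (Nat.prime_five.dvd_of_dvd_pow this) (by norm_num)
  · obtain ⟨m, hm⟩ : 9 ∣ x + 2 := by omega
    obtain ⟨i, hi⟩ := exists_two_pow (n := m) (by omega) fun r hr hrm =>
      e2 r hr (by rintro rfl; exact k2 m hm hrm) (hm ▸ hrm.mul_left _)
    obtain ⟨j, hj⟩ := exists_two_pow (n := x) hx0 fun r hr hrm =>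
      e0 r hr (by rintro rfl; omega) hrm
    have h1 := four hi
    have h2 := four hj
    omega
  · omega

/-- The list of simple groups without elements of order `6` meets the orders `9 · 2^a · q^b` in
`A₆`, `L₂(8)`, `L₂(17)`. -/
theorem of_list
    (h : (∃ (F : Type) (_ : Field F) (_ : Fintype F), Fintype.card F % 12 ≠ 1 ∧
        Fintype.card F % 12 ≠ 11 ∧
        Nonempty (G ≃* Matrix.ProjectiveSpecialLinearGroup (Fin 2) F)) ∨
      (∃ (F : Type) (_ : Field F) (_ : Fintype F) (n : ℕ), 2 ≤ n ∧ n % 6 ≠ 0 ∧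
        Fintype.card F = 2 ^ n ∧ Nonempty (G ≃* Matrix.ProjectiveSpecialLinearGroup (Fin 3) F)) ∨
      (∃ (F : Type) (_ : Field F) (_ : Fintype F) (n : ℕ), 2 ≤ n ∧ n % 6 ≠ 3 ∧
        Fintype.card F = (2 ^ n) ^ 2 ∧ Nonempty (G ≃* Cfsg.PSU 3 F (2 ^ n))) ∨
      Cfsg.Lie.IsoSuzuki G) :
    Nonempty (G ≃* ↥(alternatingGroup (Fin 6))) ∨
      (∃ (F : Type) (_ : Field F) (_ : Fintype F), Fintype.card F = 8 ∧
        Nonempty (G ≃* Matrix.ProjectiveSpecialLinearGroup (Fin 2) F)) ∨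
      Nonempty (G ≃* Matrix.ProjectiveSpecialLinearGroup (Fin 2) (ZMod 17)) := by
  classical
  have pw : ∀ n, 2 ≤ n → ∃ x, 2 ^ n = x + 1 ∧ ¬ 2 ∣ x ∧ 3 ≤ x := by
    intro n hn
    obtain ⟨m, rfl⟩ := Nat.exists_eq_add_of_le hn
    have : 0 < 2 ^ m := by positivity
    exact ⟨2 ^ (2 + m) - 1, by rw [pow_add]; omega, by rw [pow_add]; omega, by rw [pow_add]; omega⟩
  rcases h with ⟨F, _, _, -, -, ⟨e⟩⟩ | ⟨F, _, _, n, hn, -, hF, ⟨e⟩⟩ | ⟨F, _, _, n, hn, -, hF, ⟨e⟩⟩ | h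
  · obtain ⟨p, _, n, hp, hn⟩ := FiniteField.card' F
    obtain ⟨x, hx⟩ : ∃ x, Fintype.card F = x + 1 := ⟨_, (Nat.succ_pred_eq_of_pos Fintype.card_pos).symm⟩
    have hc := CL.GL2.gcd_mul_card_PSL2 (F := F)
    rw [← Nat.card_congr e.toEquiv, hx, Nat.add_sub_cancel] at hc
    rcases H.L2_cases hp n.ne_zero (hx.symm.trans hn) hc with rfl | rfl | rfl
    · exact Or.inr (iso_of_card (Or.inl (by norm_num at hc; omega)))
    · exact Or.inl (Cfsg.Agent.S0497.result (by norm_num at hc; omega))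
    · exact Or.inr (iso_of_card (Or.inr (by norm_num at hc; omega)))
  · obtain ⟨x, hx, h2, h3⟩ := pw n hn
    have hc := CL.U3Ch.card_L3 (hF.trans hx)
    rw [← Nat.card_congr e.toEquiv] at hc
    exact (H.not_L3 h2 h3 hc).elim
  · obtain ⟨x, hx, h2, h3⟩ := pw n hn
    rw [hx] at hF e
    have hc := CL.U3Ch.card_U3 hF
    rw [← Nat.card_congr e.toEquiv] at hc
    exact (H.not_U3 h2 h3 hc).elim
  · exact absurd (by rw [H.card, mul_assoc]; exact Dvd.dvd.mul_right (by norm_num) _)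
      (CL.S4F.not_three_dvd_of_isoSuzuki h)

end Hyp

omit [IsSimpleGroup G] in
/-- A strongly self-centralizing Sylow `3`-subgroup leaves no element of order `6`. -/
theorem orderOf_ne_six (R : Sylow 3 G)
    (hR : ∀ k ∈ (R : Subgroup G), k ≠ 1 → centralizer ({k} : Set G) = R) (g : G) :
    orderOf g ≠ 6 := by
  intro hg
  have h3 : orderOf (g ^ 2) = 3 := by
    rw [orderOf_pow' g two_ne_zero, hg]; norm_num
  have hP : IsPGroup 3 (zpowers (g ^ 2)) := IsPGroup.of_card (n := 1) (by simpa using h3)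
  obtain ⟨Q, hQ⟩ := hP.exists_le_sylow
  obtain ⟨c, rfl⟩ := MulAction.exists_smul_eq G R Q
  have hk : c⁻¹ * g ^ 2 * c ∈ (R : Subgroup G) := by
    have := hQ (mem_zpowers _)
    rw [Sylow.coe_subgroup_smul, mem_pointwise_smul_iff_inv_smul_mem] at this
    have e : c⁻¹ * g ^ 2 * c = (c⁻¹ * g * c) ^ 2 := by rw [pow_two, pow_two]; group
    rw [e]
    simpa using this
  have h1 : c⁻¹ * g ^ 2 * c ≠ 1 := by
    intro h
    have : g ^ 2 = 1 := by
      have h' : g ^ 2 = c * (c⁻¹ * g ^ 2 * c) * c⁻¹ := by group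
      rw [h', h]; group
    rw [this, orderOf_one] at h3; omega
  have hm : c⁻¹ * g * c ∈ (R : Subgroup G) := by
    rw [← hR _ hk h1, mem_centralizer_singleton_iff]; group
  obtain ⟨k, hk'⟩ := R.isPGroup' ⟨_, hm⟩
  have h4 : (c⁻¹ * g * c) ^ 3 ^ k = 1 := by simpa using congrArg Subtype.val hk'
  have h5 : g ^ 3 ^ k = 1 := by
    have : (c⁻¹ * g * c) ^ 3 ^ k = c⁻¹ * g ^ 3 ^ k * c := by
      simpa using conj_pow (a := c⁻¹) (b := g) (i := 3 ^ k)
    rw [this] at h4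
    have h' : g ^ 3 ^ k = c * (c⁻¹ * g ^ 3 ^ k * c) * c⁻¹ := by group
    rw [h', h4]; group
  have h6 := orderOf_dvd_of_pow_eq_one h5
  rw [hg] at h6
  exact absurd (Nat.prime_two.dvd_of_dvd_pow ((show 2 ∣ 6 by norm_num).trans h6)) (by norm_num)

end CL.Nine
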