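import Cfsg.Agent.BLK.Bichar
import Cfsg.Agent.SOLV.CoprimeGen

/-! The theorem of Okuyama and Wajima: the relative Glauberman correspondence for a `p`-group of
operators preserves the commutator bicharacter. -/

set_option autoImplicit false
open Cfsg Subgroup
open scoped ComplexConjugate commutatorElement

namespace CL.OW
open CL.Char CL.Glb

variable {Γ : Type*} [Group Γ] [Finite Γ]

theorem comm_sup_zpowers_le {K : Subgroup Γ} {x : Γ} (hx : x ∈ normalizer (K : Set Γ)) :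
    ⁅K ⊔ zpowers x, K ⊔ zpowers x⁆ ≤ K := by
  rw [commutator_le]
  intro a ha b hb
  obtain ⟨k, hk, i, rfl⟩ := mem_sup_zpowers hx ha
  obtain ⟨l, hl, j, rfl⟩ := mem_sup_zpowers hx hb
  have := mul_mem (mul_mem (mul_mem hk (conj_mem_of_norm (pow_mem hx i) hl))
    (conj_mem_of_norm (pow_mem hx j) (inv_mem hk))) (inv_mem hl)
  convert this using 1
  rw [commutatorElement_def]
  group

omit [Finite Γ] in
theorem pow_mul_mem {K : Subgroup Γ} {k x : Γ} (hk : k ∈ K) (hx : x ∈ normalizer (K : Set Γ))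
    (n : ℕ) : (k * x) ^ n * (x ^ n)⁻¹ ∈ K := by
  induction n with
  | zero => simp
  | succ n ih =>
    convert mul_mem hk (conj_mem_of_norm hx ih) using 1
    rw [pow_succ', pow_succ' x]
    group

theorem pow_mem_of_sup_zpowers {K : Subgroup Γ} {x : Γ} (hx : x ∈ normalizer (K : Set Γ)) {n : ℕ}
    (hn : x ^ n ∈ K) {g : Γ} (hg : g ∈ K ⊔ zpowers x) : g ^ n ∈ K := by
  obtain ⟨k, hk, i, rfl⟩ := mem_sup_zpowers hx hg
  have h1 := mul_mem (pow_mul_mem hk (pow_mem hx i) n) (pow_mem hn i)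
  rwa [← pow_mul, ← pow_mul, mul_comm n, inv_mul_cancel_right] at h1

omit [Finite Γ] in
theorem ov_of_res {K H : Subgroup Γ} [Fintype K] {h : K ≤ H} {θ : K → ℂ}
    (hθ : IsIrrCharacter K θ) {η : H → ℂ} (hres : ∀ k, η (inclusion h k) = θ k) : Ov h η θ := by
  rw [Ov, funext hres, hθ.inner_self]
  exact one_ne_zero

theorem norm_sup_zpowers {K : Subgroup Γ} {x r : Γ} (hr : r ∈ normalizer (K : Set Γ))
    (hrx : r * x * r⁻¹ * x⁻¹ ∈ K) : r ∈ normalizer ((K ⊔ zpowers x : Subgroup Γ) : Set Γ) := by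
  refine mem_normalizer_fintype fun g hg => ?_
  refine (sup_le (fun k hk => ?_) (zpowers_le.2 ?_) :
    K ⊔ zpowers x ≤ (K ⊔ zpowers x).comap (MulAut.conj r).toMonoidHom) hg
  · exact mem_sup_left (conj_mem_of_norm hr hk)
  · show r * x * r⁻¹ ∈ K ⊔ zpowers x
    rw [← inv_mul_cancel_right (r * x * r⁻¹) x]
    exact mul_mem_sup hrx (mem_zpowers x)

theorem IS_of_ext {K R : Subgroup Γ} [Fintype K] {p n : ℕ} (hp : p.Prime) (hR : IsPGroup p R)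
    (hn : ¬ p ∣ n) {x : Γ} (hx : x ∈ normalizer (K : Set Γ)) (hxn : x ^ n ∈ K)
    (hxR : ∀ r ∈ R, r * x * r⁻¹ * x⁻¹ ∈ K) {θ : K → ℂ} (hθ : IsIrrCharacter K θ)
    (hi : R ≤ stab K θ) {η : (K ⊔ zpowers x : Subgroup Γ) → ℂ} (hη : IsCharacter _ η)
    (hres : ∀ k, η (inclusion le_sup_left k) = θ k) : IS R _ η := fun r hr => by
  obtain ⟨a, ha⟩ := hR ⟨r, hr⟩
  have hN : K ⊔ zpowers x ≤ normalizer (K : Set Γ) := sup_le le_normalizer (zpowers_le.2 hx)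
  have h1 : K ⊔ zpowers x ≤ relCent _ K hN {r} := sup_le
    (fun k hk => ⟨mem_sup_left hk, fun t ht => by
      rw [ht]; exact mul_mem (conj_mem_of_norm (hi hr).1 hk) (inv_mem hk)⟩)
    (zpowers_le.2 ⟨mem_sup_right (mem_zpowers x), fun t ht => by rw [ht]; exact hxR r hr⟩)
  refine (mem_stab_of_relFix le_sup_left hN (norm_sup_zpowers (hi hr).1 (hxR r hr)) (hi hr).1
    (fun g hg => (h1 hg).2 r rfl) (q := p ^ a) (n := n)
    (Nat.Coprime.pow_left _ ((Nat.Prime.coprime_iff_not_dvd hp).2 hn))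
    (by rw [show r ^ p ^ a = 1 from congrArg Subtype.val ha]; exact one_mem _)
    (fun g hg => pow_mem_of_sup_zpowers hx hxn hg) hη fun φ hφ ho => ?_).2
  rw [Ov, funext hres] at ho
  rw [← hθ.eq_of_inner_ne_zero hφ ho]
  exact hi hr

/-- One step of the Okuyama-Wajima argument: the first variable centralises the operators. -/
theorem bi_step {L K B R : Subgroup Γ} [Fintype K] [Fintype B] {p n : ℕ} (hp : p.Prime)
    (hR : IsPGroup p R) (hn : ¬ p ∣ n) (hLB : L ≤ B) (hBK : B ≤ K)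
    (hKL : K ≤ normalizer (L : Set Γ)) (hRL : R ≤ normalizer (L : Set Γ))
    (hKn : ∀ k ∈ K, k ^ n ∈ L) (hB : ∀ k, k ∈ B ↔ k ∈ K ∧ ∀ r ∈ R, r * k * r⁻¹ * k⁻¹ ∈ L)
    {θ : K → ℂ} {ξ : B → ℂ} (hθ : IsIrrCharacter K θ) (hξ : IsIrrCharacter B ξ)
    (hi : R ≤ stab K θ) (hj : R ≤ stab B ξ) (hr : Rel p (inclusion hBK) θ ξ) {x y : Γ}
    (hxL : x ∈ normalizer (L : Set Γ)) (hxn : x ^ n ∈ L) (hxR : ∀ r ∈ R, r * x * r⁻¹ * x⁻¹ ∈ L)
    (hx : x ∈ stab K θ) (hx' : x ∈ stab B ξ) (hy : y ∈ stab K θ) (hy' : y ∈ stab B ξ)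
    (hxy : ⁅x, y⁆ ∈ B) : bi K θ x y = bi B ξ x y := by
  have := Fact.mk hp
  have hLK := hLB.trans hBK
  let H := K ⊔ zpowers x
  let D := B ⊔ zpowers x
  have := Fintype.ofFinite D
  have hDH : D ≤ H := sup_le_sup_right hBK _
  have hHL : H ≤ normalizer (L : Set Γ) := sup_le hKL (zpowers_le.2 hxL)
  have hxH : x ∈ H := mem_sup_right (mem_zpowers x)
  have hxD : x ∈ D := mem_sup_right (mem_zpowers x)
  have hxC : x ∈ relCent H L hHL R := ⟨hxH, hxR⟩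
  have hC := corr_pgroup hp hR (n := n * n) (fun h => (hp.dvd_mul.1 h).elim hn hn) hRL (C := D) H
    hHL (fun r hr => norm_sup_zpowers (hi hr).1 (hLK (hxR r hr)))
    (fun g hg => by rw [pow_mul]; exact hKn _ (pow_mem_of_sup_zpowers hx.1 (hLK hxn) hg))
    (fun k => ⟨fun hk => (sup_le (fun b hb => ⟨mem_sup_left (hBK hb), ((hB b).1 hb).2⟩)
      (zpowers_le.2 hxC) : D ≤ relCent H L hHL R) hk, fun hk => by
        obtain ⟨a, ha, i, rfl⟩ := mem_sup_zpowers hx.1 hk.1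
        have h1 := mul_mem (show a * x ^ i ∈ relCent H L hHL R from hk) (inv_mem (pow_mem hxC i))
        rw [mul_inv_cancel_right] at h1
        exact mul_mem_sup ((hB a).2 ⟨ha, h1.2⟩) (pow_mem (mem_zpowers x) i)⟩) hDH
  have hIH : ∀ {η : H → ℂ}, IsCharacter H η → (∀ k, η (inclusion le_sup_left k) = θ k) →
      IS R H η := fun hη h =>
    IS_of_ext hp hR hn hx.1 (hLK hxn) (fun r hr => hLK (hxR r hr)) hθ hi hη h
  have hID : ∀ {η : D → ℂ}, IsCharacter D η → (∀ k, η (inclusion le_sup_left k) = ξ k) →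
      IS R D η := fun hη h =>
    IS_of_ext hp hR hn hx'.1 (hLB hxn) (fun r hr => hLB (hxR r hr)) hξ hj hη h
  obtain ⟨η, hη, h1⟩ := exists_ext_char hθ hx
  obtain ⟨η₀, hη₀, h2⟩ := exists_ext_char hξ hx'
  obtain ⟨ψ, hψ, h3, h4⟩ : ∃ ψ : D → ℂ, IsIrrCharacter D ψ ∧ Rel p (inclusion hDH) η ψ ∧
      ∀ k, ψ (inclusion le_sup_left k) = ξ k := by
    have h5 := (rel_iff_mult hθ.isCharacter hξ.isCharacter).1 hr
    have h6 : (fun c => θ (inclusion hBK c)) =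
      fun c => η (inclusion hDH (inclusion le_sup_left c)) := funext fun c => (h1 _).symm
    rw [h6, mult_comp (inclusion le_sup_left) (hη.isCharacter.comp (inclusion hDH))
      hξ.isCharacter, Nat.cast_sum] at h5
    obtain ⟨ψ, -, h7⟩ := Finset.exists_ne_zero_of_sum_ne_zero h5
    rw [Nat.cast_mul] at h7
    have h8 : Ov le_sup_left ψ.1 ξ := by
      rw [Ov, inner_eq_mult (ψ.2.isCharacter.comp _) hξ.isCharacter, Nat.cast_ne_zero]
      intro h0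
      rw [h0, Nat.cast_zero, mul_zero] at h7
      exact h7 rfl
    obtain ⟨lam, hl, h9⟩ := exists_hom_mul_of_ov (comm_sup_zpowers_le hx'.1) hη₀ ψ.2 hξ
      (ov_of_res hξ h2) h8
    exact ⟨ψ, ψ.2, (rel_iff_mult hη.isCharacter ψ.2.isCharacter).2 (left_ne_zero_of_mul h7),
      fun k => by rw [h9]; simp [hl _ (show ((inclusion le_sup_left k : D) : Γ) ∈ B from k.2), h2]⟩
  have hyx : y * x * y⁻¹ * x⁻¹ ∈ B := by
    simpa [commutatorElement_def, mul_assoc] using inv_mem hxy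
  have hyH : y ∈ normalizer (H : Set Γ) := norm_sup_zpowers hy.1 (hBK hyx)
  have hyD : y ∈ normalizer (D : Set Γ) := norm_sup_zpowers hy'.1 hyx
  have h5 : ∀ k, η (cjE H hyH (inclusion le_sup_left k)) = θ k := fun k =>
    (h1 (cjE K hy.1 k)).trans (hy.2 _ _ rfl)
  have h6 : ∀ k, ψ (cjE D hyD (inclusion le_sup_left k)) = ξ k := fun k =>
    (h4 (cjE B hy'.1 k)).trans (hy'.2 _ _ rfl)
  have hηy := hη.comp_mulEquiv (cjE H hyH)
  have hψy := hψ.comp_mulEquiv (cjE D hyD)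
  obtain ⟨lam, hl, h7⟩ := exists_hom_mul_of_ov (comm_sup_zpowers_le hx.1) hη hηy hθ
    (ov_of_res hθ h1) (ov_of_res hθ h5)
  have hψl : IsIrrCharacter D fun d => lam (inclusion hDH d) * ψ d :=
    hψ.hom_mul (lam.comp (inclusion hDH))
  have h8 := hC.uniq _ hηy (hIH hηy.isCharacter h5) _ _ hψy (hID hψy.isCharacter h6) hψl
    (hID hψl.isCharacter fun k => by
      simp [hl _ (show ((inclusion hDH (inclusion le_sup_left k) : H) : Γ) ∈ K from hBK k.2), h4])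
    (h3.cj hyH hyD) (by
      obtain ⟨m, hm, h9⟩ := h3
      refine ⟨m, Eq.trans ?_ hm, h9⟩
      rw [h7]
      exact classInner_hom_mul (lam.comp (inclusion hDH)) _ _)
  have hne : (lam ⟨x, hxH⟩ : ℂ) ≠ 0 := Units.ne_zero _
  rw [(ext_of_char le_sup_left (sup_le le_normalizer (zpowers_le.2 hx.1)) hη.isCharacter hθ h1
      hxH).eq_bi hy (hBK hxy) (c := (lam ⟨x, hxH⟩ : ℂ)⁻¹) fun a ha => ?_,
    (ext_of_char le_sup_left (sup_le le_normalizer (zpowers_le.2 hx'.1)) hψ.isCharacter hξ h4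
      hxD).eq_bi hy' hxy (c := (lam ⟨x, hxH⟩ : ℂ)⁻¹) fun a ha => ?_]
  · have hm := mul_mem (mem_sup_left ha) hxD
    rw [extendByZero_of_mem _ _ hm, extendByZero_of_mem _ _ (conj_mem_of_norm hyD hm)]
    have h9 := congrFun h8 ⟨_, hm⟩
    rw [show inclusion hDH ⟨_, hm⟩ = ⟨a, mem_sup_left (hBK ha)⟩ * ⟨x, hxH⟩ from rfl, map_mul,
      hl _ (hBK ha), one_mul] at h9
    rw [eq_inv_mul_iff_mul_eq₀ hne]
    exact h9.symm
  · have hm := mul_mem (mem_sup_left ha) hxH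
    rw [extendByZero_of_mem _ _ hm, extendByZero_of_mem _ _ (conj_mem_of_norm hyH hm)]
    have h9 := congrFun h7 (⟨a, mem_sup_left ha⟩ * ⟨x, hxH⟩)
    rw [map_mul lam, hl _ ha, one_mul] at h9
    rw [eq_inv_mul_iff_mul_eq₀ hne]
    exact h9.symm

theorem bi_eq_of_cyc {K B U : Subgroup Γ} [Fintype K] [Fintype B] (hBK : B ≤ K) {θ : K → ℂ}
    {ξ : B → ℂ} (hθ : IsIrrCharacter K θ) (hξ : IsIrrCharacter B ξ) (hi : U ≤ stab K θ)
    (hj : U ≤ stab B ξ) (hU : ∀ x ∈ U, ∀ y ∈ U, ⁅x, y⁆ ∈ B) {D : Set Γ} {u : Γ} (hu : u ∈ U)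
    (hgen : ∀ x ∈ U, ∃ d ∈ D, d ∈ U ∧ ∃ i : ℕ, x = d * u ^ i)
    (hD : ∀ d ∈ D, d ∈ U → ∀ y ∈ U, bi K θ d y = bi B ξ d y) :
    ∀ x ∈ U, ∀ y ∈ U, bi K θ x y = bi B ξ x y := by
  have key : ∀ y ∈ U, bi K θ y u = bi B ξ y u → ∀ x ∈ U, bi K θ x y = bi B ξ x y :=
    fun y hy h x hx => by
    obtain ⟨d, hd, hdU, i, rfl⟩ := hgen x hx
    have h1 := bi_pow hξ (hj hy) (hj hu) (hU y hy u hu) i
    rw [bi_symm hθ.isCharacter, bi_symm hξ.isCharacter,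
      bi_mul hθ (hi hy) (hi hdU) (hi (pow_mem hu i)) (hBK (hU y hy d hdU)) (hBK h1.1),
      bi_mul hξ (hj hy) (hj hdU) (hj (pow_mem hu i)) (hU y hy d hdU) h1.1, h1.2,
      (bi_pow hθ (hi hy) (hi hu) (hBK (hU y hy u hu)) i).2, h, bi_symm hθ.isCharacter d,
      bi_symm hξ.isCharacter d, hD d hd hdU y hy]
  exact fun x hx y hy => key y hy
    (key u hu (by rw [bi_self hθ (hi hu), bi_self hξ (hj hu)]) y hy) x hx

omit [Finite Γ] in
theorem le_actKer {L P K : Subgroup Γ} (hLP : L ≤ P) (hK : K ≤ normalizer (L : Set Γ)) :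
    L ≤ actKer P K L := fun l hl => by
  simp only [actKer, mem_inf, mem_iInf]
  refine ⟨hLP hl, fun g hg => ⟨le_normalizer hl, ?_⟩⟩
  simpa [mul_assoc] using mul_mem hl (conj_mem_of_norm (hK hg) (inv_mem hl))

omit [Finite Γ] in
theorem le_norm_actKer {U P K L : Subgroup Γ} (hP : P ≤ normalizer (L : Set Γ))
    (hUP : U ≤ normalizer (P : Set Γ)) (hUK : U ≤ normalizer (K : Set Γ))
    (hUL : U ≤ normalizer (L : Set Γ)) : U ≤ normalizer (actKer P K L : Set Γ) :=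
  le_norm_of_conj fun u hu a ha => by
    rw [mem_actKer hP] at ha ⊢
    refine ⟨conj_mem_of_norm (hUP hu) ha.1, fun g hg => ?_⟩
    convert conj_mem_of_norm (hUL hu) (ha.2 _ (conj_mem_of_norm' (hUK hu) hg)) using 1
    group

omit [Finite Γ] in
theorem le_norm_relCent' {U G N : Subgroup Γ} (hN : G ≤ normalizer (N : Set Γ)) {T : Set Γ}
    (hUG : U ≤ normalizer (G : Set Γ)) (hUN : U ≤ normalizer (N : Set Γ))
    (hT : ∀ u ∈ U, ∀ t ∈ T, u⁻¹ * t * u ∈ T) : U ≤ normalizer (relCent G N hN T : Set Γ) :=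
  le_norm_of_conj fun u hu a ha => ⟨conj_mem_of_norm (hUG hu) ha.1, fun t ht => by
    convert conj_mem_of_norm (hUN hu) (ha.2 _ (hT u hu t ht)) using 1
    group⟩

/-- A group acting coprimely and abelianly on `P / L` has a subgroup with cyclic quotient whose
fixed points are not contained in a given proper invariant subgroup. -/
theorem exists_cyc {L P Z E U : Subgroup Γ} {q n : ℕ} (hqn : q.Coprime n) (hLU : L ≤ U)
    (hLE : L ≤ E) (hEP : E ≤ P) (hZP : Z ≤ P) (hPL : P ≤ normalizer (L : Set Γ))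
    (hUL : U ≤ normalizer (L : Set Γ)) (hUP : U ≤ normalizer (P : Set Γ))
    (hUZ : U ≤ normalizer (Z : Set Γ)) (hPq : ∀ g ∈ P, g ^ q ∈ L) (hUn : ∀ u ∈ U, u ^ n ∈ L)
    (hc : ∀ u ∈ U, ∀ v ∈ U, ∀ g ∈ P, ⁅u, v⁆ * g * ⁅u, v⁆⁻¹ * g⁻¹ ∈ L) (hne : ¬ Z ≤ E) :
    ∃ (D : Set Γ) (u z : Γ), u ∈ U ∧ (∀ x ∈ U, ∃ d ∈ D, d ∈ U ∧ ∃ i : ℕ, x = d * u ^ i) ∧
      (∀ v ∈ U, ∀ d ∈ D, v⁻¹ * d * v ∈ D) ∧ (∀ d ∈ D, d ∈ U) ∧ z ∈ Z ∧ z ∉ E ∧
      ∀ d ∈ D, d * z * d⁻¹ * z⁻¹ ∈ L := by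
  let F := actKer U P L
  have hLF : L ≤ F := le_actKer hLU hPL
  have hF : ∀ g ∈ F, g ∈ P → g ∈ L := fun g hg hg' =>
    mem_of_coprime_pow_mem L hqn (hPq g hg') (hUn g (actKer_le hg))
  let Y := normalizer (F : Set Γ)
  have : (F.subgroupOf Y).Normal := normal_in_normalizer
  let π := QuotientGroup.mk' (F.subgroupOf Y)
  have hπ : ∀ y : Y, π y = 1 ↔ (y : Γ) ∈ F := fun y => QuotientGroup.eq_one_iff y
  have hUY : U ≤ Y := le_norm_actKer hUL le_normalizer hUP hUL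
  have hPY : P ≤ Y := le_norm_of_conj fun g hg a ha => by
    have h1 := mul_mem (hLF (conj_mem_of_norm' (hUL (actKer_le ha))
      (inv_mem (((mem_actKer hUL).1 ha).2 g hg)))) ha
    have h2 := mul_mem (mul_mem ha h1) (inv_mem ha)
    convert h2 using 1
    group
  have hcomm : ∀ a b : Y, (a : Γ) ∈ U → (b : Γ) ∈ U → π a * π b = π b * π a := fun a b ha hb => by
    rw [← commutatorElement_eq_one_iff_mul_comm, ← map_commutatorElement, hπ]
    exact (mem_actKer hUL).2 ⟨mul_mem (mul_mem (mul_mem ha hb) (inv_mem ha)) (inv_mem hb),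
      hc a ha b hb⟩
  let A := (U.subgroupOf Y).map π
  have : IsMulCommutative A := ⟨⟨by
    rintro ⟨_, a, ha, rfl⟩ ⟨_, b, hb, rfl⟩
    exact Subtype.ext (hcomm a b ha hb)⟩⟩
  by_contra hcon
  refine hne fun z hz => ?_
  have h1 := CL.coprime_le_of_forall_cyclic_quotient A ((Z.subgroupOf Y).map π)
    ((E.subgroupOf Y).map π) (le_norm_of_conj (by
      rintro _ ⟨a, ha, rfl⟩ _ ⟨b, hb, rfl⟩
      exact ⟨a * b * a⁻¹, conj_mem_of_norm (G := Z) (hUZ ha) hb, by simp⟩))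
    (coprime_card_of_pow hqn.symm (by
      rintro ⟨_, a, ha, rfl⟩
      exact Subtype.ext ((map_pow π a n).symm.trans ((hπ _).2 (hLF (hUn a ha))))) (by
      rintro ⟨_, a, ha, rfl⟩
      exact Subtype.ext ((map_pow π a q).symm.trans ((hπ _).2 (hLF (hPq a (hZP ha)))))))
    fun B a hB => by
      rintro _ ⟨⟨z, hz, rfl⟩, hz'⟩
      by_contra h2
      obtain ⟨u, hu, rfl⟩ : a ∈ A := hB.le (mem_sup_right (mem_zpowers a))
      have hBA : B ≤ A := le_sup_left.trans hB.le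
      refine hcon ⟨{d | ∃ h : d ∈ U, π ⟨d, hUY h⟩ ∈ B}, u, z, hu, fun x hx => ?_,
        fun v hv d ⟨hd, hd'⟩ => ⟨mul_mem (mul_mem (inv_mem hv) hd) hv, ?_⟩, fun d hd => hd.1, hz,
        fun h => h2 ⟨z, h, rfl⟩, fun d ⟨hd, hd'⟩ => hF _ ?_ ?_⟩
      · obtain ⟨b, hb, i, h3⟩ := mem_sup_zpowers (G := B) (s := π u) (h := π ⟨x, hUY hx⟩)
          (centralizer_le_normalizer _ (CL.le_centralizer_of_le_of_isMulCommutative hBA
            ⟨u, hu, rfl⟩)) (hB.ge ⟨⟨x, hUY hx⟩, hx, rfl⟩)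
        have h4 : x * ((u : Γ) ^ i)⁻¹ ∈ U := mul_mem hx (inv_mem (pow_mem hu i))
        refine ⟨_, ⟨h4, ?_⟩, h4, i, (inv_mul_cancel_right _ _).symm⟩
        rw [show (⟨_, hUY h4⟩ : Y) = ⟨x, hUY hx⟩ * (u ^ i)⁻¹ from rfl, map_mul, h3, map_inv,
          map_pow, mul_inv_cancel_right]
        exact hb
      · show π (⟨v, hUY hv⟩⁻¹ * ⟨d, hUY hd⟩ * ⟨v, hUY hv⟩) ∈ B
        rw [map_mul, map_mul, mul_assoc, hcomm _ _ hd hv, map_inv, inv_mul_cancel_left]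
        exact hd'
      · refine (hπ (⟨d, hUY hd⟩ * z * ⟨d, hUY hd⟩⁻¹ * z⁻¹)).1 ?_
        simp only [map_mul, map_inv]
        rw [mem_centralizer_iff.1 hz' _ hd']
        group
      · exact mul_mem (conj_mem_of_norm (hUP hd) (hZP hz)) (inv_mem (hZP hz))
  obtain ⟨e, he, h2⟩ := h1 ⟨⟨z, hPY (hZP hz)⟩, hz, rfl⟩
  have h3 := (hπ (e⁻¹ * ⟨z, hPY (hZP hz)⟩)).1 (by rw [map_mul, map_inv, h2, inv_mul_cancel])
  simpa using E.mul_mem he (hLE (hF _ h3 (mul_mem (inv_mem (hEP he)) (hZP hz))))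

omit [Finite Γ] in
theorem mem_sup_norm {L S : Subgroup Γ} (hS : S ≤ normalizer (L : Set Γ)) {g : Γ}
    (hg : g ∈ L ⊔ S) : ∃ l ∈ L, ∃ s ∈ S, g = l * s := by
  have h1 : g ∈ ((L ⊔ S : Subgroup Γ) : Set Γ) := hg
  rw [coe_mul_of_right_le_normalizer_left L _ hS] at h1
  obtain ⟨l, hl, s, hs, h2⟩ := h1
  exact ⟨l, hl, s, hs, h2.symm⟩

theorem exists_pow_mem_of_sup {L S : Subgroup Γ} (hS : S ≤ normalizer (L : Set Γ)) {p : ℕ}
    (hp : p.Prime) (hSp : IsPGroup p S) : ∃ a, ∀ g ∈ L ⊔ S, g ^ p ^ a ∈ L := by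
  have := Fact.mk hp
  obtain ⟨a, ha⟩ := IsPGroup.iff_card.1 hSp
  refine ⟨a, fun g hg => ?_⟩
  obtain ⟨l, hl, s, hs, rfl⟩ := mem_sup_norm hS hg
  have h1 := pow_mul_mem hl (hS hs) (p ^ a)
  rwa [show s ^ p ^ a = 1 from ha ▸ congrArg Subtype.val (pow_card_eq_one' (x := (⟨s, hs⟩ : S))),
    inv_one, mul_one] at h1

/-- The theorem of Okuyama and Wajima. -/
theorem bi_eq_of_rel {L S U C : Subgroup Γ} [iC : Fintype C] {p n : ℕ} (hp : p.Prime)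
    (hS : IsPGroup p S) (hn : ¬ p ∣ n) (hSL : S ≤ normalizer (L : Set Γ)) (hLU : L ≤ U)
    (hUL : U ≤ normalizer (L : Set Γ)) (hUP : U ≤ normalizer ((L ⊔ S : Subgroup Γ) : Set Γ))
    (hUn : ∀ u ∈ U, u ^ n ∈ L) (hU : ∀ x ∈ U, ∀ y ∈ U, ⁅x, y⁆ ∈ C) {ξ : C → ℂ}
    (hξ : IsIrrCharacter C ξ) (hSξ : S ≤ stab C ξ) (hUξ : U ≤ stab C ξ) (K : Subgroup Γ)
    [iK : Fintype K] (hLK : L ≤ K) (hKL : K ≤ normalizer (L : Set Γ)) (hKn : ∀ k ∈ K, k ^ n ∈ L)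
    (hC : ∀ k, k ∈ C ↔ k ∈ K ∧ ∀ s ∈ S, s * k * s⁻¹ * k⁻¹ ∈ L) (hCK : C ≤ K) {θ : K → ℂ}
    (hθ : IsIrrCharacter K θ) (hSθ : S ≤ stab K θ) (hUθ : U ≤ stab K θ)
    (hr : Rel p (inclusion hCK) θ ξ) : ∀ x ∈ U, ∀ y ∈ U, bi K θ x y = bi C ξ x y := by
  revert iK hLK hKL hKn hC hCK θ hθ hSθ hUθ hr
  induction K using WellFoundedLT.induction with
  | ind K ih =>
  intro iK hLK hKL hKn hC hCK θ hθ hSθ hUθ hr
  let P := L ⊔ S
  have hPL : P ≤ normalizer (L : Set Γ) := sup_le le_normalizer hSL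
  have hSK : S ≤ normalizer (K : Set Γ) := fun _ h => (hSθ h).1
  have hUK : U ≤ normalizer (K : Set Γ) := fun _ h => (hUθ h).1
  have hPK : P ≤ normalizer (K : Set Γ) := sup_le (hLK.trans le_normalizer) hSK
  let E := actKer P K L
  have hLE : L ≤ E := le_actKer le_sup_left hKL
  by_cases hle : S ≤ E
  · obtain rfl : C = K := le_antisymm hCK fun g hg =>
      (hC g).mpr ⟨hg, fun x hx => ((mem_actKer hPL).mp (hle hx)).2 g hg⟩
    obtain rfl : iK = iC := Subsingleton.elim _ _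
    obtain rfl : θ = ξ := hθ.eq_of_inner_ne_zero hξ hr.ov
    exact fun _ _ _ _ => rfl
  have hPE : P ≤ normalizer (E : Set Γ) := le_norm_actKer hPL le_normalizer hPK hPL
  have : (E.subgroupOf S).Normal := ⟨fun a ha b =>
    conj_mem_of_norm (G := E) (hPE (mem_sup_right b.2)) ha⟩
  obtain ⟨s, hsS, hsE, hs⟩ := exists_central_mod hp hS hle
  let Z := relCent P E hPE P
  have hsZ : s ∈ Z := ⟨mem_sup_right hsS, fun x hx =>
    ((sup_le (fun l hl => ⟨hPE (mem_sup_left hl), hLE (by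
        simpa [mul_assoc] using mul_mem hl (conj_mem_of_norm (hSL hsS) (inv_mem hl)))⟩)
      fun t ht => ⟨hPE (mem_sup_right ht), by simpa using hs t⁻¹ (inv_mem ht)⟩ :
      P ≤ relFix E s) hx).2⟩
  have hUZ : U ≤ normalizer (Z : Set Γ) := le_norm_relCent' hPE hUP
    (le_norm_actKer hPL hUP hUK hUL) fun u hu t ht => conj_mem_of_norm' (hUP hu) ht
  have hCP : ∀ c ∈ C, ∀ g ∈ P, g * c * g⁻¹ * c⁻¹ ∈ L := fun c hc g hg =>
    ((sup_le (fun l hl => ⟨le_normalizer hl, by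
        simpa [mul_assoc] using mul_mem hl (conj_mem_of_norm (hKL (hCK hc)) (inv_mem hl))⟩)
      fun t ht => ⟨hSL ht, ((hC c).1 hc).2 t ht⟩ : P ≤ relFix L c) hg).2
  obtain ⟨a, ha⟩ := exists_pow_mem_of_sup hSL hp hS
  obtain ⟨D, u, z, hu, hgen, hDU, hD, hzZ, hzE, hz⟩ := exists_cyc
    (Nat.Coprime.pow_left a ((Nat.Prime.coprime_iff_not_dvd hp).2 hn)) hLU hLE actKer_le
    relCent_le hPL hUL hUP hUZ ha hUn
    (fun x hx y hy g hg => by
      simpa [mul_assoc] using inv_mem (hCP _ (hU x hx y hy) g hg)) fun h => hsE (h hsZ)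
  have hZL : Z ≤ normalizer (L : Set Γ) := relCent_le.trans hPL
  let Q := relCent Z L hZL D
  have hQP : Q ≤ P := relCent_le.trans relCent_le
  have hLQ : L ≤ Q := fun l hl => ⟨⟨mem_sup_left hl, fun x hx =>
    hLE (mul_mem (conj_mem_of_norm (hPL hx) hl) (inv_mem hl))⟩, fun d hd =>
      mul_mem (conj_mem_of_norm (hUL (hD d hd)) hl) (inv_mem hl)⟩
  let B := relCent K L hKL Q
  have := Fintype.ofFinite B
  have hBK : B ≤ K := relCent_le
  have hCB : C ≤ B := fun c hc => ⟨hCK hc, fun g hg => hCP c hc g (hQP hg)⟩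
  have hLB : L ≤ B := fun l hl => ⟨hLK hl, fun g hg =>
    mul_mem (conj_mem_of_norm (hPL (hQP hg)) hl) (inv_mem hl)⟩
  have hUB : U ≤ normalizer (B : Set Γ) := le_norm_relCent' hKL hUK hUL fun v hv t ht =>
    conj_mem_of_norm' (le_norm_relCent' hZL hUZ hUL hDU hv) ht
  have hSB : S ≤ normalizer (B : Set Γ) := le_sup_right.trans (le_norm_relCent hKL hPL hPK
    fun x hx t ht => ⟨_, by simpa using ht.1.2 x⁻¹ (inv_mem hx), t, ht, by group⟩)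
  have hlt : B < K := lt_of_le_of_ne hBK fun h => hzE ((mem_actKer hPL).2
    ⟨relCent_le hzZ, fun g hg => (h.ge hg).2 z ⟨hzZ, hz⟩⟩)
  let R := S ⊓ Q
  have hR : IsPGroup p R := hS.to_le inf_le_left
  have hB : ∀ k, k ∈ B ↔ k ∈ K ∧ ∀ r ∈ R, r * k * r⁻¹ * k⁻¹ ∈ L := fun k =>
    ⟨fun h => ⟨h.1, fun r hr => h.2 r hr.2⟩, fun h => ⟨h.1, fun g hg => by
      obtain ⟨l, hl, t, ht, rfl⟩ := mem_sup_norm hSL (hQP hg)
      have h1 : t ∈ Q := by simpa using Q.mul_mem (Q.inv_mem (hLQ hl)) hg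
      exact (mul_mem (show l ∈ relFix L k from ⟨le_normalizer hl, by
        simpa [mul_assoc] using mul_mem hl (conj_mem_of_norm (hKL h.1) (inv_mem hl))⟩)
        (show t ∈ relFix L k from ⟨hSL ht, h.2 t ⟨ht, h1⟩⟩)).2⟩⟩
  have hRS : R ≤ S := inf_le_left
  have hc0 := corr_pgroup hp hR hn (hRS.trans hSL) K hKL (hRS.trans hSK) hKn hB hBK
  have hc1 := hc0.upgrade hSK hSB hp hS hRS
  have hC' : ∀ k, k ∈ C ↔ k ∈ B ∧ ∀ s ∈ S, s * k * s⁻¹ * k⁻¹ ∈ L := fun k =>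
    ⟨fun hk => ⟨hCB hk, ((hC k).mp hk).2⟩, fun hk => (hC k).mpr ⟨hBK hk.1, hk.2⟩⟩
  have hi := (IS_iff_le_stab hSK).2 hSθ
  obtain ⟨ψ, hψ, hj, hr1⟩ := hc1.ex θ hθ hi
  have hSC : S ≤ normalizer (C : Set Γ) := fun _ h => (hSξ h).1
  have hr2 : Rel p (inclusion hCB) ψ ξ := by
    have := Fact.mk hp
    have h1 := (rel_iff_mult hθ.isCharacter hξ.isCharacter).1 hr
    rw [hc1.mult_trans hCB hSK hSB hSC hp hS hθ hi hψ hj hr1 hξ.isCharacter
      ((IS_iff_le_stab hSC).2 hSξ)] at h1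
    exact (rel_iff_mult hψ.isCharacter hξ.isCharacter).2 (right_ne_zero_of_mul h1)
  have hSψ := (IS_iff_le_stab hSB).1 hj
  have hUψ : U ≤ stab B ψ := (IS_iff_le_stab hUB).1 (IS_of_cj hUB fun v hv => by
    have h1 := hr1.cj (hUK hv) (hUB hv)
    rw [((IS_iff_le_stab hUK).2 hUθ).cj hv] at h1
    refine hc1.uniq θ hθ hi _ _ (hψ.comp_mulEquiv _) (fun t ht g g' hg => ?_) hψ hj h1 hr1
    have h2 : v * t * v⁻¹ ∈ stab B ψ := (sup_le (hLB.trans (le_stab_self B hψ.isClassFunction))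
      hSψ : P ≤ stab B ψ) (conj_mem_of_norm (hUP hv) (mem_sup_right ht))
    refine h2.2 _ _ ?_
    rw [coe_cjE, coe_cjE, hg]
    group)
  have h1 := bi_eq_of_cyc hBK hθ hψ hUθ hUψ (fun x hx y hy => hCB (hU x hx y hy)) hu hgen
    fun d hd hdU y hy => bi_step hp hR hn hLB hBK hKL (hRS.trans hSL) hKn hB hθ hψ
      (hRS.trans hSθ) (hRS.trans hSψ) hr1 (hUL hdU) (hUn d hdU)
      (fun r hr => by simpa [mul_assoc] using inv_mem (hr.2.2 d hd)) (hUθ hdU) (hUψ hdU) (hUθ hy)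
      (hUψ hy) (hCB (hU d hdU y hy))
  exact fun x hx y hy => (h1 x hx y hy).trans (ih B hlt hLB (hBK.trans hKL)
    (fun k hk => hKn k (hBK hk)) hC' hCB hψ hSψ hUψ hr2 x hx y hy)

end CL.OW
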