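import Mathlib
import Cfsg.Agent.BLK.OlsB

/-! Height zero characters of blocks with defect groups of order thirty-two. -/

set_option autoImplicit false

open Cfsg MonoidAlgebra Subgroup CL.Char
open scoped CL.MSS ComplexConjugate

namespace CL.Blk

universe u

variable {G : Type u} [Group G] [Finite G] {p : ℕ} {M : Ideal AlgInt} {B : Set (IrrCharacter G)}
  {P Q R : Subgroup G} {e : (F M)[G]} {g : G}

omit [Finite G] in
theorem conj_mul_inv_mem (h : Q.relIndex R = 2) (hQ : g ∈ normalizer (Q : Set G))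
    (hR : g ∈ normalizer (R : Set G)) {x : G} (hx : x ∈ R) : g * x * g⁻¹ * x⁻¹ ∈ Q :=
  (mul_mem_iff_of_index_two h (a := ⟨_, (mem_normalizer_iff.1 hR x).1 hx⟩) (b := ⟨x, hx⟩⁻¹)).2 (by
    rw [inv_mem_iff, mem_subgroupOf, mem_subgroupOf]; exact (mem_normalizer_iff.1 hQ x).symm)

namespace MaxP

theorem mem_pairStab_lowB (h : MaxP p M B P e) (hg : PFus p P e Q g)
    (hN : g ∈ normalizer (Q : Set G)) : g ∈ pairStab Q (sb M _ (lowB p M P e Q)) := by
  have h1 := h.ple_lowB hg.le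
  have h2 := hg.ple h.prime h.hF h.pair h1
  rw [MSS.mem_normalizer_iff_cj.1 hN] at h2
  exact ⟨hN, h2.unique h.prime h.hF h1 h.pair⟩

variable (h : MaxP 2 M B P e) {A : Subgroup P} (H : Ab32 A)
include h H

theorem k0_le_of_sq {u : P} (hu : u ∉ A) (h2 : ∀ a ∈ A, a ^ 2 ≠ u ^ 2) : k0 2 B ≤ 8 := by
  refine h.k0_le_of_class H.card.le u.2 (fun e => hu (by rw [show u = 1 from Subtype.ext e]; simp))
    fun v hv _ => ?_
  obtain ⟨w, hw, h3, h4⟩ := h.exists_pow_eq hv (k := 2) fun y hy =>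
    congrArg Subtype.val (mem_center_iff.1 (H.pow_mem_center hu) ⟨y, hy⟩)
  exact h4.trans ((cP_eq_card ⟨w, hw⟩).trans (H.card_cent fun e => h2 _ e (Subtype.ext h3))).le

theorem k0_le_of_eight {c : P} (hc : c ∈ A) (ho : orderOf c = 8) {r : ℕ} (hr : r = 7 ∨ r = 3)
    (hs : ∀ s ∉ A, s * c * s⁻¹ = c ^ r) : k0 2 B ≤ 8 := by
  have h1 : ∀ v : P, orderOf v = 8 → v ∉ center P := fun v hv e => by
    have := orderOf_dvd_natCard (⟨v, e⟩ : center P)
    rw [Subgroup.orderOf_mk, hv, H.card_center] at this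
    omega
  have h2 : cP P c = 16 := by rw [cP_eq_card, H.cent_eq hc (h1 c ho), H.card_A]
  have ho' : orderOf (c : G) = 2 ^ (1 + 2) := (Subgroup.orderOf_coe c).trans ho
  have h3 := h.sDef_bu_of_card c.2 fun v hv => (cP_eq_card ⟨v, hv.right⟩).trans_le
    ((H.card_cent_le (h1 _ ((Subgroup.orderOf_mk _ _).trans (hv.orderOf_eq.trans ho')))).trans h2.ge)
  have h4 : zpowers (c : G) ≤ P ⊓ cZ c := zpowers_le.2 ⟨c.2, mem_cent_zpowers.2 (Commute.refl _)⟩
  obtain ⟨w, hw, hw'⟩ := SetLike.exists_of_lt (h4.lt_of_ne fun e => by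
    rw [cP, ← e, Nat.card_zpowers, ho'] at h2
    omega)
  have h5 := two_mul_card_le_of_lt (lt_sup_zpowers hw')
  rw [Nat.card_zpowers, ho'] at h5
  have h6 : ∀ k : ℕ, ∀ s ∈ P, s * c ^ k * s⁻¹ = c ^ k ∨ s * c ^ k * s⁻¹ = c ^ (k * r) :=
    fun k s hs' => (em (⟨s, hs'⟩ ∈ A)).imp (fun e => mul_inv_eq_iff_eq_mul.2
      (congrArg Subtype.val (H.comm e (pow_mem hc k)))) fun e => by
        rw [← conj_pow, pow_mul']
        exact congrArg (fun x : P => (x : G) ^ k) (hs _ e)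
  obtain ⟨s, hs'⟩ := H.exists_not_mem
  have h7 := h.k0_le_of_sym c.2 ho' (h.rank_bu_of_sup c.2 h3 (w := w)
    (eq_of_le_of_card_ge (sup_le h4 (zpowers_le.2 hw)) (h2.trans_le h5)).symm) (r := r)
    (by rcases hr with rfl | rfl <;> norm_num) (fun ε hε => ?_)
    (by rcases hr with rfl | rfl <;> simp [pow_succ])
    ((show (s : G) * c * (s : G)⁻¹ = c ^ r from congrArg Subtype.val (hs s hs')) ▸
      h.fConj_conj c.2 s.2)
    fun k j hk hkj => ?_
  · rw [h.pow_defect_bu c.2 h3, h2] at h7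
    omega
  · rw [← Complex.inv_eq_conj (Complex.norm_eq_one_of_pow_eq_one hε (by norm_num)), neg_inv]
    rcases hr with rfl | rfl
    · exact Or.inl (eq_inv_of_mul_eq_one_left (by linear_combination hε))
    exact ((sq_eq_one_iff (a := ε ^ 4)).1 (by linear_combination hε)).imp
      (fun e => eq_inv_of_mul_eq_one_left (by linear_combination e))
      fun e => eq_inv_of_mul_eq_one_left (by linear_combination -e)
  have h8 := zpowers_pow_of_coprime (ho' ▸ pow_orderOf_eq_one (c : G)) hk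
  obtain ⟨t, ht, h9⟩ := h.exists_conj_of_zpowers_eq hkj (eq_of_le_of_card_ge
    (h8.symm ▸ zpowers_le.2 (pow_mem (mem_zpowers _) j)) (by
      rw [Nat.card_zpowers, Nat.card_zpowers, hkj.orderOf_eq])) fun t ht =>
        MSS.mem_normalizer_of_cj_le (by
          rw [cj_zpowers, h8, zpowers_le]
          rcases h6 k t ht with e | e <;> exact e.symm ▸ pow_mem (mem_zpowers _) _)
  exact h9 ▸ h6 k t ht

theorem k0_le_of_class_two (hc : commutator P ≤ center P) : k0 2 B ≤ 8 := by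
  obtain ⟨u, hu⟩ := H.exists_not_mem
  refine h.k0_le_of_class H.card.le u.2 (fun e => hu (by rw [show u = 1 from Subtype.ext e]; simp))
    fun v hv hm => not_lt.1 fun h8 => ?_
  obtain ⟨g, hg, h1⟩ := h.exists_pFus_cent hv hm
  set Z := (center P).map P.subtype
  have hZ : Nat.card Z = 4 := (card_map_of_injective (subtype_injective P)).trans H.card_center
  have h2 : ∀ z ∈ Z, ∀ x ∈ P, Commute x z := fun _ ⟨z, hz, e⟩ x hx =>
    e ▸ congrArg Subtype.val (mem_center_iff.1 hz ⟨x, hx⟩)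
  have h3 : ∀ x ∈ P, Z ≤ P ⊓ cZ x := fun x hx z hz =>
    ⟨map_subtype_le _ hz, mem_cent_zpowers.2 (h2 z hz x hx)⟩
  have h4 : ∀ x ∈ P, P ≤ normalizer ((P ⊓ cZ x : Subgroup G) : Set G) := fun x hx =>
    MSS.le_normalizer_of_cj_le fun s hs => MSS.cj_le_iff_forall.2 fun y hy =>
      (Subgroup.mul_mem_cancel_right _ (inv_mem hy)).1 (h3 x hx (mem_map_of_mem _ (hc
        (commutator_mem_commutator (mem_top ⟨s, hs⟩) (mem_top ⟨y, hy.1⟩)))))
  have h5 : ∀ x ∉ A, Nat.card (P ⊓ cZ x : Subgroup G) = 8 := fun x hx =>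
    (cP_eq_card x).trans (H.card_cent hx)
  have h6 : (u : G) ∈ P ⊓ cZ u := ⟨u.2, mem_cent_zpowers.2 (Commute.refl _)⟩
  have h7 : ∀ x ∈ g •ᶜ (P ⊓ cZ u), ∀ y ∈ g •ᶜ (P ⊓ cZ u), Commute x y := by
    rintro _ ⟨x, hx, rfl⟩ _ ⟨y, hy, rfl⟩
    exact Commute.map (congrArg Subtype.val (H.comm_of_comm hu (s := ⟨x, hx.1⟩) (v := ⟨y, hy.1⟩)
      (Subtype.ext (mem_cent_zpowers.1 hx.2)) (Subtype.ext (mem_cent_zpowers.1 hy.2))))
        (MulAut.conj g)
  obtain ⟨u', hu', h9⟩ : ∃ u' ∉ A, (u' : G) ∈ g •ᶜ (P ⊓ cZ u) := by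
    by_contra h9
    push Not at h9
    have h10 : A.map P.subtype ≤ P ⊓ centralizer ((g •ᶜ (P ⊓ cZ u) : Subgroup G) : Set G) := by
      rintro _ ⟨a, ha, rfl⟩
      exact ⟨a.2, fun y hy => congrArg Subtype.val
        (H.comm (a := ⟨y, hg.cj_le hy⟩) (by_contra fun e => h9 _ e hy) ha)⟩
    replace h10 := (Subgroup.card_le_of_le h10).trans ((h.card_cent_le_of_normal hg (h4 u u.2)).trans
      (Subgroup.card_le_of_le (inf_le_inf_left P (centralizer_anti (zpowers_le.2 h6)))))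
    rw [card_map_of_injective (subtype_injective P), H.card_A, h5 u hu] at h10
    omega
  have h10 : v ∈ g •ᶜ (P ⊓ cZ u) := h1 ▸ MSS.conj_mem_cj h6
  have h11 : v ∈ Z := mem_map_of_mem P.subtype (H.mem_center (a := ⟨v, hv.right⟩) (by_contra fun e =>
    h8.ne' (h5 ⟨v, hv.right⟩ e)) hu' (Subtype.ext (h7 _ h10 _ h9).eq))
  have h12 : g •ᶜ (P ⊓ cZ u) = P ⊓ cZ u' := eq_of_le_of_card_ge
    (le_inf hg.cj_le fun y hy => mem_cent_zpowers.2 (h7 _ h9 y hy)) (by
      rw [MSS.card_cj, h5 u hu, h5 u' hu'])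
  have h13 : Z.relIndex (P ⊓ cZ u') = 2 :=
    Fus.relIndex_eq_of_card (h3 u' u'.2) (by rw [hZ, h5 u' hu'])
  obtain ⟨w, ⟨h14, h15⟩, h16⟩ : ∃ w ∈ Z ⊓ g •ᶜ Z, w ≠ 1 := by
    by_contra e
    push Not at e
    have := relIndex_le_of_le_right (H := Z) ((MSS.cj_mono g (h3 u u.2)).trans h12.le) (by omega)
    rw [← inf_relIndex_right, (eq_bot_iff_forall _).2 e, relIndex_bot_left, MSS.card_cj] at this
    omega
  obtain ⟨_, ⟨w, hw, rfl⟩, rfl⟩ := h15
  have h17 : w ∈ commutator P := (eq_of_le_of_card_ge hc (by rw [H.card_center, H.card_comm])).ge hw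
  obtain ⟨a, ha, h18⟩ := H.exists_eq hu h17
  have h19 : ∀ z ∈ Z, z * z = 1 := by
    rintro _ ⟨z, hz, rfl⟩
    have := H.conj_eq_inv hu ((eq_of_le_of_card_ge hc (by rw [H.card_center, H.card_comm])).ge hz)
    rw [mem_center_iff.1 hz, mul_inv_cancel_right] at this
    exact congrArg Subtype.val (mul_eq_one_iff_eq_inv.2 this)
  have h20 : a * u * a⁻¹ = w * u := by rw [← h18, commutatorElement_def, inv_mul_cancel_right]
  have h21 : ∀ y ∈ P ⊓ cZ u, a * y * (a : G)⁻¹ = y ∨ a * y * (a : G)⁻¹ = w * y := fun y hy => by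
    refine (em (⟨y, hy.1⟩ ∈ A)).imp (fun e => mul_inv_eq_iff_eq_mul.2
      (congrArg Subtype.val (H.comm ha e))) fun e => ?_
    have := mem_center_iff.1 (H.mul_inv_mem_center hu e (Subtype.ext (mem_cent_zpowers.1 hy.2).eq))
    refine congrArg Subtype.val (?_ : a * ⟨y, hy.1⟩ * a⁻¹ = w * ⟨y, hy.1⟩)
    rw [← inv_mul_cancel_right ⟨y, hy.1⟩ u, ← mul_assoc, ← mul_assoc w, this, this, mul_assoc,
      mul_assoc, ← mul_assoc a, h20, mul_assoc _ w]
  set R := g •ᶜ (P ⊓ cZ u)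
  set t : G := g * w * g⁻¹
  change t ∈ Z at h14
  change t ≠ 1 at h16
  have h22 : P ≤ normalizer (R : Set G) := h12 ▸ h4 u' u'.2
  have h23 : ∀ y ∈ R, g * a * g⁻¹ * y * (g * a * g⁻¹)⁻¹ = y ∨
      g * a * g⁻¹ * y * (g * a * g⁻¹)⁻¹ = t * y := by
    rintro _ ⟨y, hy, rfl⟩
    refine (h21 y hy).imp (fun e => ?_) fun e => ?_
    · conv_rhs => rw [← e]
      simp [mul_assoc]
    · calc _ = g * (a * y * (a : G)⁻¹) * g⁻¹ := by simp [mul_assoc]
        _ = _ := by simp [e, t, mul_assoc]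
  have h24 : Z ≤ R := h12 ▸ h3 u' u'.2
  have h25 : (zpowers t).relIndex Z = 2 := Fus.relIndex_eq_of_card (zpowers_le.2 h14) (by
    rw [hZ, Nat.card_zpowers, orderOf_eq_prime ((pow_two t).trans (h19 t h14)) h16])
  refine (h.exists_conj_of_pgroup (T := pairStab R (sb M _ (lowB 2 M P e R)) ⊓
    normalizer (Z : Set G) ⊓ centralizer (zpowers t : Set G)) hg.cj_le
    (fun s hs => ⟨⟨h.mem_pairStab_lowB (h.pair.pFus_of_mem h.prime h.hF hg.cj_le hs) (h22 hs),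
      centralizer_le_normalizer _ fun z hz => (h2 z hz s hs).symm⟩,
        mem_cent_zpowers.2 (h2 t h14 s hs).symm⟩)
    (fun y hy => hy.1.1.1) (fun y hy => ⟨(h.ple_lowB hg.cj_le).pFus_of_mem_pairStab hy.1.1, 2,
      fun r hr => ?_⟩) (g := g * a * g⁻¹) ⟨⟨h.mem_pairStab_lowB ?_ ?_, ?_⟩, ?_⟩).elim
        fun s ⟨hs, h26⟩ => ?_
  rotate_right
  · have := h26 v h10
    rw [(h2 v h11 s hs).eq, mul_inv_cancel_right, ← h1] at this
    refine h16 (mul_right_cancel (b := g * u * g⁻¹) ?_)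
    rw [one_mul]
    refine .trans ?_ this
    calc _ = g * (w * u) * g⁻¹ := by simp [t, mul_assoc]
      _ = g * (a * u * (a : G)⁻¹) * g⁻¹ := by rw [show (a : G) * u * (a : G)⁻¹ = w * u from
          congrArg Subtype.val h20]
      _ = _ := by simp [mul_assoc]
  · have h26 := conj_mul_inv_mem (h12 ▸ h13) hy.1.2 hy.1.1.1 hr
    have h27 := conj_mul_inv_mem h25 (centralizer_le_normalizer _ hy.2) hy.1.2 h26
    generalize hz : y * r * y⁻¹ * r⁻¹ = z at h26 h27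
    generalize hc : y * z * y⁻¹ * z⁻¹ = c at h27
    have h28 : y ^ 2 * r * (y ^ 2)⁻¹ = c * r := by
      rw [← mul_one c, ← h19 z h26, ← hc, mul_assoc _ _ r, mul_assoc z, ← mul_assoc,
        inv_mul_cancel_right, ← hz]
      simp [pow_two, mul_assoc]
    have h29 : y ^ 2 * c * (y ^ 2)⁻¹ = c := mul_inv_eq_iff_eq_mul.2 (pow_mem hy.2 2 c h27).symm
    rw [eq_comm, ← mul_inv_eq_iff_eq_mul]
    calc _ = y ^ 2 * (y ^ 2 * r * (y ^ 2)⁻¹) * (y ^ 2)⁻¹ := by group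
      _ = y ^ 2 * c * (y ^ 2)⁻¹ * (y ^ 2 * r * (y ^ 2)⁻¹) := by
        conv_lhs => rw [h28]
        group
      _ = r := by rw [h29, h28, ← mul_assoc, h19 c (zpowers_le.2 h14 h27), one_mul]
  · refine (hg.inv.mul h.prime h.hF h.pair (h.pair.pFus_of_mem h.prime h.hF hg.le a.2)
      (MSS.inv_cj_cj g _).le).mul h.prime h.hF h.pair hg ?_ |> (mul_assoc g _ _ ▸ ·)
    rw [MSS.cj_mul, MSS.inv_cj_cj, MSS.cj_eq_of_mem_normalizer (h4 u u.2 a.2)]
  · exact MSS.mem_normalizer_of_cj_le (MSS.cj_le_iff_forall.2 fun y hy => (h23 y hy).elim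
      (fun e => e.symm ▸ hy) fun e => e.symm ▸ mul_mem (h24 h14) hy)
  · exact MSS.mem_normalizer_of_cj_le (MSS.cj_le_iff_forall.2 fun y hy => (h23 y (h24 hy)).elim
      (fun e => e.symm ▸ hy) fun e => e.symm ▸ mul_mem h14 hy)
  · exact mem_cent_zpowers.2 ((h2 _ (mem_map_of_mem _ hw) a a.2).symm.map (MulAut.conj g))

omit H in
theorem k0_le_of_card (hP : Nat.card P = 32) (hc : Nat.card (commutator P) = 4) : k0 2 B ≤ 8 := by
  have hn : ¬ IsMulCommutative P := fun e => by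
    rw [(commutator_eq_bot_iff_center_eq_top P).2 (center_eq_top_iff.2 e), card_bot] at hc
    omega
  by_cases hA : ∀ A : Subgroup P, IsMulCommutative A → Nat.card A ≤ 8
  · have h1 : ∃ u : P, u ≠ 1 ∧ ∀ v : P, orderOf v = orderOf u → Nat.card (centralizer {v}) ≤ 8 := by
      by_cases h4 : ∀ x : P, x ^ 4 = 1
      · obtain ⟨u, hu⟩ : ∃ u : P, u ^ 2 ≠ 1 := not_forall.1 fun e =>
          hn ⟨⟨fun a b => Commute.of_orderOf_dvd_two (fun x => orderOf_dvd_of_pow_eq_one (e x)) a b⟩⟩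
        exact ⟨u, fun e => hu (by simp [e]), fun v hv => card_cent_le_of_exp hA hP hc h4
          (mt (orderOf_eq_orderOf_iff.1 hv 2).1 hu)⟩
      obtain ⟨u, hu⟩ := not_forall.1 h4
      refine ⟨u, fun e => hu (by simp [e]), fun v hv => card_cent_le_of_lt hA ?_⟩
      obtain ⟨k, hk⟩ := (IsPGroup.iff_orderOf.1 h.pgroup) u
      have : ¬ k ≤ 2 := fun e => hu (orderOf_dvd_iff_pow_eq_one.1 (hk ▸ pow_dvd_pow 2 e))
      rw [hv, hk]
      exact Nat.pow_lt_pow_right (a := 2) (m := 2) (by norm_num) (by omega)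
    obtain ⟨u, hu, h1⟩ := h1
    exact h.k0_le_of_class hP.le u.2 (fun e => hu (Subtype.ext e)) fun v hv _ =>
      (cP_eq_card ⟨v, hv.right⟩).trans_le (h1 _ ((Subgroup.orderOf_mk _ _).trans
        (hv.orderOf_eq.trans (Subgroup.orderOf_coe u))))
  push Not at hA
  obtain ⟨A, hA, h1⟩ := hA
  have H : Ab32 A := by
    refine ⟨⟨h.pgroup, hn, hA, ?_⟩, hP, hc⟩
    have h2 := A.card_mul_index
    have h3 : A.index ≠ 1 := fun e => hn ⟨⟨fun a b => AbM.comm_of_mem hA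
      (index_eq_one.1 e ▸ mem_top a) (index_eq_one.1 e ▸ mem_top b)⟩⟩
    have h4 : A.index ≤ 3 := by nlinarith
    have := A.index_ne_zero_of_finite
    interval_cases A.index <;> omega
  by_cases h2 : commutator P ≤ center P
  · exact h.k0_le_of_class_two H h2
  by_cases h3 : ∀ u ∉ A, ∃ a ∈ A, a ^ 2 = u ^ 2
  · obtain ⟨c, h4, h5, r, h6, h7⟩ := H.exists_c h2 h3
    exact h.k0_le_of_eight H h4 h5 h6 h7
  push Not at h3
  obtain ⟨u, hu, h3⟩ := h3
  exact h.k0_le_of_sq H hu h3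

end MaxP

end CL.Blk
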