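import Mathlib
import Cfsg.Agent.PERM.QuatSq
import Cfsg.Agent.REC.Basic
import Cfsg.Agent.SOLV.Subnormal
import Cfsg.Agent.SOLV.Coprime
import Cfsg.Agent.SOLV.PGroupCyclicSCN
import Cfsg.Agent.FGS.ClassSize
import Cfsg.Agent.S0144
import Cfsg.Agent.S0205
import Cfsg.Agent.S4245

/-! Groups of `2`-rank one with a prime power number of involutions. -/

set_option autoImplicit false

open Subgroup
open scoped commutatorElement

namespace CL.Pyr

theorem isSquare_index_comm {K : Type*} [CommGroup K] [Finite K] (hK : Odd (Nat.card K))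
    (α β τ : MulAut K) (hτ : τ * τ = 1) (h : α * β = τ * (β * α)) (hα : α * τ = τ * α)
    (hβ : β * τ = τ * β) (C : Subgroup K) (hC : ∀ x, x ∈ C ↔ τ x = x) : IsSquare C.index := by
  let f : K →* K := (MonoidHom.id K) / τ.toMonoidHom
  have hf : ∀ x, f x = x / τ x := fun _ => rfl
  have hk : C = f.ker := by
    ext x
    rw [hC, MonoidHom.mem_ker, hf, div_eq_one, eq_comm]
  have hinv : ∀ γ : MulAut K, γ * τ = τ * γ → ∀ x ∈ f.range, γ x ∈ f.range := by
    rintro γ hγ _ ⟨x, rfl⟩
    refine ⟨γ x, ?_⟩
    rw [hf, hf, map_div, ← MulAut.mul_apply, ← hγ, MulAut.mul_apply]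
  have hneg : ∀ x ∈ f.range, τ x = x⁻¹ := by
    rintro _ ⟨x, rfl⟩
    rw [hf, map_div, ← MulAut.mul_apply, hτ, MulAut.one_apply, inv_div]
  rw [hk, index_ker]
  let r : ∀ γ : MulAut K, γ * τ = τ * γ → (f.range →* f.range) := fun γ hγ =>
    (γ.toMonoidHom.comp f.range.subtype).codRestrict f.range fun x => hinv γ hγ x x.2
  have hr : ∀ γ hγ, Function.Injective (r γ hγ) := fun γ hγ x y hxy =>
    Subtype.ext (γ.injective (congrArg Subtype.val hxy))
  exact CL.FC.isSquare_of_anticomm _ (V := Additive f.range) rfl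
    (hK.of_dvd_nat (card_subgroup_dvd_card f.range))
    (MonoidHom.toAdditive (r α hα)) (MonoidHom.toAdditive (r β hβ)) (hr α hα) (hr β hβ) (fun x => by
      change Additive.ofMul (r α hα (r β hβ x.toMul)) = Additive.ofMul ((r β hβ (r α hα x.toMul))⁻¹)
      congr 1
      apply Subtype.ext
      change α (β x.toMul.1) = (β (α x.toMul.1))⁻¹
      rw [← MulAut.mul_apply, h, MulAut.mul_apply, MulAut.mul_apply,
        hneg _ (hinv β hβ _ (hinv α hα _ x.toMul.2))])

theorem isSquare_relIndex_comm {G : Type*} [Group G] [Finite G] {a b t : G} (ht : t * t = 1)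
    (h : a * b = t * (b * a)) (ha : a * t = t * a) (hb : b * t = t * b) (N : Subgroup G)
    [N.Normal] [IsMulCommutative N] (hN : Odd (Nat.card N)) :
    IsSquare ((centralizer ({t} : Set G)).relIndex N) := by
  let _ : CommGroup N := { (inferInstance : Group N) with mul_comm := mul_comm' }
  refine isSquare_index_comm hN (MulAut.conjNormal a) (MulAut.conjNormal b) (MulAut.conjNormal t)
    (by rw [← map_mul, ht, map_one]) (by rw [← map_mul, h, map_mul, map_mul])
    (by rw [← map_mul, ha, map_mul]) (by rw [← map_mul, hb, map_mul]) _ fun x => ?_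
  rw [mem_subgroupOf, mem_centralizer_singleton_iff, Subtype.ext_iff, MulAut.conjNormal_apply,
    mul_inv_eq_iff_eq_mul, eq_comm]

theorem isSquare_relIndex {G : Type*} [Group G] [Finite G] {a b t : G} (ht : t * t = 1)
    (h : a * b = t * (b * a)) (ha : a * t = t * a) (hb : b * t = t * b) (n : ℕ) :
    ∀ (N : Subgroup G) [N.Normal], Nat.card N = n → Odd (Nat.card N) →
      IsSquare ((centralizer ({t} : Set G)).relIndex N) := by
  induction n using Nat.strong_induction_on with
  | _ n ih =>
  intro N _ hn hN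
  by_cases h0 : N = ⊥
  · rw [h0, relIndex_bot_right]
    exact IsSquare.one
  have hs : Group.IsSolvable N := Cfsg.Agent.S0205.result hN
  have hlt : ⁅N, N⁆ < N := by
    have := (nontrivial_iff_ne_bot N).2 h0
    rw [← N.range_subtype, MonoidHom.range_eq_map, ← map_commutator, map_subtype_lt_map_subtype]
    exact Group.IsSolvable.commutator_lt_top_of_nontrivial N
  set M := ⁅N, N⁆ with hM
  have hMo : Odd (Nat.card M) := hN.of_dvd_nat (card_dvd_of_le hlt.le)
  have h1 := ih _ (hn ▸ CL.card_lt_of_lt hlt) M rfl hMo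
  set π := QuotientGroup.mk' M with hπ
  have : (N.map π).Normal := Normal.map inferInstance π (QuotientGroup.mk'_surjective M)
  have : IsMulCommutative (N.map π) := by
    rw [← Subgroup.le_centralizer_iff_isMulCommutative, ← commutator_eq_bot_iff_le_centralizer,
      ← map_commutator, Subgroup.map_eq_bot_iff, hπ, QuotientGroup.ker_mk']
  have h2 := isSquare_relIndex_comm (a := π a) (b := π b) (t := π t)
    (by rw [← map_mul, ht, map_one]) (by rw [← map_mul, h, map_mul, map_mul])
    (by rw [← map_mul, ha, map_mul]) (by rw [← map_mul, hb, map_mul]) (N.map π)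
    (hN.of_dvd_nat (card_map_dvd N π))
  have h3 : centralizer ({π t} : Set (G ⧸ M)) = (centralizer ({t} : Set G)).map π := by
    have h4 := CL.centralizer_map_mk'_of_coprime M (zpowers t) (by
      rw [Nat.card_zpowers]
      have : orderOf t ∣ 2 := orderOf_dvd_of_pow_eq_one (by rw [pow_two, ht])
      exact Nat.Coprime.coprime_dvd_left this (Nat.coprime_two_left.2 hMo))
      (Or.inr (Cfsg.Agent.S0205.result hMo))
    rw [MonoidHom.map_zpowers, zpowers_eq_closure, zpowers_eq_closure, centralizer_closure,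
      centralizer_closure] at h4
    exact h4
  rw [h3, relIndex_map_map, hπ, QuotientGroup.ker_mk', sup_eq_left.2 hlt.le] at h2
  set C := centralizer ({t} : Set G)
  have h5 : (C ⊔ M).relIndex N = (M ⊔ C ⊓ N).relIndex N := by
    rw [← inf_relIndex_right]
    congr 1
    refine le_antisymm (fun x hx => ?_) (sup_le (le_inf le_sup_right hlt.le)
      (inf_le_inf_right _ le_sup_left))
    obtain ⟨c, hc, m, hm, rfl⟩ := mem_sup_of_normal_right.1 hx.1
    exact mul_mem (mem_sup_right ⟨hc, (mul_mem_cancel_right (hlt.le hm)).1 hx.2⟩) (mem_sup_left hm)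
  have h6 := relIndex_mul_relIndex (C ⊓ N) (M ⊔ C ⊓ N) N le_sup_right (sup_le hlt.le inf_le_right)
  rw [CL.relIndex_sup_of_normal, ← inf_relIndex_right (C ⊓ N) M, inf_assoc, inf_eq_right.2 hlt.le,
    inf_relIndex_right, inf_relIndex_right, ← h5] at h6
  rw [← h6]
  exact h1.mul h2

variable {G : Type*} [Group G] [Finite G]

theorem solvable_of_odd_exp (p k : ℕ) (hp : p.Prime)
    (hc : Nat.card {x : G // orderOf x = 2} = p ^ k) (hk : Odd k)
    (hconj : ∀ x y : G, orderOf x = 2 → orderOf y = 2 → ∃ g : G, g * x * g⁻¹ = y)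
    (hn : ∀ x y : G, orderOf x = 2 → orderOf y = 2 → Commute x y → x = y) :
    Group.IsSolvable G := by
  obtain ⟨S⟩ : Nonempty (Sylow 2 G) := inferInstance
  rcases CL.PCyc.isCyclic_or_quaternion S.isPGroup' (fun x y hx hy hxy => by
    rw [← orderOf_coe] at hx hy
    rw [← Subtype.ext (hn x y hx hy (hxy.map (S : Subgroup G).subtype))]
    exact mem_zpowers x) with h | ⟨-, n, ⟨e⟩⟩
  · exact Cfsg.Agent.S4245.solv_of_cyclic_two S h
  exfalso
  obtain ⟨a, b, z, h1, h2, h3⟩ := CL.FC.quaternion_triple n
  let φ : QuaternionGroup (2 ^ (n + 1)) →* G := (S : Subgroup G).subtype.comp e.symm.toMonoidHom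
  have hφ : Function.Injective φ := (S : Subgroup G).subtype_injective.comp e.symm.injective
  have hz : orderOf (φ z) = 2 := by
    rw [orderOf_injective φ hφ]
    exact orderOf_eq_prime (by rw [pow_two, h2]) h1
  have hcen : ∀ x, φ x * φ z = φ z * φ x := by
    have : Nontrivial (S : Subgroup G) := e.toEquiv.nontrivial_congr.2 ⟨⟨z, 1, h1⟩⟩
    have h4 := S.isPGroup'.center_nontrivial
    obtain ⟨c, hc⟩ := exists_prime_orderOf_dvd_card' (G := center (S : Subgroup G)) 2
      (((S.isPGroup'.to_subgroup _).nontrivial_iff_card.1 h4).elim fun m hm =>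
        hm.2 ▸ dvd_pow_self 2 hm.1.ne')
    have h5 : ∀ x, φ x * ((c : (S : Subgroup G)) : G) = ((c : (S : Subgroup G)) : G) * φ x :=
      fun x => congrArg Subtype.val (mem_center_iff.1 c.2 (e.symm x))
    have h6 := hn (φ z) _ hz (by rw [orderOf_coe, orderOf_coe, hc]) (h5 z)
    intro x
    rw [h6]
    exact h5 x
  have h4 := isSquare_relIndex (a := φ a) (b := φ b) (t := φ z) (by rw [← map_mul, h2, map_one])
    (by rw [← map_mul, h3, map_mul, map_mul]) (hcen a) (hcen b) _ (Cfsg.oddCore G) rfl
    CL.Rec.odd_card_oddCore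
  have h5 := CL.Rec.cent_sup_core_of_isolated (z := φ z) ⟨hz, fun g hg =>
    (hn _ _ hz (((MulAut.conj g).orderOf_eq (φ z)).trans hz) hg).symm⟩
  rw [← CL.relIndex_sup_of_normal, sup_comm, h5, relIndex_top_right, ← CL.CS.card_carrier_eq_index]
    at h4
  have h6 : Nat.card (ConjClasses.mk (φ z)).carrier = p ^ k := by
    rw [← hc]
    refine Nat.card_congr (Equiv.subtypeEquivRight fun x => ?_)
    rw [ConjClasses.mem_carrier_iff_mk_eq, ConjClasses.mk_eq_mk_iff_isConj, isConj_iff]
    refine ⟨?_, fun hx => hconj _ _ hx hz⟩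
    rintro ⟨g, hg⟩
    rw [← hg] at hz
    exact ((MulAut.conj g).orderOf_eq x).symm.trans hz
  rw [h6] at h4
  obtain ⟨m, hm⟩ := h4
  obtain ⟨j, -, hj⟩ := (Nat.dvd_prime_pow hp).1 (Dvd.intro _ hm.symm)
  rw [hj, ← pow_add] at hm
  have := Nat.pow_right_injective hp.two_le hm
  obtain ⟨i, hi⟩ := hk
  omega

/-- conjugation on the involutions -/
@[reducible] def invAct (G : Type*) [Group G] : MulAction G {x : G // orderOf x = 2} where
  smul g x := ⟨g * x * g⁻¹, ((MulAut.conj g).orderOf_eq x.1).trans x.2⟩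
  one_smul x := Subtype.ext (by change 1 * x.1 * 1⁻¹ = x.1; simp)
  mul_smul g h x := Subtype.ext (by
    change g * h * x.1 * (g * h)⁻¹ = g * (h * x.1 * h⁻¹) * g⁻¹
    group)

theorem solvable_of_nine (hc : Nat.card {x : G // orderOf x = 2} = 9)
    (hn : ∀ x y : G, orderOf x = 2 → orderOf y = 2 → Commute x y → x = y) :
    Group.IsSolvable G := by
  classical
  let _ := invAct G
  have hsm : ∀ (g : G) (x : {x : G // orderOf x = 2}), ((g • x : {x : G // orderOf x = 2}) : G) =
    g * x * g⁻¹ := fun _ _ => rfl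
  have := Fintype.ofFinite {x : G // orderOf x = 2}
  let φ := MulAction.toPermHom G {x : G // orderOf x = 2}
  have hker : Odd (Nat.card φ.ker) := by
    rw [← Nat.not_even_iff_odd, even_iff_two_dvd]
    intro h
    obtain ⟨s, hs⟩ := exists_prime_orderOf_dvd_card' 2 h
    rw [← orderOf_coe] at hs
    have h1 : ∀ x : {x : G // orderOf x = 2}, x = ⟨s, hs⟩ := fun x => by
      have h2 : φ s x = x := by rw [MonoidHom.mem_ker.1 s.2]; rfl
      have h3 : (s : G) * x * (s : G)⁻¹ = x := congrArg Subtype.val h2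
      exact Subtype.ext (hn _ _ hs x.2 (mul_inv_eq_iff_eq_mul.1 h3)).symm
    have h2 : Nat.card {x : G // orderOf x = 2} = 1 :=
      Nat.card_eq_one_iff_exists.2 ⟨_, h1⟩
    omega
  have hran : ∀ r : ℕ, r.Prime → r ∣ Nat.card φ.range → r = 2 ∨ r = 3 := by
    intro r hr hd
    by_contra h23
    push Not at h23
    have : Fact r.Prime := ⟨hr⟩
    obtain ⟨⟨_, g, rfl⟩, hg⟩ := exists_prime_orderOf_dvd_card' r hd
    rw [← orderOf_coe] at hg
    change orderOf (φ g) = r at hg
    have h1 : Nat.card {x : G // orderOf x = 2} ≡ Nat.card (Function.fixedPoints (φ g)) [MOD r] := by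
      rw [Nat.card_eq_fintype_card, Nat.card_eq_fintype_card]
      exact Equiv.Perm.card_fixedPoints_modEq (n := 1) (by
        rw [pow_one, ← hg]
        change (φ g)^[orderOf (φ g)] = id
        rw [← Equiv.Perm.coe_pow, pow_orderOf_eq_one]
        rfl)
    have h2 : Nat.card (Function.fixedPoints (φ g)) < 9 := by
      rw [← hc]
      refine Finite.card_subtype_lt (x := Classical.choose (not_forall.1 fun h : ∀ x, φ g x = x => ?_))
        (Classical.choose_spec (not_forall.1 fun h : ∀ x, φ g x = x => ?_))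
      all_goals
        have : φ g = 1 := Equiv.ext h
        rw [this, orderOf_one] at hg
        exact hr.one_lt.ne hg
    have h3 : Nat.card (Function.fixedPoints (φ g)) = 0 ∨
        Odd (Nat.card (Function.fixedPoints (φ g))) := by
      rcases isEmpty_or_nonempty (Function.fixedPoints (φ g)) with h | ⟨⟨t, ht⟩⟩
      · exact Or.inl Nat.card_of_isEmpty
      right
      have hcm : ∀ x : {x : G // orderOf x = 2}, x ∈ Function.fixedPoints (φ g) ↔
          g * x = x * g := fun x => by
        rw [Function.mem_fixedPoints_iff, Subtype.ext_iff, ← mul_inv_eq_iff_eq_mul]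
        rfl
      have ht2 : (t : G) * t = 1 := by
        have := pow_orderOf_eq_one (t : G)
        rwa [t.2, pow_two] at this
      let f : Function.End (Function.fixedPoints (φ g)) := fun x => ⟨(t : G) • x.1, by
        have h4 := (hcm t).1 ht
        have h5 := (hcm x).1 x.2
        rw [hcm, hsm]
        exact ((Commute.mul_right h4 h5).mul_right (Commute.inv_right h4))⟩
      have h4 := Equiv.Perm.card_fixedPoints_modEq (p := 2) (n := 1) (f := f) (by
        funext x
        apply Subtype.ext
        change (t : G) • (t : G) • x.1 = x.1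
        rw [← mul_smul, ht2, one_smul])
      have h5 : Fintype.card (Function.fixedPoints f) = 1 := by
        rw [Fintype.card_eq_one_iff]
        refine ⟨⟨⟨t, ht⟩, Subtype.ext (Subtype.ext (by change (t : G) * t * (t : G)⁻¹ = t; simp))⟩,
          fun x => ?_⟩
        have h6 : (t : G) * x.1.1 * (t : G)⁻¹ = x.1.1 :=
          congrArg (fun y : Function.fixedPoints (φ g) => (y.1 : G)) x.2
        exact Subtype.ext (Subtype.ext (Subtype.ext
          (hn _ _ t.2 x.1.1.2 (mul_inv_eq_iff_eq_mul.1 h6)).symm))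
      rw [h5, ← Nat.card_eq_fintype_card] at h4
      exact Nat.odd_iff.2 h4
    rw [hc] at h1
    generalize Nat.card (Function.fixedPoints (φ g)) = m at h1 h2 h3
    have h4 : r ∣ 9 - m := (Nat.modEq_iff_dvd' h2.le).1 h1.symm
    have h5 : r ≤ 9 := (Nat.le_of_dvd (by omega) h4).trans (Nat.sub_le _ _)
    rw [Nat.odd_iff] at h3
    interval_cases r <;> first | omega | norm_num at hr
  have h1 : Group.IsSolvable φ.ker := Cfsg.Agent.S0205.result hker
  have h2 : Group.IsSolvable φ.range := by
    refine Cfsg.Agent.S0144.result 2 3 ((Nat.card φ.range).factorization 2)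
      ((Nat.card φ.range).factorization 3) Nat.prime_two Nat.prime_three ?_
    refine Nat.eq_of_factorization_eq Nat.card_pos.ne' (by positivity) fun r => ?_
    rw [Nat.factorization_mul (by positivity) (by positivity), Nat.prime_two.factorization_pow,
      Nat.prime_three.factorization_pow, Finsupp.add_apply]
    by_cases h2 : r = 2
    · subst h2; simp
    by_cases h3 : r = 3
    · subst h3; simp
    rw [Finsupp.single_eq_of_ne h2, Finsupp.single_eq_of_ne h3]
    by_contra h
    have h4 : r ∈ (Nat.card φ.range).primeFactors := by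
      rw [← Nat.support_factorization, Finsupp.mem_support_iff]
      exact h
    rcases hran r (Nat.prime_of_mem_primeFactors h4) (Nat.dvd_of_mem_primeFactors h4) with h | h
    exacts [h2 h, h3 h]
  exact Group.isSolvable_of_ker_le_range φ.ker.subtype φ.rangeRestrict (by
    rw [MonoidHom.ker_rangeRestrict, range_subtype])

theorem solvable_of_rank_one {G : Type*} [Group G] [Finite G] (p k : ℕ) (hp : p.Prime)
    (_hp2 : p ≠ 2) (hc : Nat.card {x : G // orderOf x = 2} = p ^ k) (hk : Odd k ∨ p ^ k = 9)
    (hconj : ∀ x y : G, orderOf x = 2 → orderOf y = 2 → ∃ g : G, g * x * g⁻¹ = y)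
    (hn : ∀ x y : G, orderOf x = 2 → orderOf y = 2 → Commute x y → x = y) :
    Group.IsSolvable G :=
  hk.elim (fun h => solvable_of_odd_exp p k hp hc h hconj hn)
    fun h => solvable_of_nine (hc.trans h) hn

end CL.Pyr
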