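import Mathlib
import Cfsg.Agent.CLAS.SLBasic
import Cfsg.Agent.S0268

/-! The affine group `F² ⋊ SL₂(F)`: a non-solvable group with `|F|²` conjugate involutions. -/

set_option autoImplicit false

open Matrix
open scoped MatrixGroups

namespace CL.Pyr

/-- the special affine group of the plane -/
@[ext] structure ASL (F : Type) [Field F] where
  /-- the translation part -/
  v : Fin 2 → F
  /-- the linear part -/
  g : SL(2, F)

namespace ASL

variable {F : Type} [Field F]

instance : Mul (ASL F) := ⟨fun a b => ⟨a.v + a.g.1 *ᵥ b.v, a.g * b.g⟩⟩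
instance : One (ASL F) := ⟨⟨0, 1⟩⟩
instance : Inv (ASL F) := ⟨fun a => ⟨-((a.g⁻¹).1 *ᵥ a.v), a.g⁻¹⟩⟩

@[simp] theorem mul_v (a b : ASL F) : (a * b).v = a.v + a.g.1 *ᵥ b.v := rfl
@[simp] theorem mul_g (a b : ASL F) : (a * b).g = a.g * b.g := rfl
@[simp] theorem one_v : (1 : ASL F).v = 0 := rfl
@[simp] theorem one_g : (1 : ASL F).g = 1 := rfl
theorem inv_v (a : ASL F) : (a⁻¹).v = -((a.g⁻¹).1 *ᵥ a.v) := rfl
theorem inv_g (a : ASL F) : (a⁻¹).g = a.g⁻¹ := rfl

instance : Group (ASL F) := Group.ofLeftAxioms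
  (fun a b c => by
    refine ASL.ext ?_ (mul_assoc _ _ _)
    simp only [mul_v, mul_g, mulVec_add, mulVec_mulVec, add_assoc]
    rfl)
  (fun a => by
    refine ASL.ext ?_ (one_mul _)
    simp)
  (fun a => by
    refine ASL.ext ?_ (inv_mul_cancel _)
    rw [mul_v, inv_v, inv_g, neg_add_cancel, one_v])

/-- the linear part -/
def lin : ASL F →* SL(2, F) where
  toFun a := a.g
  map_one' := rfl
  map_mul' _ _ := rfl

instance [Finite F] : Finite (ASL F) :=
  Finite.of_injective (fun a : ASL F => (a.v, a.g)) fun _ _ h =>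
    ASL.ext (congrArg Prod.fst h) (congrArg Prod.snd h)

theorem one_ne_neg (h2 : (2 : F) ≠ 0) : (1 : SL(2, F)) ≠ -1 := fun h1 => by
  have h4 : (1 : F) = -1 := by simpa using congrArg (fun m : SL(2, F) => m.1 0 0) h1
  exact h2 (by linear_combination h4)

theorem orderOf_eq_two [Fintype F] (h : Odd (Fintype.card F)) (h2 : (2 : F) ≠ 0) (a : ASL F) :
    orderOf a = 2 ↔ a.g = -1 := by
  rw [orderOf_eq_prime_iff, pow_two]
  constructor
  · rintro ⟨h1, h3⟩
    have h4 : a.g * a.g = 1 := congrArg ASL.g h1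
    by_cases h5 : a.g = 1
    · exfalso
      refine h3 (ASL.ext ?_ h5)
      have h6 : (a * a).v = 0 := congrArg ASL.v h1
      rw [mul_v, h5] at h6
      have h7 : (2 : F) • a.v = 0 := by simpa [two_smul] using h6
      exact (smul_eq_zero.1 h7).resolve_left h2
    · exact Subtype.ext (Cfsg.Agent.S0268.result h a.g h5 h4)
  · intro h1
    refine ⟨ASL.ext ?_ ?_, fun h3 => ?_⟩
    · simp [h1, neg_mulVec]
    · simp [h1]
    · rw [h3, one_g] at h1
      exact one_ne_neg h2 h1

end ASL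

theorem exists_nonsolvable (p k : ℕ) (hp : p.Prime) (hp2 : p ≠ 2) (hk : 1 ≤ k) (he : Even k)
    (h9 : p ^ k ≠ 9) : ∃ (G : Type) (_ : Group G) (_ : Finite G),
      Nat.card {x : G // orderOf x = 2} = p ^ k ∧
      (∀ x y : G, orderOf x = 2 → orderOf y = 2 → ∃ g : G, g * x * g⁻¹ = y) ∧
      ¬ Group.IsSolvable G := by
  classical
  obtain ⟨m, rfl⟩ := he
  have hm : m ≠ 0 := by omega
  have : Fact p.Prime := ⟨hp⟩
  have : Fintype (GaloisField p m) := Fintype.ofFinite _
  have hc : Nat.card (GaloisField p m) = p ^ m := GaloisField.card p m hm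
  have ho : Odd (Fintype.card (GaloisField p m)) := by
    rw [← Nat.card_eq_fintype_card, hc]
    exact (hp.odd_of_ne_two hp2).pow
  have h2 : (2 : GaloisField p m) ≠ 0 := by
    intro h
    have h' : ((2 : ℕ) : GaloisField p m) = 0 := by exact_mod_cast h
    rw [CharP.cast_eq_zero_iff (GaloisField p m) p] at h'
    exact hp2 ((Nat.prime_dvd_prime_iff_eq hp Nat.prime_two).1 h')
  have h4 : 4 ≤ Nat.card (GaloisField p m) := by
    rw [hc]
    have h3 : 3 ≤ p := by have := hp.two_le; omega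
    have h5 : p ≤ p ^ m := Nat.le_self_pow hm p
    by_contra h
    have h6 : p ^ m = 3 := by omega
    exact h9 (by rw [pow_add, h6]; norm_num)
  refine ⟨ASL (GaloisField p m), inferInstance, inferInstance, ?_, fun x y hx hy => ?_, fun hs => ?_⟩
  · have e : {x : ASL (GaloisField p m) // orderOf x = 2} ≃ (Fin 2 → GaloisField p m) :=
      { toFun := fun x => x.1.v
        invFun := fun v => ⟨⟨v, -1⟩, (ASL.orderOf_eq_two ho h2 _).2 rfl⟩
        left_inv := fun x => Subtype.ext (ASL.ext rfl ((ASL.orderOf_eq_two ho h2 _).1 x.2).symm)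
        right_inv := fun _ => rfl }
    rw [Nat.card_congr e, Nat.card_fun, hc, Nat.card_eq_fintype_card, Fintype.card_fin, pow_two,
      pow_add]
  · rw [ASL.orderOf_eq_two ho h2] at hx hy
    refine ⟨⟨(2 : GaloisField p m)⁻¹ • (y.v - x.v), 1⟩, ?_⟩
    rw [mul_inv_eq_iff_eq_mul]
    refine ASL.ext ?_ (by simp [hx, hy])
    ext i
    simp [hy, neg_mulVec]
    field_simp
    ring
  · have h5 : Group.IsSolvable SL(2, GaloisField p m) :=
      Group.isSolvable_of_surjective (f := ASL.lin) fun g => ⟨⟨0, g⟩, rfl⟩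
    obtain ⟨a, ha, ha2⟩ := CL.SL.exists_sq_ne_one_of_four_le_card h4
    have h6 : commutator SL(2, GaloisField p m) = ⊤ := CL.SL.commutator_eq_top_of_sq_ne_one ha ha2
    have h7 : Nontrivial SL(2, GaloisField p m) := ⟨⟨1, -1, ASL.one_ne_neg h2⟩⟩
    exact (Group.IsSolvable.commutator_lt_top_of_nontrivial SL(2, GaloisField p m)).ne h6

end CL.Pyr
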