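import Mathlib
import Cfsg.Agent.BLK.RPOk
import Cfsg.Agent.BLK.RPMod
import Cfsg.Agent.CHEV.ReeConcrete
import Cfsg.Agent.CHEV.ReeBasic
import Cfsg.Agent.FGS.NSol1
import Cfsg.Agent.S1073
import Cfsg.Agent.S1157
import Cfsg.Agent.S1158
import Cfsg.Agent.S1159
import Cfsg.Agent.S2127

/-!
# The properties of a small Ree group used for recognition of products
-/

set_option autoImplicit false
set_option linter.unusedSectionVars false

namespace CL.RP

open Subgroup Cfsg Lie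

/-- properties of `²G₂(3^(2m+1))` -/
structure Ree (R : Type*) [Group R] (m : ℕ) : Prop where
  simple : IsSimpleGroup R
  spec : ∀ d, (∃ g : R, orderOf g = d) ↔ sp m d
  frob0 : ∃ (F : Subgroup R) (y : R), Frob F y ∧ IsPGroup 3 F ∧ orderOf y = bp m 0
  frob7 : ∃ (F : Subgroup R) (y : R), Frob F y ∧ ¬ 3 ∣ Nat.card F ∧ orderOf y = 7
  frob6 : ∃ (F : Subgroup R) (y : R), Frob F y ∧ ¬ 3 ∣ Nat.card F ∧ orderOf y = 6
  inner : ∀ α : MulAut R, (orderOf α).Coprime (2 * m + 1) → ∃ a, MulAut.conj a = α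

variable {R : Type*} [Group R] [Finite R] {m : ℕ}

theorem frob_of (hs : ∀ g : R, sp m (orderOf g)) {F : Subgroup R} {y : R} (h1 : F ≠ ⊥)
    (h2 : y ∈ normalizer (F : Set R)) (h : ∀ a b : ℕ, a.Prime → b.Prime → a ∣ Nat.card F →
      b ∣ orderOf y → a ≠ b ∧ ¬ sp m (a * b)) : Frob F y := by
  refine ⟨h1, h2, fun n hn x hx e => by_contra fun hx1 => ?_⟩
  obtain ⟨a, ha, h3⟩ := Nat.exists_prime_and_dvd (mt orderOf_eq_one_iff.1 hx1)
  obtain ⟨b, hb, h4⟩ := Nat.exists_prime_and_dvd (mt orderOf_eq_one_iff.1 hn)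
  obtain ⟨h5, h6⟩ := h a b ha hb (h3.trans (F.orderOf_dvd_natCard hx)) (h4.trans (orderOf_pow_dvd n))
  obtain ⟨g, hg⟩ := Spec.exists_orderOf_mul e ((Nat.coprime_primes ha hb).2 h5) h3 h4
  exact h6 (hg ▸ hs g)

theorem not_sp_three {a : ℕ} (h2 : a ≠ 2) (h3 : a ≠ 3) (ha : a.Prime) : ¬ sp m (a * 3) := fun h => by
  rcases h.three (dvd_mul_left _ _) with k | k
  · exact h2 ((Nat.prime_dvd_prime_iff_eq ha Nat.prime_two).1
      (Nat.dvd_of_mul_dvd_mul_right (by decide : 0 < 3) k))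
  · exact h3 ((Nat.prime_dvd_prime_iff_eq ha Nat.prime_three).1
      (Nat.dvd_of_mul_dvd_mul_right (by decide : 0 < 3) k))

theorem spec_ree {K : Type*} [Field K] [Fintype K] (hm : 1 ≤ m) (hK : Fintype.card K = 3 ^ (2 * m + 1))
    (d : ℕ) : (∃ g : twistedG2 K (3 ^ m), orderOf g = d) ↔ sp m d := by
  rw [Agent.S1159.result hm hK, sp, Fin.exists_fin_succ, Fin.exists_fin_succ, Fin.exists_fin_two]
  rfl

theorem finite_ree {K : Type*} [Field K] [Fintype K] (hK : Fintype.card K = 3 ^ (2 * m + 1)) :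
    Finite (twistedG2 K (3 ^ m)) := by
  have := CL.Ree.charP_three hK
  exact (CL.Ree.model (Nat.card_eq_fintype_card.trans hK)).finite_G

theorem P.ree (h : P m) {K : Type*} [Field K] [Fintype K] (hK : Fintype.card K = 3 ^ (2 * m + 1)) :
    Ree (twistedG2 K (3 ^ m)) m := by
  have hm : 1 ≤ m := le_trans (by norm_num) h.2
  have := finite_ree hK
  have hs : ∀ g : twistedG2 K (3 ^ m), sp m (orderOf g) := fun g => (spec_ree hm hK _).1 ⟨g, rfl⟩
  refine ⟨(Agent.S1073.result hm hK).1, spec_ree hm hK, ?_, ?_, ?_, fun α hα => ?_⟩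
  · have := CL.Ree.charP_three hK
    have hK' := Nat.card_eq_fintype_card.trans hK
    set M := CL.Ree.model hK'
    obtain ⟨g, hg⟩ := M.isCyclic_H.exists_ofOrder_eq_natCard
    rw [M.card_H, hK', ← orderOf_coe] at hg
    obtain ⟨n, hn⟩ := NSol.exists_pow_orderOf (x := (g : twistedG2 K (3 ^ m))) (p := bp m 0)
      (by rw [hg]; exact bp_dvd m 0)
    refine ⟨M.U, _, frob_of hs (fun e => ?_) (pow_mem ?_ n) fun a b ha hb h1 h2 => ?_, M.isPGroup_U, hn⟩
    · have h1 := M.card_U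
      rw [e, card_bot, hK', eq_comm, ← pow_mul] at h1
      simp at h1
    · obtain ⟨l, hl⟩ := M.mem_H.1 g.2
      refine mem_normalizer_fintype ?_
      rintro _ ⟨a, y, z, rfl⟩
      rw [hl, M.h_conj_u]
      exact M.u_mem_U _ _ _
    · rw [M.card_U, hK', ← pow_mul] at h1
      obtain rfl := (Nat.prime_dvd_prime_iff_eq ha Nat.prime_three).1 (ha.dvd_of_dvd_pow h1)
      have h3 := h.big hb (hn ▸ h2)
      exact ⟨h3.2.2.1.symm, mul_comm b 3 ▸ not_sp_three h3.2.1 h3.2.2.1 hb⟩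
  · obtain ⟨S⟩ : Nonempty (Sylow 2 (twistedG2 K (3 ^ m))) := inferInstance
    have := Fact.mk (by norm_num : Nat.Prime 7)
    obtain ⟨y, hy⟩ := exists_prime_orderOf_dvd_card' 7
      ((Agent.S1157.result hm hK S).2 ▸ (by decide : 7 ∣ 168))
    rw [← orderOf_coe] at hy
    obtain ⟨k, hk⟩ := S.isPGroup'.exists_card_eq
    obtain ⟨t, ht⟩ := (spec_ree hm hK 2).2 (.inl (by decide))
    refine ⟨S, y, frob_of hs (S.ne_bot_of_dvd_card (ht ▸ orderOf_dvd_natCard t)) y.2
      fun a b ha hb h1 h2 => ?_, fun e => ?_, hy⟩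
    · obtain rfl := (Nat.prime_dvd_prime_iff_eq ha Nat.prime_two).1 (ha.dvd_of_dvd_pow (hk ▸ h1))
      obtain rfl := (Nat.prime_dvd_prime_iff_eq hb (by norm_num)).1 (hy ▸ h2)
      exact ⟨by decide, h.not_sp_14⟩
    · exact absurd (Nat.prime_three.dvd_of_dvd_pow (hk ▸ e)) (by decide)
  · obtain ⟨A, hA, h1, h2, -⟩ := Agent.S1158.result hm hK _ (.inr (.inr (.inl rfl)))
    replace h1 : Nat.card A = cl m 2 := h1
    have h0 : A ≠ ⊥ := fun e => by
      have := Nat.le_of_dvd (cl_pos m 2) (bp_dvd m 2)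
      have := h.bp_ge 2
      rw [e, card_bot] at h1
      omega
    have key : ∀ y ∈ normalizer (A : Set (twistedG2 K (3 ^ m))), orderOf y ∣ 6 → Frob A y :=
      fun y hy h6 => frob_of hs h0 hy fun a b ha hb h3 h4 => by
        rw [h1] at h3
        have a2 : a ≠ 2 := by rintro rfl; exact not_two (.inl rfl) h3
        have a3 : a ≠ 3 := by rintro rfl; exact not_three _ _ h3
        rcases (Nat.Prime.dvd_mul hb (m := 2) (n := 3)).1 (h4.trans h6) with k | k
        · obtain rfl := (Nat.prime_dvd_prime_iff_eq hb Nat.prime_two).1 k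
          refine ⟨a2, fun k => ?_⟩
          obtain ⟨j, hj⟩ := k.cl ha a2 a3 (dvd_mul_right _ _)
          obtain rfl := eq_of_dvd ha a2 h3 ((dvd_mul_right _ _).trans hj)
          exact not_two (.inl rfl) ((dvd_mul_left _ _).trans hj)
        · obtain rfl := (Nat.prime_dvd_prime_iff_eq hb Nat.prime_three).1 k
          exact ⟨a3, not_sp_three a2 a3 ha⟩
    have key2 : ∀ p : ℕ, p.Prime → p ∣ 6 → ∃ y, orderOf (A.normalizerMonoidHom y) = p := fun p hp hd => by
      have := Fact.mk hp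
      obtain ⟨y, hy⟩ := exists_prime_orderOf_dvd_card' p (hd.trans (Dvd.intro _ h2.symm))
      refine ⟨y, orderOf_eq_prime (by rw [← map_pow, ← hy, pow_orderOf_eq_one, map_one]) fun e => ?_⟩
      obtain ⟨x, hx⟩ := ne_bot_iff_exists_ne_one.1 h0
      refine hx (Subtype.ext ((key y y.2 (by rwa [orderOf_coe, hy])).2.2 1 (fun k => hp.ne_one ?_) x x.2 ?_))
      · rw [← hy, ← orderOf_coe, orderOf_eq_one_iff, ← k, pow_one]
      · have : (y : twistedG2 K (3 ^ m)) * x * (y : twistedG2 K (3 ^ m))⁻¹ = x :=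
          congrArg (fun α : MulAut A => (α x : twistedG2 K (3 ^ m))) e
        rw [pow_one]
        exact (mul_inv_eq_iff_eq_mul.1 this).symm
    obtain ⟨t, ht⟩ := key2 2 Nat.prime_two (by decide)
    obtain ⟨z, hz⟩ := key2 3 Nat.prime_three (by decide)
    have h3 : Commute (A.normalizerMonoidHom t) (A.normalizerMonoidHom z) :=
      (IsCyclic.mulAutMulEquiv A).injective (by rw [map_mul, map_mul, mul_comm])
    have h4 : 6 ∣ orderOf ((t * z : normalizer (A : Set (twistedG2 K (3 ^ m)))) : twistedG2 K (3 ^ m)) := by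
      have := orderOf_map_dvd A.normalizerMonoidHom (t * z)
      rwa [map_mul, h3.orderOf_mul_eq_mul_orderOf_of_coprime (by rw [ht, hz]; decide), ht, hz,
        ← orderOf_coe] at this
    have h5 := ((hs _).three ((by decide : 3 ∣ 6).trans h4)).resolve_right
      fun k => absurd (h4.trans k) (by decide)
    exact ⟨A, _, key _ (t * z).2 h5, h1 ▸ not_three m 2, Nat.dvd_antisymm h5 h4⟩
  · have h1 := orderOf_dvd_natCard (QuotientGroup.mk α : Out (twistedG2 K (3 ^ m)))
    rw [Agent.S2127.result hm hK] at h1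
    exact (QuotientGroup.eq_one_iff α).1 (orderOf_eq_one_iff.1 (Nat.eq_one_of_dvd_coprimes hα
      (orderOf_map_dvd (QuotientGroup.mk' _) α) h1))

end CL.RP
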