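import Mathlib
import Cfsg.Agent.BLK.RPRee
import Cfsg.Agent.SOLV.MinNormal

/-!
# Extensions of a product of small Ree groups have new element orders
-/

set_option autoImplicit false
set_option linter.unusedSectionVars false

namespace CL.RP

open Subgroup Cfsg Abelem

universe u

variable {ι : Type*} [Fintype ι] [DecidableEq ι] {m : ι → ℕ} {R : ι → Type*} [∀ i, Group (R i)]
  [∀ i, Finite (R i)]

theorem false_of_elem (H : Hyp m) (hR : ∀ i, Ree (R i) (m i)) {X : Type*} [Group X] [Finite X]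
    (h : Good m X) (π : X →* ∀ i, R i) (hπ : Function.Surjective π) {r : ℕ} (hr : r.Prime)
    (hE : IsElementaryAbelian r π.ker) (h1 : π.ker ≠ ⊥)
    (hmin : ∀ N : Subgroup X, N.Normal → N ≤ π.ker → N = ⊥ ∨ N = π.ker) : False := by
  have := Fact.mk hr
  obtain ⟨φ, hφ⟩ := exists_rep π hE hπ
  have hI := irr_of_min π hE hπ hφ hmin
  have : Nontrivial (V hE) := nontrivial_V_iff.2 h1
  have hlift : ∀ g, nm φ g ≠ 0 → ok m (orderOf g * r) := fun g hg => by
    obtain ⟨x, hx⟩ := exists_lift π hE hr hπ hφ hg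
    exact hx ▸ h x
  have hsi : ∀ i, Function.Injective (MonoidHom.mulSingle R i) := fun i => Pi.mulSingle_injective i
  have hos : ∀ i (x : R i), orderOf (Pi.mulSingle i x : ∀ i, R i) = orderOf x := fun i x =>
    orderOf_injective _ (hsi i) x
  have hun : ∀ n : ℕ, ¬ r ∣ n → IsUnit (n : ZMod r) := fun n hn =>
    Ne.isUnit (mt (ZMod.natCast_eq_zero_iff n r).1 hn)
  let Tr : ι → Prop := fun i => ∀ x : R i, φ (Pi.mulSingle i x) = 1
  have hfa : ∀ i, ¬ Tr i → ∀ x : R i, φ (Pi.mulSingle i x) = 1 → x = 1 := fun i hi x hx => by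
    have := (hR i).simple
    rcases (inferInstance : (φ.comp (MonoidHom.mulSingle R i)).ker.Normal).eq_bot_or_eq_top with e | e
    · exact mem_bot.1 (e.le hx)
    · exact absurd (fun y => e.ge (mem_top y)) hi
  have hfr : ∀ i, ¬ Tr i → ∀ (F : Subgroup (R i)) y, Frob F y → ¬ r ∣ Nat.card F →
      nm φ (Pi.mulSingle i y) ≠ 0 := fun i hi F y hF hd h0 => hF.1 (eq_bot_iff.2 fun x hx =>
    hfa i hi x (hF.eq_one (φ.comp (MonoidHom.mulSingle R i)) (hun _ hd)
      ((nm_comp φ _ (hsi i) y).trans h0) x hx))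
  have htr : ∀ i, Tr i → ∀ y : R i, ¬ r ∣ orderOf y → nm φ (Pi.mulSingle i y) ≠ 0 := fun i hi y hy => by
    rw [nm_of_eq_one φ (hi y), hos, Ne, (hun _ hy).smul_eq_zero]
    exact one_ne_zero
  have hmain : ∀ g : ∀ i, R i, (∀ i l, i ≠ l → (orderOf (g i)).Coprime (orderOf (g l))) →
      (∀ i, nm φ (Pi.mulSingle i (g i)) ≠ 0) → ok m ((∏ i, orderOf (g i)) * r) := fun g h1 h2 =>
    (hI.nm_pi g h1 h2).2 ▸ hlift g (hI.nm_pi g h1 h2).1
  have hbp : ∀ i j, ∃ y : R i, orderOf y = bp (m i) j := fun i j =>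
    ((hR i).spec _).2 (.inr (.inr ⟨j, bp_dvd _ _⟩))
  by_cases hc : ∀ i, ¬ Tr i → r ≠ 3
  · have key : ∀ i, ∃ (j : Fin 4) (y : R i), orderOf y = bp (m i) j ∧ nm φ (Pi.mulSingle i y) ≠ 0 ∧
        (¬ r ∣ cl (m i) j ∨ r ≠ 2 ∧ j = 0) := fun i => by
      by_cases hi : Tr i
      · obtain ⟨j, -, hj⟩ := exists_f (m i) hr
        obtain ⟨y, hy⟩ := hbp i j
        exact ⟨j, y, hy, htr i hi y fun k => hj ((hy ▸ k).trans (bp_dvd _ _)), .inl hj⟩
      · obtain ⟨F, y, h1, h2, h3⟩ := (hR i).frob0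
        obtain ⟨k, hk⟩ := h2.exists_card_eq
        refine ⟨0, y, h3, hfr i hi F y h1 fun e => hc i hi ((Nat.prime_dvd_prime_iff_eq hr
          Nat.prime_three).1 (hr.dvd_of_dvd_pow (hk ▸ e))), .inr ⟨?_, rfl⟩⟩
        rintro rfl
        obtain ⟨t, ht⟩ := ((hR i).spec 2).2 (.inl (by decide))
        have h4 : nm φ (Pi.mulSingle i t) = 0 := by_contra fun e => by
          have := hlift _ e
          rw [hos, ht] at this
          exact not_ok_four this
        rw [nm, hos, ht, Finset.sum_range_succ, Finset.sum_range_one, pow_zero, pow_one] at h4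
        have h5 : (1 : Module.End (ZMod 2) (V hE)) + 1 = 0 := by
          rw [← two_smul (ZMod 2), show (2 : ZMod 2) = 0 from rfl, zero_smul]
        rw [hfa i hi t (add_left_cancel (h4.trans h5.symm)), orderOf_one] at ht
        exact absurd ht (by decide)
    choose c g h2 h3 h4 using key
    have h5 := hmain g (fun i l e => by rw [h2, h2]; exact H.cop e _ _) h3
    have h6 : ∀ i, bp (m i) (c i) ∣ ∏ i, orderOf (g i) := fun i =>
      h2 i ▸ Finset.dvd_prod_of_mem _ (Finset.mem_univ i)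
    have h7 : ∏ i, orderOf (g i) ≠ 0 := Finset.prod_ne_zero_iff.2 fun i _ => (orderOf_pos _).ne'
    obtain ⟨i, hi⟩ := h5.all H (fun i => H.fills ((h6 i).mul_right _)) hr
      (e := (∏ i, orderOf (g i)).factorization r)
      (by rw [pow_succ]; exact Nat.mul_dvd_mul_right (Nat.ordProj_dvd _ _) _)
    rcases h4 i with k | ⟨k, e⟩
    · exact k ((dvd_pow_self r (by omega)).trans hi)
    · refine Nat.pow_succ_factorization_not_dvd h7 hr (Dvd.dvd.trans ?_ (h6 i))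
      rw [e, ← (H.p i).bp_zero] at hi
      exact e ▸ (((Nat.coprime_primes hr Nat.prime_two).2 k).pow_left _).dvd_of_dvd_mul_left hi
  push Not at hc
  obtain ⟨a, ha, rfl⟩ := hc
  by_cases h3 : ∃ b c, a ≠ b ∧ a ≠ c ∧ b ≠ c ∧ ¬ Tr b ∧ ¬ Tr c
  · obtain ⟨b, c, hab, hac, hbc, hb, hc⟩ := h3
    choose g hg using fun i => ((hR i).spec 9).2 (.inr (.inl dvd_rfl))
    obtain ⟨y, h4, h5⟩ := hI.exists_nine hab hac hbc g hg fun i hi e =>
      pow_ne_one_of_lt_orderOf (by decide) (by rw [hg]; decide)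
        (hfa i (by rcases hi with rfl | rfl | rfl <;> assumption) _ e)
    have := hlift y h5
    rw [h4] at this
    exact not_ok_27 this
  obtain ⟨b, hb, h4⟩ : ∃ b, ¬ Tr b ∧ ∀ l, l ≠ a → l ≠ b → Tr l := by
    by_cases k : ∃ b, b ≠ a ∧ ¬ Tr b
    · obtain ⟨b, h5, h6⟩ := k
      exact ⟨b, h6, fun l h7 h8 => by_contra fun e => h3 ⟨b, l, h5.symm, h7.symm, h8.symm, h6, e⟩⟩
    · exact ⟨a, ha, fun l h7 _ => by_contra fun e => k ⟨l, h7, e⟩⟩
  have key : ∀ i, ∃ y : R i, nm φ (Pi.mulSingle i y) ≠ 0 ∧ (i = a → orderOf y = 6) ∧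
      (i ≠ a → i = b → orderOf y = 7) ∧ (i ≠ a → i ≠ b →
        ∃ j, (j = 2 ∨ j = 3) ∧ ¬ 7 ∣ cl (m i) j ∧ orderOf y = bp (m i) j) := fun i => by
    by_cases e1 : i = a
    · obtain ⟨F, y, h1, h2, h3⟩ := (hR i).frob6
      exact ⟨y, hfr i (e1 ▸ ha) F y h1 h2, fun _ => h3, fun k => absurd e1 k, fun k => absurd e1 k⟩
    by_cases e2 : i = b
    · obtain ⟨F, y, h1, h2, h3⟩ := (hR i).frob7
      exact ⟨y, hfr i (e2 ▸ hb) F y h1 h2, fun k => absurd k e1, fun _ _ => h3, fun _ k => absurd e2 k⟩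
    obtain ⟨j, h5, hj⟩ := exists_f (m i) (by norm_num : Nat.Prime 7)
    obtain ⟨y, hy⟩ := hbp i j
    exact ⟨y, htr i (h4 i e1 e2) y fun k => not_three _ _ ((hy ▸ k).trans (bp_dvd _ _)),
      fun k => absurd k e1, fun _ k => absurd k e2, fun _ _ => ⟨j, h5, hj, hy⟩⟩
  choose g h5 h6 h7 h8 using key
  have h9 : ∀ i, orderOf (g i) ∣ ∏ i, orderOf (g i) := fun i => Finset.dvd_prod_of_mem _ (Finset.mem_univ i)
  have k1 : ∀ i l, i ≠ a → i ≠ b → orderOf (g l) ∣ 126 → (orderOf (g i)).Coprime (orderOf (g l)) :=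
    fun i l e1 e2 e3 => by
      obtain ⟨j, -, -, e⟩ := h8 i e1 e2
      exact e ▸ ((H.p i).cop_bp j).coprime_dvd_right e3
  have k2 := hmain g (fun i l e => by
    by_cases a1 : i = a
    · by_cases b2 : l = b
      · rw [h6 i a1, h7 l (a1 ▸ e.symm) b2]; decide
      · exact (k1 l i (a1 ▸ e.symm) b2 (by rw [h6 i a1]; decide)).symm
    by_cases b1 : i = b
    · by_cases a2 : l = a
      · rw [h6 l a2, h7 i a1 b1]; decide
      · exact (k1 l i a2 (b1 ▸ e.symm) (by rw [h7 i a1 b1]; decide)).symm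
    by_cases a2 : l = a
    · exact k1 i l a1 b1 (by rw [h6 l a2]; decide)
    by_cases b2 : l = b
    · exact k1 i l a1 b1 (by rw [h7 l a2 b2]; decide)
    obtain ⟨j, -, -, e1⟩ := h8 i a1 b1
    obtain ⟨j', -, -, e2⟩ := h8 l a2 b2
    rw [e1, e2]; exact H.cop e _ _) h5
  have k3 : ∀ l, l ≠ a → l ≠ b → ∃ j, (j = 2 ∨ j = 3) ∧ ¬ 7 ∣ cl (m l) j ∧
      Fills m ((∏ i, orderOf (g i)) * 3) l j := fun l e1 e2 =>
    (h8 l e1 e2).imp fun j k => ⟨k.1, k.2.1, H.fills ((k.2.2 ▸ h9 l).mul_right _)⟩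
  have k4 : 6 ∣ ∏ i, orderOf (g i) := h6 a rfl ▸ h9 a
  by_cases e : b = a
  · exact k2.not_18 H (fun l hl => (k3 l hl (e ▸ hl)).imp fun j k => ⟨k.1, k.2.2⟩)
      (Nat.mul_dvd_mul_right k4 3)
  · exact k2.not_126 H k3 (Nat.mul_dvd_mul_right
      (Nat.Coprime.mul_dvd_of_dvd_of_dvd (by decide : Nat.Coprime 6 7) k4 (h7 b e rfl ▸ h9 b)) 3)

theorem ker_eq_bot (H : Hyp m) (hR : ∀ i, Ree (R i) (m i)) (X : Type u) [Group X] [Finite X] :
    Good m X → ∀ π : X →* ∀ i, R i, Function.Surjective π → Group.IsSolvable π.ker → π.ker = ⊥ := by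
  refine card_induction (P := fun X _ _ => Good m X → ∀ π : X →* ∀ i, R i,
    Function.Surjective π → Group.IsSolvable π.ker → π.ker = ⊥) (fun X _ _ ih h π hπ hK => ?_) X
  by_contra h1
  obtain ⟨N, hN, hNK⟩ := exists_isMinNormal_le π.ker h1
  have := hN.normal
  obtain ⟨p, hp, hV⟩ := hN.exists_isElementaryAbelian_of_isSolvable
    (Group.isSolvable_of_isSolvable_injective (inclusion_injective hNK))
  have h2 := ih (X ⧸ N) (card_quotient_lt hN.ne_bot) (h.of_surjective _ (QuotientGroup.mk'_surjective N))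
    (QuotientGroup.lift N π hNK) (QuotientGroup.lift_surjective_of_surjective _ _ hπ _)
    (by rw [QuotientGroup.ker_lift]; exact isSolvable_map _ _)
  rw [QuotientGroup.ker_lift, map_mk'_eq_bot_iff] at h2
  obtain rfl := le_antisymm hNK h2
  exact false_of_elem H hR h π hπ hp hV h1 hN.eq_bot_or_eq

end CL.RP
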