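import Cfsg.Agent.BLK.Knorr
import Cfsg.Agent.BLK.GCanon
import Mathlib.NumberTheory.GaussSum

/-! Knörr functions for orthogonal modules, through Gauss sums. -/

set_option autoImplicit false
open Cfsg
open scoped ComplexConjugate

namespace CL.RVec
open CL.Char CL.Blk CL.VCh

variable {p : ℕ} [hp : Fact p.Prime] {H U : Type*} [Group H] [AddCommGroup U] [Module (ZMod p) U]

/-- fixed vectors of an element -/
def Fx (ρ : Representation (ZMod p) H U) (h : H) : Submodule (ZMod p) U :=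
  LinearMap.eqLocus (ρ h) LinearMap.id

theorem mem_Fx {ρ : Representation (ZMod p) H U} {h : H} {u : U} : u ∈ Fx ρ h ↔ ρ h u = u :=
  Iff.rfl

/-- the properties needed in Knörr's criterion -/
structure GR (M : Ideal AlgInt) (n : ℕ) (ρ : Representation (ZMod p) H U) (ψ : H → ℂ) : Prop where
  mem : ψ ∈ VC H
  fix : ∀ h, ψ h ∈ Fix n
  le : ∀ (σ : ℂ →+* ℂ) h, ‖σ (ψ h)‖ ^ 2 * Nat.card (Fx ρ h) ≤ Nat.card U
  one : ψ 1 = 1
  zero : ∀ h, Fx ρ h ≠ ⊤ → red M (ψ h) = 0

theorem nondeg_Fx [Finite H] (hH : ¬ p ∣ Nat.card H) {ρ : Representation (ZMod p) H U}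
    {B : LinearMap.BilinForm (ZMod p) U} (hB : ∀ g x y, B (ρ g x) (ρ g y) = B x y)
    (hnd : ∀ x, (∀ y, B x y = 0) → x = 0) (h : H) {u : U} (hu : u ∈ Fx ρ h)
    (h0 : ∀ w ∈ Fx ρ h, B u w = 0) : u = 0 := by
  refine hnd u fun w => ?_
  have h1 : ∀ i : ℕ, ρ (h ^ i) u = u := fun i => by
    induction i with
    | zero => simp
    | succ i ih => rw [pow_succ, map_mul, Module.End.mul_apply, mem_Fx.1 hu, ih]
  have h2 := h0 (∑ i ∈ Finset.range (Nat.card H), ρ (h ^ i) w) (by
    rw [mem_Fx, map_sum]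
    have := (Finset.sum_range_succ (fun i => ρ (h ^ i) w) (Nat.card H)).symm.trans
      (Finset.sum_range_succ' _ _)
    rw [pow_card_eq_one', pow_zero, add_left_inj] at this
    rw [this]
    exact Finset.sum_congr rfl fun i _ => by rw [pow_succ', map_mul, Module.End.mul_apply])
  have h3 : ∀ i : ℕ, B u (ρ (h ^ i) w) = B u w := fun i => by
    conv_lhs => rw [← h1 i]
    exact hB _ _ _
  simp only [map_sum, h3, Finset.sum_const, Finset.card_range, nsmul_eq_mul] at h2
  exact (mul_eq_zero.1 h2).resolve_left fun h4 => hH ((ZMod.natCast_eq_zero_iff _ _).1 h4)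

theorem sum_fixed_mem {X : Type*} [MulAction H X] [Fintype X] [DecidableEq X] (c : X → ℂ)
    (hc : ∀ x, IsIntegral ℤ (c x)) (hi : ∀ (h : H) x, c (h • x) = c x) :
    (fun h : H => ∑ x with h • x = x, c x) ∈ VC H := by
  classical
  let Y : ℂ → SubMulAction H X := fun a => ⟨{x | c x = a}, fun h x hx => (hi h x).trans hx⟩
  have : (fun h : H => ∑ x with h • x = x, c x) = ∑ a ∈ Finset.univ.image c,
      a • fun h : H => (Nat.card (MulAction.fixedBy (Y a) h) : ℂ) := by
    funext h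
    rw [← Finset.sum_fiberwise_of_maps_to (g := c) (t := Finset.univ.image c) (by simp),
      Finset.sum_apply]
    refine Finset.sum_congr rfl fun a _ => ?_
    rw [Finset.sum_congr rfl (g := fun _ => a) fun x hx => (Finset.mem_filter.1 hx).2,
      Finset.sum_const, nsmul_eq_mul, mul_comm, Pi.smul_apply, smul_eq_mul,
      ← Nat.card_eq_finsetCard]
    congr 2
    exact Nat.card_congr ⟨fun x => ⟨⟨x.1, (Finset.mem_filter.1 x.2).2⟩,
      Subtype.ext (Finset.mem_filter.1 (Finset.mem_filter.1 x.2).1).2⟩,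
      fun x => ⟨x.1.1, Finset.mem_filter.2 ⟨Finset.mem_filter.2 ⟨Finset.mem_univ _,
        congrArg Subtype.val x.2⟩, x.1.2⟩⟩, fun _ => rfl, fun _ => rfl⟩
  rw [this]
  refine Subalgebra.sum_mem _ fun a ha => smul_mem (mem_of_char (isCharacter_perm H _)) ?_
  obtain ⟨x, -, rfl⟩ := Finset.mem_image.1 ha
  exact hc x

theorem gauss_norm [Fintype U] (h2 : p ≠ 2) {S : LinearMap.BilinForm (ZMod p) U}
    (hS : ∀ x y, S x y = S y x) (hnd : ∀ x, (∀ y, S x y = 0) → x = 0) {e : AddChar (ZMod p) ℂ}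
    (he : e.IsPrimitive) :
    (∑ u, e (S u u)) * conj (∑ u, e (S u u)) = Nat.card U := by
  classical
  have h1 : ∀ w, (∑ u, e (S u u)) * conj (e (S w w)) = ∑ d, e (S d d) * e (2 * S d w) := fun w => by
    rw [← Equiv.sum_comp (Equiv.addRight w), Finset.sum_mul]
    refine Finset.sum_congr rfl fun d _ => ?_
    rw [← AddChar.map_neg_eq_conj, ← AddChar.map_add_eq_mul, ← AddChar.map_add_eq_mul]
    congr 1
    simp only [Equiv.coe_addRight, map_add, LinearMap.add_apply, hS w d]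
    ring
  rw [map_sum, Finset.mul_sum]
  simp only [h1]
  rw [Finset.sum_comm, Finset.sum_eq_single 0]
  · simp
  · intro d _ hd
    rw [← Finset.mul_sum]
    refine mul_eq_zero_of_right _ ?_
    obtain ⟨y, hy⟩ : ∃ y, S d y ≠ 0 := by
      by_contra! h
      exact hd (hnd d h)
    have h20 : (2 : ZMod p) ≠ 0 := fun h => h2 ((Nat.prime_dvd_prime_iff_eq hp.out Nat.prime_two).1
      ((ZMod.natCast_eq_zero_iff 2 p).1 h))
    let χ : AddChar U ℂ := e.compAddMonoidHom ((2 : ZMod p) • S d).toAddMonoidHom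
    refine AddChar.sum_eq_zero_iff_ne_zero (ψ := χ).2 fun h => ?_
    refine he (mul_ne_zero h20 hy) (AddChar.ext _ _ fun a => ?_)
    have := DFunLike.congr_fun h (a • y)
    simp only [χ, AddChar.compAddMonoidHom_apply, LinearMap.toAddMonoidHom_coe, map_smul,
      LinearMap.smul_apply, smul_eq_mul, AddChar.zero_apply] at this
    rw [AddChar.mulShift_apply, AddChar.one_apply, ← this, mul_comm]
  · simp

theorem card_eq_pow [Finite U] : ∃ k, Nat.card U = p ^ k :=
  ⟨_, by rw [Module.natCard_eq_pow_finrank (K := ZMod p), Nat.card_zmod]⟩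

theorem exists_GR_orth [Finite H] [Finite U] {M : Ideal AlgInt} (hM : IsPModular p M) {n : ℕ}
    (hn : p ∣ n) (h2 : p ≠ 2) (hH : ¬ p ∣ Nat.card H) (ρ : Representation (ZMod p) H U)
    {S : LinearMap.BilinForm (ZMod p) U} (hS : ∀ x y, S x y = S y x)
    (hi : ∀ g x y, S (ρ g x) (ρ g y) = S x y) (hnd : ∀ x, (∀ y, S x y = 0) → x = 0) :
    ∃ ψ, GR M n ρ ψ := by
  classical
  have := Fintype.ofFinite U
  let e := ZMod.stdAddChar (N := p)
  have he : e.IsPrimitive := ZMod.isPrimitive_stdAddChar p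
  have hep : ∀ a, e a ^ p = 1 := fun a => by
    rw [← AddChar.map_nsmul_eq_pow, nsmul_eq_mul, CharP.cast_eq_zero, zero_mul,
      AddChar.map_zero_eq_one]
  have hei : ∀ a, IsIntegral ℤ (e a) := fun a =>
    IsIntegral.of_pow hp.out.pos (hep a ▸ isIntegral_one)
  have hrefl : S.IsRefl := fun x y h => (hS y x).trans h
  have hF : ∀ h, ∀ x : Fx ρ h, (∀ y : Fx ρ h, S.restrict (Fx ρ h) x y = 0) → x = 0 :=
    fun h x hx => Subtype.ext (nondeg_Fx hH hi hnd h x.2 fun w hw => hx ⟨w, hw⟩)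
  have hc : ∀ h, IsCompl (Fx ρ h) (S.orthogonal (Fx ρ h)) := fun h =>
    LinearMap.BilinForm.isCompl_orthogonal_of_restrict_nondegenerate hrefl
      ⟨hF h, fun x hx => hF h x fun y => (hS _ _).trans (hx y)⟩
  let f : H → ℂ := fun h => ∑ u : Fx ρ h, e (S u u)
  let g : H → ℂ := fun h => ∑ u : S.orthogonal (Fx ρ h), e (S u u)
  have hfg : ∀ h, f h * g h = ∑ u, e (S u u) := fun h => by
    rw [Finset.sum_mul_sum, ← Fintype.sum_prod_type',
      ← Equiv.sum_comp (Submodule.prodEquivOfIsCompl _ _ (hc h)).toEquiv]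
    refine Finset.sum_congr rfl fun x _ => ?_
    have h0 : S x.1 x.2 = 0 := x.2.2 _ x.1.2
    rw [← AddChar.map_add_eq_mul]
    congr 1
    simp [h0, hS x.2 x.1]
  have hσ : ∀ (σ : ℂ →+* ℂ) h, ‖σ (f h)‖ ^ 2 = Nat.card (Fx ρ h) ∧
      ‖σ (∑ u, e (S u u))‖ ^ 2 = Nat.card U := fun σ h => by
    have he' := he.compMulHom_of_isPrimitive (f := σ.toMonoidHom) σ.injective
    have a1 := gauss_norm h2 (S := S.restrict (Fx ρ h)) (fun x y => hS x y) (hF h) he'
    have a2 := gauss_norm h2 hS hnd he'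
    rw [Complex.mul_conj'] at a1 a2
    simp only [f, map_sum]
    exact ⟨by exact_mod_cast a1, by exact_mod_cast a2⟩
  have hfm : f ∈ VC H := by
    let _ : MulAction H U := MulAction.compHom U (ρ : H →* Module.End (ZMod p) U)
    have := sum_fixed_mem (H := H) (fun u : U => e (S u u)) (fun _ => hei _) fun h x => by
      change e (S (ρ h x) (ρ h x)) = _
      rw [hi]
    convert this using 2 with h
    exact (Finset.sum_subtype (p := (· ∈ Fx ρ h)) _ (fun x => by rw [Finset.mem_filter_univ]; rfl)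
      fun u => e (S u u)).symm
  have hgi : ∀ h, IsIntegral ℤ (g h) := fun h => IsIntegral.sum _ fun _ _ => hei _
  obtain ⟨k, hk⟩ := card_eq_pow (p := p) (U := U)
  refine ⟨g, mem_of_mul_eq hfm (const_mem (IsIntegral.sum _ fun _ _ => hei _)) hgi hfg
    (q := Nat.card U) (hk ▸ (hp.out.coprime_iff_not_dvd.2 hH).pow_left _) fun h => ?_,
    fun h => sum_mem fun u _ => root_mem_fix ?_, fun σ h => ?_, ?_, fun h hh => ?_⟩
  · obtain ⟨d, hd⟩ := (Fx ρ h).toAddSubgroup.card_addSubgroup_dvd_card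
    refine ⟨d * conj (f h), (isIntegral_natCast' d).mul (Char.isIntegral_conj
      (isIntegral_apply hfm h)), ?_⟩
    have := gauss_norm h2 (S := S.restrict (Fx ρ h)) (fun x y => hS x y) (hF h) he
    rw [hd, Nat.cast_mul, mul_assoc, mul_comm, mul_comm (conj _)]
    exact congrArg (· * (d : ℂ)) this
  · obtain ⟨c, rfl⟩ := hn
    rw [pow_mul, hep, one_pow]
  · rw [← (hσ σ h).1, ← (hσ σ h).2, ← hfg h, map_mul, norm_mul, mul_pow, mul_comm]
  · have : S.orthogonal (Fx ρ 1) = ⊥ := by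
      have h3 : Fx ρ 1 = ⊤ := top_le_iff.1 fun x _ => by simp [mem_Fx]
      exact eq_bot_of_top_isCompl (by simpa only [h3] using hc 1)
    have : Subsingleton (S.orthogonal (Fx ρ 1)) := by rw [this]; infer_instance
    simp [g, Fintype.sum_subsingleton _ (0 : S.orthogonal (Fx ρ 1))]
  · rw [red_sum _ fun u _ => mem_V_of_isIntegral (hei _), Finset.sum_congr rfl fun u _ =>
      red_eq_one_of_pow_p_pow hM (k := 1) (by rw [pow_one, hep]), Finset.sum_const, nsmul_eq_mul,
      mul_one, ← red_natCast, red_natCast_eq_zero_iff hM, Finset.card_univ,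
      ← Nat.card_eq_fintype_card]
    obtain ⟨j, hj⟩ := card_eq_pow (p := p) (U := S.orthogonal (Fx ρ h))
    rw [hj]
    refine dvd_pow_self p fun h0 => hh ?_
    rw [h0, pow_zero, Nat.card_eq_one_iff_unique] at hj
    have h3 := Submodule.subsingleton_iff_eq_bot.1 hj.1
    exact eq_top_of_isCompl_bot (h3 ▸ hc h)

end CL.RVec
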