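import Mathlib
import Cfsg.Agent.KSG.GLnUnipDeg

/-!
# The Frobenius formula for the characters of the symmetric groups
-/

set_option autoImplicit false

open Cfsg Finset MvPolynomial Equiv

namespace CL.Sym

open CL.GLn hiding psum

/-- The alternant `a_lam`. -/
noncomputable def alt {N : ℕ} (lam : Fin N → ℕ) : MvPolynomial (Fin N) ℤ :=
  (Matrix.of fun i j => (X j : MvPolynomial (Fin N) ℤ) ^ lam i).det

/-- The Vandermonde determinant. -/
noncomputable def vdm (N : ℕ) : MvPolynomial (Fin N) ℤ := alt fun i : Fin N => i.val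

/-- The power sum product of a multiset. -/
noncomputable def pm (N : ℕ) (m : Multiset ℕ) : MvPolynomial (Fin N) ℤ :=
  (m.map (psum (Fin N) ℤ)).prod

/-- The character value on the class with cycle lengths `m` of the bead configuration `lam`. -/
noncomputable def chiM {N : ℕ} (lam : Fin N → ℕ) (m : Multiset ℕ) : ℤ :=
  coeff (expo lam) (vdm N * pm N m)

theorem pm_zero (N : ℕ) : pm N 0 = 1 := by simp [pm]

theorem pm_cons (N r : ℕ) (m : Multiset ℕ) : pm N (r ::ₘ m) = psum (Fin N) ℤ r * pm N m := by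
  simp [pm]

theorem pm_add (N : ℕ) (m m' : Multiset ℕ) : pm N (m + m') = pm N m * pm N m' := by
  simp [pm]

theorem coeff_psum_mul {N : ℕ} (lam : Fin N → ℕ) (r : ℕ) (P : MvPolynomial (Fin N) ℤ) :
    coeff (expo lam) (psum (Fin N) ℤ r * P) =
      ∑ i, if r ≤ lam i then coeff (expo (Function.update lam i (lam i - r))) P else 0 := by
  rw [psum, sum_mul, coeff_sum]
  refine sum_congr rfl fun i _ => ?_
  rw [X_pow_eq_monomial, coeff_monomial_mul', one_mul]
  refine if_congr (by simp) ?_ rfl
  congr 1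
  ext j
  by_cases h : j = i
  · subst h; simp
  · simp [h]

/-- The Murnaghan–Nakayama rule. -/
theorem chiM_cons {N : ℕ} (lam : Fin N → ℕ) (r : ℕ) (m : Multiset ℕ) :
    chiM lam (r ::ₘ m) =
      ∑ i, if r ≤ lam i then chiM (Function.update lam i (lam i - r)) m else 0 := by
  rw [chiM, pm_cons, mul_left_comm, coeff_psum_mul]
  rfl

theorem rename_pm {N : ℕ} (κ : Perm (Fin N)) (m : Multiset ℕ) : rename κ (pm N m) = pm N m := by
  induction m using Multiset.induction_on with
  | empty => simp [pm_zero]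
  | cons r m ih => rw [pm_cons, map_mul, ih, rename_psum]

theorem rename_alt {N : ℕ} (κ : Perm (Fin N)) (lam : Fin N → ℕ) :
    rename κ (alt lam) = C (Perm.sign κ : ℤ) * alt lam := by
  rw [alt, AlgHom.map_det, eq_intCast, ← Matrix.det_permute']
  congr 1
  ext i j
  simp

theorem alt_comp {N : ℕ} (κ : Perm (Fin N)) (lam : Fin N → ℕ) :
    alt (lam ∘ κ) = C (Perm.sign κ : ℤ) * alt lam := by
  rw [alt, alt, eq_intCast, ← Matrix.det_permute]
  rfl

theorem coeff_comp {N : ℕ} (κ : Perm (Fin N)) (lam : Fin N → ℕ) (P : MvPolynomial (Fin N) ℤ) :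
    coeff (expo (lam ∘ κ)) P = coeff (expo lam) (rename κ P) := by
  rw [← coeff_rename_mapDomain κ κ.injective]
  congr 1
  ext j
  obtain ⟨i, rfl⟩ := κ.surjective j
  rw [Finsupp.mapDomain_apply κ.injective]
  simp

theorem chiM_comp {N : ℕ} (κ : Perm (Fin N)) (lam : Fin N → ℕ) (m : Multiset ℕ) :
    chiM (lam ∘ κ) m = Perm.sign κ * chiM lam m := by
  rw [chiM, coeff_comp, map_mul, rename_pm, vdm, rename_alt, mul_assoc, coeff_C_mul]
  rfl

theorem chiM_eq_zero {N : ℕ} {lam : Fin N → ℕ} (h : ¬ Function.Injective lam) (m : Multiset ℕ) :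
    chiM lam m = 0 := by
  simp only [Function.Injective, not_forall] at h
  obtain ⟨i, j, h1, h2⟩ := h
  have h3 := chiM_comp (swap i j) lam m
  have h4 : lam ∘ swap i j = lam := by
    funext k
    by_cases hi : k = i
    · simp [hi, h1]
    · by_cases hj : k = j
      · simp [hj, h1]
      · simp [swap_apply_of_ne_of_ne hi hj]
  rw [h4, Perm.sign_swap h2] at h3
  simp only [Units.val_neg, Units.val_one, neg_mul, one_mul] at h3
  omega

section Perm

variable {A : Type*} [Fintype A] [DecidableEq A]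

theorem sum_fix_eq_prod {Q ι R : Type*} [Fintype Q] [DecidableEq Q] [Fintype ι] [CommSemiring R]
    (k : A → Q) (hk : Function.Surjective k) (P : (A → ι) → Prop) [DecidablePred P]
    (hP : ∀ f, P f ↔ ∀ a b, k a = k b → f a = f b) (y : ι → R) :
    ∑ f with P f, ∏ a, y (f a) = ∏ q, ∑ i, y i ^ #{a | k a = q} := by
  rw [prod_univ_sum, Fintype.piFinset_univ]
  symm
  refine sum_bij (fun g _ => g ∘ k) (fun g _ => ?_) (fun g _ g' _ h => hk.injective_comp_right h)
    (fun f hf => ?_) fun g _ => ?_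
  · simp only [mem_filter, mem_univ, true_and, hP, Function.comp]
    exact fun a b h => congrArg g h
  · refine ⟨f ∘ Function.surjInv hk, mem_univ _, funext fun a => ?_⟩
    exact (hP f).1 (mem_filter.1 hf).2 _ _ (Function.surjInv_eq hk _)
  · rw [← prod_fiberwise (s := univ) (g := k)]
    refine prod_congr rfl fun q _ => ?_
    rw [← prod_const]
    refine prod_congr rfl fun a ha => ?_
    simp [(mem_filter.1 ha).2]

/-- The cycle lengths, fixed points included. -/
abbrev parts (σ : Perm A) : Multiset ℕ := σ.partition.parts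

omit [DecidableEq A] in
theorem comp_eq_iff {ι : Type*} (σ : Perm A) (f : A → ι) :
    f ∘ σ = f ↔ ∀ a b, σ.SameCycle a b → f a = f b := by
  constructor
  · intro h a b hab
    obtain ⟨n, rfl⟩ := hab.exists_nat_pow_eq
    induction n with
    | zero => rfl
    | succ n ih =>
      rw [pow_succ', Perm.mul_apply, ih ⟨n, by simp⟩]
      exact (congrFun h _).symm
  · intro h
    funext a
    exact (h a (σ a) ⟨1, by simp⟩).symm

theorem sum_fix_eq_parts {ι R : Type*} [Fintype ι] [DecidableEq ι] [CommSemiring R] (σ : Perm A)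
    (y : ι → R) : ∑ f : A → ι with f ∘ σ = f, ∏ a, y (f a) =
      ((parts σ).map fun r => ∑ i, y i ^ r).prod := by
  let k : A → σ.cycleFactorsFinset ⊕ {a // σ a = a} := fun a =>
    if h : σ a = a then Sum.inr ⟨a, h⟩ else
      Sum.inl ⟨σ.cycleOf a, Perm.cycleOf_mem_cycleFactorsFinset_iff.2 (Perm.mem_support.2 h)⟩
  have hk1 : ∀ a (c : σ.cycleFactorsFinset), k a = Sum.inl c ↔ a ∈ (c : Perm A).support := by
    intro a c
    rw [← Perm.eq_cycleOf_of_mem_cycleFactorsFinset_iff _ _ c.2]
    by_cases h : σ a = a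
    · simp only [k, dif_pos h, reduceCtorEq, false_iff]
      intro h'
      have := c.2
      rw [h', Perm.cycleOf_mem_cycleFactorsFinset_iff] at this
      exact Perm.mem_support.1 this h
    · simp only [k, dif_neg h, Sum.inl.injEq, Subtype.ext_iff]
      exact eq_comm
  have hk2 : ∀ a (c : {a // σ a = a}), k a = Sum.inr c ↔ a = c := by
    intro a c
    by_cases h : σ a = a
    · simp [k, dif_pos h, Subtype.ext_iff]
    · simp only [k, dif_neg h, reduceCtorEq, false_iff]
      rintro rfl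
      exact h c.2
  rw [sum_fix_eq_prod k _ _ (fun f => (comp_eq_iff σ f).trans _), Fintype.prod_sum_type, parts,
    Perm.parts_partition, Multiset.map_add, Multiset.prod_add, Perm.cycleType_def]
  · congr 1
    · rw [Multiset.map_map, ← prod_eq_multiset_prod, ← Finset.prod_coe_sort σ.cycleFactorsFinset]
      refine prod_congr rfl fun c _ => ?_
      simp [hk1, Perm.support]
    · simp only [hk2, filter_eq', mem_univ, if_true, card_singleton, prod_const, card_univ,
        Multiset.map_replicate, Multiset.prod_replicate]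
      congr 1
      rw [Fintype.card_subtype, Perm.support]
      have := card_filter_add_card_filter_not (s := univ) fun a => σ a = a
      rw [card_univ] at this
      simp only [ne_eq]
      omega
  · rintro (c | c)
    · obtain ⟨a, ha⟩ := (Perm.mem_cycleFactorsFinset_iff.1 c.2).1.nonempty_support
      exact ⟨a, (hk1 a c).2 ha⟩
    · exact ⟨c, (hk2 _ c).2 rfl⟩
  · refine fun f => forall_congr' fun a => forall_congr' fun b => imp_congr_left ?_
    by_cases h : σ a = a
    · rw [show k a = Sum.inr ⟨a, h⟩ from (hk2 _ _).2 rfl, eq_comm, hk2]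
      exact ⟨fun h' => (h'.eq_of_left h).symm, fun h' => by rw [h']⟩
    · rw [show k a = Sum.inl ⟨_, Perm.cycleOf_mem_cycleFactorsFinset_iff.2 (Perm.mem_support.2 h)⟩
        from dif_neg h, eq_comm, hk1, Perm.mem_support_cycleOf_iff' h]

/-- The content of a labelling. -/
def cont {κ : Type*} [DecidableEq κ] (f : A → κ) (k : κ) : ℕ := #{a | f a = k}

omit [DecidableEq A] in
theorem sum_cont {κ : Type*} [Fintype κ] [DecidableEq κ] (f : A → κ) :
    ∑ k, cont f k = Fintype.card A := by
  rw [← card_univ, card_eq_sum_card_fiberwise (f := f) (t := univ) (by simp)]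
  rfl

omit [DecidableEq A] in
theorem cont_comp {κ : Type*} [DecidableEq κ] (f : A → κ) (σ : Perm A) :
    cont (f ∘ σ) = cont f := by
  funext k
  exact card_bijective σ σ.bijective (by simp)

/-- The permutation character on the labellings of given content. -/
def xi {κ : Type*} [Fintype κ] [DecidableEq κ] (β : κ → ℕ) (σ : Perm A) : ℕ :=
  #{f : A → κ | f ∘ σ = f ∧ cont f = β}

theorem coeff_pm_parts {N : ℕ} (β : Fin N → ℕ) (σ : Perm A) :
    coeff (expo β) (pm N (parts σ)) = xi β σ := by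
  have h := sum_fix_eq_parts σ (X : Fin N → MvPolynomial (Fin N) ℤ)
  have h1 : ∀ f : A → Fin N, ∏ a, (X (f a) : MvPolynomial (Fin N) ℤ) =
      monomial (expo (cont f)) 1 := fun f => by
    rw [← prod_X_pow_eq, ← prod_fiberwise (s := univ) (g := f)]
    refine prod_congr rfl fun q _ => ?_
    rw [cont, ← prod_const]
    exact prod_congr rfl fun a ha => by rw [(mem_filter.1 ha).2]
  rw [pm]
  change coeff _ ((parts σ).map fun r => ∑ i, (X i : MvPolynomial (Fin N) ℤ) ^ r).prod = _
  rw [← h, coeff_sum]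
  simp only [h1, coeff_monomial, sum_boole, filter_filter, xi, EmbeddingLike.apply_eq_iff_eq]

/-- The labellings of given content. -/
def Lab (A : Type*) [Fintype A] {κ : Type*} [DecidableEq κ] (β : κ → ℕ) := {f : A → κ // cont f = β}

instance {κ : Type*} [Finite κ] [DecidableEq κ] (β : κ → ℕ) : Finite (Lab A β) :=
  inferInstanceAs (Finite {f : A → κ // cont f = β})

instance {κ : Type*} [DecidableEq κ] (β : κ → ℕ) : MulAction (Perm A) (Lab A β) where
  smul σ f := ⟨f.1 ∘ (σ⁻¹ : Perm A), (cont_comp _ _).trans f.2⟩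
  one_smul _ := rfl
  mul_smul _ _ _ := rfl

theorem xi_eq {κ : Type*} [Fintype κ] [DecidableEq κ] (β : κ → ℕ) (σ : Perm A) :
    xi β σ = Nat.card (MulAction.fixedBy (Lab A β) σ) := by
  rw [xi, ← Fintype.card_subtype, ← Nat.card_eq_fintype_card, ← MulAction.fixedBy_inv]
  exact Nat.card_congr
    { toFun f := ⟨⟨f.1, f.2.2⟩, Subtype.ext f.2.1⟩
      invFun f := ⟨f.1.1, congrArg Subtype.val f.2, f.1.2⟩
      left_inv _ := rfl
      right_inv _ := rfl }

theorem isCharacter_xi {κ : Type*} [Fintype κ] [DecidableEq κ] (β : κ → ℕ) :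
    IsCharacter (Perm A) fun σ => (xi β σ : ℂ) := by
  simp only [xi_eq]
  exact CL.Char.isCharacter_perm _ _

omit [DecidableEq A] in
theorem exists_cont {κ : Type*} [Fintype κ] [DecidableEq κ] {β : κ → ℕ}
    (h : ∑ k, β k = Fintype.card A) : ∃ f : A → κ, cont f = β := by
  obtain ⟨e⟩ : Nonempty (A ≃ Σ k, Fin (β k)) := Fintype.card_eq.1 (by simp [h])
  refine ⟨fun a => (e a).1, funext fun k => ?_⟩
  rw [cont, card_bijective (t := {x : Σ k, Fin (β k) | x.1 = k}) e e.bijective (by simp),
    card_filter, Fintype.sum_sigma]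
  simp [apply_ite]

theorem sum_xi {κ : Type*} [Fintype κ] [DecidableEq κ] (β : κ → ℕ) :
    ∑ σ : Perm A, xi β σ = if ∑ k, β k = Fintype.card A then (Fintype.card A).factorial else 0 := by
  classical
  split_ifs with h
  · have := Fintype.ofFinite (Lab A β)
    obtain ⟨f, hf⟩ := exists_cont h
    have h1 : Fintype.card (MulAction.orbitRel.Quotient (Perm A) (Lab A β)) = 1 := by
      refine Fintype.card_eq_one_iff.2 ⟨Quotient.mk _ ⟨f, hf⟩, fun q => ?_⟩
      induction q using Quotient.inductionOn with | h g => ?_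
      obtain ⟨e, he⟩ := exists_equiv_of_card_fiber (f := g.1) (g := f) fun k => by
        simp only [Nat.card_eq_fintype_card, Fintype.card_subtype]
        exact (congrFun g.2 k).trans (congrFun hf k).symm
      exact Quotient.sound ⟨e⁻¹, Subtype.ext (_root_.funext he)⟩
    have h2 := MulAction.sum_card_fixedBy_eq_card_orbits_mul_card_group (Perm A) (Lab A β)
    rw [h1, one_mul, Fintype.card_perm] at h2
    simp only [xi_eq, Nat.card_eq_fintype_card, h2]
  · refine sum_eq_zero fun σ _ => card_eq_zero.2 (filter_eq_empty_iff.2 fun f _ hf => h ?_)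
    rw [← hf.2, sum_cont]

theorem sum_xi_mul_xi {κ κ' : Type*} [Fintype κ] [DecidableEq κ] [Fintype κ'] [DecidableEq κ']
    {α : κ → ℕ} (hα : ∑ k, α k = Fintype.card A) (β : κ' → ℕ) :
    ∑ σ : Perm A, xi α σ * xi β σ = (Fintype.card A).factorial * Nat.card (tables α β) := by
  classical
  have hfin : (tables α β).Finite := by
    refine (Set.Finite.pi' (t := fun s => Set.pi Set.univ fun _ : κ' => Set.Iic (α s)) fun s =>
      Set.Finite.pi fun _ => Set.finite_Iic _).subset fun T hT s t _ => ?_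
    rw [← hT.1 s]
    exact single_le_sum (f := T s) (fun _ _ => Nat.zero_le _) (mem_univ t)
  have h1 : ∀ (h : A → κ × κ') s, cont (fun a => (h a).1) s = ∑ t, cont h (s, t) := fun h s => by
    rw [cont, card_eq_sum_card_fiberwise (f := fun a => (h a).2) (t := univ) (by simp)]
    simp [cont, filter_filter, Prod.ext_iff]
  have h2 : ∀ (h : A → κ × κ') t, cont (fun a => (h a).2) t = ∑ s, cont h (s, t) := fun h s => by
    rw [cont, card_eq_sum_card_fiberwise (f := fun a => (h a).1) (t := univ) (by simp)]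
    simp [cont, filter_filter, Prod.ext_iff, and_comm]
  have h3 : ∀ σ : Perm A, xi α σ * xi β σ =
      ∑ T ∈ hfin.toFinset, xi (fun x : κ × κ' => T x.1 x.2) σ := fun σ => by
    rw [xi, xi, ← card_product, ← card_bijective (s := {h : A → κ × κ' | h ∘ σ = h ∧
      (fun s t => cont h (s, t)) ∈ tables α β}) _ (Equiv.arrowProdEquivProdArrow _ _ _).bijective,
      card_eq_sum_card_fiberwise (f := fun h s t => cont h (s, t)) (t := hfin.toFinset)
        fun h hh => by simpa using (mem_filter.1 hh).2.2]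
    · refine sum_congr rfl fun T hT => ?_
      rw [xi, filter_filter]
      congr 1
      refine filter_congr fun h _ => ?_
      simp only [and_assoc, funext_iff, Prod.forall]
      refine and_congr_right fun _ => and_iff_right_of_imp fun h' => ?_
      rw [show (fun s t => cont h (s, t)) = T from _root_.funext fun s => _root_.funext (h' s)]
      simpa using hT
    · intro h
      simp only [mem_filter, mem_univ, true_and, mem_product, tables, Set.mem_ofPred_eq, ← h1, ← h2,
        funext_iff, Prod.ext_iff, forall_and, Function.comp, arrowProdEquivProdArrow_apply]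
      tauto
  rw [sum_congr rfl fun σ _ => h3 σ, sum_comm, sum_congr rfl fun T hT => (sum_xi _).trans (if_pos ?_),
    sum_const, Nat.card_eq_card_finite_toFinset hfin, smul_eq_mul, mul_comm]
  rw [Fintype.sum_prod_type, ← hα]
  exact sum_congr rfl fun s _ => ((Set.Finite.mem_toFinset _).1 hT).1 s

theorem sum_xi_smul {N : ℕ} {α : Fin N → ℕ} (hα : ∑ k, α k = Fintype.card A) :
    ∑ σ : Perm A, C (xi α σ : ℤ) * pm N (parts σ) =
      C ((Fintype.card A).factorial : ℤ) * ∏ i, hh X (α i) := by
  ext β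
  obtain ⟨β, rfl⟩ := Finsupp.equivFunOnFinite.symm.surjective β
  simp only [coeff_sum, coeff_C_mul, coeff_pm_parts, coeff_prod_hh]
  exact_mod_cast sum_xi_mul_xi hα β

/-- The character attached to a bead configuration. -/
noncomputable def chi {N : ℕ} (lam : Fin N → ℕ) (σ : Perm A) : ℤ := chiM lam (parts σ)

theorem chi_eq {N : ℕ} (lam : Fin N → ℕ) (σ : Perm A) : chi lam σ =
    ∑ κ : Perm (Fin N), if ∀ i, (κ i).val ≤ lam i then
      (Perm.sign κ : ℤ) * xi (fun i => lam i - κ i) σ else 0 := by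
  rw [chi, chiM, vdm, alt, coeff_vandermonde_mul]
  simp only [coeff_pm_parts]

theorem isGen_chi {N : ℕ} (lam : Fin N → ℕ) :
    IsGeneralizedCharacter (Perm A) fun σ => (chi lam σ : ℂ) := by
  have h : (fun σ : Perm A => (chi lam σ : ℂ)) = ∑ κ : Perm (Fin N),
      ((if ∀ i, (κ i).val ≤ lam i then (Perm.sign κ : ℤ) else 0 : ℤ) : ℂ) •
        fun σ => (xi (fun i => lam i - κ i) σ : ℂ) := by
    funext σ
    rw [chi_eq, Finset.sum_apply, Int.cast_sum]
    refine sum_congr rfl fun κ _ => ?_
    split_ifs <;> simp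
  rw [h]
  exact CL.Char.isGen_sum _ _ fun κ _ => (isCharacter_xi _).isGen.intCast_smul _

/-- The size of a bead configuration. -/
def IsSize {N : ℕ} (lam : Fin N → ℕ) (n : ℕ) : Prop := ∑ i, lam i = n + ∑ i : Fin N, i.val

theorem IsSize.sum_sub {N n : ℕ} {lam : Fin N → ℕ} (h : IsSize lam n) {κ : Perm (Fin N)}
    (hκ : ∀ i, (κ i).val ≤ lam i) : ∑ i, (lam i - κ i) = n := by
  rw [sum_tsub_distrib _ fun i _ => hκ i, h, Equiv.sum_comp κ Fin.val, Nat.add_sub_cancel]

/-- The Frobenius characteristic of `chi lam` is the Schur polynomial. -/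
theorem sum_chi_smul {N : ℕ} {lam : Fin N → ℕ} (h : IsSize lam (Fintype.card A)) :
    ∑ σ : Perm A, C (chi lam σ) * (vdm N * pm N (parts σ)) =
      C ((Fintype.card A).factorial : ℤ) * alt lam := by
  rw [alt, jacobi_trudi, det_jt, mul_left_comm]
  simp only [mul_left_comm _ (vdm N), ← mul_sum]
  congr 1
  simp only [chi_eq, map_sum, sum_mul, mul_sum]
  rw [sum_comm]
  refine sum_congr rfl fun κ _ => ?_
  split_ifs with hκ
  · rw [mul_left_comm, ← sum_xi_smul (h.sum_sub hκ), mul_sum]
    simp [mul_assoc]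
  · simp

theorem sum_chi_mul_chi {N : ℕ} {lam : Fin N → ℕ} (h : IsSize lam (Fintype.card A))
    (mu : Fin N → ℕ) : ∑ σ : Perm A, chi lam σ * chi mu σ =
      (Fintype.card A).factorial * coeff (expo mu) (alt lam) := by
  have h1 := congrArg (coeff (expo mu)) (sum_chi_smul h)
  simp only [coeff_sum, coeff_C_mul] at h1
  exact h1

theorem chi_eq_zero {N : ℕ} {lam : Fin N → ℕ} (h : ¬ IsSize lam (Fintype.card A)) (σ : Perm A) :
    chi lam σ = 0 := by
  rw [chi_eq]
  refine sum_eq_zero fun κ _ => ?_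
  split_ifs with hκ
  · rw [xi, card_eq_zero.2 (filter_eq_empty_iff.2 fun f _ hf => h ?_)]
    · simp
    · rw [IsSize, ← sum_cont f, hf.2, ← Equiv.sum_comp κ Fin.val, ← sum_add_distrib]
      exact sum_congr rfl fun i _ => (Nat.sub_add_cancel (hκ i)).symm
  · rfl

theorem classInner_chi {N : ℕ} {lam mu : Fin N → ℕ} (h : IsSize lam (Fintype.card A))
    (hl : StrictMono lam) (hm : StrictMono mu) :
    classInner (fun σ : Perm A => (chi lam σ : ℂ)) (fun σ => (chi mu σ : ℂ)) =
      if lam = mu then 1 else 0 := by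
  have h1 := sum_chi_mul_chi h mu
  rw [alt, coeff_det_X_pow hl hm] at h1
  have h2 := congrArg (Int.cast : ℤ → ℂ) h1
  push_cast at h2
  simp only [classInner, map_intCast, h2, Nat.card_eq_fintype_card, Fintype.card_perm]
  rw [inv_mul_cancel_left₀ (Nat.cast_ne_zero.2 (Nat.factorial_ne_zero _))]

theorem xi_one_mul {κ : Type*} [Fintype κ] [DecidableEq κ] {β : κ → ℕ}
    (h : ∑ k, β k = Fintype.card A) :
    xi β (1 : Perm A) * ∏ k, (β k).factorial = (Fintype.card A).factorial := by
  have h1 := sum_xi (A := A) β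
  rw [if_pos h] at h1
  have h2 : ∀ σ : Perm A, xi β σ = ∑ f : A → κ with cont f = β, if f ∘ σ = f then 1 else 0 :=
    fun σ => by rw [xi, ← card_filter, filter_filter]; simp only [and_comm]
  rw [← h1, sum_congr rfl fun σ _ => h2 σ, sum_comm, h2, sum_mul]
  refine sum_congr rfl fun f hf => ?_
  rw [← card_filter, ← Fintype.card_subtype, DomMulAct.stabilizer_card, ← (mem_filter.1 hf).2]
  simp [cont, Fintype.card_subtype]

/-- The degree formula. -/
theorem chi_one_mul {N : ℕ} {lam : Fin N → ℕ} (h : IsSize lam (Fintype.card A)) :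
    chi lam (1 : Perm A) * ∏ i, ((lam i).factorial : ℤ) =
      (Fintype.card A).factorial * ∏ i, ∏ j ∈ Ioi i, ((lam j : ℤ) - lam i) := by
  have h1 := det_jt_qfact 1 lam
  have h2 : ∀ m, qfact 1 m = m.factorial := fun m => by
    simp [qfact, prod_range_add_one_eq_factorial]
  simp only [h2, one_pow, sum_const, card_range, smul_eq_mul, mul_one, Nat.cast_one] at h1
  apply Int.cast_injective (α := ℂ)
  push_cast
  rw [← h1, ← mul_assoc, det_jt, mul_sum, chi_eq, Int.cast_sum]
  congr 1
  refine sum_congr rfl fun κ _ => ?_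
  split_ifs with hκ
  · rw [mul_left_comm, ← xi_one_mul (h.sum_sub hκ), Nat.cast_mul, Nat.cast_prod, mul_assoc,
      ← prod_mul_distrib, prod_eq_one, mul_one]
    · simp
    · exact fun i _ => mul_inv_cancel₀ (Nat.cast_ne_zero.2 (Nat.factorial_ne_zero _))
  · simp

theorem chi_one_pos {N : ℕ} {lam : Fin N → ℕ} (h : IsSize lam (Fintype.card A))
    (hl : StrictMono lam) : 0 < chi lam (1 : Perm A) := by
  refine pos_of_mul_pos_left (lt_of_lt_of_eq ?_ (chi_one_mul h).symm) (by positivity)
  refine mul_pos (by positivity) (prod_pos fun i _ => prod_pos fun j hj => ?_)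
  have := hl (mem_Ioi.1 hj)
  omega

theorem isIrr_chi {N : ℕ} {lam : Fin N → ℕ} (h : IsSize lam (Fintype.card A))
    (hl : StrictMono lam) : IsIrrCharacter (Perm A) fun σ => (chi lam σ : ℂ) :=
  (isGen_chi lam).irr_of_pos (by rw [classInner_chi h hl hl, if_pos rfl])
    (by simpa using chi_one_pos h hl)

theorem chi_comp {N : ℕ} (κ : Perm (Fin N)) (lam : Fin N → ℕ) (σ : Perm A) :
    chi (lam ∘ κ) σ = Perm.sign κ * chi lam σ := chiM_comp κ lam _

theorem exists_sort {N : ℕ} {lam : Fin N → ℕ} (h : Function.Injective lam) :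
    ∃ κ : Perm (Fin N), StrictMono (lam ∘ κ) :=
  ⟨Tuple.sort lam, (Tuple.monotone_sort lam).strictMono_of_injective
    (h.comp (Tuple.sort lam).injective)⟩

theorem IsSize.comp {N n : ℕ} {lam : Fin N → ℕ} (h : IsSize lam n) (κ : Perm (Fin N)) :
    IsSize (lam ∘ κ) n := (Equiv.sum_comp κ lam).trans h

theorem vdm_ne_zero (N : ℕ) : vdm N ≠ 0 := fun h => by
  have h1 := coeff_det_X_pow (n := N) Fin.val_strictMono Fin.val_strictMono
  rw [if_pos rfl] at h1
  change coeff _ (vdm N) = 1 at h1
  simp [h] at h1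

/-- Every irreducible character is given by the Frobenius formula. -/
theorem exists_eq_chi {N : ℕ} (hN : Fintype.card A ≤ N) (χ : IrrCharacter (Perm A)) :
    ∃ lam : Fin N → ℕ, StrictMono lam ∧ IsSize lam (Fintype.card A) ∧
      χ.1 = fun σ => (chi lam σ : ℂ) := by
  by_contra hcon
  push Not at hcon
  have h1 : ∀ lam : Fin N → ℕ, StrictMono lam → ∑ σ, χ.1 σ * (chi lam σ : ℂ) = 0 := fun lam hl => by
    by_cases hs : IsSize lam (Fintype.card A)
    · have h := χ.2.inner_of_ne (isIrr_chi hs hl) (hcon lam hl hs)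
      simpa [classInner, Nat.card_pos.ne'] using h
    · simp [chi_eq_zero hs]
  have h2 : ∀ lam : Fin N → ℕ, ∑ σ, χ.1 σ * (chi lam σ : ℂ) = 0 := fun lam => by
    by_cases hl : Function.Injective lam
    · obtain ⟨κ, hκ⟩ := exists_sort hl
      have h := h1 _ hκ
      simp only [chi_comp, Int.cast_mul, mul_left_comm _ ((Perm.sign κ : ℤ) : ℂ), ← mul_sum] at h
      exact (mul_eq_zero.1 h).resolve_left (Int.cast_ne_zero.2 (Units.ne_zero _))
    · simp [chi, chiM_eq_zero hl]
  let ι : MvPolynomial (Fin N) ℤ →+* MvPolynomial (Fin N) ℂ := map (Int.castRingHom ℂ)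
  have h3 : ι (vdm N) * ∑ σ, C (χ.1 σ) * ι (pm N (parts σ)) = 0 := by
    ext β
    obtain ⟨β, rfl⟩ := Finsupp.equivFunOnFinite.symm.surjective β
    simp only [mul_sum, mul_left_comm (ι (vdm N)), ← map_mul, coeff_sum, coeff_C_mul, ι, coeff_map]
    exact h2 β
  have h4 := (mul_eq_zero.1 h3).resolve_left fun h =>
    vdm_ne_zero N (map_injective _ Int.cast_injective (h.trans (map_zero _).symm))
  obtain ⟨e⟩ : Nonempty (A ↪ Fin N) := Function.Embedding.nonempty_of_card_le (by simpa using hN)
  have h5 := congrArg (coeff (expo (cont e))) h4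
  simp only [coeff_sum, coeff_C_mul, ι, coeff_map, coeff_pm_parts, coeff_zero] at h5
  rw [sum_eq_single 1 (fun σ _ hσ => ?_) (by simp)] at h5
  · refine mul_ne_zero χ.2.one_ne_zero ?_ h5
    simp only [eq_intCast, Int.cast_natCast, Nat.cast_ne_zero, xi]
    exact card_ne_zero.2 ⟨e, by simp⟩
  · rw [xi, card_eq_zero.2 (filter_eq_empty_iff.2 fun f _ hf => hσ (Equiv.ext fun a => ?_))]
    · simp
    · have h6 : cont f (f a) ≤ 1 := by
        rw [hf.2]
        exact card_le_one.2 fun x hx y hy =>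
          e.injective ((mem_filter.1 hx).2.trans (mem_filter.1 hy).2.symm)
      exact card_le_one.1 h6 _ (by simpa using congrFun hf.1 a) _ (by simp)

end Perm

/-- All bead configurations of given size. -/
def conf (N n : ℕ) : Finset (Fin N → ℕ) := piAntidiag univ (n + ∑ i : Fin N, i.val)

theorem mem_conf {N n : ℕ} {lam : Fin N → ℕ} : lam ∈ conf N n ↔ IsSize lam n := by
  simp [conf, IsSize]

open Classical in
/-- The increasing bead configurations of given size. -/
noncomputable def idx (N n : ℕ) : Finset (Fin N → ℕ) := {lam ∈ conf N n | StrictMono lam}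

theorem mem_idx {N n : ℕ} {lam : Fin N → ℕ} : lam ∈ idx N n ↔ IsSize lam n ∧ StrictMono lam := by
  simp [idx, mem_conf]

theorem sum_conf {R : Type*} [CommSemiring R] {N n : ℕ} (G : (Fin N → ℕ) → R)
    (h0 : ∀ lam, ¬ Function.Injective lam → G lam = 0)
    (h1 : ∀ lam (κ : Perm (Fin N)), G (lam ∘ κ) = G lam) :
    ∑ lam ∈ conf N n, G lam = N.factorial * ∑ lam ∈ idx N n, G lam := by
  classical
  have h2 : ∑ x ∈ idx N n ×ˢ (univ : Finset (Perm (Fin N))), G (x.1 ∘ x.2) =
      ∑ lam ∈ conf N n with Function.Injective lam, G lam := by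
    refine sum_nbij (fun x => x.1 ∘ x.2) (fun x hx => ?_) (fun x hx y hy h => ?_) (fun lam hl => ?_)
      fun _ _ => rfl
    · have := mem_idx.1 (mem_product.1 hx).1
      exact mem_filter.2 ⟨mem_conf.2 (this.1.comp _), this.2.injective.comp x.2.injective⟩
    · have hx' := (mem_idx.1 (mem_product.1 hx).1).2
      have hy' := (mem_idx.1 (mem_product.1 hy).1).2
      have h3 : x.1 = y.1 := (hx'.range_inj hy').1 (by
        rw [← x.2.surjective.range_comp x.1, ← y.2.surjective.range_comp y.1]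
        exact congrArg Set.range h)
      refine Prod.ext h3 (Equiv.ext fun i => hx'.injective ?_)
      exact (congrFun h i).trans (congrFun h3.symm _)
    · obtain ⟨h3, h4⟩ := mem_filter.1 hl
      obtain ⟨κ, hκ⟩ := exists_sort h4
      refine ⟨(lam ∘ κ, κ⁻¹), mem_coe.2 (mem_product.2 ⟨mem_idx.2 ⟨(mem_conf.1 h3).comp _, hκ⟩,
        mem_univ _⟩), _root_.funext fun i => by simp⟩
  rw [← sum_filter_of_ne (p := Function.Injective) fun lam _ h => not_not.1 fun h' => h (h0 _ h'),
    ← h2, sum_product, mul_sum]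
  simp [h1, Fintype.card_perm]

/-- The adjoint form of the Murnaghan–Nakayama rule. -/
theorem sum_conf_cons {R : Type*} [CommRing R] {N n : ℕ} (r : ℕ) (G : (Fin N → ℕ) → R)
    (m : Multiset ℕ) : ∑ lam ∈ conf N (n + r), G lam * chiM lam (r ::ₘ m) =
      ∑ mu ∈ conf N n, (∑ i, G (Function.update mu i (mu i + r))) * chiM mu m := by
  simp only [chiM_cons, Int.cast_sum, mul_sum, sum_mul]
  rw [sum_comm, sum_comm (s := conf N n)]
  refine sum_congr rfl fun i _ => ?_
  simp only [apply_ite (Int.cast : ℤ → R), Int.cast_zero, mul_ite, mul_zero, ← sum_filter]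
  refine sum_nbij' (fun lam => Function.update lam i (lam i - r))
    (fun mu => Function.update mu i (mu i + r)) (fun lam hl => ?_) (fun mu hm => ?_)
    (fun lam hl => ?_) (fun mu _ => by simp) fun lam hl => ?_
  · obtain ⟨h1, h2⟩ := mem_filter.1 hl
    rw [mem_conf, IsSize] at h1 ⊢
    rw [sum_update_of_mem (mem_univ _), sdiff_singleton_eq_erase]
    rw [← add_sum_erase _ _ (mem_univ i)] at h1
    omega
  · rw [mem_conf, IsSize] at hm
    refine mem_filter.2 ⟨mem_conf.2 ?_, by simp⟩
    rw [IsSize, sum_update_of_mem (mem_univ _), sdiff_singleton_eq_erase]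
    rw [← add_sum_erase _ _ (mem_univ i)] at hm
    omega
  · simp [Nat.sub_add_cancel (mem_filter.1 hl).2]
  · simp [Nat.sub_add_cancel (mem_filter.1 hl).2]

/-- Alternating functions of bead configurations. -/
def IsAlt {R : Type*} [Ring R] {N : ℕ} (G : (Fin N → ℕ) → R) : Prop :=
  ∀ lam (κ : Perm (Fin N)), G (lam ∘ κ) = (Perm.sign κ : ℤ) * G lam

theorem IsAlt.eq_zero {N : ℕ} {G : (Fin N → ℕ) → ℂ} (hG : IsAlt G) {lam : Fin N → ℕ}
    (h : ¬ Function.Injective lam) : G lam = 0 := by
  simp only [Function.Injective, not_forall] at h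
  obtain ⟨i, j, h1, h2⟩ := h
  have h3 := hG lam (swap i j)
  have h4 : lam ∘ swap i j = lam := by
    funext k
    by_cases hi : k = i
    · simp [hi, h1]
    · by_cases hj : k = j
      · simp [hj, h1]
      · simp [swap_apply_of_ne_of_ne hi hj]
  rw [h4, Perm.sign_swap h2] at h3
  simp only [Units.val_neg, Units.val_one, Int.cast_neg, Int.cast_one, neg_mul, one_mul] at h3
  linear_combination h3 / 2

theorem isAlt_chiM {N : ℕ} (m : Multiset ℕ) : IsAlt fun lam : Fin N → ℕ => (chiM lam m : ℂ) :=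
  fun lam κ => by simp [chiM_comp]

theorem IsAlt.shift {R : Type*} [Ring R] {N : ℕ} {G : (Fin N → ℕ) → R} (hG : IsAlt G) (r : ℕ) :
    IsAlt fun mu => ∑ i, G (Function.update mu i (mu i + r)) := fun mu κ => by
  simp only
  rw [mul_sum, ← Equiv.sum_comp κ fun i => _ * G (Function.update mu i (mu i + r))]
  refine sum_congr rfl fun i _ => ?_
  rw [← hG, Function.update_comp_eq_of_injective _ κ.injective]
  rfl

/-- Linear independence of the characters. -/
theorem IsAlt.eq_zero_of_sum {N n : ℕ} {G : (Fin N → ℕ) → ℂ} (hG : IsAlt G)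
    (h : ∀ σ : Perm (Fin n), ∑ lam ∈ conf N n, G lam * chi lam σ = 0) {mu : Fin N → ℕ}
    (hmu : IsSize mu n) : G mu = 0 := by
  by_cases hi : Function.Injective mu
  swap
  · exact hG.eq_zero hi
  obtain ⟨κ, hκ⟩ := exists_sort hi
  have h1 : ∀ σ : Perm (Fin n), ∑ lam ∈ idx N n, G lam * chi lam σ = 0 := fun σ => by
    have h2 := h σ
    rw [sum_conf _ (fun lam hl => by rw [hG.eq_zero hl, zero_mul]) fun lam κ => ?_] at h2
    · exact (mul_eq_zero.1 h2).resolve_left (Nat.cast_ne_zero.2 (Nat.factorial_ne_zero _))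
    · rw [hG, chi_comp, Int.cast_mul, mul_mul_mul_comm, ← Int.cast_mul, ← Units.val_mul,
        Int.units_mul_self]
      simp
  have h2 : ∑ σ : Perm (Fin n), (chi (mu ∘ κ) σ : ℂ) * ∑ lam ∈ idx N n, G lam * chi lam σ = 0 := by
    simp [h1]
  have hs : IsSize (mu ∘ κ) (Fintype.card (Fin n)) := by simpa using hmu.comp κ
  simp only [mul_sum, mul_left_comm _ (G _)] at h2
  rw [sum_comm] at h2
  simp only [← mul_sum, ← Int.cast_mul, ← Int.cast_sum, sum_chi_mul_chi hs] at h2
  rw [sum_eq_single (mu ∘ κ) (fun lam hl hne => ?_)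
    fun h => (h (mem_idx.2 ⟨hmu.comp κ, hκ⟩)).elim, alt, coeff_det_X_pow hκ hκ, if_pos rfl, hG] at h2
  · simpa [Nat.factorial_ne_zero] using h2
  · rw [alt, coeff_det_X_pow hκ (mem_idx.1 hl).2, if_neg hne.symm]
    simp

section Perm

variable {A : Type*} [Fintype A] [DecidableEq A]

theorem parts_pos {σ : Perm A} {r : ℕ} (h : r ∈ parts σ) : 0 < r := σ.partition.parts_pos h

theorem parts_sum (σ : Perm A) : (parts σ).sum = Fintype.card A := σ.partition.parts_sum

theorem exists_parts {m : Multiset ℕ} (h0 : ∀ r ∈ m, 0 < r) (h1 : m.sum = Fintype.card A) :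
    ∃ σ : Perm A, parts σ = m := by
  have h2 : m.filter (fun r => ¬ 2 ≤ r) = Multiset.replicate (m.filter fun r => ¬ 2 ≤ r).card 1 :=
    Multiset.eq_replicate_card.2 fun r hr => by
      have := h0 r (Multiset.mem_filter.1 hr).1
      have := (Multiset.mem_filter.1 hr).2
      omega
  have h3 := congrArg Multiset.sum (m.filter_add_not (2 ≤ ·))
  rw [Multiset.sum_add, h2, Multiset.sum_replicate, smul_eq_mul, mul_one, h1] at h3
  obtain ⟨σ, hσ⟩ := (Perm.exists_with_cycleType_iff A (m := m.filter (2 ≤ ·))).2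
    ⟨by omega, fun a ha => (Multiset.mem_filter.1 ha).2⟩
  refine ⟨σ, ?_⟩
  rw [parts, Perm.parts_partition, ← Perm.sum_cycleType, hσ, ← h3, Nat.add_sub_cancel_left, ← h2,
    Multiset.filter_add_not]

theorem isConj_iff_parts {σ τ : Perm A} : IsConj σ τ ↔ parts σ = parts τ :=
  Perm.partition_eq_of_isConj.trans ⟨fun h => by rw [parts, h], fun h => Nat.Partition.ext h⟩

theorem sum_irr {M : Type*} [AddCommMonoid M] {N : ℕ} (hN : Fintype.card A ≤ N)
    (F : (Perm A → ℂ) → M) : ∑ χ : IrrCharacter (Perm A), F χ.1 =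
      ∑ lam ∈ idx N (Fintype.card A), F fun σ => chi lam σ := by
  symm
  refine sum_bij (fun lam hl => ⟨_, isIrr_chi (mem_idx.1 hl).1 (mem_idx.1 hl).2⟩)
    (fun _ _ => mem_univ _) (fun lam hl mu hm h => ?_) (fun χ _ => ?_) fun _ _ => rfl
  · have h1 := classInner_chi (mem_idx.1 hl).1 (mem_idx.1 hl).2 (mem_idx.1 hm).2
    have h2 : (fun σ : Perm A => (chi lam σ : ℂ)) = fun σ => (chi mu σ : ℂ) := Subtype.ext_iff.1 h
    rw [← h2, (isIrr_chi (mem_idx.1 hl).1 (mem_idx.1 hl).2).inner_self] at h1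
    by_contra hne
    simp [hne] at h1
  · obtain ⟨lam, h1, h2, h3⟩ := exists_eq_chi hN χ
    exact ⟨lam, mem_idx.2 ⟨h2, h1⟩, Subtype.ext h3.symm⟩

end Perm

theorem orth {N n : ℕ} (hN : n ≤ N) {m m' : Multiset ℕ} (h0 : ∀ r ∈ m, 0 < r) (h1 : m.sum = n)
    (h0' : ∀ r ∈ m', 0 < r) (h1' : m'.sum = n) (hne : m ≠ m') :
    ∑ lam ∈ conf N n, (chiM lam m : ℂ) * chiM lam m' = 0 := by
  obtain ⟨x, rfl⟩ := exists_parts (A := Fin n) h0 (by simpa using h1)
  obtain ⟨y, rfl⟩ := exists_parts (A := Fin n) h0' (by simpa using h1')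
  have h := CL.Char.column_not_conj (mt isConj_iff_parts.1 hne)
  rw [sum_irr (N := N) (by simpa using hN) fun χ => χ x * (starRingEnd ℂ) (χ y)] at h
  simp only [map_intCast, Fintype.card_fin] at h
  rw [sum_conf _ (fun lam hl => by simp [chiM_eq_zero hl]) fun lam κ => ?_]
  · exact mul_eq_zero_of_right _ h
  · rw [chiM_comp, chiM_comp, Int.cast_mul, Int.cast_mul, mul_mul_mul_comm, ← Int.cast_mul,
      ← Units.val_mul, Int.units_mul_self]
    simp

/-- The class function induced from an `r`-cycle vanishes on classes without `r`-cycles. -/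
theorem sum_shift_eq_zero {N n r : ℕ} (hN : n + r ≤ N) (hr : 0 < r) {m : Multiset ℕ}
    (h0 : ∀ s ∈ m, 0 < s) (h1 : m.sum = n + r) (hm : r ∉ m) {mu : Fin N → ℕ} (hmu : IsSize mu n) :
    ∑ i, (chiM (Function.update mu i (mu i + r)) m : ℂ) = 0 := by
  refine ((isAlt_chiM m).shift r).eq_zero_of_sum (fun σ => ?_) hmu
  simp only [chi]
  rw [← sum_conf_cons r fun lam => (chiM lam m : ℂ)]
  refine orth hN h0 h1 (fun s hs => ?_) ?_ fun h => hm (h ▸ Multiset.mem_cons_self _ _)
  · rcases Multiset.mem_cons.1 hs with rfl | hs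
    exacts [hr, parts_pos hs]
  · rw [Multiset.sum_cons, parts_sum, Fintype.card_fin, add_comm]

/-- An alternating function killed by all shifts vanishes in positive degree. -/
theorem IsAlt.eq_zero_of_shift {N n : ℕ} {G : (Fin N → ℕ) → ℂ} (hG : IsAlt G) (hn : 0 < n)
    (h : ∀ mu r n', 0 < r → n' + r = n → IsSize mu n' → Function.Injective mu →
      ∑ i, G (Function.update mu i (mu i + r)) = 0) {mu : Fin N → ℕ}
    (hmu : IsSize mu n) : G mu = 0 := by
  refine hG.eq_zero_of_sum (fun σ => ?_) hmu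
  have h1 := parts_sum σ
  obtain ⟨r, hr⟩ := Multiset.exists_mem_of_ne_zero (s := parts σ) fun h => by
    rw [h] at h1
    simp at h1
    omega
  obtain ⟨m, hm⟩ := Multiset.exists_cons_of_mem hr
  rw [hm, Multiset.sum_cons, Fintype.card_fin, add_comm] at h1
  simp only [chi, hm]
  rw [← h1, sum_conf_cons]
  refine sum_eq_zero fun nu hnu => ?_
  by_cases hi : Function.Injective nu
  · rw [h nu r m.sum (parts_pos hr) h1 (mem_conf.1 hnu) hi, zero_mul]
  · simp [chiM_eq_zero hi]

end CL.Sym
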