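import Mathlib
import Cfsg.Agent.BLK.SymChar

/-!
# Cores and weights of bead configurations
-/

set_option autoImplicit false

open Finset Equiv

namespace CL.Sym

variable {I : Type*} [Fintype I] {p : ℕ}

/-- The number of beads below bead `i` on its runner. -/
def rk (p : ℕ) (lam : I → ℕ) (i : I) : ℕ := #{j | lam j % p = lam i % p ∧ lam j < lam i}

/-- The labelled core. -/
def core (p : ℕ) (lam : I → ℕ) (i : I) : ℕ := lam i % p + p * rk p lam i

/-- The number of gaps below bead `i` on its runner. -/
def pt (p : ℕ) (lam : I → ℕ) (i : I) : ℕ := lam i / p - rk p lam i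

/-- The weight. -/
def wt (p : ℕ) (lam : I → ℕ) : ℕ := ∑ i, pt p lam i

/-- The residues. -/
def res (p : ℕ) (lam : I → ℕ) : Multiset ℕ := univ.val.map fun i => lam i % p

theorem div_lt_div_of_mod_eq {a b : ℕ} (h : a % p = b % p) (hab : a < b) : a / p < b / p := by
  have h1 := Nat.div_add_mod a p
  have h2 := Nat.div_add_mod b p
  refine lt_of_mul_lt_mul_left (a := p) ?_ (Nat.zero_le _)
  omega

theorem eq_of_mod_eq_of_div_eq {a b : ℕ} (h : a % p = b % p) (h' : a / p = b / p) : a = b := by
  rw [← Nat.div_add_mod a p, h, h', Nat.div_add_mod]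

theorem rk_le {lam : I → ℕ} (hl : Function.Injective lam) (i : I) : rk p lam i ≤ lam i / p := by
  rw [rk, ← card_range (lam i / p)]
  refine card_le_card_of_injOn (fun j => lam j / p) (fun j hj => ?_) fun j hj k hk h => hl ?_
  · have := (mem_filter.1 hj).2
    exact mem_coe.2 (mem_range.2 (div_lt_div_of_mod_eq this.1 this.2))
  · exact eq_of_mod_eq_of_div_eq ((mem_filter.1 hj).2.1.trans (mem_filter.1 hk).2.1.symm) h

theorem core_add {lam : I → ℕ} (hl : Function.Injective lam) (i : I) :
    core p lam i + p * pt p lam i = lam i := by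
  rw [core, pt, add_assoc, ← mul_add, Nat.add_sub_cancel' (rk_le hl i), Nat.mod_add_div]

theorem rk_add_pt {lam : I → ℕ} (hl : Function.Injective lam) (i : I) :
    rk p lam i + pt p lam i = lam i / p := Nat.add_sub_cancel' (rk_le hl i)

theorem core_mod (lam : I → ℕ) (i : I) : core p lam i % p = lam i % p := by simp [core]

theorem core_div (hp : 0 < p) (lam : I → ℕ) (i : I) : core p lam i / p = rk p lam i := by
  rw [core, Nat.add_mul_div_left _ _ hp, Nat.div_eq_of_lt (Nat.mod_lt _ hp), zero_add]

theorem rk_lt_rk {lam : I → ℕ} {i j : I} (h : lam i % p = lam j % p) (hij : lam i < lam j) :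
    rk p lam i < rk p lam j := by
  refine card_lt_card ⟨fun k hk => ?_, fun hs => ?_⟩
  · have := (mem_filter.1 hk).2
    exact mem_filter.2 ⟨mem_univ _, this.1.trans h, this.2.trans hij⟩
  · have := (mem_filter.1 (hs (mem_filter.2 ⟨mem_univ i, h, hij⟩))).2.2
    omega

theorem eq_of_rk_eq {lam : I → ℕ} (hl : Function.Injective lam) {i j : I}
    (h : lam i % p = lam j % p) (h' : rk p lam i = rk p lam j) : i = j := by
  rcases lt_trichotomy (lam i) (lam j) with h1 | h1 | h1
  · exact absurd h' (rk_lt_rk h h1).ne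
  · exact hl h1
  · exact absurd h' (rk_lt_rk h.symm h1).ne'

theorem core_injective (hp : 0 < p) {lam : I → ℕ} (hl : Function.Injective lam) :
    Function.Injective (core p lam) := fun i j h =>
  eq_of_rk_eq hl (by rw [← core_mod, h, core_mod]) (by rw [← core_div hp, h, core_div hp])

theorem sum_core_add {lam : I → ℕ} (hl : Function.Injective lam) :
    ∑ i, core p lam i + p * wt p lam = ∑ i, lam i := by
  rw [wt, mul_sum, ← sum_add_distrib]
  exact sum_congr rfl fun i _ => core_add hl i

theorem count_res (lam : I → ℕ) (r : ℕ) : (res p lam).count r = #{j | lam j % p = r} := by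
  rw [res, Multiset.count_map]
  simp only [eq_comm (a := r)]
  rfl

theorem rk_lt_count (lam : I → ℕ) (i : I) : rk p lam i < (res p lam).count (lam i % p) := by
  rw [count_res]
  refine card_lt_card ⟨fun k hk => mem_filter.2 ⟨mem_univ _, (mem_filter.1 hk).2.1⟩, fun hs => ?_⟩
  exact lt_irrefl _ (mem_filter.1 (hs (mem_filter.2 ⟨mem_univ i, rfl⟩))).2.2

theorem exists_rk_eq {lam : I → ℕ} (hl : Function.Injective lam) {r k : ℕ}
    (h : k < (res p lam).count r) : ∃ i, lam i % p = r ∧ rk p lam i = k := by
  obtain ⟨i, hi, h1⟩ := surj_on_of_inj_on_of_card_le (s := {j | lam j % p = r})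
    (t := range ((res p lam).count r)) (fun i _ => rk p lam i)
    (fun i hi => mem_range.2 ((mem_filter.1 hi).2 ▸ rk_lt_count lam i))
    (fun i j hi hj h => eq_of_rk_eq hl ((mem_filter.1 hi).2.trans (mem_filter.1 hj).2.symm) h)
    (by rw [card_range, count_res]) k (mem_range.2 h)
  exact ⟨i, (mem_filter.1 hi).2, h1.symm⟩

theorem mem_range_core (hp : 0 < p) {lam : I → ℕ} (hl : Function.Injective lam) {x : ℕ} :
    x ∈ Set.range (core p lam) ↔ x / p < (res p lam).count (x % p) := by
  constructor
  · rintro ⟨i, rfl⟩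
    rw [core_div hp, core_mod]
    exact rk_lt_count lam i
  · intro h
    obtain ⟨i, h1, h2⟩ := exists_rk_eq hl h
    exact ⟨i, by rw [core, h1, h2, Nat.mod_add_div]⟩

theorem exists_core_eq (hp : 0 < p) {lam mu : I → ℕ} (hl : Function.Injective lam)
    (hm : Function.Injective mu) (h : res p lam = res p mu) :
    ∃ κ : Perm I, core p mu = core p lam ∘ κ := by
  have h1 : Set.range (core p mu) = Set.range (core p lam) :=
    Set.ext fun x => by rw [mem_range_core hp hl, mem_range_core hp hm, h]
  refine ⟨(Equiv.ofInjective _ (core_injective hp hm)).trans ((Equiv.setCongr h1).trans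
    (Equiv.ofInjective _ (core_injective hp hl)).symm), funext fun i => ?_⟩
  simp [Equiv.apply_ofInjective_symm]

theorem wt_eq (hp : 0 < p) {lam mu : I → ℕ} (hl : Function.Injective lam)
    (hm : Function.Injective mu) (h : res p lam = res p mu) (hs : ∑ i, lam i = ∑ i, mu i) :
    wt p lam = wt p mu := by
  obtain ⟨κ, hκ⟩ := exists_core_eq hp hl hm h
  have h1 := sum_core_add (p := p) hl
  have h2 := sum_core_add (p := p) hm
  rw [hκ] at h2
  simp only [Function.comp] at h2
  rw [Equiv.sum_comp κ (core p lam)] at h2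
  exact Nat.eq_of_mul_eq_mul_left hp (by omega)

theorem res_comp (lam : I → ℕ) (κ : Perm I) : res p (lam ∘ κ) = res p lam := by
  ext r
  rw [count_res, count_res]
  exact card_bijective κ κ.bijective (by simp)

theorem res_congr {lam mu : I → ℕ} (h : ∀ i, lam i % p = mu i % p) : res p lam = res p mu := by
  simp only [res, h]

theorem rk_comp (lam : I → ℕ) (κ : Perm I) (i : I) : rk p (lam ∘ κ) i = rk p lam (κ i) :=
  card_bijective κ κ.bijective (by simp)

theorem pt_comp (lam : I → ℕ) (κ : Perm I) (i : I) : pt p (lam ∘ κ) i = pt p lam (κ i) := by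
  rw [pt, rk_comp]
  rfl

theorem rk_congr {lam mu : I → ℕ} (h : ∀ i, lam i % p = mu i % p)
    (h' : ∀ i j, lam i % p = lam j % p → (lam i < lam j ↔ mu i < mu j)) (i : I) :
    rk p lam i = rk p mu i := by
  rw [rk, rk]
  congr 1
  refine filter_congr fun j _ => ?_
  rw [← h, ← h]
  exact and_congr_right (h' j i)

theorem core_congr {lam mu : I → ℕ} (h : ∀ i, lam i % p = mu i % p)
    (h' : ∀ i j, lam i % p = lam j % p → (lam i < lam j ↔ mu i < mu j)) :
    core p lam = core p mu := funext fun i => by rw [core, core, rk_congr h h', h]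

theorem add_le_of_mod_eq {a b : ℕ} (h : a % p = b % p) (hab : a < b) : a + p ≤ b := by
  have h1 := Nat.mul_le_mul_left p (Nat.succ_le_of_lt (div_lt_div_of_mod_eq h hab))
  have h2 := Nat.div_add_mod a p
  have h3 := Nat.div_add_mod b p
  rw [Nat.mul_succ] at h1
  omega

variable [DecidableEq I]

omit [Fintype I] in
theorem update_mod {lam : I → ℕ} {i : I} {r : ℕ} (hr : p ∣ r) (hi : r ≤ lam i) (j : I) :
    Function.update lam i (lam i - r) j % p = lam j % p := by
  by_cases h : j = i
  · subst h
    obtain ⟨k, rfl⟩ := hr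
    rw [Function.update_self, Nat.sub_mul_mod hi]
  · rw [Function.update_of_ne h]

theorem core_update {lam : I → ℕ} (hl : Function.Injective lam) {i : I} (hi : p ≤ lam i)
    (h : Function.Injective (Function.update lam i (lam i - p))) :
    core p (Function.update lam i (lam i - p)) = core p lam := by
  refine core_congr (update_mod dvd_rfl hi) fun j k hjk => ?_
  rw [update_mod dvd_rfl hi, update_mod dvd_rfl hi] at hjk
  have h1 : ∀ l, l ≠ i → lam l ≠ lam i - p := fun l hl h' =>
    hl (h (by rw [Function.update_of_ne hl, Function.update_self, h']))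
  by_cases hj : j = i <;> by_cases hk : k = i
  · simp [hj, hk]
  · subst hj
    rw [Function.update_self, Function.update_of_ne hk]
    refine ⟨fun h2 => ?_, fun h2 => by omega⟩
    by_contra h3
    have := add_le_of_mod_eq hjk.symm ((not_lt.1 h3).lt_of_ne (hl.ne hk))
    omega
  · subst hk
    rw [Function.update_self, Function.update_of_ne hj]
    refine ⟨fun h2 => by omega, fun h2 => ?_⟩
    have := add_le_of_mod_eq hjk h2
    have := h1 j hj
    omega
  · rw [Function.update_of_ne hj, Function.update_of_ne hk]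

theorem sum_update_sub {lam : I → ℕ} {i : I} {r : ℕ} (hi : r ≤ lam i) :
    ∑ j, Function.update lam i (lam i - r) j + r = ∑ j, lam j := by
  rw [sum_update_of_mem (mem_univ _), sdiff_singleton_eq_erase, ← add_sum_erase _ _ (mem_univ i)]
  omega

theorem sum_update_add (lam : I → ℕ) (i : I) (r : ℕ) :
    ∑ j, Function.update lam i (lam i + r) j = ∑ j, lam j + r := by
  rw [sum_update_of_mem (mem_univ _), sdiff_singleton_eq_erase, ← add_sum_erase _ _ (mem_univ i)]
  omega

theorem wt_of_core_update (hp : 0 < p) {lam : I → ℕ} (hl : Function.Injective lam) {i : I} {k : ℕ}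
    (hi : p * k ≤ lam i) (h : Function.Injective (Function.update lam i (lam i - p * k)))
    (hc : core p (Function.update lam i (lam i - p * k)) = core p lam) :
    wt p (Function.update lam i (lam i - p * k)) + k = wt p lam := by
  have h1 := sum_core_add (p := p) hl
  have h2 := sum_core_add (p := p) h
  have h3 := sum_update_sub hi
  rw [hc] at h2
  refine Nat.eq_of_mul_eq_mul_left hp ?_
  rw [mul_add]
  omega

theorem exists_move (hp : 0 < p) {lam : I → ℕ} (hl : Function.Injective lam) (hw : wt p lam ≠ 0) :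
    ∃ i, p ≤ lam i ∧ Function.Injective (Function.update lam i (lam i - p)) := by
  obtain ⟨i, hi, hmin⟩ := exists_min_image {i | pt p lam i ≠ 0} lam (by
    obtain ⟨i, -, hi⟩ := exists_ne_zero_of_sum_ne_zero hw
    exact ⟨i, mem_filter.2 ⟨mem_univ _, hi⟩⟩)
  replace hi := (mem_filter.1 hi).2
  have h1 := core_add (p := p) hl i
  have h2 : p ≤ lam i := by
    have := Nat.mul_le_mul_left p (Nat.one_le_iff_ne_zero.2 hi)
    omega
  have h3 : ∀ j, lam j ≠ lam i - p := fun j hj => by
    have h4 : pt p lam j = 0 := by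
      by_contra h
      have := hmin j (mem_filter.2 ⟨mem_univ _, h⟩)
      omega
    have h5 : lam j % p = lam i % p := by
      rw [hj]
      exact (Nat.mod_eq_sub_mod h2).symm
    have h6 := rk_lt_rk h5 (by omega)
    have h7 := rk_add_pt (p := p) hl i
    have h8 := rk_add_pt (p := p) hl j
    have h9 := Nat.div_eq_sub_div hp h2
    rw [← hj] at h9
    omega
  refine ⟨i, h2, fun j k hjk => ?_⟩
  by_cases hj : j = i <;> by_cases hk : k = i
  · rw [hj, hk]
  · subst hj
    rw [Function.update_self, Function.update_of_ne hk] at hjk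
    exact absurd hjk.symm (h3 k)
  · subst hk
    rw [Function.update_self, Function.update_of_ne hj] at hjk
    exact absurd hjk (h3 j)
  · rw [Function.update_of_ne hj, Function.update_of_ne hk] at hjk
    exact hl hjk

omit [DecidableEq I] in
theorem core_eq_self {lam : I → ℕ} (hl : Function.Injective lam) (hw : wt p lam = 0) :
    core p lam = lam := funext fun i => by
  have h := core_add (p := p) hl i
  rwa [sum_eq_zero_iff.1 hw i (mem_univ _), mul_zero, add_zero] at h

theorem exists_pos_sum {N : ℕ} {P : Fin N → Prop} {f : Fin N → Multiset ℕ → ℤ}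
    {g : Multiset ℕ → ℤ} (h1 : ∀ i, P i → ∃ c : ℕ, 0 < c ∧ ∀ m, f i m = c * g m)
    (h0 : ∀ i, ¬ P i → ∀ m, f i m = 0) (h : ∃ i, P i) :
    ∃ c : ℕ, 0 < c ∧ ∀ m, ∑ i, f i m = c * g m := by
  classical
  choose! c hc hc' using h1
  obtain ⟨i, hi⟩ := h
  refine ⟨∑ i with P i, c i, sum_pos' (fun _ _ => Nat.zero_le _)
    ⟨i, mem_filter.2 ⟨mem_univ _, hi⟩, hc i hi⟩, fun m => ?_⟩
  rw [Nat.cast_sum, sum_mul, sum_filter]
  refine sum_congr rfl fun j _ => ?_
  split_ifs with hj
  exacts [hc' j hj m, h0 j hj m]

/-- Removing `w` cycles of length `p` leads to the core. -/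
theorem chiM_replicate (hp : 0 < p) {N : ℕ} {lam : Fin N → ℕ} (hl : Function.Injective lam) :
    ∃ c : ℕ, 0 < c ∧ ∀ m, chiM lam (Multiset.replicate (wt p lam) p + m) =
      c * chiM (core p lam) m := by
  induction hw : wt p lam generalizing lam with
  | zero => exact ⟨1, one_pos, fun m => by simp [core_eq_self hl hw]⟩
  | succ w ih =>
    simp only [Multiset.replicate_succ, Multiset.cons_add, chiM_cons]
    refine exists_pos_sum (P := fun i => p ≤ lam i ∧
      Function.Injective (Function.update lam i (lam i - p))) (fun i hi => ?_) (fun i hi m => ?_)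
      (exists_move hp hl (by omega))
    · have h1 := core_update hl hi.1 hi.2
      have h2 := wt_of_core_update (k := 1) hp hl (i := i) (by simpa using hi.1)
        (by simpa using hi.2) (by simpa using h1)
      simp only [if_pos hi.1, ← h1]
      exact ih hi.2 (by rw [mul_one] at h2; omega)
    · split_ifs with h
      · exact chiM_eq_zero (fun h' => hi ⟨h, h'⟩) _
      · rfl

end CL.Sym
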