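import Mathlib
import Cfsg.Agent.BLK.SymCore
import Cfsg.Agent.BLK.Section
import Cfsg.Agent.BLK.Contrib
import Cfsg.Agent.BLK.Dict
import Cfsg.Agent.BLK.BlockOrth

/-!
# The blocks of the symmetric groups (the Nakayama conjecture)
-/

set_option autoImplicit false

open Cfsg Finset Equiv Subgroup CL.Blk
open scoped ComplexConjugate

namespace CL.Sym

variable {p : ℕ} {M : Ideal AlgInt}

open Classical in
/-- The converse of weak block orthogonality. -/
theorem isBlockUnion_of_kernel {G : Type*} [Group G] [Finite G] (hM : IsPModular p M)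
    {A : Set (IrrCharacter G)} (h : ∀ x y : G, ¬ p ∣ orderOf x → p ∣ orderOf y →
      ∑ χ with χ ∈ A, χ.1 x * conj (χ.1 y) = 0) : IsBlockUnion M A := by
  have := Fintype.ofFinite G
  have h1 : ∀ χ ∈ A, ∀ ψ, ψ ∉ A → contr p ψ.1 χ.1 = 0 := fun χ hχ ψ hψ => by
    have h2 : blockPart A (pRegularPart p ψ.1) = 0 := by
      funext u
      by_cases hu : p ∣ orderOf u
      · rw [blockPart_apply_kernel, sum_eq_zero fun g _ => ?_, mul_zero, Pi.zero_apply]
        by_cases hg : p ∣ orderOf g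
        · rw [pRegularPart_of_not (not_not.2 hg), zero_mul]
        · have h3 := congrArg conj (h g u hg hu)
          simp only [map_sum, map_mul, Complex.conj_conj, map_zero, mul_comm (conj _)] at h3
          rw [h3, mul_zero]
      · have h3 := blockPart_apply_kernel A ψ.1 u
        rw [blockPart_irr, if_neg hψ] at h3
        rw [blockPart_apply_kernel, h3]
        congr 1
        refine sum_congr rfl fun g _ => ?_
        by_cases hg : p ∣ orderOf g
        · rw [h u g hu hg, mul_zero, mul_zero]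
        · rw [pRegularPart_of hg]
    have h3 := classInner_blockPart A (pRegularPart p ψ.1) χ
    rw [h2, if_pos hχ] at h3
    rw [contr_def, ← h3]
    simp [classInner]
  intro χ hχ ψ hψ
  have hB := isPBlock_blockOf (M := M) χ
  obtain ⟨θ, hθ, h0⟩ := exists_height_zero p (block_nonempty hM hB)
  have h2 : ∀ ξ ∈ blockOf M χ.1, contr p ξ.1 θ.1 ≠ 0 := fun ξ hξ h => by
    have := (tilde_div_notMem_iff hM hB hξ hθ).2 h0
    rw [h, mul_zero, zero_div] at this
    exact this (zero_mem _)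
  have h3 : θ ∈ A := by
    by_contra h3
    refine h2 χ (mem_blockOf_self hM χ) ?_
    rw [← conj_contr, h1 χ hχ θ h3, map_zero]
  by_contra h4
  exact h2 ψ hψ (h1 θ h3 ψ h4)

variable {A : Type*} [Fintype A] [DecidableEq A]

theorem dvd_orderOf_iff (hp : p.Prime) (σ : Perm A) : p ∣ orderOf σ ↔ ∃ r ∈ parts σ, p ∣ r := by
  have h1 : ∀ m : Multiset ℕ, p ∣ m.lcm ↔ ∃ r ∈ m, p ∣ r := fun m => by
    induction m using Multiset.induction_on with
    | empty => simp [hp.one_lt.ne']
    | cons r m ih => simp [Multiset.lcm_cons, lcm_eq_nat_lcm, hp.dvd_lcm, ih]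
  rw [← Perm.lcm_cycleType, h1, parts, Perm.parts_partition]
  simp only [Multiset.mem_add, Multiset.mem_replicate]
  refine ⟨fun ⟨r, h, h'⟩ => ⟨r, Or.inl h, h'⟩, fun ⟨r, h, h'⟩ => ⟨r, h.resolve_right fun h => ?_, h'⟩⟩
  rw [h.2] at h'
  exact hp.one_lt.ne' (Nat.dvd_one.1 h')

theorem chi_inj {N : ℕ} {lam mu : Fin N → ℕ} (hl : lam ∈ idx N (Fintype.card A))
    (hm : mu ∈ idx N (Fintype.card A))
    (h : (fun σ : Perm A => (chi lam σ : ℂ)) = fun σ => (chi mu σ : ℂ)) : lam = mu := by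
  have h1 := classInner_chi (mem_idx.1 hl).1 (mem_idx.1 hl).2 (mem_idx.1 hm).2
  rw [← h, (isIrr_chi (mem_idx.1 hl).1 (mem_idx.1 hl).2).inner_self] at h1
  by_contra hne
  simp [hne] at h1

/-- The irreducible character of an increasing bead configuration. -/
noncomputable def irr {N : ℕ} {lam : Fin N → ℕ} (hl : lam ∈ idx N (Fintype.card A)) :
    IrrCharacter (Perm A) := ⟨_, isIrr_chi (mem_idx.1 hl).1 (mem_idx.1 hl).2⟩

theorem exists_irr_eq {N : ℕ} (hN : Fintype.card A ≤ N) (χ : IrrCharacter (Perm A)) :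
    ∃ (lam : Fin N → ℕ) (hl : lam ∈ idx N (Fintype.card A)), χ = irr hl := by
  obtain ⟨lam, h1, h2, h3⟩ := exists_eq_chi hN χ
  exact ⟨lam, mem_idx.2 ⟨h2, h1⟩, Subtype.ext h3⟩

variable (A) in
/-- The characters with given residues. -/
def blk (N p : ℕ) (ρ : Multiset ℕ) : Set (IrrCharacter (Perm A)) :=
  {χ | ∃ (lam : Fin N → ℕ) (hl : lam ∈ idx N (Fintype.card A)), res p lam = ρ ∧ χ = irr hl}

theorem irr_mem_blk {N : ℕ} {lam : Fin N → ℕ} (hl : lam ∈ idx N (Fintype.card A))
    {ρ : Multiset ℕ} : irr hl ∈ blk A N p ρ ↔ res p lam = ρ :=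
  ⟨fun ⟨_, hm, h1, h2⟩ => by rw [chi_inj hl hm (congrArg Subtype.val h2), h1],
    fun h => ⟨lam, hl, h, rfl⟩⟩

open Classical in
/-- The configurations of a set of characters. -/
noncomputable def cfg (N : ℕ) (B : Set (IrrCharacter (Perm A))) : Finset (Fin N → ℕ) :=
  {lam ∈ idx N (Fintype.card A) | ∃ hl : lam ∈ idx N (Fintype.card A), irr hl ∈ B}

theorem mem_cfg {N : ℕ} {B : Set (IrrCharacter (Perm A))} {lam : Fin N → ℕ} :
    lam ∈ cfg N B ↔ ∃ hl : lam ∈ idx N (Fintype.card A), irr hl ∈ B := by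
  simp only [cfg, mem_filter]
  exact ⟨fun h => h.2, fun h => ⟨h.1, h⟩⟩

open Classical in
theorem sum_filter_irr {R : Type*} [AddCommMonoid R] {N : ℕ} (hN : Fintype.card A ≤ N)
    (B : Set (IrrCharacter (Perm A))) (F : (Perm A → ℂ) → R) :
    ∑ χ with χ ∈ B, F χ.1 = ∑ lam ∈ cfg N B, F fun σ => chi lam σ := by
  symm
  refine sum_bij (fun lam hl => irr (mem_cfg.1 hl).1)
    (fun _ hl => mem_filter.2 ⟨mem_univ _, (mem_cfg.1 hl).2⟩)
    (fun lam hl mu hm h => chi_inj (mem_cfg.1 hl).1 (mem_cfg.1 hm).1 (congrArg Subtype.val h))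
    (fun χ hχ => ?_) fun _ _ => rfl
  obtain ⟨lam, hl, rfl⟩ := exists_irr_eq hN χ
  exact ⟨lam, mem_cfg.2 ⟨hl, (mem_filter.1 hχ).2⟩, rfl⟩

theorem cfg_blk {N : ℕ} (ρ : Multiset ℕ) :
    cfg N (blk A N p ρ) = {lam ∈ idx N (Fintype.card A) | res p lam = ρ} := by
  ext lam
  simp only [mem_cfg, irr_mem_blk, mem_filter, exists_prop]

theorem res_update_add {N : ℕ} (mu : Fin N → ℕ) (i : Fin N) {r : ℕ} (hr : p ∣ r) :
    res p (Function.update mu i (mu i + r)) = res p mu := res_congr fun j => by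
  by_cases h : j = i
  · subst h
    obtain ⟨k, rfl⟩ := hr
    simp
  · rw [Function.update_of_ne h]

theorem isBlockUnion_blk (hM : IsPModular p M) {N : ℕ} (hN : Fintype.card A ≤ N) (ρ : Multiset ℕ) :
    IsBlockUnion M (blk A N p ρ) := by
  refine isBlockUnion_of_kernel hM fun x y hx hy => ?_
  rw [sum_filter_irr hN _ fun χ => χ x * conj (χ y), cfg_blk, sum_filter]
  obtain ⟨r, hr, hpr⟩ := (dvd_orderOf_iff hM.1 y).1 hy
  obtain ⟨m, hm⟩ := Multiset.exists_cons_of_mem hr
  have h1 := parts_sum y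
  rw [hm, Multiset.sum_cons, add_comm] at h1
  have h2 := sum_conf (N := N) (n := Fintype.card A)
    (fun lam => (if res p lam = ρ then (chi lam x : ℂ) else 0) * chiM lam (r ::ₘ m))
    (fun lam hl => by simp [chiM_eq_zero hl]) fun lam κ => by
      rw [res_comp, chi_comp, chiM_comp]
      split_ifs
      · rw [Int.cast_mul, Int.cast_mul, mul_mul_mul_comm, ← Int.cast_mul, ← Units.val_mul,
          Int.units_mul_self]
        simp
      · simp
  rw [← h1, sum_conf_cons, sum_eq_zero fun mu hmu => ?_, h1, ← hm] at h2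
  · refine Eq.trans (sum_congr rfl fun lam _ => ?_) ((mul_eq_zero.1 h2.symm).resolve_left
      (Nat.cast_ne_zero.2 (Nat.factorial_ne_zero _)))
    split_ifs <;> simp [chi]
  · simp only [res_update_add mu _ hpr]
    split_ifs
    · rw [mul_eq_zero_of_left]
      exact sum_shift_eq_zero (h1 ▸ hN) (parts_pos hr) (fun s hs => parts_pos hs)
        (by rw [parts_sum, h1]) (fun h => hx ((dvd_orderOf_iff hM.1 x).2 ⟨r, h, hpr⟩))
        (mem_conf.1 hmu)
    · simp

omit [Fintype A] [DecidableEq A] in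
theorem sameCycle_pow_apply {u g : Perm A} (hg : Commute u g) {a : A} {k : ℕ}
    (h : g a = (u ^ k) a) (j : ℕ) : (g ^ j) a = (u ^ (k * j)) a := by
  induction j with
  | zero => simp
  | succ j ih =>
    rw [pow_succ', Perm.mul_apply, ih, ← Perm.mul_apply, (hg.symm.pow_right _).eq, Perm.mul_apply,
      h, ← Perm.mul_apply, ← pow_add, mul_add, mul_one]

omit [DecidableEq A] in
theorem pow_apply_eq_of_sameCycle {u g : Perm A} (hu : u ^ p = 1) (hg : Commute u g) {a : A}
    (h : u.SameCycle a (g a)) : (g ^ p) a = a := by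
  obtain ⟨k, hk⟩ := h.exists_nat_pow_eq
  rw [sameCycle_pow_apply hg hk.symm, mul_comm, pow_mul, hu, one_pow, Perm.one_apply]

/-- The base group of the centralizer of `u`. -/
def baseGrp (u : Perm A) : Subgroup (centralizer ({u} : Set (Perm A))) where
  carrier := {g | ∀ a, u.SameCycle a (g.1 a)}
  one_mem' _ := Perm.SameCycle.refl _ _
  mul_mem' {x y} hx hy a := (hy a).trans (hx _)
  inv_mem' {x} hx a := by simpa using (hx (x.1⁻¹ a)).symm

instance (u : Perm A) : (baseGrp u).Normal := ⟨fun g hg c a => by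
  have h1 : c.1 * u * c.1⁻¹ = u := by
    rw [mem_centralizer_singleton_iff.1 c.2, mul_inv_cancel_right]
  have h2 := (hg (c.1⁻¹ a)).conj (g := c.1)
  rw [h1] at h2
  simpa using h2⟩

theorem isPGroup_baseGrp {u : Perm A} (hu : u ^ p = 1) : IsPGroup p (baseGrp u) := fun g =>
  ⟨1, Subtype.ext (Subtype.ext (Equiv.ext fun a => by
    simpa using pow_apply_eq_of_sameCycle hu (mem_centralizer_singleton_iff.1 g.1.2).symm (g.2 a)))⟩

theorem disjoint_of_blockCoeff (hM : IsPModular p M) {u : Perm A} (hu : u ^ p = 1)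
    {b : Set (IrrCharacter (centralizer ({u} : Set (Perm A))))} (hb : IsBlockUnion M b)
    {s : centralizer ({u} : Set (Perm A))} (hs : blockCoeff b s ≠ 0) :
    ¬ p ∣ orderOf s ∧ Perm.Disjoint u s := by
  have h1 : ¬ p ∣ orderOf s := fun h => hs (blockCoeff_eq_zero_of_int hM (hb.isInt hM) h)
  have h2 : s ∈ centralizer (baseGrp u : Set (centralizer ({u} : Set (Perm A)))) := by
    by_contra h
    exact hs (blockCoeff_eq_zero_of_eB hM hb (fun g hg => coeff_eq_zero_of_idem_of_normal hM.1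
      (natCast_F hM) (isPGroup_baseGrp hu) (eB_isCentral b) (hb.eB_mul_self hM) hg) h)
  refine ⟨h1, fun a => or_iff_not_imp_left.2 fun ha => ?_⟩
  have h3 : u.cycleOf a ∈ centralizer ({u} : Set (Perm A)) :=
    mem_centralizer_singleton_iff.2 (Perm.self_mem_cycle_factors_commute
      (Perm.cycleOf_mem_cycleFactorsFinset_iff.2 (Perm.mem_support.2 ha))).eq
  have h4 : (⟨_, h3⟩ : centralizer ({u} : Set (Perm A))) ∈ baseGrp u := fun c => by
    simp only [Perm.cycleOf_apply]
    split_ifs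
    exacts [⟨1, by simp⟩, Perm.SameCycle.refl _ _]
  have h5 := congrArg (fun g : centralizer ({u} : Set (Perm A)) => g.1 a) (h2 _ h4)
  simp only [Subgroup.coe_mul, Perm.mul_apply, Perm.cycleOf_apply_self] at h5
  have h6 : u.SameCycle a (s.1 a) := by
    by_contra h
    rw [Perm.cycleOf_apply_of_not_sameCycle h] at h5
    exact ha (s.1.injective h5).symm
  have h7 := pow_apply_eq_of_sameCycle hu (mem_centralizer_singleton_iff.1 s.2).symm h6
  obtain ⟨m, hm⟩ := exists_pow_eq_self_of_coprime (x := s.1) (n := p)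
    (by rw [orderOf_coe]; exact (hM.1.coprime_iff_not_dvd).2 h1)
  rw [← hm]
  exact Perm.pow_apply_eq_self_of_apply_eq_self h7 m

theorem parts_mul {u s : Perm A} (hu : u ^ p = 1) (hp : p.Prime) {w : ℕ} (hw : #u.support = p * w)
    (h : Perm.Disjoint u s) : parts (u * s) = Multiset.replicate w p +
      (s.cycleType + Multiset.replicate (Fintype.card A - p * w - #s.support) 1) := by
  have := Fact.mk hp
  have h1 : u.cycleType = Multiset.replicate w p := by
    have h2 := Perm.cycleType_of_pow_prime_eq_one hu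
    have h3 := u.sum_cycleType
    rw [h2, Multiset.sum_replicate, hw, smul_eq_mul, mul_comm] at h3
    rw [h2, Nat.eq_of_mul_eq_mul_left hp.pos h3]
  rw [parts, Perm.parts_partition, h.cycleType_mul, h1, h.card_support_mul, hw, add_assoc,
    Nat.sub_sub]

theorem le_of_strictMono {N : ℕ} {f : Fin N → ℕ} (hf : StrictMono f) (i : Fin N) : i.val ≤ f i := by
  obtain ⟨i, hi⟩ := i
  induction i with
  | zero => exact Nat.zero_le _
  | succ i ih => exact (ih (by omega)).trans_lt (hf (Fin.mk_lt_mk.2 i.lt_succ_self))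

theorem isSize_core (hp : 0 < p) {N n : ℕ} {lam : Fin N → ℕ} (hl : Function.Injective lam)
    (h : IsSize lam n) : p * wt p lam ≤ n ∧ IsSize (core p lam) (n - p * wt p lam) := by
  obtain ⟨κ, hκ⟩ := exists_sort (core_injective hp hl)
  have h1 := sum_le_sum fun i (_ : i ∈ univ) => le_of_strictMono hκ i
  have h2 := sum_core_add (p := p) hl
  simp only [Function.comp] at h1
  rw [Equiv.sum_comp κ (core p lam)] at h1
  rw [IsSize] at h ⊢
  omega

theorem chiM_replicate_one_ne_zero {N n : ℕ} {lam : Fin N → ℕ} (hl : Function.Injective lam)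
    (h : IsSize lam n) : chiM lam (Multiset.replicate n 1) ≠ 0 := by
  obtain ⟨κ, hκ⟩ := exists_sort hl
  have h1 := chi_one_pos (A := Fin n) (by simpa using h.comp κ) hκ
  rw [chi, chiM_comp, parts, Perm.parts_partition] at h1
  intro h2
  simp [h2] at h1

theorem exists_blockCoeff_eq (hM : IsPModular p M) {N : ℕ} (hN : Fintype.card A ≤ N)
    {lam : Fin N → ℕ} (hl : lam ∈ idx N (Fintype.card A)) {u : Perm A} (hu : u ^ p = 1)
    (hw : #u.support = p * wt p lam) :
    ∃ (γ : centralizer ({u} : Set (Perm A)) → ℂ) (c : (Fin N → ℕ) → ℕ), γ 1 ≠ 0 ∧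
      (∀ mu ∈ cfg N (blk A N p (res p lam)), 0 < c mu) ∧
      ∀ B ⊆ blk A N p (res p lam), IsBlockUnion M B → ∀ s,
        blockCoeff (locSet M (centralizer {u}).subtype B) s = (∑ mu ∈ cfg N B, c mu : ℕ) * γ s := by
  classical
  have hp := hM.1
  have := Fact.mk hp
  have hsec := isSec_centralizer (p := p) (x := u) (by
    obtain ⟨k, -, hk⟩ := (Nat.dvd_prime_pow hp).1 (orderOf_dvd_of_pow_eq_one
      (by rwa [pow_one] : u ^ p ^ 1 = 1))
    exact ⟨k, hk⟩)
  have hli := (mem_idx.1 hl).2.injective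
  let g : Perm A → ℤ := fun s => chiM (core p lam)
    (s.cycleType + Multiset.replicate (Fintype.card A - p * wt p lam - #s.support) 1)
  have h1 : ∀ mu ∈ cfg N (blk A N p (res p lam)), ∃ c : ℤ, c ≠ 0 ∧
      ∀ s, Perm.Disjoint u s → chi mu (u * s) = c * g s := fun mu hmu => by
    rw [cfg_blk, mem_filter, mem_idx] at hmu
    obtain ⟨c, hc, h1⟩ := chiM_replicate hp.pos hmu.1.2.injective
    obtain ⟨κ, hκ⟩ := exists_core_eq hp.pos hli hmu.1.2.injective hmu.2.symm
    refine ⟨c * Perm.sign κ, mul_ne_zero (by omega) (Units.ne_zero _), fun s hs => ?_⟩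
    rw [wt_eq hp.pos hmu.1.2.injective hli hmu.2 (hmu.1.1.trans (mem_idx.1 hl).1.symm)] at h1
    rw [chi, parts_mul hu hp hw hs, h1, hκ, chiM_comp, mul_assoc]
  choose! c hc hc' using h1
  refine ⟨fun s => if ¬ p ∣ orderOf s ∧ Perm.Disjoint u s then
    (Nat.card (centralizer ({u} : Set (Perm A))) : ℂ)⁻¹ * (g 1 * g s) else 0,
    fun mu => (c mu ^ 2).natAbs, ?_, fun mu hmu => Int.natAbs_pos.2 (pow_ne_zero _ (hc mu hmu)),
    fun B hB hB' s => ?_⟩
  · have h2 : g 1 ≠ 0 := by
      simpa [g] using chiM_replicate_one_ne_zero (core_injective hp.pos hli)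
        (isSize_core hp.pos hli (mem_idx.1 hl).1).2
    simp [hp.one_lt.ne', Perm.disjoint_one_right, h2]
  · dsimp only
    split_ifs with h
    · rw [blockCoeff_eq_sum, ← hsec.column hM hB' (by simpa using hp.one_lt.ne') h.1,
        sum_filter_irr hN B fun χ => χ _ * conj (χ _), mul_left_comm, Nat.cast_sum, sum_mul]
      congr 1
      refine sum_congr rfl fun mu hmu => ?_
      have hmu' : mu ∈ cfg N (blk A N p (res p lam)) :=
        mem_cfg.2 ⟨(mem_cfg.1 hmu).1, hB (mem_cfg.1 hmu).2⟩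
      have h2 := hc' mu hmu' 1 (Perm.disjoint_one_right _)
      simp only [coe_subtype, Subgroup.coe_mul, h2, hc' mu hmu' s h.2, map_intCast, OneMemClass.coe_one,
        Nat.cast_natAbs, abs_sq]
      push_cast
      ring
    · rw [mul_zero]
      by_contra h'
      exact h (disjoint_of_blockCoeff hM hu (isBlockUnion_locSet hM _ _) h')

theorem exists_pow_eq_one (hp : p.Prime) {w : ℕ} (h : p * w ≤ Fintype.card A) :
    ∃ u : Perm A, u ^ p = 1 ∧ #u.support = p * w := by
  have := Fact.mk hp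
  obtain ⟨u, hu⟩ := (Perm.exists_with_cycleType_iff A (m := Multiset.replicate w p)).2
    ⟨by simpa [mul_comm] using h, fun a ha => (Multiset.eq_of_mem_replicate ha) ▸ hp.two_le⟩
  refine ⟨u, Perm.pow_prime_eq_one_iff.2 fun c hc => Multiset.eq_of_mem_replicate (hu ▸ hc), ?_⟩
  rw [← Perm.sum_cycleType, hu, Multiset.sum_replicate, smul_eq_mul, mul_comm]

/-- The Nakayama conjecture. -/
theorem isPBlock_blk (hM : IsPModular p M) {N : ℕ} (hN : Fintype.card A ≤ N)
    {lam : Fin N → ℕ} (hl : lam ∈ idx N (Fintype.card A)) : IsPBlock M (blk A N p (res p lam)) := by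
  obtain ⟨u, hu, hw⟩ := exists_pow_eq_one (A := A) hM.1
    (isSize_core hM.1.pos (mem_idx.1 hl).2.injective (mem_idx.1 hl).1).1
  obtain ⟨γ, c, h1, hc, h⟩ := exists_blockCoeff_eq hM hN hl hu hw
  have hA := isBlockUnion_blk hM hN (res p lam)
  have hB := isPBlock_blockOf (M := M) (irr hl)
  have hm := mem_blockOf_self hM (irr hl)
  have hs := hA.block_subset hM hB hm ((irr_mem_blk hl).2 rfl)
  have hs' : cfg N (blockOf M (irr hl).1) ⊆ cfg N (blk A N p (res p lam)) := fun mu hmu =>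
    mem_cfg.2 ⟨(mem_cfg.1 hmu).1, hs (mem_cfg.1 hmu).2⟩
  have h2 : ∀ B ⊆ blk A N p (res p lam), IsBlockUnion M B → irr hl ∈ B →
      ((∑ mu ∈ cfg N B, c mu : ℕ) : ℂ) • ((ofFun γ : MonoidAlgebra ℂ _) * ofFun γ) = ofFun γ :=
    fun B hB hB' hm => by
      have h3 : blockIdem (locSet M (centralizer {u}).subtype B) =
          ((∑ mu ∈ cfg N B, c mu : ℕ) : ℂ) • ofFun γ := ga_ext fun s => by
        simpa using h B hB hB' s
      have h4 := blockIdem_mul_self (locSet M (centralizer {u}).subtype B)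
      rw [h3, smul_mul_smul_comm, mul_smul] at h4
      refine smul_right_injective _ (Nat.cast_ne_zero.2 (sum_pos' (fun _ _ => Nat.zero_le _)
        ⟨lam, mem_cfg.2 ⟨hl, hm⟩, hc _ (mem_cfg.2 ⟨hl, hB hm⟩)⟩).ne') h4
  have h3 := h2 _ hs (isBlockUnion_of_block hM hB) hm
  have h4 := h2 _ subset_rfl hA (hs hm)
  have h5 : (ofFun γ : MonoidAlgebra ℂ _) * ofFun γ ≠ 0 := fun h => h1 (by
    rw [h, smul_zero] at h3
    simpa using (congrArg (fun a => a.coeff 1) h3).symm)
  have h6 := Nat.cast_injective (smul_left_injective ℂ h5 (h3.trans h4.symm))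
  suffices blockOf M (irr hl).1 = blk A N p (res p lam) from this ▸ hB
  refine hs.antisymm ?_
  rintro _ ⟨mu, hmu, h7, rfl⟩
  by_contra h8
  refine (sum_lt_sum_of_subset hs' (i := mu) (mem_cfg.2 ⟨hmu, (irr_mem_blk hmu).2 h7⟩)
    (fun h => h8 (mem_cfg.1 h).2) (hc _ (mem_cfg.2 ⟨hmu, (irr_mem_blk hmu).2 h7⟩))
    fun _ _ _ => Nat.zero_le _).ne h6

theorem exists_eq_blk (hM : IsPModular p M) {N : ℕ} (hN : Fintype.card A ≤ N)
    {B : Set (IrrCharacter (Perm A))} (hB : IsPBlock M B) :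
    ∃ lam ∈ idx N (Fintype.card A), B = blk A N p (res p lam) := by
  obtain ⟨χ, hχ⟩ := block_nonempty hM hB
  obtain ⟨lam, hl, rfl⟩ := exists_irr_eq hN χ
  exact ⟨lam, hl, block_eq_of_mem hM hB (isPBlock_blk hM hN hl) hχ ((irr_mem_blk hl).2 rfl)⟩

theorem exists_coeff_ne_zero (hM : IsPModular p M) {N : ℕ} (hN : Fintype.card A ≤ N)
    {lam : Fin N → ℕ} (hl : lam ∈ idx N (Fintype.card A)) {u : Perm A} (hu : u ^ p = 1)
    (hw : #u.support = p * wt p lam) :
    ∃ x, Perm.Disjoint u x ∧ (eB M (blk A N p (res p lam))).coeff x ≠ 0 := by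
  obtain ⟨γ, c, h1, hc, h⟩ := exists_blockCoeff_eq hM hN hl hu hw
  have hA := isBlockUnion_blk hM hN (res p lam)
  have hb := isBlockUnion_locSet hM (centralizer {u}).subtype (blk A N p (res p lam))
  have hm := mem_cfg.2 ⟨hl, (irr_mem_blk (p := p) hl).2 rfl⟩
  have h2 : eB M (locSet M (centralizer {u}).subtype (blk A N p (res p lam))) ≠ 0 := fun h0 => by
    have h3 := h _ subset_rfl hA 1
    rw [hb.eq_of_eB_eq hM isBlockUnion_empty (h0.trans eB_empty.symm), ← coeff_blockIdem,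
      blockIdem_empty] at h3
    exact mul_ne_zero (Nat.cast_ne_zero.2 (sum_pos' (fun _ _ => Nat.zero_le _)
      ⟨lam, hm, hc _ hm⟩).ne') h1 h3.symm
  obtain ⟨s, hs⟩ : ∃ s, (eB M (locSet M (centralizer {u}).subtype
      (blk A N p (res p lam)))).coeff s ≠ 0 := by
    by_contra h
    push Not at h
    exact h2 (ga_ext h)
  refine ⟨s, (disjoint_of_blockCoeff hM hu hb fun h => hs ?_).2, ?_⟩
  · rw [coeff_eB, h, red_zero]
  · obtain ⟨k, -, hk⟩ := (Nat.dvd_prime_pow hM.1).1 (orderOf_dvd_of_pow_eq_one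
      (by rwa [pow_one] : u ^ p ^ 1 = 1))
    rwa [eB_locSet hM ⟨k, hk⟩ (subtype_injective _) (range_subtype _) hA, coeff_res] at hs

end CL.Sym
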