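import Mathlib
import Cfsg.Agent.BLK.SymCore

/-!
# Counting coloured partitions
-/

set_option autoImplicit false

open Finset Equiv

namespace CL.Sym

variable (κ : Type*)

/-- The coloured partitions. -/
def CP (w : ℕ) : Set (Multiset (ℕ × κ)) := {m | (∀ x ∈ m, 0 < x.1) ∧ (m.map Prod.fst).sum = w}

variable {κ}

theorem eq_zero_of_mem_CP {m : Multiset (ℕ × κ)} (h : m ∈ CP κ 0) : m = 0 := by
  refine Multiset.eq_zero_of_forall_notMem fun x hx => (h.1 x hx).ne' ?_
  exact Multiset.sum_eq_zero_iff.1 h.2 _ (Multiset.mem_map_of_mem _ hx)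

theorem tail_mem_CP {m : Multiset (ℕ × κ)} {x : ℕ × κ} {w : ℕ} (h : x ::ₘ m ∈ CP κ w) :
    m ∈ CP κ (w - x.1) ∧ x.1 ≤ w := by
  have h2 := h.2
  rw [Multiset.map_cons, Multiset.sum_cons] at h2
  exact ⟨⟨fun y hy => h.1 y (Multiset.mem_cons_of_mem hy), by omega⟩, by omega⟩

theorem exists_cons_of_mem_CP {m : Multiset (ℕ × κ)} {w : ℕ} (h : m ∈ CP κ (w + 1)) :
    ∃ x m', m = x ::ₘ m' ∧ ∀ y ∈ m', x.1 ≤ y.1 := by
  classical
  obtain ⟨x, hx, h1⟩ := exists_min_image m.toFinset Prod.fst (by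
    rw [Multiset.toFinset_nonempty]
    rintro rfl
    simpa using h.2)
  obtain ⟨m', rfl⟩ := Multiset.exists_cons_of_mem (Multiset.mem_toFinset.1 hx)
  exact ⟨x, m', rfl, fun y hy => h1 y (by simp [hy])⟩

open Classical in
/-- One step of growth of a coloured partition. -/
noncomputable def grow : Option κ × Multiset (ℕ × κ) → Multiset (ℕ × κ)
  | (some c, m) => (1, c) ::ₘ m
  | (none, m) => if h : ∃ x ∈ m, ∀ y ∈ m, x.1 ≤ y.1 then
      (h.choose.1 + 1, h.choose.2) ::ₘ m.erase h.choose else 0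

theorem CP_succ_subset (w : ℕ) : CP κ (w + 1) ⊆ grow '' (Set.univ ×ˢ CP κ w) := fun m hm => by
  classical
  obtain ⟨x, m', rfl, h⟩ := exists_cons_of_mem_CP hm
  have h0 := hm.1 x (Multiset.mem_cons_self _ _)
  have h1 := tail_mem_CP hm
  by_cases hx : x.1 = 1
  · exact ⟨(some x.2, m'), ⟨trivial, by simpa [hx] using h1.1⟩, by rw [grow, ← hx]⟩
  · refine ⟨(none, (x.1 - 1, x.2) ::ₘ m'), ⟨trivial, fun y hy => ?_, ?_⟩, ?_⟩
    · rcases Multiset.mem_cons.1 hy with rfl | hy
      · simp only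
        omega
      · exact h1.1.1 y hy
    · rw [Multiset.map_cons, Multiset.sum_cons, h1.1.2]
      omega
    · have h2 : ∃ z ∈ (x.1 - 1, x.2) ::ₘ m', ∀ y ∈ (x.1 - 1, x.2) ::ₘ m', z.1 ≤ y.1 :=
        ⟨_, Multiset.mem_cons_self _ _, fun y hy => by
          rcases Multiset.mem_cons.1 hy with rfl | hy
          exacts [le_rfl, (Nat.sub_le _ _).trans (h y hy)]⟩
      have h3 : h2.choose = (x.1 - 1, x.2) := by
        refine (Multiset.mem_cons.1 h2.choose_spec.1).resolve_right fun h3 => ?_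
        have h4 := h2.choose_spec.2 _ (Multiset.mem_cons_self _ _)
        have h5 := h _ h3
        simp only at h4
        omega
      rw [grow, dif_pos h2, h3, Multiset.erase_cons_head, Nat.sub_add_cancel h0]

variable [Finite κ]

theorem finite_CP (w : ℕ) : (CP κ w).Finite := by
  induction w with
  | zero => exact (Set.finite_singleton 0).subset fun m hm => eq_zero_of_mem_CP hm
  | succ w ih => exact ((Set.finite_univ.prod ih).image _).subset (CP_succ_subset w)

theorem ncard_CP_succ (w : ℕ) : (CP κ (w + 1)).ncard ≤ (Nat.card κ + 1) * (CP κ w).ncard := by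
  have h := Set.finite_univ (α := Option κ) |>.prod (finite_CP (κ := κ) w)
  refine (Set.ncard_le_ncard (CP_succ_subset w) (h.image _)).trans ((Set.ncard_image_le h).trans ?_)
  rw [Set.ncard_prod, Set.ncard_univ, Finite.card_option]

omit [Finite κ] in
theorem exists_of_mem_CP_one {m : Multiset (ℕ × κ)} (h : m ∈ CP κ 1) : ∃ c, m = {(1, c)} := by
  obtain ⟨x, m', rfl, -⟩ := exists_cons_of_mem_CP h
  have h0 := h.1 x (Multiset.mem_cons_self _ _)
  have h1 := tail_mem_CP h
  have h2 : x.1 = 1 := by omega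
  rw [h2] at h1
  exact ⟨x.2, by rw [eq_zero_of_mem_CP h1.1, ← h2]; rfl⟩

theorem ncard_CP_one : (CP κ 1).ncard ≤ Nat.card κ := by
  rw [← Set.ncard_univ]
  refine (Set.ncard_le_ncard (t := (fun c => {(1, c)}) '' Set.univ) (fun m hm => ?_)
    (Set.finite_univ.image _)).trans (Set.ncard_image_le Set.finite_univ)
  obtain ⟨c, rfl⟩ := exists_of_mem_CP_one hm
  exact ⟨c, trivial, rfl⟩

theorem ncard_CP_three : (CP κ 3).ncard ≤
    Nat.card κ + Nat.card κ * Nat.card κ + (Nat.card κ + 2).choose 3 := by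
  classical
  have := Fintype.ofFinite κ
  let f : κ ⊕ κ × κ ⊕ Sym κ 3 → Multiset (ℕ × κ) := Sum.elim (fun c => {(3, c)})
    (Sum.elim (fun c => {(2, c.1), (1, c.2)}) fun s => s.1.map fun c => (1, c))
  refine (Set.ncard_le_ncard (t := f '' Set.univ) (fun m hm => ?_)
    (Set.finite_univ.image _)).trans ((Set.ncard_image_le Set.finite_univ).trans ?_)
  · by_cases h : ∀ x ∈ m, x.1 = 1
    · refine ⟨Sum.inr (Sum.inr ⟨m.map Prod.snd, ?_⟩), trivial, ?_⟩
      · have h2 := hm.2
        rw [Multiset.map_congr rfl h] at h2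
        simpa using h2
      · change (m.map Prod.snd).map (fun c => (1, c)) = m
        rw [Multiset.map_map]
        exact (Multiset.map_congr rfl fun x hx => by rw [← h x hx]; rfl).trans m.map_id
    · push Not at h
      obtain ⟨x, hx, h⟩ := h
      obtain ⟨m', rfl⟩ := Multiset.exists_cons_of_mem hx
      have h0 := hm.1 x hx
      have h1 := tail_mem_CP hm
      by_cases h2 : x.1 = 2
      · rw [h2] at h1
        obtain ⟨c, rfl⟩ := exists_of_mem_CP_one h1.1
        exact ⟨Sum.inr (Sum.inl (x.2, c)), trivial, by rw [← Prod.eta x, h2]; rfl⟩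
      · have h3 : x.1 = 3 := by omega
        rw [h3] at h1
        exact ⟨Sum.inl x.2, trivial, by rw [eq_zero_of_mem_CP h1.1, ← Prod.eta x, h3]; rfl⟩
  · simp [Set.ncard_univ, Sym.card_sym_eq_choose, add_assoc]

theorem ncard_CP_add (w k : ℕ) : (CP κ (w + k)).ncard ≤ (Nat.card κ + 1) ^ k * (CP κ w).ncard := by
  induction k with
  | zero => simp
  | succ k ih =>
    refine (ncard_CP_succ _).trans ?_
    rw [pow_succ', mul_assoc]
    exact Nat.mul_le_mul_left _ ih

theorem ncard_CP_lt {w : ℕ} (hw : w ≠ 0) : (CP κ w).ncard < (Nat.card κ + 1) ^ w := by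
  obtain ⟨k, rfl⟩ : ∃ k, w = 1 + k := ⟨w - 1, by omega⟩
  refine (ncard_CP_add 1 k).trans_lt ?_
  rw [pow_add, pow_one, mul_comm]
  exact Nat.mul_lt_mul_of_pos_right (Nat.lt_succ_of_le ncard_CP_one) (by positivity)

theorem two_mul_ncard_CP_lt {w : ℕ} (hw : 3 ≤ w) : 2 * (CP κ w).ncard < (Nat.card κ + 1) ^ w := by
  obtain ⟨k, rfl⟩ := Nat.exists_eq_add_of_le hw
  have h1 := ncard_CP_three (κ := κ)
  have h2 := ncard_CP_add (κ := κ) 3 k
  generalize Nat.card κ = a at h1 h2 ⊢
  have h3 : (a + 2).choose 3 * 6 = a * (a + 1) * (a + 2) := by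
    have := Nat.descFactorial_eq_factorial_mul_choose (a + 2) 3
    simp only [Nat.descFactorial, Nat.factorial] at this
    simp only [Nat.add_sub_cancel, Nat.sub_zero, show a + 2 - 1 = a + 1 by omega] at this
    linarith
  have h4 : 2 * (CP κ 3).ncard < (a + 1) ^ 3 := by nlinarith
  have h5 : 0 < (a + 1) ^ k := by positivity
  rw [pow_add]
  nlinarith

section Vac

variable {I : Type*} [Fintype I] {p : ℕ}

theorem pt_mono {lam : I → ℕ} (hl : Function.Injective lam) {i j : I} (h : lam i % p = lam j % p)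
    (hij : lam i ≤ lam j) : pt p lam i ≤ pt p lam j := by
  classical
  have h1 : rk p lam j ≤ rk p lam i + (lam j / p - lam i / p) := by
    rw [← Nat.card_Ico, rk, rk]
    refine (card_le_card (t := (univ.filter fun k => lam k % p = lam i % p ∧ lam k < lam i) ∪
      univ.filter fun k => lam k % p = lam j % p ∧ lam i ≤ lam k ∧ lam k < lam j)
      fun k hk => ?_).trans
      ((card_union_le _ _).trans (Nat.add_le_add_left ?_ _))
    · simp only [mem_filter, mem_univ, true_and, mem_union] at hk ⊢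
      omega
    · refine card_le_card_of_injOn (fun k => lam k / p) (fun k hk => ?_) fun k hk l hl' h => hl ?_
      · have := (mem_filter.1 hk).2
        exact mem_coe.2 (mem_Ico.2 ⟨Nat.div_le_div_right this.2.1,
          div_lt_div_of_mod_eq this.1 this.2.2⟩)
      · exact eq_of_mod_eq_of_div_eq ((mem_filter.1 hk).2.1.trans (mem_filter.1 hl').2.1.symm) h
  have h2 := rk_add_pt (p := p) hl i
  have h3 := rk_add_pt (p := p) hl j
  have h4 := Nat.div_le_div_right (c := p) hij
  omega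

theorem le_pt_iff {lam : I → ℕ} (hl : Function.Injective lam) (i : I) (v : ℕ) : v ≤ pt p lam i ↔
    (res p lam).count (lam i % p) ≤ rk p lam i + #{j | lam j % p = lam i % p ∧ v ≤ pt p lam j} := by
  classical
  rw [count_res, rk]
  constructor
  · intro h
    refine (card_le_card fun k hk => ?_).trans (card_union_le _ _)
    simp only [mem_filter, mem_univ, true_and, mem_union] at hk ⊢
    rcases lt_or_ge (lam k) (lam i) with h1 | h1
    exacts [Or.inl ⟨hk, h1⟩, Or.inr ⟨hk, h.trans (pt_mono hl hk.symm h1)⟩]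
  · intro h
    by_contra h1
    rw [← card_union_of_disjoint (disjoint_filter.2 fun k _ h2 h3 => h1
      (h3.2.trans (pt_mono hl h2.1 h2.2.le)))] at h
    refine (card_lt_card ⟨fun k hk => ?_, fun hs => ?_⟩).not_ge h
    · simp only [mem_filter, mem_univ, true_and, mem_union] at hk ⊢
      exact hk.elim And.left And.left
    · simpa [h1] using hs (mem_filter.2 ⟨mem_univ i, rfl⟩)

theorem range_subset_of_cnt {lam mu : I → ℕ} (hl : Function.Injective lam)
    (hm : Function.Injective mu) (h : res p lam = res p mu)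
    (h' : ∀ r v, 0 < v → #{j | lam j % p = r ∧ v ≤ pt p lam j} = #{j | mu j % p = r ∧ v ≤ pt p mu j}) :
    Set.range lam ⊆ Set.range mu := by
  rintro _ ⟨i, rfl⟩
  obtain ⟨j, h1, h2⟩ := exists_rk_eq hm (h ▸ rk_lt_count (p := p) lam i)
  have h3 : pt p mu j = pt p lam i := eq_of_forall_le_iff fun v => by
    rcases v.eq_zero_or_pos with rfl | hv
    · simp
    · rw [le_pt_iff hm, le_pt_iff hl, h1, h2, h, h' _ _ hv]
  exact ⟨j, by rw [← core_add (p := p) hm, ← core_add (p := p) hl i, core, core, h1, h2, h3]⟩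

/-- The first runner is in its ground state. -/
def Vac (p : ℕ) (lam : I → ℕ) : Prop := ∀ i, lam i % p = 0 → pt p lam i = 0

open Classical in
/-- The increasing configurations with given residues whose first runner is in its ground state. -/
noncomputable def vac (N n p : ℕ) (ρ : Multiset ℕ) : Finset (Fin N → ℕ) :=
  {lam ∈ idx N n | res p lam = ρ ∧ Vac p lam}

theorem mem_vac {N n : ℕ} {ρ : Multiset ℕ} {lam : Fin N → ℕ} :
    lam ∈ vac N n p ρ ↔ lam ∈ idx N n ∧ res p lam = ρ ∧ Vac p lam := by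
  simp [vac]

theorem card_vac_le (hp : 2 ≤ p) {N n : ℕ} {lam : Fin N → ℕ} (hl : lam ∈ idx N n) :
    #(vac N n p (res p lam)) ≤ (CP (Fin (p - 1)) (wt p lam)).ncard := by
  obtain ⟨a, rfl⟩ : ∃ a, p = a + 2 := ⟨p - 2, by omega⟩
  let col : ℕ → Fin (a + 1) := fun r => Fin.ofNat _ (r - 1)
  let t : (Fin N → ℕ) → Multiset (ℕ × Fin (a + 1)) := fun mu =>
    (univ.filter fun i => pt (a + 2) mu i ≠ 0).val.map fun i => (pt (a + 2) mu i, col (mu i % (a + 2)))
  have h1 : ∀ mu, Vac (a + 2) mu → ∀ r v, 0 < v → #{j | mu j % (a + 2) = r ∧ v ≤ pt (a + 2) mu j} =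
      if 0 < r ∧ r < a + 2 then (t mu).countP fun x => v ≤ x.1 ∧ x.2 = col r else 0 := by
    intro mu hmu r v hv
    split_ifs with h
    · rw [Multiset.countP_map, ← filter_val, filter_filter, ← card_def]
      congr 1
      refine filter_congr fun j _ => ⟨fun h' => ⟨by omega, h'.2, by rw [h'.1]⟩, fun h' => ⟨?_, h'.2.1⟩⟩
      have h2 := congrArg Fin.val h'.2.2
      have h3 := Nat.mod_lt (mu j) (show 0 < a + 2 by omega)
      have h4 := mt (hmu j) h'.1
      simp only [col, Fin.val_ofNat] at h2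
      rw [Nat.mod_eq_of_lt (show mu j % (a + 2) - 1 < a + 1 by omega),
        Nat.mod_eq_of_lt (show r - 1 < a + 1 by omega)] at h2
      omega
    · refine card_eq_zero.2 (filter_eq_empty_iff.2 fun j _ h' => ?_)
      have h3 := Nat.mod_lt (mu j) (show 0 < a + 2 by omega)
      have h4 := hmu j (by omega)
      omega
  rw [← Set.ncard_coe_finset]
  refine Set.ncard_le_ncard_of_injOn t (fun mu hmu => ⟨fun x hx => ?_, ?_⟩) (fun mu hmu nu hnu h => ?_)
    (finite_CP _)
  · obtain ⟨i, hi, rfl⟩ := Multiset.mem_map.1 hx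
    exact Nat.pos_of_ne_zero (mem_filter.1 (mem_def.2 hi)).2
  · obtain ⟨h2, h3, -⟩ := mem_vac.1 hmu
    rw [← wt_eq (by omega) (mem_idx.1 h2).2.injective (mem_idx.1 hl).2.injective h3
      ((mem_idx.1 h2).1.trans (mem_idx.1 hl).1.symm), Multiset.map_map, wt, ← sum_filter_ne_zero]
    rfl
  · obtain ⟨h2, h3, h4⟩ := mem_vac.1 hmu
    obtain ⟨h5, h6, h7⟩ := mem_vac.1 hnu
    have h8 := (mem_idx.1 h2).2
    have h9 := (mem_idx.1 h5).2
    exact (h8.range_inj h9).1 (Set.Subset.antisymm
      (range_subset_of_cnt h8.injective h9.injective (h3.trans h6.symm) fun r v hv => by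
        rw [h1 _ h4 _ _ hv, h1 _ h7 _ _ hv, h])
      (range_subset_of_cnt h9.injective h8.injective (h6.trans h3.symm) fun r v hv => by
        rw [h1 _ h4 _ _ hv, h1 _ h7 _ _ hv, h]))

end Vac

end CL.Sym
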