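import Mathlib
import Cfsg.Agent.BLK.SymBlock
import Cfsg.Agent.BLK.SymCount
import Cfsg.Prelude.Def_CaseTheorems

/-!
# The number of Brauer characters in a block of a symmetric group
-/

set_option autoImplicit false

open Cfsg Finset Equiv Subgroup CL.Blk
open scoped CL.MSS

namespace CL.Sym

variable {p : ℕ} {M : Ideal AlgInt}

theorem exists_isSize {N : ℕ} {lam : Fin N → ℕ} (hl : Function.Injective lam) :
    ∃ n, IsSize lam n := by
  obtain ⟨κ, hκ⟩ := exists_sort hl
  have h1 := sum_le_sum fun i (_ : i ∈ univ) => le_of_strictMono hκ i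
  simp only [Function.comp] at h1
  rw [Equiv.sum_comp κ lam] at h1
  exact ⟨_, (Nat.sub_add_cancel h1).symm⟩

theorem eq_of_isSize_zero {N : ℕ} {lam : Fin N → ℕ} (hl : StrictMono lam) (h : IsSize lam 0)
    (i : Fin N) : lam i = i :=
  ((sum_eq_sum_iff_of_le fun i _ => le_of_strictMono hl i).1 (h.trans (zero_add _)).symm i
    (mem_univ _)).symm

theorem IsAlt.eq_zero_of_vac (hp : 0 < p) {N n : ℕ} {ρ : Multiset ℕ} {F : (Fin N → ℕ) → ℂ}
    (hF : IsAlt F) (h : ∀ mu k, 0 < k → Function.Injective mu →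
      ∑ i, mu i + p * k = n + ∑ i : Fin N, i.val →
        ∑ i, F (Function.update mu i (mu i + p * k)) = 0)
    (h0 : ∀ lam ∈ vac N n p ρ, F lam = 0) {lam : Fin N → ℕ} (hs : IsSize lam n)
    (hr : res p lam = ρ) : F lam = 0 := by
  classical
  induction hd : ∑ i with lam i % p = 0, lam i using Nat.strong_induction_on generalizing lam with
  | h d ih => ?_
  by_cases hl : Function.Injective lam
  swap
  · exact hF.eq_zero hl
  by_cases hv : Vac p lam
  · obtain ⟨κ, hκ⟩ := exists_sort hl
    have h1 := h0 _ (mem_vac.2 ⟨mem_idx.2 ⟨hs.comp κ, hκ⟩, (res_comp _ _).trans hr,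
      fun i hi => (pt_comp _ _ _).trans (hv _ hi)⟩)
    rw [hF] at h1
    exact (mul_eq_zero.1 h1).resolve_left (Int.cast_ne_zero.2 (Units.ne_zero _))
  obtain ⟨N', ⟨e⟩⟩ : ∃ N', Nonempty (Fin N' ≃ {i // lam i % p = 0}) :=
    ⟨_, ⟨(Fintype.equivFin _).symm⟩⟩
  let ext : (Fin N' → ℕ) → Fin N → ℕ := fun ν i =>
    if h : lam i % p = 0 then p * ν (e.symm ⟨i, h⟩) else lam i
  have he : ∀ ν j, ext ν (e j) = p * ν j := fun ν j => by simp [ext, (e j).2]
  have he' : ∀ ν i, ¬ lam i % p = 0 → ext ν i = lam i := fun ν i hi => dif_neg hi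
  have hcases : ∀ i : Fin N, (∃ j, i = (e j).1) ∨ ¬ lam i % p = 0 := fun i =>
    or_iff_not_imp_right.2 fun hi => ⟨e.symm ⟨i, not_not.1 hi⟩, by simp⟩
  have hmod : ∀ ν i, ext ν i % p = lam i % p := fun ν i => by
    rcases hcases i with ⟨j, rfl⟩ | hi
    · rw [he, (e j).2, Nat.mul_mod_right]
    · rw [he' _ _ hi]
  have hsum : ∀ ν, ∑ i with lam i % p = 0, ext ν i = p * ∑ j, ν j := fun ν => by
    rw [sum_subtype _ (p := fun i => lam i % p = 0) (by simp), ← e.sum_comp, mul_sum]
    simp only [he]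
  have hsum' : ∀ ν, ∑ i, ext ν i = p * ∑ j, ν j + ∑ i with ¬ lam i % p = 0, lam i := fun ν => by
    rw [← sum_filter_add_sum_filter_not univ fun i => lam i % p = 0, hsum]
    congr 1
    exact sum_congr rfl fun i hi => he' _ _ (mem_filter.1 hi).2
  have h1 : ext (fun j => lam (e j) / p) = lam := by
    funext i
    rcases hcases i with ⟨j, rfl⟩ | hi
    · rw [he fun j => lam (e j) / p, Nat.mul_div_cancel' (Nat.dvd_of_mod_eq_zero (e j).2)]
    · exact he' (fun j => lam (e j) / p) _ hi
  have hinj : Function.Injective fun j => lam (e j) / p := fun j k hjk =>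
    e.injective (Subtype.ext (hl (eq_of_mod_eq_of_div_eq ((e j).2.trans (e k).2.symm) hjk)))
  obtain ⟨m, hm⟩ := exists_isSize hinj
  have hG : IsAlt fun ν => F (ext ν) := fun ν κ => by
    rw [← Perm.sign_extendDomain κ e, ← hF]
    refine congrArg F ?_
    funext i
    rcases hcases i with ⟨j, rfl⟩ | hi
    · simp only [Function.comp, Perm.extendDomain_apply_image, he]
    · rw [Function.comp, Perm.extendDomain_apply_not_subtype κ e hi, he' _ _ hi, he' _ _ hi]
  rw [← h1]
  refine hG.eq_zero_of_shift (Nat.pos_of_ne_zero fun hm0 => hv fun i hi => ?_)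
    (fun ν r n' hr0 hn hν hνi => ?_) hm
  · obtain ⟨κ, hκ⟩ := exists_sort hinj
    have h2 := eq_of_isSize_zero hκ ((hm0 ▸ hm).comp κ)
    obtain ⟨a, ha⟩ := (κ.trans e).surjective ⟨i, hi⟩
    obtain rfl : (e (κ a)).1 = i := congrArg Subtype.val ha
    refine Nat.sub_eq_zero_of_le ((h2 a).le.trans ?_)
    rw [← Fin.card_Iio]
    refine card_le_card_of_injOn (fun b => e (κ b)) (fun b hb => mem_coe.2 (mem_filter.2
      ⟨mem_univ _, (e _).2.trans hi.symm, Nat.lt_of_div_lt_div (c := p) (hκ (mem_Iio.1 hb))⟩))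
      fun b _ c _ hbc => κ.injective (e.injective (Subtype.ext hbc))
  · have h2 := hsum' fun j => lam (e j) / p
    have h3 := hsum' ν
    have h4 := hsum fun j => lam (e j) / p
    rw [h1] at h2 h4
    have h5 : p * ∑ j, ν j + p * r = p * ∑ j, lam (e j) / p := by
      rw [← mul_add, hν, hm, ← hn]
      congr 1
      omega
    have h6 : ∑ i, ext ν i + p * r = n + ∑ i : Fin N, i.val := by
      rw [← hs]
      omega
    have h7 := h (ext ν) r hr0 (fun i j hij => by
      have := congrArg (· % p) hij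
      simp only [hmod] at this
      rcases hcases i with ⟨a, rfl⟩ | hi
      · rcases hcases j with ⟨b, rfl⟩ | hj
        · rw [he, he] at hij
          rw [hνi (Nat.eq_of_mul_eq_mul_left hp hij)]
        · exact absurd (this ▸ (e a).2) hj
      · rw [he' _ _ hi, he' _ _ (this ▸ hi)] at hij
        exact hl hij) h6
    rw [← sum_filter_add_sum_filter_not univ fun i => lam i % p = 0,
      sum_eq_zero (s := filter (fun i => ¬ lam i % p = 0) univ) fun i hi => ?_, add_zero,
      sum_subtype _ (p := fun i => lam i % p = 0) (by simp), ← e.sum_comp] at h7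
    · refine Eq.trans (sum_congr rfl fun j _ => ?_) h7
      congr 1
      funext i
      rcases hcases i with ⟨a, rfl⟩ | hi
      · by_cases ha : a = j
        · simp only [ha, he, Function.update_self, mul_add]
        · rw [he, Function.update_of_ne ha,
            Function.update_of_ne fun h => ha (e.injective (Subtype.ext h)), he]
      · rw [he' _ _ hi, Function.update_of_ne (by rintro rfl; exact hi (e j).2), he' _ _ hi]
    · have h8 : ∀ j, Function.update (ext ν) i (ext ν i + p * r) j % p = lam j % p := fun j => by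
        by_cases hj : j = i
        · simp [hj, hmod]
        · rw [Function.update_of_ne hj, hmod]
      refine ih _ ?_ ((sum_update_add _ _ _).trans h6) ((res_congr h8).trans hr) rfl
      simp only [h8]
      rw [sum_congr rfl (g := ext ν) fun j hj => Function.update_of_ne
        (by rintro rfl; exact (mem_filter.1 hi).2 (mem_filter.1 hj).2) _ _, hsum, ← hd, h4, ← h5]
      exact Nat.lt_add_of_pos_right (Nat.mul_pos hp hr0)

variable {A : Type*} [Fintype A] [DecidableEq A]

theorem blockRank_blk_le (hp : p.Prime) {N : ℕ} (hN : Fintype.card A ≤ N) (ρ : Multiset ℕ) :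
    blockRank p (blk A N p ρ) ≤ #(vac N (Fintype.card A) p ρ) := by
  classical
  let v : (Fin N → ℕ) → Perm A → ℂ := fun lam => pRegularPart p fun σ => chi lam σ
  have h0 := (finrank_span_finset_le_card (R := ℂ)
    ((vac N (Fintype.card A) p ρ).image v)).trans card_image_le
  refine (Submodule.finrank_mono (Submodule.span_le.2 ?_)).trans h0
  rintro _ ⟨_, ⟨lam, hl, hr, rfl⟩, rfl⟩
  refine (Subspace.forall_mem_dualAnnihilator_apply_eq_zero_iff _ _).1 fun φ hφ => ?_
  refine IsAlt.eq_zero_of_vac (F := fun lam => φ (v lam)) hp.pos (fun lam κ => ?_)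
    (fun mu k hk hmu hs => ?_) (fun mu hmu => (Submodule.mem_dualAnnihilator _).1 hφ _
      (Submodule.subset_span (mem_coe.2 (mem_image_of_mem _ hmu)))) (mem_idx.1 hl).1 hr
  · simp only [v]
    rw [← smul_eq_mul, ← map_smul, ← pRegularPart_smul]
    congr 2
    funext σ
    simp [chi_comp]
  · rw [← map_sum, ← map_zero φ]
    congr 1
    funext σ
    obtain ⟨n', hn'⟩ := exists_isSize hmu
    have h1 : n' + p * k = Fintype.card A := by
      rw [IsSize] at hn'
      omega
    by_cases hσ : p ∣ orderOf σ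
    · simp [v, pRegularPart_of_not (not_not.2 hσ)]
    · simp only [v, Finset.sum_apply, pRegularPart_of hσ]
      exact sum_shift_eq_zero (h1 ▸ hN) (Nat.mul_pos hp.pos hk) (fun s hs => parts_pos hs)
        (by rw [parts_sum, h1]) (fun h => hσ ((dvd_orderOf_iff hp σ).2 ⟨_, h, dvd_mul_right _ _⟩))
        hn'

theorem blockRank_blk_lt (hp : p.Prime) {N : ℕ} (hN : Fintype.card A ≤ N) {lam : Fin N → ℕ}
    (hl : lam ∈ idx N (Fintype.card A)) (hw : wt p lam ≠ 0) :
    blockRank p (blk A N p (res p lam)) < p ^ wt p lam := by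
  have h := ncard_CP_lt (κ := Fin (p - 1)) hw
  rw [Nat.card_fin, Nat.sub_add_cancel hp.pos] at h
  exact (blockRank_blk_le hp hN _).trans_lt ((card_vac_le hp.two_le hl).trans_lt h)

theorem two_mul_blockRank_blk_lt (hp : p.Prime) {N : ℕ} (hN : Fintype.card A ≤ N) {lam : Fin N → ℕ}
    (hl : lam ∈ idx N (Fintype.card A)) (hw : 3 ≤ wt p lam) :
    2 * blockRank p (blk A N p (res p lam)) < p ^ wt p lam := by
  have h := two_mul_ncard_CP_lt (κ := Fin (p - 1)) hw
  rw [Nat.card_fin, Nat.sub_add_cancel hp.pos] at h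
  exact (Nat.mul_le_mul_left 2 ((blockRank_blk_le hp hN _).trans
    (card_vac_le hp.two_le hl))).trans_lt h

theorem exists_coeff_fix (hM : IsPModular p M) {N : ℕ} (hN : Fintype.card A ≤ N)
    {lam : Fin N → ℕ} (hl : lam ∈ idx N (Fintype.card A)) {Ω : Type*} [Fintype Ω]
    (hΩ : Fintype.card Ω = p * wt p lam) (e : Ω ↪ A) :
    ∃ x : Perm A, (∀ y, x (e y) = e y) ∧ (eB M (blk A N p (res p lam))).coeff x ≠ 0 := by
  classical
  obtain ⟨u, hu, hw⟩ := exists_pow_eq_one (A := Ω) hM.1 hΩ.ge
  obtain ⟨x, h1, h2⟩ := exists_coeff_ne_zero hM hN hl (u := Perm.viaEmbeddingHom e u)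
    (by rw [← map_pow, hu, map_one]) (by
      rw [← hw]
      rw [Perm.viaEmbeddingHom_apply, Perm.viaEmbedding]
      convert Perm.card_support_extend_domain (ofInjective e.1 e.2) (g := u))
  refine ⟨x, fun y => (h1 _).resolve_left fun h => ?_, h2⟩
  rw [Perm.viaEmbeddingHom_apply, Perm.viaEmbedding_apply] at h
  exact Perm.mem_support.1 (eq_univ_of_card _ (hw.trans hΩ.symm) ▸ mem_univ y) (e.injective h)

theorem brNe_blk (hM : IsPModular p M) {N : ℕ} (hN : Fintype.card A ≤ N)
    {lam : Fin N → ℕ} (hl : lam ∈ idx N (Fintype.card A)) {Ω : Type*} [Fintype Ω]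
    (hΩ : Fintype.card Ω = p * wt p lam) (e : Ω ↪ A) (Q : Subgroup (Perm Ω)) :
    BrNe (Q.map (Perm.viaEmbeddingHom e)) (eB M (blk A N p (res p lam))) := by
  obtain ⟨x, h1, h2⟩ := exists_coeff_fix hM hN hl hΩ e
  refine ⟨x, ?_, h2⟩
  rintro _ ⟨s, -, rfl⟩
  refine (Perm.Disjoint.commute fun a => ?_).eq
  by_cases h : a ∈ Set.range e
  · obtain ⟨y, rfl⟩ := h
    exact Or.inr (h1 y)
  · exact Or.inl (Perm.viaEmbedding_apply_of_notMem _ _ _ h)

theorem card_le_of_sectional {G K : Type*} [Group G] [Finite G] [CommGroup K] {D : Subgroup G}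
    {s : ℕ} (hs : SectionalPRankLE p s D) {f : K →* G} (hf : Function.Injective f)
    (hK : ∀ k : K, k ^ p = 1) {x : G} (h : x •ᶜ f.range ≤ D) : Nat.card K ≤ p ^ s := by
  let g : K →* D := ((MulAut.conj x).toMonoidHom.comp f).codRestrict D fun k =>
    h (MSS.mem_cj.2 (by simp [mul_assoc]))
  let g' : K →* (⊤ : Subgroup D) ⧸ (⊥ : Subgroup (⊤ : Subgroup D)) :=
    (QuotientGroup.mk' _).comp (g.codRestrict ⊤ fun _ => mem_top _)
  have hg : Function.Injective g' := (injective_iff_map_eq_one _).2 fun k hk => by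
    have h1 : g.codRestrict ⊤ (fun _ => mem_top _) k = 1 := by
      simpa [g'] using hk
    have h2 : x * f k * x⁻¹ = 1 := congrArg (fun y => y.1.1) h1
    exact (injective_iff_map_eq_one _).1 hf k (by simpa using h2)
  rw [Nat.card_congr (MonoidHom.ofInjective hg).toEquiv]
  refine hs ⊤ ⊥ _ inferInstance ?_
  rintro _ ⟨k, rfl⟩
  rw [← map_pow, hK, map_one]

/-- The base group of a wreath product as a permutation group. -/
def baseHom (W K : Type*) [Group K] : (W → K) →* Perm (W × K) where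
  toFun a := Equiv.prodCongrRight fun i => Equiv.mulLeft (a i)
  map_one' := by ext <;> simp
  map_mul' a b := by ext <;> simp

theorem baseHom_injective (W K : Type*) [Group K] : Function.Injective (baseHom W K) :=
  fun a b h => funext fun i => by simpa [baseHom] using congrArg (fun g => (g (i, 1)).2) h

theorem isPGroup_range {G K : Type*} [Group G] [Group K] (f : K →* G) (hK : ∀ k : K, k ^ p = 1) :
    IsPGroup p f.range := by
  rintro ⟨_, k, rfl⟩
  exact ⟨1, Subtype.ext (by simp [← map_pow, hK])⟩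

omit [DecidableEq A] in
theorem exists_emb (hp : 0 < p) {N : ℕ} {lam : Fin N → ℕ} (hl : lam ∈ idx N (Fintype.card A))
    {Ω : Type*} [Fintype Ω] (hΩ : Fintype.card Ω = p * wt p lam) : Nonempty (Ω ↪ A) :=
  Function.Embedding.nonempty_of_card_le
    (hΩ ▸ (isSize_core hp (mem_idx.1 hl).2.injective (mem_idx.1 hl).1).1)

theorem blk_eq_singleton (hp : 0 < p) {N : ℕ} {lam : Fin N → ℕ} (hl : lam ∈ idx N (Fintype.card A)) (hw : wt p lam = 0) :
    blk A N p (res p lam) = {irr hl} := by
  refine Set.eq_singleton_iff_unique_mem.2 ⟨(irr_mem_blk hl).2 rfl, ?_⟩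
  rintro _ ⟨mu, hm, h, rfl⟩
  have h1 := (mem_idx.1 hl).2
  have h2 := (mem_idx.1 hm).2
  obtain ⟨κ, hκ⟩ := exists_core_eq hp h1.injective h2.injective h.symm
  rw [core_eq_self h1.injective hw, core_eq_self h2.injective ((wt_eq hp h2.injective
    h1.injective h ((mem_idx.1 hm).1.trans (mem_idx.1 hl).1.symm)).trans hw)] at hκ
  obtain rfl : mu = lam := (h2.range_inj h1).1 (by rw [hκ, κ.surjective.range_comp])
  rfl

theorem pow_wt_le (hM : IsPModular p M) {N : ℕ} (hN : Fintype.card A ≤ N)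
    {lam : Fin N → ℕ} (hl : lam ∈ idx N (Fintype.card A)) {D : Subgroup (Perm A)}
    (hD : IsDefectGroup p M (blk A N p (res p lam)) D) {s : ℕ} (hs : SectionalPRankLE p s D) :
    p ^ wt p lam ≤ p ^ s := by
  have := Fact.mk hM.1
  have hΩ : Fintype.card (Fin (wt p lam) × Multiplicative (ZMod p)) = p * wt p lam := by
    simp [mul_comm]
  obtain ⟨e⟩ := exists_emb hM.1.pos hl hΩ
  have hK : ∀ k : Fin (wt p lam) → Multiplicative (ZMod p), k ^ p = 1 := fun k => funext fun i => by
    simpa using pow_card_eq_one (x := k i)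
  have h1 := brNe_blk hM hN hl hΩ e (baseHom _ _).range
  rw [MonoidHom.map_range] at h1
  obtain ⟨x, hx⟩ := (brNe_eB_iff hM (isPBlock_blk hM hN hl) hD (isPGroup_range _ hK)).1 h1
  simpa using card_le_of_sectional hs ((Perm.viaEmbeddingHom_injective e).comp
    (baseHom_injective _ _)) hK hx

end CL.Sym
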