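import Mathlib
import Cfsg.Agent.BLK.SymRank
import Cfsg.Agent.BLK.DefCard

/-!
# The hook formula, defects and heights for the symmetric groups
-/

set_option autoImplicit false

open Cfsg Finset Equiv Subgroup CL.Blk
open scoped CL.MSS

namespace CL.Sym

variable {p : ℕ} {M : Ideal AlgInt} {I J : Type*} [Fintype I] [Fintype J]

/-- The product of the hook lengths. -/
def hook (lam : I → ℕ) : ℕ := ∏ i, ∏ h ∈ range (lam i) \ univ.image lam, (lam i - h)

theorem hook_ne_zero (lam : I → ℕ) : hook lam ≠ 0 :=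
  prod_ne_zero_iff.2 fun _ _ => prod_ne_zero_iff.2 fun _ hh =>
    (Nat.sub_pos_of_lt (mem_range.1 (mem_sdiff.1 hh).1)).ne'

theorem hook_comp (lam : I → ℕ) (e : J ≃ I) : hook (lam ∘ e) = hook lam := by
  have h : univ.image (lam ∘ e) = univ.image lam := by
    ext x
    simp [e.surjective.exists]
  rw [hook, h]
  exact Equiv.prod_comp e fun i => ∏ h ∈ range (lam i) \ univ.image lam, (lam i - h)

theorem rk_comp' (lam : I → ℕ) (e : J ≃ I) (j : J) : rk p (lam ∘ e) j = rk p lam (e j) :=
  card_bijective e e.bijective (by simp)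

theorem wt_comp (lam : I → ℕ) (e : J ≃ I) : wt p (lam ∘ e) = wt p lam := by
  rw [wt, wt, ← e.sum_comp]
  simp only [pt, rk_comp']
  rfl

theorem prod_range_sub (m : ℕ) : ∏ h ∈ range m, (m - h) = m.factorial := by
  rw [← prod_range_add_one_eq_factorial, ← prod_range_reflect]
  refine prod_congr rfl fun h hh => ?_
  have := mem_range.1 hh
  omega

theorem chi_one_mul_hook {A : Type*} [Fintype A] [DecidableEq A] {N : ℕ} {lam : Fin N → ℕ}
    (hl : lam ∈ idx N (Fintype.card A)) :
    chi lam (1 : Perm A) * hook lam = (Fintype.card A).factorial := by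
  obtain ⟨hs, hm⟩ := mem_idx.1 hl
  have h1 := chi_one_mul hs
  have h2 : ∀ j, ((lam j).factorial : ℤ) = (∏ h ∈ range (lam j) \ univ.image lam, (lam j - h) : ℕ) *
      ∏ i ∈ Iio j, ((lam j : ℤ) - lam i) := fun j => by
    rw [← prod_range_sub, ← prod_inter_mul_prod_sdiff _ (univ.image lam), mul_comm, Nat.cast_mul]
    congr 1
    rw [Nat.cast_prod]
    symm
    refine prod_nbij lam (fun i hi => by simp [hm (mem_Iio.1 hi)]) hm.injective.injOn
      (fun h hh => ?_) fun i hi => (Nat.cast_sub (hm (mem_Iio.1 hi)).le).symm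
    obtain ⟨h1, h2⟩ := mem_inter.1 hh
    obtain ⟨i, -, rfl⟩ := mem_image.1 h2
    exact ⟨i, mem_coe.2 (mem_Iio.2 (hm.lt_iff_lt.1 (mem_range.1 h1))), rfl⟩
  rw [prod_congr rfl fun j _ => h2 j, prod_mul_distrib, ← mul_assoc, ← Nat.cast_prod,
    prod_comm' (t' := univ) (s' := Ioi) (by simp)] at h1
  refine mul_right_cancel₀ (prod_ne_zero_iff.2 fun i _ => prod_ne_zero_iff.2 fun j hj => ?_) h1
  have := hm (mem_Ioi.1 hj)
  omega

theorem isSize_wt {N : ℕ} {lam : Fin N → ℕ} (hl : StrictMono lam) : IsSize lam (wt 1 lam) := by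
  have h1 := sum_core_add (p := 1) hl.injective
  have h2 : ∀ i, core 1 lam i = i := fun i => by
    simp only [core, rk, Nat.mod_one, hl.lt_iff_lt, true_and, zero_add, one_mul]
    rw [← Fin.card_Iio]
    congr 1
    ext
    simp
  simp only [h2] at h1
  rw [IsSize]
  omega

theorem hook_dvd {lam : I → ℕ} (hl : Function.Injective lam) : hook lam ∣ (wt 1 lam).factorial := by
  let e := (Fintype.equivFin I).symm
  obtain ⟨κ, hκ⟩ := exists_sort (hl.comp e.injective)
  have h := chi_one_mul_hook (A := Fin (wt 1 ((lam ∘ e) ∘ κ)))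
    (mem_idx.2 ⟨by simpa using isSize_wt hκ, hκ⟩)
  rw [hook_comp, hook_comp, Fintype.card_fin, wt_comp, wt_comp] at h
  exact Int.natCast_dvd_natCast.1 (Dvd.intro_left _ h)

/-- The configuration on a runner. -/
def runner (p : ℕ) (lam : I → ℕ) (r : ℕ) (i : {i // lam i % p = r}) : ℕ := lam i / p

omit [Fintype I] in
theorem runner_injective {lam : I → ℕ} (hl : Function.Injective lam) (r : ℕ) :
    Function.Injective (runner p lam r) := fun i j h =>
  Subtype.ext (hl (eq_of_mod_eq_of_div_eq (i.2.trans j.2.symm) h))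

theorem pt_runner (lam : I → ℕ) (r : ℕ) (i : {i // lam i % p = r}) :
    pt 1 (runner p lam r) i = pt p lam i := by
  rw [pt, pt, Nat.div_one, rk, rk]
  congr 1
  refine card_nbij Subtype.val (fun j hj => mem_coe.2 (mem_filter.2 ⟨mem_univ _, j.2.trans i.2.symm,
    Nat.lt_of_div_lt_div (mem_filter.1 hj).2.2⟩)) Subtype.val_injective.injOn fun j hj => ?_
  obtain ⟨-, h1, h2⟩ := mem_filter.1 hj
  exact ⟨⟨j, h1.trans i.2⟩, mem_coe.2 (mem_filter.2 ⟨mem_univ _, by simp [Nat.mod_one],
    div_lt_div_of_mod_eq h1 h2⟩), rfl⟩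

theorem sum_runner (hp : 0 < p) (lam : I → ℕ) (f : I → ℕ) :
    ∑ r ∈ range p, ∑ i : {i // lam i % p = r}, f i = ∑ i, f i := by
  rw [← sum_fiberwise_of_maps_to (s := univ) (t := range p) (g := fun i => lam i % p)
    fun i _ => mem_range.2 (Nat.mod_lt _ hp)]
  exact sum_congr rfl fun r _ => (sum_subtype _ (by simp) f).symm

theorem sum_wt_runner (hp : 0 < p) (lam : I → ℕ) :
    ∑ r ∈ range p, wt 1 (runner p lam r) = wt p lam := by
  simp only [wt, pt_runner]
  exact sum_runner hp lam _

theorem factorization_hook_eq (lam : I → ℕ) : (hook lam).factorization p =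
    ∑ i, ∑ h ∈ range (lam i) \ univ.image lam, (lam i - h).factorization p := by
  have h : ∀ i, ∀ h ∈ range (lam i) \ univ.image lam, lam i - h ≠ 0 := fun i _ hh =>
    (Nat.sub_pos_of_lt (mem_range.1 (mem_sdiff.1 hh).1)).ne'
  rw [hook, Nat.factorization_prod fun i _ => prod_ne_zero_iff.2 (h i), Finsupp.finsetSum_apply]
  exact sum_congr rfl fun i _ => by rw [Nat.factorization_prod (h i), Finsupp.finsetSum_apply]

theorem card_holes {lam : I → ℕ} (hl : Function.Injective lam) (i : I) :
    #(range (lam i) \ univ.image lam) = pt 1 lam i := by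
  rw [card_sdiff, card_range, pt, Nat.div_one, rk, ← card_image_of_injective _ hl]
  congr 2
  ext x
  simp [Nat.mod_one]
  grind

theorem factorization_hook (hp : p.Prime) {lam : I → ℕ} (hl : Function.Injective lam) :
    (hook lam).factorization p =
      wt p lam + ∑ r ∈ range p, (hook (runner p lam r)).factorization p := by
  rw [← sum_wt_runner hp.pos, factorization_hook_eq, ← sum_runner hp.pos lam, ← sum_add_distrib]
  refine sum_congr rfl fun r _ => ?_
  rw [wt, factorization_hook_eq, ← sum_add_distrib]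
  refine sum_congr rfl fun i _ => ?_
  rw [← card_holes (runner_injective hl r), card_eq_sum_ones, ← sum_add_distrib,
    ← sum_filter_of_ne (p := fun h => h % p = r) fun h hh h0 => ?_]
  · have hr : r < p := i.2 ▸ Nat.mod_lt _ hp.pos
    have h1 := Nat.div_add_mod (lam i) p
    refine sum_nbij' (· / p) (fun h => p * h + r) (fun h hh => ?_) (fun h hh => ?_)
      (fun h hh => ?_) (fun h hh => ?_) fun h hh => ?_
    · simp only [mem_filter, mem_sdiff, mem_range, mem_image, mem_univ, true_and, not_exists] at hh ⊢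
      exact ⟨div_lt_div_of_mod_eq (hh.2.trans i.2.symm) hh.1.1, fun j hj =>
        hh.1.2 j (eq_of_mod_eq_of_div_eq (j.2.trans hh.2.symm) hj)⟩
    · simp only [mem_filter, mem_sdiff, mem_range, mem_image, mem_univ, true_and, not_exists] at hh ⊢
      have h2 : (p * h + r) % p = r := by simp [Nat.mod_eq_of_lt hr]
      have h3 : (p * h + r) / p = h := by simp [Nat.mul_add_div hp.pos, Nat.div_eq_of_lt hr]
      exact ⟨⟨Nat.lt_of_div_lt_div (h3.trans_lt hh.1), fun j hj =>
        hh.2 ⟨j, hj ▸ h2⟩ (by rw [runner, hj, h3])⟩, h2⟩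
    · rw [← (mem_filter.1 hh).2, Nat.div_add_mod]
    · simp [Nat.mul_add_div hp.pos, Nat.div_eq_of_lt hr]
    · obtain ⟨h2, h3⟩ := mem_filter.1 hh
      have h4 : h / p < runner p lam r i :=
        div_lt_div_of_mod_eq (h3.trans i.2.symm) (mem_range.1 (mem_sdiff.1 h2).1)
      have h5 := Nat.div_add_mod h p
      have h6 := i.2
      rw [show lam i - h = p * (runner p lam r i - h / p) by rw [Nat.mul_sub, runner]; omega,
        Nat.factorization_mul hp.ne_zero (Nat.sub_pos_of_lt h4).ne', Finsupp.add_apply,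
        hp.factorization_self]
  · rw [← i.2]
    exact (Nat.modEq_iff_dvd' (mem_range.1 (mem_sdiff.1 hh).1).le).2 (Nat.dvd_of_factorization_pos h0)

theorem factorization_mul_factorial (hp : p.Prime) (w : ℕ) :
    (p * w).factorial.factorization p = w + w.factorial.factorization p := by
  have := Fact.mk hp
  rw [Nat.factorization_def _ hp, Nat.factorization_def _ hp, padicValNat_factorial_mul, add_comm]

theorem factorization_hook_le (hp : p.Prime) {lam : I → ℕ} (hl : Function.Injective lam) :
    (hook lam).factorization p ≤ (p * wt p lam).factorial.factorization p := by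
  rw [factorization_hook hp hl, factorization_mul_factorial hp, Nat.add_le_add_iff_left,
    ← Finsupp.finsetSum_apply, ← Nat.factorization_prod fun _ _ => hook_ne_zero _]
  refine Nat.factorization_le_factorization_of_dvd_right ?_ (prod_ne_zero_iff.2 fun _ _ =>
    hook_ne_zero _) (Nat.factorial_ne_zero _)
  rw [← sum_wt_runner hp.pos]
  exact (prod_dvd_prod_of_dvd _ _ fun r _ => hook_dvd (runner_injective hl r)).trans
    (Nat.prod_factorial_dvd_factorial_sum _ _)

variable {A : Type*} [Fintype A] [DecidableEq A]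

theorem factorization_degree {N : ℕ} {lam : Fin N → ℕ} (hl : lam ∈ idx N (Fintype.card A)) :
    (charDegree (irr hl).1).factorization p + (hook lam).factorization p =
      (Nat.card (Perm A)).factorization p := by
  have h1 := chi_one_mul_hook hl
  obtain ⟨d, hd⟩ := Int.eq_ofNat_of_zero_le (chi_one_pos (mem_idx.1 hl).1 (mem_idx.1 hl).2).le
  have h2 : charDegree (irr hl).1 = d := by simp [charDegree, irr, hd]
  rw [hd, ← Nat.cast_mul, Nat.cast_inj] at h1
  rw [h2, Nat.card_perm, Nat.card_eq_fintype_card, ← h1, Nat.factorization_mul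
    (left_ne_zero_of_mul (h1 ▸ Nat.factorial_ne_zero _)) (hook_ne_zero _), Finsupp.add_apply]

theorem wt_eq_of_mem (hp : 0 < p) {N n : ℕ} {lam mu : Fin N → ℕ} (hl : lam ∈ idx N n)
    (hm : mu ∈ idx N n) (h : res p mu = res p lam) : wt p mu = wt p lam :=
  wt_eq hp (mem_idx.1 hm).2.injective (mem_idx.1 hl).2.injective h
    ((mem_idx.1 hm).1.trans (mem_idx.1 hl).1.symm)

/-- The Sylow subgroups of the symmetric group on `p w` points are the defect groups. -/
theorem isDefectGroup_blk (hM : IsPModular p M) {N : ℕ} (hN : Fintype.card A ≤ N)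
    {lam : Fin N → ℕ} (hl : lam ∈ idx N (Fintype.card A)) {Ω : Type*} [Fintype Ω]
    (hΩ : Fintype.card Ω = p * wt p lam) (e : Ω ↪ A) (Q : Sylow p (Perm Ω)) :
    IsDefectGroup p M (blk A N p (res p lam)) (Q.1.map (Perm.viaEmbeddingHom e)) ∧
      blockDefect p (blk A N p (res p lam)) = (p * wt p lam).factorial.factorization p := by
  classical
  have := Fact.mk hM.1
  have hB := isPBlock_blk hM hN hl
  obtain ⟨D, hD⟩ := exists_isDefectGroup hM hB
  have h1 := brNe_blk hM hN hl hΩ e Q
  have h2 := (hD.isDef hM hB).card_le (Q.2.map _) h1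
  have h3 : Nat.card (Q.1.map (Perm.viaEmbeddingHom e)) =
      p ^ (p * wt p lam).factorial.factorization p := by
    rw [card_map_of_injective (Perm.viaEmbeddingHom_injective e), Q.card_eq_multiplicity,
      Nat.card_perm, Nat.card_eq_fintype_card, hΩ]
  have h4 : blockDefect p (blk A N p (res p lam)) ≤ (p * wt p lam).factorial.factorization p := by
    obtain ⟨_, ⟨mu, hm, h4, rfl⟩, h5⟩ := exists_eq_minVal p (block_nonempty hM hB)
    have h6 := factorization_degree (p := p) hm
    have h7 := factorization_hook_le hM.1 (mem_idx.1 hm).2.injective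
    rw [wt_eq_of_mem hM.1.pos hl hm h4] at h7
    rw [blockDefect_eq]
    omega
  have h5 := hD.card_eq_pow hM hB
  refine ⟨(isDefectGroup_iff hM hB).2 ((hD.isDef hM hB).of_card_le (eB_isCentral _) (Q.2.map _) h1 ?_),
    h4.antisymm ?_⟩
  · rw [h3, h5]
    exact Nat.pow_le_pow_right hM.1.pos h4
  · rwa [h3, h5, Nat.pow_le_pow_iff_right hM.1.one_lt] at h2

theorem blockDefect_blk (hM : IsPModular p M) {N : ℕ} (hN : Fintype.card A ≤ N)
    {lam : Fin N → ℕ} (hl : lam ∈ idx N (Fintype.card A)) :
    blockDefect p (blk A N p (res p lam)) = wt p lam + (wt p lam).factorial.factorization p := by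
  obtain ⟨e⟩ := exists_emb hM.1.pos hl (Fintype.card_fin _)
  rw [(isDefectGroup_blk hM hN hl (Fintype.card_fin _) e default).2,
    factorization_mul_factorial hM.1]

theorem blockHeight_blk (hM : IsPModular p M) {N : ℕ} (hN : Fintype.card A ≤ N)
    {lam : Fin N → ℕ} (hl : lam ∈ idx N (Fintype.card A)) :
    blockHeight p (blk A N p (res p lam)) (irr hl).1 +
      ∑ r ∈ range p, (hook (runner p lam r)).factorization p =
        (wt p lam).factorial.factorization p := by
  have hm : irr hl ∈ blk A N p (res p lam) := (irr_mem_blk hl).2 rfl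
  have h1 := factorization_eq_minVal_add (p := p) hm
  have h2 := minVal_add_blockDefect p ⟨_, hm⟩
  have h3 := blockDefect_blk hM hN hl
  have h4 := factorization_degree (p := p) hl
  have h5 := factorization_hook hM.1 (mem_idx.1 hl).2.injective
  omega

end CL.Sym
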