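import Mathlib
import Cfsg.Agent.BLK.SymDeg
import Cfsg.Agent.BLK.CoverRank
import Cfsg.Agent.BLK.CoverAb
import Cfsg.Agent.BLK.BrauerFeit

/-!
# The blocks of the alternating groups
-/

set_option autoImplicit false

open Cfsg Finset Equiv Subgroup CL.Blk CL.Char
open scoped CL.MSS

namespace CL.Sym

variable {p : ℕ} {M : Ideal AlgInt} {A : Type*} [Fintype A] [DecidableEq A]

theorem exists_cover (hM : IsPModular p M) {N : ℕ} (hN : Fintype.card A ≤ N)
    {b : Set (IrrCharacter (alternatingGroup A))} (hb : IsPBlock M b) :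
    ∃ lam ∈ idx N (Fintype.card A),
      CovF (alternatingGroup A) (eB M (blk A N p (res p lam))) (eB M b) := by
  obtain ⟨B, hB, h⟩ := exists_block_covF hM hb
  obtain ⟨lam, hl, rfl⟩ := exists_eq_blk hM hN hB
  exact ⟨lam, hl, h⟩

theorem sign_viaEmbedding {Ω : Type*} [Fintype Ω] [DecidableEq Ω] (e : Ω ↪ A) (s : Perm Ω) :
    Perm.sign (Perm.viaEmbeddingHom e s) = Perm.sign s := by
  rw [Perm.viaEmbeddingHom_apply, Perm.viaEmbedding]
  convert Perm.sign_extendDomain s (ofInjective e.1 e.2)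

theorem exists_equiv_alt (hM : IsPModular p M) {N : ℕ} (hN : Fintype.card A ≤ N)
    {lam : Fin N → ℕ} (hl : lam ∈ idx N (Fintype.card A))
    {b : Set (IrrCharacter (alternatingGroup A))} (hb : IsPBlock M b)
    (hcov : CovF (alternatingGroup A) (eB M (blk A N p (res p lam))) (eB M b))
    {D : Subgroup (alternatingGroup A)} (hD : IsDefectGroup p M b D) {Ω : Type*} [Fintype Ω]
    [DecidableEq Ω] (hΩ : Fintype.card Ω = p * wt p lam) (Q : Sylow p (Perm Ω)) :
    Nonempty (D ≃* ↥(Q.1 ⊓ alternatingGroup Ω)) := by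
  have hB := isPBlock_blk hM hN hl
  obtain ⟨e⟩ := exists_emb hM.1.pos hl hΩ
  obtain ⟨E, hE, h⟩ := SDef.exists_inf_eq hM.1 (natCast_F hM) (isSB_top_eB hM hB) (isSB_sb hM hb)
    le_top (normalizer_eq_top _).ge hcov ((isDefectGroup_iff_sDef hM hb).1 hD)
  obtain ⟨x, rfl⟩ := (isDefectGroup_blk hM hN hl hΩ e Q).1.exists_cj_eq hM hB
    ((isDefectGroup_iff_sDef_top hM hB).2 hE)
  have h1 : (Q.1 ⊓ alternatingGroup Ω).map (Perm.viaEmbeddingHom e) =
      Q.1.map (Perm.viaEmbeddingHom e) ⊓ alternatingGroup A := by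
    ext g
    constructor
    · rintro ⟨s, hs, rfl⟩
      exact ⟨⟨s, hs.1, rfl⟩, (sign_viaEmbedding e s).trans hs.2⟩
    · rintro ⟨⟨s, hs, rfl⟩, h⟩
      exact ⟨s, ⟨hs, (sign_viaEmbedding e s).symm.trans h⟩, rfl⟩
  have h2 : x •ᶜ (Q.1 ⊓ alternatingGroup Ω).map (Perm.viaEmbeddingHom e) =
      D.map (alternatingGroup A).subtype := by
    rw [h1, MSS.cj_inf, MSS.cj_eq_of_normal x (alternatingGroup A), h]
  exact ⟨((equivMapOfInjective _ _ (Perm.viaEmbeddingHom_injective e)).trans
    (((MulAut.conj x).subgroupMap _).trans ((MulEquiv.subgroupCongr h2).trans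
      (equivMapOfInjective _ _ (subtype_injective _)).symm))).symm⟩

theorem card_le_alt (hM : IsPModular p M) {N : ℕ} (hN : Fintype.card A ≤ N)
    {lam : Fin N → ℕ} (hl : lam ∈ idx N (Fintype.card A))
    {b : Set (IrrCharacter (alternatingGroup A))} (hb : IsPBlock M b)
    (hcov : CovF (alternatingGroup A) (eB M (blk A N p (res p lam))) (eB M b))
    {D : Subgroup (alternatingGroup A)} (hD : IsDefectGroup p M b D) {s : ℕ}
    (hs : SectionalPRankLE p s D) {Ω : Type*} [Fintype Ω] [DecidableEq Ω]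
    (hΩ : Fintype.card Ω = p * wt p lam) {K : Type*} [CommGroup K] {f : K →* Perm Ω}
    (hf : Function.Injective f) (hK : ∀ k : K, k ^ p = 1) (h : ∀ k, Perm.sign (f k) = 1) :
    Nat.card K ≤ p ^ s := by
  obtain ⟨Q, hQ⟩ := (isPGroup_range f hK).exists_le_sylow
  obtain ⟨e⟩ := exists_equiv_alt hM hN hl hb hcov hD hΩ Q
  refine card_le_of_sectional hs (x := 1) (f := D.subtype.comp (e.symm.toMonoidHom.comp
    (f.codRestrict _ fun k => ⟨hQ ⟨k, rfl⟩, h k⟩))) (fun a b hab => hf ?_) hK ?_
  · exact congrArg Subtype.val (e.symm.injective (Subtype.ext hab))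
  · rw [MSS.cj_one]
    rintro _ ⟨k, rfl⟩
    exact Subtype.prop _

theorem sign_eq_one_of_odd {σ : Perm A} {k : ℕ} (hk : Odd k) (h : σ ^ k = 1) : Perm.sign σ = 1 := by
  have h1 := congrArg Perm.sign h
  rw [map_pow, map_one] at h1
  rcases Int.units_eq_one_or (Perm.sign σ) with h2 | h2
  · exact h2
  · rw [h2, hk.neg_one_pow] at h1
    exact absurd h1 (by decide)

theorem blockDefect_alt_of_odd (hM : IsPModular p M) (hp : p ≠ 2) {N : ℕ} (hN : Fintype.card A ≤ N)
    {lam : Fin N → ℕ} (hl : lam ∈ idx N (Fintype.card A))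
    {b : Set (IrrCharacter (alternatingGroup A))} (hb : IsPBlock M b)
    (hcov : CovF (alternatingGroup A) (eB M (blk A N p (res p lam))) (eB M b)) :
    blockDefect p b = wt p lam + (wt p lam).factorial.factorization p := by
  have := Fact.mk hM.1
  obtain ⟨D, hD⟩ := exists_isDefectGroup hM hb
  let Q : Sylow p (Perm (Fin (p * wt p lam))) := default
  obtain ⟨e⟩ := exists_equiv_alt hM hN hl hb hcov hD (Fintype.card_fin _) Q
  have h1 : Q.1 ≤ alternatingGroup _ := fun g hg => by
    obtain ⟨k, hk⟩ := Q.2 ⟨g, hg⟩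
    exact sign_eq_one_of_odd ((hM.1.odd_of_ne_two hp).pow) (congrArg Subtype.val hk)
  have h2 := Nat.card_congr e.toEquiv
  rwa [inf_of_le_left h1, Q.card_eq_multiplicity, hD.card_eq_pow hM hb, Nat.card_perm, Nat.card_fin,
    factorization_mul_factorial hM.1, Nat.pow_right_inj hM.1.one_lt] at h2

theorem relIndex_sylow_two {Ω : Type*} [Fintype Ω] [DecidableEq Ω] [Nontrivial Ω]
    (Q : Sylow 2 (Perm Ω)) : (alternatingGroup Ω).relIndex Q = 2 := by
  have h1 := relIndex_dvd_index_of_normal (alternatingGroup Ω) Q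
  rw [alternatingGroup.index_eq_two] at h1
  refine ((Nat.dvd_prime Nat.prime_two).1 h1).resolve_left fun h => Q.not_dvd_index ?_
  simpa using index_dvd_of_le (relIndex_eq_one.1 h)

theorem blockDefect_alt_two (hM : IsPModular 2 M) {N : ℕ} (hN : Fintype.card A ≤ N)
    {lam : Fin N → ℕ} (hl : lam ∈ idx N (Fintype.card A)) (hw : wt 2 lam ≠ 0)
    {b : Set (IrrCharacter (alternatingGroup A))} (hb : IsPBlock M b)
    (hcov : CovF (alternatingGroup A) (eB M (blk A N 2 (res 2 lam))) (eB M b)) :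
    blockDefect 2 b + 1 = wt 2 lam + (wt 2 lam).factorial.factorization 2 := by
  obtain ⟨D, hD⟩ := exists_isDefectGroup hM hb
  let Q : Sylow 2 (Perm (Fin (2 * wt 2 lam))) := default
  obtain ⟨e⟩ := exists_equiv_alt hM hN hl hb hcov hD (Fintype.card_fin _) Q
  have : Nontrivial (Fin (2 * wt 2 lam)) := Fin.nontrivial_iff_two_le.2 (by omega)
  have h1 := ((alternatingGroup _).subgroupOf Q.1).card_mul_index
  rw [← relIndex, relIndex_sylow_two, ← inf_subgroupOf_left,
    Nat.card_congr (subgroupOfEquivOfLe inf_le_left).toEquiv, ← Nat.card_congr e.toEquiv,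
    Q.card_eq_multiplicity, hD.card_eq_pow hM hb, Nat.card_perm, Nat.card_fin,
    factorization_mul_factorial hM.1, ← pow_succ] at h1
  exact Nat.pow_right_injective le_rfl h1

theorem res_irr_of_ne_zero {χ : Perm A → ℂ} (hχ : IsIrrCharacter (Perm A) χ) {g : Perm A}
    (hg : Perm.sign g = -1) (h : χ g ≠ 0) : IsIrrCharacter (alternatingGroup A) fun n => χ n := by
  refine res_irr_of_hom_mul_ne (Abelianization.commutator_subset_ker Perm.sign) hχ
    fun lam h1 h2 => MonoidHom.ext fun x => ?_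
  rcases Int.units_eq_one_or (Perm.sign x) with h3 | h3
  · exact h1 x h3
  · have h4 : lam g = 1 := Units.ext (mul_left_eq_self₀.1 (h2 g) |>.resolve_right h)
    have h5 := h1 (x * g⁻¹) (by simp [h3, hg])
    rwa [map_mul, map_inv, h4, inv_one, mul_one] at h5

theorem chi_ne_zero (hp : p.Prime) {N : ℕ} {lam : Fin N → ℕ} (hl : lam ∈ idx N (Fintype.card A))
    {u : Perm A} (hu : u ^ p = 1) (hw : #u.support = p * wt p lam) : chi lam u ≠ 0 := by
  have hi := (mem_idx.1 hl).2.injective
  obtain ⟨c, hc, h⟩ := chiM_replicate hp.pos hi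
  rw [chi, ← mul_one u, parts_mul hu hp hw (Perm.disjoint_one_right _), h]
  refine mul_ne_zero (by omega) ?_
  simpa using chiM_replicate_one_ne_zero (core_injective hp.pos hi)
    (isSize_core hp.pos hi (mem_idx.1 hl).1).2

theorem res_irr_of_odd_wt {N : ℕ} {lam : Fin N → ℕ} (hl : lam ∈ idx N (Fintype.card A))
    (hw : Odd (wt 2 lam)) : IsIrrCharacter (alternatingGroup A) fun n => (irr hl).1 n := by
  obtain ⟨u, hu, h⟩ := exists_pow_eq_one (A := A) Nat.prime_two
    (isSize_core two_pos (mem_idx.1 hl).2.injective (mem_idx.1 hl).1).1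
  refine res_irr_of_ne_zero (irr hl).2 (g := u) ?_
    (Int.cast_ne_zero.2 (chi_ne_zero Nat.prime_two hl hu h))
  have h1 := Perm.cycleType_of_pow_prime_eq_one hu
  have h2 := u.sum_cycleType
  rw [h1, Multiset.sum_replicate, h, smul_eq_mul, mul_comm] at h2
  rw [Perm.sign_of_cycleType, Perm.sum_cycleType, h, Nat.eq_of_mul_eq_mul_left two_pos h2, pow_add,
    pow_mul, hw.neg_one_pow]
  simp

theorem res_mem_of_irr (hM : IsPModular p M) {G : Type*} [Group G] [Finite G] {N : Subgroup G}
    [N.Normal] {B : Set (IrrCharacter G)} (hB : IsPBlock M B) {b : Set (IrrCharacter N)}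
    (hb : IsPBlock M b) (hcov : CovF N (eB M B) (eB M b)) {χ : IrrCharacter G} (hχ : χ ∈ B)
    (h : IsIrrCharacter N fun n => χ.1 n) : (⟨_, h⟩ : IrrCharacter N) ∈ b := by
  have := Fintype.ofFinite N
  obtain ⟨θ, hθ, h1⟩ := exists_under_of_covF hM hB hb hcov hχ
  rwa [show (⟨_, h⟩ : IrrCharacter N) = θ from Subtype.ext (h.eq_of_inner_ne_zero θ.2 h1)]

theorem blockRank_alt_of_odd_wt (hM : IsPModular 2 M) {N : ℕ} (hN : Fintype.card A ≤ N)
    {lam : Fin N → ℕ} (hl : lam ∈ idx N (Fintype.card A)) (hw : Odd (wt 2 lam))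
    {b : Set (IrrCharacter (alternatingGroup A))} (hb : IsPBlock M b)
    (hcov : CovF (alternatingGroup A) (eB M (blk A N 2 (res 2 lam))) (eB M b)) :
    blockRank 2 (blk A N 2 (res 2 lam)) = blockRank 2 b := by
  have hB := isPBlock_blk hM hN hl
  have h1 : ∀ χ ∈ blk A N 2 (res 2 lam), IsIrrCharacter (alternatingGroup A) fun n => χ.1 n := by
    rintro _ ⟨mu, hm, h, rfl⟩
    exact res_irr_of_odd_wt hm (by rwa [wt_eq_of_mem two_pos hl hm h])
  refine blockRank_eq_of_res (fun g hg => sign_eq_one_of_odd (Nat.odd_iff.2 (by omega))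
    (pow_orderOf_eq_one g)) (fun χ hχ => ⟨_, res_mem_of_irr hM hB hb hcov hχ (h1 χ hχ),
      fun _ => rfl⟩) fun θ hθ => ?_
  obtain ⟨χ, hχ, h⟩ := exists_over_of_covF hM (isBlockUnion_of_block hM hB) hb hcov hθ
  exact ⟨χ, hχ, congrFun ((h1 χ hχ).eq_of_inner_ne_zero θ.2 h)⟩

theorem klein_sq : ∀ x : Multiplicative (ZMod 2 × ZMod 2), x ^ 2 = 1 := by decide

theorem klein_sign : ∀ x : Multiplicative (ZMod 2 × ZMod 2), Perm.sign (Equiv.mulLeft x) = 1 := by
  decide

theorem blockRank_alt_lt (hM : IsPModular p M) {b : Set (IrrCharacter (alternatingGroup A))}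
    (hb : IsPBlock M b) {D : Subgroup (alternatingGroup A)} (hD : IsDefectGroup p M b D)
    (hD1 : D ≠ ⊥) {s : ℕ} (hs : SectionalPRankLE p s D) : blockRank p b < p ^ s := by
  have := Fact.mk hM.1
  obtain ⟨lam, hl, hcov⟩ := exists_cover hM le_rfl hb
  have hB := isPBlock_blk hM le_rfl hl
  have hd : blockDefect p b ≠ 0 := fun h => hD1 (by
    rw [← Subgroup.card_eq_one, hD.card_eq_pow hM hb, h, pow_zero])
  have hA : Nontrivial A := by
    by_contra h
    have := not_nontrivial_iff_subsingleton.1 h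
    exact hD1 (Subsingleton.elim _ _)
  have h1 := blockRank_le_index_mul hM hB hb hcov
  rw [alternatingGroup.index_eq_two] at h1
  have h2 : wt p lam ≤ s → blockDefect p b ≤ wt p lam ∨ 3 ≤ wt p lam → blockRank p b < p ^ s :=
    fun h h' => by
      refine lt_of_lt_of_le ?_ (Nat.pow_le_pow_right hM.1.pos h)
      by_cases h3 : 3 ≤ wt p lam
      · exact h1.trans_lt (two_mul_blockRank_blk_lt hM.1 le_rfl hl h3)
      · exact (blockRank_lt_card hM hb hd).trans_le ((card_le_of_blockDefect_le_two hM hb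
          (by omega)).trans (Nat.pow_le_pow_right hM.1.pos (h'.resolve_right h3)))
  have hK : ∀ k : Fin (wt p lam) → Multiplicative (ZMod p), k ^ p = 1 := fun k => funext fun i => by
    simpa using pow_card_eq_one (x := k i)
  have hΩ : Fintype.card (Fin (wt p lam) × Multiplicative (ZMod p)) = p * wt p lam := by
    simp [mul_comm]
  by_cases hp : p = 2
  swap
  · refine h2 ((Nat.pow_le_pow_iff_right hM.1.one_lt).1 ?_) (or_iff_not_imp_right.2 fun h => ?_)
    · simpa using card_le_alt hM le_rfl hl hb hcov hD hs hΩ (baseHom_injective _ _) hK fun k =>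
        sign_eq_one_of_odd (hM.1.odd_of_ne_two hp) (by rw [← map_pow, hK, map_one])
    · rw [blockDefect_alt_of_odd hM hp le_rfl hl hb hcov, Nat.factorization_eq_zero_of_not_dvd,
        add_zero]
      rw [hM.1.dvd_factorial]
      have := hM.1.two_le
      omega
  subst hp
  by_cases hw : wt 2 lam = 0
  · obtain ⟨e⟩ := exists_equiv_alt hM le_rfl hl hb hcov hD (Ω := Empty) (by simp [hw]) default
    have := e.toEquiv.subsingleton
    exact absurd (eq_bot_of_subsingleton D) hD1
  have h3 := blockDefect_alt_two hM le_rfl hl hw hb hcov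
  rcases (wt 2 lam).even_or_odd with ⟨k, hk⟩ | ho
  · refine h2 ((Nat.pow_le_pow_iff_right one_lt_two).1 ?_) (or_iff_not_imp_right.2 fun h => ?_)
    · have h4 := card_le_alt hM le_rfl hl hb hcov hD hs
        (Ω := Fin k × Multiplicative (ZMod 2 × ZMod 2)) (by simp [hk]; ring) (baseHom_injective _ _)
        (fun a => funext fun i => klein_sq _)
        fun a => (Perm.sign_prodCongrRight _).trans (prod_eq_one fun i _ => klein_sign _)
      rw [hk, ← two_mul, pow_mul]
      simpa using h4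
    · rw [show wt 2 lam = 2 by omega] at h3 ⊢
      rw [Nat.factorial_two, Nat.prime_two.factorization_self] at h3
      omega
  · have h4 : 3 ≤ wt 2 lam := by
      by_contra h
      rw [show wt 2 lam = 1 by obtain ⟨k, hk⟩ := ho; omega] at h3
      simp at h3
      omega
    have h5 := two_mul_blockRank_blk_lt hM.1 le_rfl hl h4
    let f := Perm.sign.comp (baseHom (Fin (wt 2 lam)) (Multiplicative (ZMod 2)))
    have h6 := card_le_alt hM le_rfl hl hb hcov hD hs hΩ (f := (baseHom _ _).comp f.ker.subtype)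
      ((baseHom_injective _ _).comp (subtype_injective _)) (fun k => Subtype.ext (hK k)) fun k => k.2
    have h7 := f.ker.card_mul_index
    have h8 : f.ker.index ≤ 2 := by
      rw [index_ker]
      simpa using card_le_card_group f.range
    rw [blockRank_alt_of_odd_wt hM le_rfl hl ho hb hcov] at h5
    rw [show Nat.card (Fin (wt 2 lam) → Multiplicative (ZMod 2)) = 2 ^ wt 2 lam by simp] at h7
    nlinarith

end CL.Sym
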