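import Mathlib
import Cfsg.Agent.BLK.SymAlt

/-!
# Characters of degree `p` of Sylow subgroups of symmetric and alternating groups
-/

set_option autoImplicit false

open Cfsg Finset Equiv Subgroup CL.Blk CL.Char

namespace CL.Sym

variable {p : ℕ}

theorem exists_irr_degree (hp : p.Prime) {H : Type*} [Group H] [Finite H] (hH : IsPGroup p H)
    {W : Type*} [Fintype W] (π : H →* Perm W) (a : H → W → ℂˣ)
    (ha : ∀ g h i, a (g * h) i = a g i * a h ((π g)⁻¹ i)) {o : W} (ho : ∃ g, π g o ≠ o) {x : H}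
    (hx : π x = 1) (h1 : a x o ≠ 1) (h2 : ∀ i ≠ o, a x i = 1 ∨ ∀ g, π g i = i) :
    ∃ φ : IrrCharacter H, charDegree φ.1 = p := by
  classical
  have := Fact.mk hp
  have := Fintype.ofFinite H
  obtain ⟨g₀, hg₀⟩ := ho
  let S : Subgroup H := (MulAction.stabilizer (Perm W) o).comap π
  obtain ⟨k, hk⟩ := IsPGroup.iff_card.1 hH
  obtain ⟨j, hj⟩ := IsPGroup.iff_card.1 (hH.to_subgroup S)
  have hjk : j < k := (Nat.pow_lt_pow_iff_right hp.one_lt).1 (hj ▸ hk ▸ (card_le_card_group S).lt_of_ne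
    fun h => hg₀ (eq_top_of_card_eq S h ▸ mem_top g₀ : g₀ ∈ S))
  obtain ⟨k, rfl⟩ : ∃ m, k = m + 1 := ⟨k - 1, by omega⟩
  obtain ⟨K, hK, hSK⟩ := Sylow.exists_subgroup_card_pow_prime_le p (m := k)
    (hk ▸ pow_dvd_pow p k.le_succ) S hj (by omega)
  have hi : K.index = p := by
    have := K.card_mul_index
    rw [hK, hk, pow_succ] at this
    exact Nat.eq_of_mul_eq_mul_left (pow_pos hp.pos _) this
  have : K.Normal := normal_of_index_eq_minFac_card (by
    rw [hi, hk, hp.pow_minFac k.succ_ne_zero])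
  let Δ : Finset W := {i | ∃ h ∈ K, π h o = i}
  have hΔ : ∀ g ∈ K, ∀ i, (π g)⁻¹ i ∈ Δ ↔ i ∈ Δ := fun g hg i => by
    simp only [Δ, mem_filter, mem_univ, true_and]
    exact ⟨fun ⟨h, hh, e⟩ => ⟨g * h, mul_mem hg hh, by simp [e]⟩,
      fun ⟨h, hh, e⟩ => ⟨g⁻¹ * h, mul_mem (inv_mem hg) hh, by simp [e]⟩⟩
  let lam : K →* ℂˣ := MonoidHom.mk' (fun g => ∏ i ∈ Δ, a g i) fun g h => by
    simp only [Subgroup.coe_mul, ha, prod_mul_distrib]
    congr 1
    exact prod_bijective _ (π g)⁻¹.bijective (fun i => (hΔ g g.2 i).symm) fun _ _ => rfl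
  have hxK : x ∈ K := hSK (by simp [S, hx])
  have hin : inertia K (fun g => (lam g : ℂ)) = K := by
    have h0 := le_inertia (isIrrCharacter_hom lam).isClassFunction
    refine le_antisymm (relIndex_eq_one.1 ((hp.eq_one_or_self_of_dvd _ (hi ▸ relIndex_dvd_index_of_le
      h0)).resolve_right fun h => h1 ?_)) h0
    replace h := index_eq_one.1 (Nat.eq_of_mul_eq_mul_left hp.pos
      ((h ▸ hi ▸ relIndex_mul_index h0).trans (mul_one _).symm))
    obtain ⟨g, hg⟩ : ∃ g, g ∉ K := by
      by_contra h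
      push Not at h
      exact hp.one_lt.ne' (hi ▸ index_eq_one.2 (eq_top_iff.2 fun g _ => h g))
    have h3 : ∏ i ∈ Δ, a (g * x * g⁻¹) i = ∏ i ∈ Δ, a x i :=
      Units.ext (inertia_eq_top_iff.1 h g ⟨x, hxK⟩)
    have h4 : ∀ i, a 1 i = 1 := fun i => by simpa using ha 1 1 i
    have h5 : ∀ i, a (g * x * g⁻¹) i = a x ((π g)⁻¹ i) := fun i => by
      have h6 := ha g g⁻¹ i
      rw [mul_inv_cancel, h4] at h6
      rw [ha, ha, map_mul, hx, mul_one, mul_right_comm, ← h6, one_mul]
    have h6 : ∀ i ∈ Δ, ¬ ∀ g, π g i = i := fun i hi h => by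
      obtain ⟨k, -, rfl⟩ := (mem_filter.1 hi).2
      have h7 : π k o = o := by simpa using (h k⁻¹).symm
      exact hg₀ (by simpa [h7] using h g₀)
    rw [prod_eq_one fun i hi => ?_, prod_eq_single_of_mem o (mem_filter.2 ⟨mem_univ _, 1, one_mem _,
      by simp⟩) fun i hi hio => (h2 i hio).resolve_right (h6 i hi)] at h3
    · exact h3.symm
    · rw [h5]
      refine (h2 _ fun h => hg ?_).resolve_right fun h => h6 i hi ?_
      · obtain ⟨k, hk, rfl⟩ := (mem_filter.1 hi).2
        exact (K.mul_mem_cancel_right hk).1 (hSK (by simpa [S] using h) : g⁻¹ * k ∈ K) |> inv_mem_iff.1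
      · have h7 : i = (π g)⁻¹ i := by simpa using h g
        rwa [← h7] at h
  refine ⟨⟨_, (ind_irr_iff_inertia_eq (isIrrCharacter_hom lam)).2 hin⟩, ?_⟩
  simp [charDegree, indFun_one, hi]

theorem exists_irr_degree_of_surjective {G H : Type*} [Group G] [Group H] (f : G →* H)
    (hf : Function.Surjective f) {d : ℕ} (h : ∃ φ : IrrCharacter H, charDegree φ.1 = d) :
    ∃ φ : IrrCharacter G, charDegree φ.1 = d := by
  obtain ⟨φ, h⟩ := h
  exact ⟨irrInfl f hf φ, by simpa [charDegree, irrInfl_apply] using h⟩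

variable {W Z : Type*} [Group Z]

/-- The wreath product. -/
abbrev Wr (Z : Type*) [Group Z] (P : Subgroup (Perm W)) := (W → Z) ⋊[mulAutArrow] P

/-- The wreath product as a permutation group. -/
def wrHom (Z : Type*) [Group Z] (P : Subgroup (Perm W)) : Wr Z P →* Perm (W × Z) :=
  MonoidHom.mk' (fun k => baseHom W Z k.left * Equiv.prodCongr k.right.1 (Equiv.refl Z))
    fun k l => by
      ext x
      · simp [baseHom]
      · have h : (mulAutArrow k.right l.left) (k.right.1 (l.right.1 x.1)) = l.left (l.right.1 x.1) :=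
          congrArg l.left (k.right.1.symm_apply_apply _)
        simp [baseHom, mul_assoc, ← h]

theorem wrHom_apply {P : Subgroup (Perm W)} (k : Wr Z P) (i : W) (z : Z) :
    wrHom Z P k (i, z) = (k.right.1 i, k.left (k.right.1 i) * z) := rfl

theorem wrHom_injective (P : Subgroup (Perm W)) : Function.Injective (wrHom Z P) :=
  (injective_iff_map_eq_one _).2 fun k hk => by
    have h1 : ∀ i, (k.right.1 i, k.left (k.right.1 i) * 1) = (i, 1) := fun i => by
      rw [← wrHom_apply, hk, Perm.one_apply]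
    have h2 : ∀ i, k.right.1 i = i := fun i => congrArg Prod.fst (h1 i)
    exact SemidirectProduct.ext (funext fun i => by simpa [h2] using congrArg Prod.snd (h1 i))
      (Subtype.ext (Equiv.ext h2))

theorem wrHom_inl {P : Subgroup (Perm W)} (a : W → Z) :
    wrHom Z P (SemidirectProduct.inl a) = baseHom W Z a := rfl

variable [Fintype W] [DecidableEq W] [hp : Fact p.Prime]

theorem card_wr (P : Sylow p (Perm W)) : Nat.card (Wr (Multiplicative (ZMod p)) P.1) =
    p ^ (Nat.card (Perm (W × Multiplicative (ZMod p)))).factorization p := by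
  rw [SemidirectProduct.card, P.card_eq_multiplicity, Nat.card_perm, Nat.card_perm, Nat.card_prod,
    show Nat.card (Multiplicative (ZMod p)) = p by simp, mul_comm _ p, factorization_mul_factorial hp.out, pow_add]
  simp

/-- The wreath product as a Sylow subgroup. -/
noncomputable def wrSylow (P : Sylow p (Perm W)) : Sylow p (Perm (W × Multiplicative (ZMod p))) :=
  Sylow.ofCard (wrHom _ P.1).range
    ((Nat.card_congr (MonoidHom.ofInjective (wrHom_injective _)).toEquiv).symm.trans (card_wr P))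

theorem exists_irr_degree_wr (P : Sylow p (Perm W)) (H : Subgroup (Wr (Multiplicative (ZMod p)) P.1))
    {o : W} (ho : ∃ g ∈ H, g.right.1 o ≠ o) {a : W → Multiplicative (ZMod p)}
    (ha : SemidirectProduct.inl a ∈ H) (h1 : a o ≠ 1) (h2 : ∀ i ≠ o, a i = 1 ∨ ∀ g ∈ P, g i = i) :
    ∃ φ : IrrCharacter H, charDegree φ.1 = p := by
  obtain ⟨ζ, hζ⟩ := CommGroup.exists_apply_ne_one_of_hasEnoughRootsOfUnity _ ℂ h1
  obtain ⟨g, hg, ho⟩ := ho
  have := Finite.of_injective _ (wrHom_injective (Z := Multiplicative (ZMod p)) P.1)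
  exact exists_irr_degree hp.out ((IsPGroup.of_card (card_wr P)).to_subgroup H)
    (P.1.subtype.comp (SemidirectProduct.rightHom.comp H.subtype)) (fun g i => ζ (g.1.left i))
    (fun g h i => map_mul ζ _ _) ⟨⟨g, hg⟩, ho⟩ (x := ⟨_, ha⟩) rfl hζ fun i hi =>
      (h2 i hi).imp (fun h => (congrArg ζ h).trans ζ.map_one) fun h g => h _ g.1.right.2

omit [DecidableEq W] in
theorem exists_move_sylow (hW : p ≤ Fintype.card W) (P : Sylow p (Perm W)) :
    ∃ g ∈ P, ∃ o, g o ≠ o := by
  by_contra h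
  push Not at h
  refine P.ne_bot_of_dvd_card ?_ (eq_bot_iff.2 fun g hg => Equiv.ext (h g hg))
  rw [Nat.card_perm, Nat.card_eq_fintype_card]
  exact Nat.dvd_factorial hp.out.pos hW

theorem exists_irr_degree_sylow {Ω : Type*} [Fintype Ω] {w : ℕ} (hΩ : Fintype.card Ω = p * w)
    (hw : p ≤ w) (Q : Sylow p (Perm Ω)) : ∃ φ : IrrCharacter Q, charDegree φ.1 = p := by
  let P : Sylow p (Perm (Fin w)) := default
  obtain ⟨g, hg, o, ho⟩ := exists_move_sylow (by simpa using hw) P
  obtain ⟨e⟩ : Nonempty (Fin w × Multiplicative (ZMod p) ≃ Ω) :=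
    Fintype.card_eq.1 (by simp [hΩ, mul_comm])
  have h := exists_irr_degree_wr P ⊤ ⟨SemidirectProduct.inr ⟨g, hg⟩, mem_top _, ho⟩
    (a := Pi.mulSingle o (Multiplicative.ofAdd 1)) (mem_top _) (by simp)
    fun i hi => Or.inl (by simp [hi])
  let f := e.permCongrHom.toMonoidHom.comp (wrHom _ P.1)
  have hf : Function.Injective f := e.permCongrHom.injective.comp (wrHom_injective _)
  let Q' : Sylow p (Perm Ω) := Sylow.ofCard f.range (by
    rw [← Nat.card_congr (MonoidHom.ofInjective hf).toEquiv, card_wr P,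
      Nat.card_congr e.permCongr])
  let e' := (Q.equiv Q').trans ((MonoidHom.ofInjective hf).symm.trans topEquiv.symm)
  exact exists_irr_degree_of_surjective e'.toMonoidHom e'.surjective h

omit hp in
theorem exists_irr_degree_alt_two (hW : 3 ≤ Fintype.card W) (P : Sylow 2 (Perm W)) :
    ∃ φ : IrrCharacter ↥((wrSylow P).1 ⊓ alternatingGroup _), charDegree φ.1 = 2 := by
  let H := (Perm.sign.comp (wrHom (Multiplicative (ZMod 2)) P.1)).ker
  have hs : ∀ i : W, Perm.sign (wrHom (Multiplicative (ZMod 2)) P.1 (SemidirectProduct.inl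
      (Pi.mulSingle i (Multiplicative.ofAdd 1)))) = -1 := fun i => by
    refine (Perm.sign_prodCongrRight fun j => Equiv.mulLeft (Pi.mulSingle (M := fun _ =>
      Multiplicative (ZMod 2)) i (Multiplicative.ofAdd 1) j)).trans
      ((prod_eq_single i (fun j _ hj => ?_) (by simp)).trans ?_)
    · simp [hj]
    · rw [Pi.mulSingle_eq_same]
      decide
  have hsurj : Function.Surjective (SemidirectProduct.rightHom.comp H.subtype) := fun g => by
    rcases Int.units_eq_one_or (Perm.sign (wrHom (Multiplicative (ZMod 2)) P.1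
      (SemidirectProduct.inr g))) with h | h
    · exact ⟨⟨_, h⟩, rfl⟩
    · obtain ⟨i⟩ : Nonempty W := Fintype.card_pos_iff.1 (by omega)
      exact ⟨⟨SemidirectProduct.inl (Pi.mulSingle i (Multiplicative.ofAdd 1)) *
        SemidirectProduct.inr g, by simp [H, hs, h]⟩, by simp⟩
  have h1 : H.map (wrHom _ P.1) = (wrSylow P).1 ⊓ alternatingGroup _ := by
    ext g
    exact ⟨by rintro ⟨k, hk, rfl⟩; exact ⟨⟨k, rfl⟩, hk⟩, by rintro ⟨⟨k, rfl⟩, hk⟩; exact ⟨k, hk, rfl⟩⟩
  let e := ((equivMapOfInjective H _ (wrHom_injective _)).trans (MulEquiv.subgroupCongr h1)).symm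
  refine exists_irr_degree_of_surjective e.toMonoidHom e.surjective ?_
  rcases (Fintype.card W).even_or_odd with ⟨k, hk⟩ | ho
  · exact exists_irr_degree_of_surjective _ hsurj
      (exists_irr_degree_sylow (w := k) (by omega) (by omega) P)
  · obtain ⟨g, hg, o, hgo⟩ := exists_move_sylow (by omega) P
    obtain ⟨o', ho'⟩ := P.2.nonempty_fixed_point_of_prime_not_dvd_card W
      (by rw [Nat.card_eq_fintype_card]; exact ho.not_two_dvd_nat)
    have hne : o ≠ o' := fun h => hgo (h ▸ ho' ⟨g, hg⟩)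
    obtain ⟨k, hk⟩ := hsurj ⟨g, hg⟩
    obtain rfl : k.1.right.1 = g := congrArg Subtype.val hk
    refine exists_irr_degree_wr P H ⟨k, k.2, hgo⟩
      (a := Pi.mulSingle o (Multiplicative.ofAdd 1) * Pi.mulSingle o' (Multiplicative.ofAdd 1))
      (by simp [H, hs]) (by simp [hne]) fun i hi => ?_
    by_cases h : i = o'
    · exact Or.inr fun g hg => h.symm ▸ ho' ⟨g, hg⟩
    · exact Or.inl (by simp [hi, h])

theorem isMulCommutative_wrSylow (hW : Fintype.card W < p) (P : Sylow p (Perm W)) :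
    IsMulCommutative (wrSylow P).1 := by
  have h : ∀ g : P.1, g = 1 := by
    have h1 := P.card_eq_multiplicity
    rw [Nat.card_perm, Nat.factorization_eq_zero_of_not_dvd (by
      rwa [hp.out.dvd_factorial, not_le, Nat.card_eq_fintype_card]), pow_zero] at h1
    exact fun g => (Nat.card_eq_one_iff_unique.1 h1).1.elim _ _
  refine ⟨⟨?_⟩⟩
  rintro ⟨_, k, rfl⟩ ⟨_, l, rfl⟩
  refine Subtype.ext ((map_mul _ _ _).symm.trans (Eq.trans (congrArg _ ?_) (map_mul _ _ _)))
  exact SemidirectProduct.ext (by simp [h k.right, h l.right, mul_comm]) (by rw [h (k * l).right,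
    h (l * k).right])

end CL.Sym
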