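import Mathlib
import Cfsg.Agent.BLK.SymWreath

/-!
# Characters of height one in blocks of symmetric and alternating groups
-/

set_option autoImplicit false

open Cfsg Finset Equiv Subgroup CL.Blk CL.Char

namespace CL.Sym

variable {p : ℕ} {M : Ideal AlgInt} {I : Type*} [Fintype I]

theorem lt_iff_rk_lt {lam : I → ℕ} (hl : Function.Injective lam) {i j : I}
    (h : lam i % p = lam j % p) : lam i < lam j ↔ rk p lam i < rk p lam j := by
  refine ⟨rk_lt_rk h, fun h' => ?_⟩
  rcases lt_trichotomy (lam i) (lam j) with h1 | h1 | h1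
  · exact h1
  · exact absurd h' (by rw [hl h1]; exact lt_irrefl _)
  · exact absurd h' (rk_lt_rk h.symm h1).not_gt

theorem sum_rk {lam : I → ℕ} (hp : 0 < p) (hl : Function.Injective lam) (f : ℕ → ℕ → ℕ) :
    ∑ i, f (lam i % p) (rk p lam i) = ∑ r ∈ range p, ∑ j ∈ range ((res p lam).count r), f r j := by
  rw [← sum_runner hp lam]
  refine sum_congr rfl fun r _ => sum_bij (fun i _ => rk p lam i)
    (fun i _ => mem_range.2 ((rk_lt_count lam i.1).trans_eq (by rw [i.2])))
    (fun i _ j _ h => Subtype.ext (eq_of_rk_eq hl (i.2.trans j.2.symm) h)) (fun j hj => ?_)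
    fun i _ => by rw [i.2]
  obtain ⟨i, h1, h2⟩ := exists_rk_eq hl (mem_range.1 hj)
  exact ⟨⟨i, h1⟩, mem_univ _, h2⟩

theorem exists_config (hp : 0 < p) {N n : ℕ} {lam : Fin N → ℕ} (hl : lam ∈ idx N n)
    (f : ℕ → ℕ → ℕ) (hf : ∀ r i j, i ≤ j → j < (res p lam).count r → f r i ≤ f r j)
    (hs : ∑ r ∈ range p, ∑ j ∈ range ((res p lam).count r), f r j = wt p lam) :
    ∃ mu ∈ idx N n, res p mu = res p lam ∧ ∀ i, pt p mu i = f (mu i % p) (rk p mu i) := by
  have hi := (mem_idx.1 hl).2.injective
  let mu : Fin N → ℕ := fun i => core p lam i + p * f (lam i % p) (rk p lam i)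
  have h1 : ∀ i, mu i % p = lam i % p := fun i => by simp [mu, core_mod]
  have h2 : ∀ i, mu i / p = rk p lam i + f (lam i % p) (rk p lam i) := fun i => by
    simp only [mu]
    rw [Nat.add_mul_div_left _ _ hp, core_div hp]
  have h3 : ∀ i j, lam i % p = lam j % p → lam i < lam j → mu i < mu j := fun i j h h' => by
    have h4 := rk_lt_rk h h'
    have h5 := hf _ _ _ h4.le (rk_lt_count lam j)
    refine Nat.lt_of_div_lt_div (c := p) ?_
    rw [h2, h2, h]
    omega
  have h4 : ∀ i j, lam i % p = lam j % p → (lam i < lam j ↔ mu i < mu j) := fun i j h =>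
    ⟨h3 i j h, fun h' => lt_of_not_ge fun h5 => h5.lt_or_eq.elim
      (fun h6 => (h3 j i h.symm h6).not_gt h') fun h6 => h'.ne' (by rw [hi h6])⟩
  have h5 : Function.Injective mu := fun i j h => by
    have h6 : lam i % p = lam j % p := by rw [← h1, h, h1]
    exact hi (le_antisymm (not_lt.1 fun h' => ((h4 j i h6.symm).1 h').ne' h)
      (not_lt.1 fun h' => ((h4 i j h6).1 h').ne h))
  obtain ⟨κ, hκ⟩ := exists_sort h5
  refine ⟨mu ∘ κ, mem_idx.2 ⟨IsSize.comp ?_ κ, hκ⟩, (res_comp _ _).trans (res_congr h1), fun i => ?_⟩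
  · rw [IsSize, sum_add_distrib, ← mul_sum, sum_rk hp hi, hs, sum_core_add hi]
    exact (mem_idx.1 hl).1
  · rw [pt_comp, rk_comp, pt, ← rk_congr (fun i => (h1 i).symm) h4, h2, Nat.add_sub_cancel_left,
      Function.comp, h1]

theorem eq_of_add_le {N n : ℕ} {lam : Fin N → ℕ} (hl : lam ∈ idx N n) {i : Fin N}
    (h : i + n < N) : lam i = i := by
  obtain ⟨hs, hm⟩ := mem_idx.1 hl
  refine (le_of_strictMono hm i).antisymm' (not_lt.1 fun h1 => ?_)
  have h2 : ∀ j, j.val + (if j ∈ Ici i then 1 else 0) ≤ lam j := fun j => by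
    split_ifs with hj
    · obtain ⟨j, hj'⟩ := j
      replace hj : i.val ≤ j := Fin.le_def.1 (mem_Ici.1 hj)
      induction j, hj using Nat.le_induction with
      | base => exact h1
      | succ j hj ih => exact (ih (by omega)).trans_lt (hm (Fin.mk_lt_mk.2 j.lt_succ_self))
    · exact le_of_strictMono hm j
  have h3 := sum_le_sum fun j (_ : j ∈ univ) => h2 j
  rw [sum_add_distrib, hs, sum_ite_mem, univ_inter, sum_const, Fin.card_Ici, smul_eq_mul] at h3
  omega

theorem two_le_count {N n : ℕ} {lam : Fin N → ℕ} (hl : lam ∈ idx N n) (hN : n + 2 * p ≤ N) {r : ℕ}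
    (hr : r < p) : 2 ≤ (res p lam).count r := by
  rw [count_res]
  refine one_lt_card.2 ⟨⟨r, by omega⟩, ?_, ⟨r + p, by omega⟩, ?_, by simp; omega⟩ <;>
    simp (disch := simp; omega) [eq_of_add_le hl, Nat.mod_eq_of_lt hr]

theorem holes_eq {mu : I → ℕ} (hm : Function.Injective mu) {i : I} {S : Finset ℕ}
    (h : ∀ x ∈ S, x < mu i ∧ ∀ j, mu j ≠ x) (hc : pt 1 mu i ≤ #S) :
    range (mu i) \ univ.image mu = S :=
  (eq_of_subset_of_card_le (fun x hx => by simpa using h x hx) (card_holes hm i ▸ hc)).symm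

theorem prod_Ico_sub (m a : ℕ) : ∏ h ∈ Ico m (m + a), (m + a - h) = a.factorial := by
  rw [prod_Ico_eq_prod_range, Nat.add_sub_cancel_left, ← prod_range_sub]
  exact prod_congr rfl fun _ _ => by omega

theorem hook_of_one {mu : I → ℕ} (hm : Function.Injective mu) {t : I}
    (h : ∀ i ≠ t, pt 1 mu i = 0) : hook mu = (pt 1 mu t).factorial := by
  have h1 : ∀ i, rk 1 mu i + pt 1 mu i = mu i := fun i => (rk_add_pt hm i).trans (Nat.div_one _)
  rw [hook, prod_eq_single t (fun i _ hi => by
    rw [card_eq_zero.1 ((card_holes hm i).trans (h i hi)), prod_empty]) (by simp),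
    holes_eq hm (S := Ico (rk 1 mu t) (mu t)) (fun x hx => ⟨(mem_Ico.1 hx).2, fun j hj => ?_⟩)
      (by simp [pt]), ← h1 t, prod_Ico_sub]
  have h2 := mem_Ico.1 hx
  have h3 := rk_lt_rk (p := 1) (lam := mu) (i := j) (j := t) (by omega) (by omega)
  have h4 := h1 j
  have h5 := h j (by rintro rfl; omega)
  omega

theorem hook_of_two {mu : I → ℕ} (hm : Function.Injective mu) {s t : I} {a : ℕ}
    (h : ∀ i, i ≠ t → i ≠ s → pt 1 mu i = 0) (hs : pt 1 mu s = 1) (ht : pt 1 mu t = a + 1)
    (hst : rk 1 mu t = rk 1 mu s + 1) : hook mu = (a + 2) * a.factorial := by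
  classical
  have h1 : ∀ i, rk 1 mu i + pt 1 mu i = mu i := fun i => (rk_add_pt hm i).trans (Nat.div_one _)
  have h2 := h1 s
  have h3 := h1 t
  have h4 : ∀ j, mu j < mu t → j ≠ s → mu j < rk 1 mu s := fun j hj hjs => by
    have h5 := rk_lt_rk (p := 1) (lam := mu) (i := j) (j := t) (by omega) hj
    have h6 := h1 j
    have h7 := h j (by rintro rfl; omega) hjs
    have h8 := mt (eq_of_rk_eq (p := 1) hm (i := j) (j := s) (by omega)) hjs
    omega
  rw [hook, prod_eq_mul t s (by rintro rfl; omega) (fun i _ hi => by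
    rw [card_eq_zero.1 ((card_holes hm i).trans (h i hi.1 hi.2)), prod_empty]) (by simp) (by simp),
    holes_eq hm (i := s) (S := {rk 1 mu s}) (fun x hx => ?_) (by simp [hs]),
    holes_eq hm (i := t) (S := insert (rk 1 mu s) (Ico (mu s + 1) (mu t))) (fun x hx => ?_)
      (by rw [card_insert_of_notMem (by simp; omega), Nat.card_Ico]; omega),
    prod_insert (by simp; omega), prod_singleton, show mu t = mu s + 1 + a by omega, prod_Ico_sub,
    show mu s - rk 1 mu s = 1 by omega, show mu s + 1 + a - rk 1 mu s = a + 2 by omega, mul_one]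
  · simp only [mem_insert, mem_Ico] at hx
    refine ⟨by omega, fun j hj => ?_⟩
    have := h4 j (by omega) (by rintro rfl; omega)
    omega
  · rw [mem_singleton.1 hx]
    refine ⟨by omega, fun j hj => ?_⟩
    have := h4 j (by omega) (by rintro rfl; omega)
    omega

theorem rk_runner (lam : I → ℕ) (r : ℕ) {i : {i // lam i % p = r}} (hl : Function.Injective lam) :
    rk 1 (runner p lam r) i = rk p lam i := by
  have h1 := rk_add_pt (p := 1) (runner_injective hl r) i
  have h2 := rk_add_pt (p := p) hl i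
  rw [pt_runner, Nat.div_one, runner] at h1
  omega

/-- All gaps of a runner lie below its top bead only. -/
def OneRow (p : ℕ) (mu : I → ℕ) : Prop :=
  ∀ i, rk p mu i + 1 ≠ (res p mu).count (mu i % p) → pt p mu i = 0

theorem exists_oneRow (hp : 0 < p) {N n : ℕ} {lam : Fin N → ℕ} (hl : lam ∈ idx N n)
    (hN : n + 2 * p ≤ N) (a : ℕ → ℕ) (ha : ∑ r ∈ range p, a r = wt p lam) :
    ∃ mu ∈ idx N n, res p mu = res p lam ∧ OneRow p mu ∧ ∀ r < p,
      hook (runner p mu r) = (a r).factorial ∧ ∃ i, pt p mu i = a r := by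
  obtain ⟨mu, hm, h1, h2⟩ := exists_config hp hl
    (fun r j => if j + 1 = (res p lam).count r then a r else 0)
    (fun r i j _ _ => by split_ifs <;> omega) (ha ▸ sum_congr rfl fun r hr => by
      have := two_le_count hl hN (mem_range.1 hr)
      rw [sum_eq_single_of_mem ((res p lam).count r - 1) (by simp; omega)
        fun j _ hj => if_neg (by omega), if_pos (by omega)])
  refine ⟨mu, hm, h1, fun i hi => by rw [h2, if_neg (h1 ▸ hi)], fun r hr => ?_⟩
  have h3 := two_le_count hl hN hr
  have hi := (mem_idx.1 hm).2.injective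
  obtain ⟨t, h4, h5⟩ := exists_rk_eq hi (r := r) (k := (res p lam).count r - 1) (by rw [h1]; omega)
  have h6 : pt p mu t = a r := by rw [h2, h4, h5, if_pos (by omega)]
  refine ⟨?_, t, h6⟩
  rw [hook_of_one (runner_injective hi r) (t := ⟨t, h4⟩) fun i hi' => ?_, pt_runner, h6]
  rw [pt_runner, h2, i.2, if_neg fun h => hi' (Subtype.ext (eq_of_rk_eq hi (i.2.trans h4.symm) ?_))]
  simp only
  omega

theorem exists_twoRow (hp : 0 < p) {N n : ℕ} {lam : Fin N → ℕ} (hl : lam ∈ idx N n)
    (hN : n + 2 * p ≤ N) {a : ℕ} (ha : a + 2 = wt p lam) :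
    ∃ mu ∈ idx N n, res p mu = res p lam ∧ hook (runner p mu 0) = (a + 2) * a.factorial ∧
      ∀ r ≠ 0, hook (runner p mu r) = 1 := by
  have h3 := two_le_count hl hN hp
  obtain ⟨mu, hm, h1, h2⟩ := exists_config hp hl (fun r j => if r = 0 then
    if j + 1 = (res p lam).count r then a + 1 else if j + 2 = (res p lam).count r then 1 else 0
      else 0) (fun r i j _ _ => by split_ifs <;> omega) (by
      rw [sum_eq_single_of_mem 0 (by simpa using hp) fun r _ hr => by simp [hr]]
      obtain ⟨k, hk⟩ := Nat.exists_eq_add_of_le' h3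
      simp only [if_true, hk, sum_range_succ]
      rw [sum_eq_zero fun j hj => by
        have := mem_range.1 hj
        rw [if_neg (by omega), if_neg (by omega)]]
      simp
      omega)
  have hi := (mem_idx.1 hm).2.injective
  obtain ⟨t, h4, h5⟩ := exists_rk_eq hi (r := 0) (k := (res p lam).count 0 - 1) (by rw [h1]; omega)
  obtain ⟨s, h6, h7⟩ := exists_rk_eq hi (r := 0) (k := (res p lam).count 0 - 2) (by rw [h1]; omega)
  refine ⟨mu, hm, h1, hook_of_two (runner_injective hi 0) (s := ⟨s, h6⟩) (t := ⟨t, h4⟩)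
    (fun i h8 h9 => ?_) ?_ ?_ ?_, fun r hr => prod_eq_one fun i _ => ?_⟩
  · rw [pt_runner, h2, i.2, if_pos rfl,
      if_neg fun h => h8 (Subtype.ext (eq_of_rk_eq hi (i.2.trans h4.symm) (by simp only; omega))),
      if_neg fun h => h9 (Subtype.ext (eq_of_rk_eq hi (i.2.trans h6.symm) (by simp only; omega)))]
  · rw [pt_runner, h2, h6, h7, if_pos rfl, if_neg (by omega), if_pos (by omega)]
  · rw [pt_runner, h2, h4, h5, if_pos rfl, if_pos (by omega)]
  · rw [rk_runner _ _ hi, rk_runner _ _ hi, h5, h7]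
    omega
  · rw [card_eq_zero.1 ((card_holes (runner_injective hi r) i).trans ?_), prod_empty]
    rw [pt_runner, h2, i.2, if_neg hr]

theorem OneRow.chiM_cons (hp : 0 < p) {N : ℕ} {mu : Fin N → ℕ} (h : OneRow p mu)
    (hm : Function.Injective mu) {k : ℕ} (hk : ∃ i, k ≤ pt p mu i) (hk0 : 0 < k) :
    ∃ c : ℕ, 0 < c ∧ ∀ m, chiM mu ((p * k) ::ₘ (Multiset.replicate (wt p mu - k) p + m)) =
      c * chiM (core p mu) m := by
  have h1 : ∀ i j, j ≠ i → mu j % p = mu i % p → k ≤ pt p mu i → mu j + p * k < mu i :=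
    fun i j hj h1 h2 => by
      have h3 : rk p mu i + 1 = _ := not_not.1 (mt (h i) (by omega))
      have h4 := rk_lt_count (p := p) mu j
      have h5 := mt (eq_of_rk_eq hm h1) hj
      have h6 := h j (by rw [h1] at h4 ⊢; omega)
      have h7 := rk_add_pt (p := p) hm i
      have h8 := rk_add_pt (p := p) hm j
      refine Nat.lt_of_div_lt_div (c := p) ?_
      rw [Nat.add_mul_div_left _ _ hp, h1] at *
      omega
  have h2 : ∀ i, k ≤ pt p mu i → p * k ≤ mu i := fun i hi =>
    (Nat.mul_le_mul_left p hi).trans (le_of_add_le_right (core_add hm i).le)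
  have h3 : ∀ i, k ≤ pt p mu i → ∀ j l, mu j % p = mu l % p →
      (Function.update mu i (mu i - p * k) j < Function.update mu i (mu i - p * k) l ↔
        mu j < mu l) := fun i hi j l hjl => by
    by_cases hj : j = i <;> by_cases hl : l = i
    · simp [hj, hl]
    · subst hj
      have := h1 j l hl hjl.symm hi
      rw [Function.update_self, Function.update_of_ne hl]
      omega
    · subst hl
      have := h1 l j hj hjl hi
      rw [Function.update_self, Function.update_of_ne hj]
      omega
    · rw [Function.update_of_ne hj, Function.update_of_ne hl]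
  simp only [Sym.chiM_cons]
  refine exists_pos_sum (P := fun i => k ≤ pt p mu i) (fun i hi => ?_) (fun i hi m => ?_) hk
  · have h4 := update_mod (lam := mu) (dvd_mul_right p k) (h2 i hi)
    have h5 : Function.Injective (Function.update mu i (mu i - p * k)) := fun j l hjl => by
      have h6 : mu j % p = mu l % p := by rw [← h4, hjl, h4]
      exact hm (le_antisymm (not_lt.1 fun h' => ((h3 i hi l j h6.symm).2 h').ne' hjl)
        (not_lt.1 fun h' => ((h3 i hi j l h6).2 h').ne hjl))
    have h6 := core_congr h4 fun j l hjl => h3 i hi j l (by rwa [h4, h4] at hjl)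
    simp only [if_pos (h2 i hi), ← h6, ← wt_of_core_update hp hm (h2 i hi) h5 h6,
      Nat.add_sub_cancel]
    exact chiM_replicate hp h5
  · split_ifs with h4
    swap
    · rfl
    refine chiM_eq_zero (fun h5 => ?_) _
    have h6 := rk_add_pt (p := p) hm i
    have h7 := rk_lt_count (p := p) mu i
    have h8 := (Nat.le_div_iff_mul_le hp).2 (mul_comm p k ▸ h4)
    obtain ⟨j, h9, h10⟩ := exists_rk_eq (p := p) hm (r := mu i % p) (k := mu i / p - k) (by omega)
    have h11 := rk_add_pt (p := p) hm j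
    rw [h j (by rw [h9]; omega)] at h11
    have h12 : j ≠ i := by rintro rfl; omega
    refine h12 (h5 ?_)
    rw [Function.update_self, Function.update_of_ne h12]
    exact eq_of_mod_eq_of_div_eq (by rw [h9, Nat.sub_mul_mod h4])
      (by rw [Nat.sub_mul_div, ← h11, h10, add_zero])

theorem factorization_factorial_add (hp : p.Prime) (q : ℕ) {r : ℕ} (hr : r < p) :
    (p * q + r).factorial.factorization p = q + q.factorial.factorization p := by
  have := Fact.mk hp
  rw [← factorization_mul_factorial hp, Nat.factorization_def _ hp, Nat.factorization_def _ hp,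
    padicValNat_factorial_mul_add _ hr]

theorem exists_three (hp : p.Prime) {w : ℕ} (hw : p ≤ w) : ∃ a b c, a + b + c = w ∧
    w.factorial.factorization p = a.factorial.factorization p + b.factorial.factorization p +
      c.factorial.factorization p + 1 := by
  induction w using Nat.strong_induction_on with | h w ih => ?_
  have h1 := Nat.div_add_mod w p
  have h2 := Nat.mod_lt w hp.pos
  have h3 := factorization_factorial_add hp (w / p) h2
  rw [h1] at h3
  have h0 : ∀ m < p, m.factorial.factorization p = 0 := fun m hm =>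
    Nat.factorization_eq_zero_of_not_dvd (by rwa [hp.dvd_factorial, not_le])
  by_cases h : p ≤ w / p
  · obtain ⟨a, b, c, h4, h5⟩ := ih _ (Nat.div_lt_self (hp.pos.trans_le hw) hp.one_lt) h
    refine ⟨p * a + w % p, p * b, p * c, by rw [← h4] at h1; linarith, ?_⟩
    rw [h3, factorization_factorial_add hp _ h2, factorization_mul_factorial hp,
      factorization_mul_factorial hp]
    omega
  · obtain ⟨q, hq⟩ : ∃ q, w / p = q + 1 := ⟨w / p - 1, by have := Nat.div_pos hw hp.pos; omega⟩
    have := hp.one_lt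
    refine ⟨p - 1, 1, p * q + w % p, by rw [hq, mul_add] at h1; omega, ?_⟩
    rw [h3, factorization_factorial_add hp _ h2, h0 _ (not_le.1 h), h0 (p - 1) (by omega),
      h0 1 (by omega), h0 q (by omega)]
    omega

theorem exists_two {w : ℕ} (hw : 2 ≤ w) (h4 : w % 4 ≠ 3) : ∃ a b, a + b = w ∧
    w.factorial.factorization 2 = a.factorial.factorization 2 + b.factorial.factorization 2 + 1 := by
  induction w using Nat.strong_induction_on with | h w ih => ?_
  have h1 := Nat.div_add_mod w 2
  have h2 := Nat.mod_lt w two_pos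
  have h3 := factorization_factorial_add Nat.prime_two (w / 2) h2
  rw [h1] at h3
  by_cases h : w % 4 = 2
  · obtain ⟨q, rfl⟩ : ∃ q, w = 2 * (2 * q + 1) := ⟨w / 4, by omega⟩
    refine ⟨2 * (2 * q) + 1, 1, by ring, ?_⟩
    rw [factorization_mul_factorial Nat.prime_two, factorization_factorial_add Nat.prime_two _
      one_lt_two, factorization_factorial_add Nat.prime_two _ one_lt_two,
      factorization_mul_factorial Nat.prime_two]
    simp
    omega
  · obtain ⟨a, b, h5, h6⟩ := ih (w / 2) (by omega) (by omega) (by omega)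
    refine ⟨2 * a + w % 2, 2 * b, by omega, ?_⟩
    rw [h3, factorization_factorial_add Nat.prime_two _ h2,
      factorization_mul_factorial Nat.prime_two]
    omega

variable {A : Type*} [Fintype A] [DecidableEq A]

theorem height_of_sum (hM : IsPModular p M) {N : ℕ} (hN : Fintype.card A ≤ N)
    {lam mu : Fin N → ℕ} (hl : lam ∈ idx N (Fintype.card A)) (hm : mu ∈ idx N (Fintype.card A))
    (h : res p mu = res p lam) (h1 : (wt p lam).factorial.factorization p =
      ∑ r ∈ range p, (hook (runner p mu r)).factorization p + 1) :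
    blockHeight p (blk A N p (res p lam)) (irr hm).1 = 1 := by
  have h2 := blockHeight_blk hM hN hm
  rw [h, wt_eq_of_mem hM.1.pos hl hm h] at h2
  omega

theorem exists_height_one_odd (hM : IsPModular p M) (hp : p ≠ 2) {N : ℕ}
    (hN : Fintype.card A + 2 * p ≤ N) {lam : Fin N → ℕ} (hl : lam ∈ idx N (Fintype.card A))
    (hw : p ≤ wt p lam) :
    ∃ χ ∈ blk A N p (res p lam), blockHeight p (blk A N p (res p lam)) χ.1 = 1 := by
  obtain ⟨a, b, c, h1, h2⟩ := exists_three hM.1 hw
  obtain ⟨k, rfl⟩ : ∃ k, p = k + 3 := ⟨p - 3, by have := hM.1.two_le; omega⟩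
  obtain ⟨mu, hm, h3, -, h4⟩ := exists_oneRow hM.1.pos hl hN
    (fun r => if r = 0 then a else if r = 1 then b else if r = 2 then c else 0)
    (by simp [sum_range_succ', ← h1]; ring)
  refine ⟨irr hm, (irr_mem_blk hm).2 h3, height_of_sum hM (by omega) hl hm h3 ?_⟩
  rw [h2, sum_congr rfl fun r hr => by rw [(h4 r (mem_range.1 hr)).1]]
  simp [sum_range_succ']
  ring

theorem exists_height_one_two (hM : IsPModular 2 M) {N : ℕ} (hN : Fintype.card A + 2 * 2 ≤ N)
    {lam : Fin N → ℕ} (hl : lam ∈ idx N (Fintype.card A)) (hw : 3 ≤ wt 2 lam) :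
    ∃ χ ∈ blk A N 2 (res 2 lam), blockHeight 2 (blk A N 2 (res 2 lam)) χ.1 = 1 ∧
      IsIrrCharacter (alternatingGroup A) fun n => χ.1 n := by
  by_cases h : wt 2 lam % 4 = 3
  · obtain ⟨q, hq⟩ : ∃ q, 2 * (2 * q) + 1 + 2 = wt 2 lam := ⟨wt 2 lam / 4, by omega⟩
    obtain ⟨mu, hm, h1, h2, h3⟩ := exists_twoRow two_pos hl hN hq
    refine ⟨irr hm, (irr_mem_blk hm).2 h1, height_of_sum hM (by omega) hl hm h1 ?_,
      res_irr_of_odd_wt hm (Nat.odd_iff.2 (by rw [wt_eq_of_mem two_pos hl hm h1]; omega))⟩
    rw [sum_range_succ, sum_range_one, h2, h3 1 one_ne_zero, ← hq, Nat.factorization_mul (by omega)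
      (Nat.factorial_ne_zero _), Finsupp.add_apply, Nat.factorization_eq_zero_of_not_dvd
      (n := _ + 2) (by omega), show 2 * (2 * q) + 1 + 2 = 2 * (2 * q + 1) + 1 by ring]
    simp only [factorization_factorial_add Nat.prime_two _ one_lt_two,
      factorization_mul_factorial Nat.prime_two]
    simp
    omega
  obtain ⟨a, b, h1, h2⟩ := exists_two (by omega) h
  obtain ⟨mu, hm, h3, h4, h5⟩ := exists_oneRow hM.1.pos hl hN (fun r => if r = 0 then a else b)
    (by rw [sum_range_succ, sum_range_one]; exact h1)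
  have h6 := wt_eq_of_mem two_pos hl hm h3
  refine ⟨irr hm, (irr_mem_blk hm).2 h3, height_of_sum hM (by omega) hl hm h3 (by
    rw [sum_range_succ, sum_range_one, (h5 0 two_pos).1, (h5 1 one_lt_two).1, h2]
    rfl), ?_⟩
  rcases (wt 2 mu).even_or_odd with ⟨k, hk⟩ | ho
  swap
  · exact res_irr_of_odd_wt hm ho
  have hi := (mem_idx.1 hm).2.injective
  obtain ⟨c, hc, h7⟩ := h4.chiM_cons two_pos hi (k := 2) (by
    obtain ⟨i, h7⟩ := (h5 0 two_pos).2
    obtain ⟨j, h8⟩ := (h5 1 one_lt_two).2
    by_cases h9 : 2 ≤ a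
    · exact ⟨i, by simpa [h7] using h9⟩
    · exact ⟨j, by simp [h8]; omega⟩) two_pos
  have h8 := isSize_core two_pos hi (mem_idx.1 hm).1
  obtain ⟨g, hg⟩ := (Perm.exists_with_cycleType_iff A
    (m := 4 ::ₘ Multiset.replicate (wt 2 mu - 2) 2)).2
    ⟨by simp; omega, fun x hx => by
      rcases Multiset.mem_cons.1 hx with rfl | hx
      exacts [by omega, (Multiset.eq_of_mem_replicate hx).ge]⟩
  refine res_irr_of_ne_zero (irr hm).2 (g := g) ?_ (Int.cast_ne_zero.2 ?_)
  · rw [Perm.sign_of_cycleType, hg]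
    exact Odd.neg_one_pow (Nat.odd_iff.2 (by simp; omega))
  · rw [chi, parts, Perm.parts_partition, ← Perm.sum_cycleType, hg, Multiset.cons_add,
      show (4 ::ₘ Multiset.replicate (wt 2 mu - 2) 2).sum = 2 * wt 2 mu by simp; omega]
    exact (h7 _).trans_ne <| mul_ne_zero (by omega) (chiM_replicate_one_ne_zero (core_injective two_pos hi) h8.2)

theorem index_alt_le : (alternatingGroup A).index ≤ 2 := by
  rcases subsingleton_or_nontrivial A with h | h
  exacts [alternatingGroup.index_eq_one.le.trans one_le_two, alternatingGroup.index_eq_two.le]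

theorem factorization_degree_res (hp : p.Prime) (h2 : p ≠ 2) {χ : IrrCharacter (Perm A)}
    {θ : IrrCharacter (alternatingGroup A)}
    (h : classInner (fun n : alternatingGroup A => χ.1 n) θ.1 ≠ 0) :
    (charDegree θ.1).factorization p = (charDegree χ.1).factorization p := by
  obtain ⟨k, hk⟩ := degree_dvd_of_under χ.2 θ.2 h χ.2.apply_one_eq_charDegree
    θ.2.apply_one_eq_charDegree
  have h1 := IsCharacter.degree_le_of_inner_ne_zero θ.2.isCharacter.ind χ.2
    (by rwa [inner_ind_eq_inner_res θ.2.isCharacter χ.2.isCharacter])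
    (m := (alternatingGroup A).index * charDegree θ.1)
    (by rw [indFun_one, θ.2.apply_one_eq_charDegree, Nat.cast_mul]) χ.2.apply_one_eq_charDegree
  have h3 := θ.2.charDegree_pos
  have h4 := χ.2.charDegree_pos
  have h5 := index_alt_le (A := A)
  have h6 : k ≤ 2 := by
    rw [hk, mul_comm] at h1
    exact (Nat.le_of_mul_le_mul_right h1 h3).trans h5
  have h7 : k ≠ 0 := by
    rintro rfl
    omega
  rw [hk, Nat.factorization_mul h3.ne' h7, Finsupp.add_apply,
    Nat.factorization_eq_zero_of_lt (by have := hp.two_le; omega : k < p), add_zero]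

theorem minVal_alt (hM : IsPModular p M) {N : ℕ} (hN : Fintype.card A ≤ N)
    {lam : Fin N → ℕ} (hl : lam ∈ idx N (Fintype.card A)) (hw : p ≠ 2 ∨ wt p lam ≠ 0)
    {b : Set (IrrCharacter (alternatingGroup A))} (hb : IsPBlock M b)
    (hcov : CovF (alternatingGroup A) (eB M (blk A N p (res p lam))) (eB M b)) :
    minVal p b = minVal p (blk A N p (res p lam)) := by
  have h1 := minVal_add_blockDefect p (block_nonempty hM hb)
  have h2 := minVal_add_blockDefect p (block_nonempty hM (isPBlock_blk hM hN hl))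
  rw [blockDefect_blk hM hN hl, ← (alternatingGroup A).card_mul_index, Nat.factorization_mul
    Nat.card_pos.ne' index_ne_zero_of_finite, Finsupp.add_apply] at h2
  by_cases hp : p = 2
  · subst hp
    have h3 := (isSize_core two_pos (mem_idx.1 hl).2.injective (mem_idx.1 hl).1).1
    have : Nontrivial A := Fintype.one_lt_card_iff_nontrivial.1 (by omega)
    have h4 := blockDefect_alt_two hM hN hl (by omega) hb hcov
    rw [alternatingGroup.index_eq_two, Nat.prime_two.factorization_self] at h2
    omega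
  · have h3 := index_alt_le (A := A)
    have h4 := hM.1.two_le
    rw [Nat.factorization_eq_zero_of_lt (by omega : (alternatingGroup A).index < p)] at h2
    rw [blockDefect_alt_of_odd hM hp hN hl hb hcov] at h1
    omega

theorem isMulCommutative_of_card_le {D : Type*} [Group D] (hp : p.Prime) {d : ℕ} (hd : d ≤ 2)
    (h : Nat.card D = p ^ d) : IsMulCommutative D := by
  have := Fact.mk hp
  rcases hd.lt_or_eq with hd | rfl
  · have : IsCyclic D := isCyclic_of_card_dvd_prime (p := p)
      (h ▸ (pow_dvd_pow p (Nat.le_of_lt_succ hd)).trans (pow_one p).dvd)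
    infer_instance
  · exact ⟨⟨(IsPGroup.commGroupOfCardEqPrimeSq h).mul_comm⟩⟩

theorem alt_height (hM : IsPModular p M) {b : Set (IrrCharacter (alternatingGroup A))}
    (hb : IsPBlock M b) {D : Subgroup (alternatingGroup A)} (hD : IsDefectGroup p M b D) :
    ((∃ χ, χ ∈ b ∧ blockHeight p b χ.1 = 1) ∧ ∃ φ : IrrCharacter D, charDegree φ.1 = p) ∨
      ((∀ χ, χ ∈ b → blockHeight p b χ.1 = 0) ∧ IsMulCommutative D) := by
  have := Fact.mk hM.1
  have hN : Fintype.card A ≤ Fintype.card A + 2 * p := Nat.le_add_right _ _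
  obtain ⟨lam, hl, hcov⟩ := exists_cover hM hN hb
  have hB := isPBlock_blk hM hN hl
  let P : Sylow p (Perm (Fin (wt p lam))) := default
  have hΩ : Fintype.card (Fin (wt p lam) × Multiplicative (ZMod p)) = p * wt p lam := by
    simp [mul_comm]
  obtain ⟨e⟩ := exists_equiv_alt hM hN hl hb hcov hD hΩ (wrSylow P)
  by_cases hp : p = 2
  · subst hp
    by_cases hw : 3 ≤ wt 2 lam
    · obtain ⟨χ, hχ, h1, h2⟩ := exists_height_one_two hM le_rfl hl hw
      refine Or.inl ⟨⟨_, res_mem_of_irr hM hB hb hcov hχ h2, ?_⟩, exists_irr_degree_of_surjective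
        e.toMonoidHom e.surjective (exists_irr_degree_alt_two (by simpa using hw) P)⟩
      rw [blockHeight_eq, minVal_alt hM hN hl (by omega) hb hcov]
      exact h1
    · have h1 : blockDefect 2 b ≤ 2 := by
        by_cases h0 : wt 2 lam = 0
        · have : IsEmpty (Fin (wt 2 lam)) := by rw [h0]; infer_instance
          have := e.toEquiv.subsingleton
          have h1 := hD.card_eq_pow hM hb
          rw [Nat.card_unique] at h1
          exact (Nat.pow_eq_one.1 h1.symm).elim (by omega) (by omega)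
        · have h1 := blockDefect_alt_two hM hN hl h0 hb hcov
          have h2 := Nat.factorization_lt 2 (Nat.factorial_ne_zero (wt 2 lam))
          have h3 := Nat.factorial_le (show wt 2 lam ≤ 2 by omega)
          rw [Nat.factorial_two] at h3
          omega
      refine Or.inr ⟨fun χ hχ => ?_, isMulCommutative_of_card_le hM.1 h1 (hD.card_eq_pow hM hb)⟩
      by_contra h
      have := height_add_two_le hM hb hχ h
      omega
  have h1 : ∀ (χ : IrrCharacter (Perm A)) (θ : IrrCharacter (alternatingGroup A)),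
      classInner (fun n : alternatingGroup A => χ.1 n) θ.1 ≠ 0 → blockHeight p b θ.1 =
        blockHeight p (blk A (Fintype.card A + 2 * p) p (res p lam)) χ.1 := fun χ θ h => by
    rw [blockHeight_eq, blockHeight_eq, minVal_alt hM hN hl (Or.inl hp) hb hcov,
      factorization_degree_res hM.1 hp h]
  have h2 : (wrSylow P).1 ≤ alternatingGroup _ := fun g hg => by
    obtain ⟨k, hk⟩ := (wrSylow P).2 ⟨g, hg⟩
    exact sign_eq_one_of_odd ((hM.1.odd_of_ne_two hp).pow) (congrArg Subtype.val hk)
  replace e := e.trans (MulEquiv.subgroupCongr (inf_of_le_left h2))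
  by_cases hw : p ≤ wt p lam
  · obtain ⟨χ, hχ, h3⟩ := exists_height_one_odd hM hp le_rfl hl hw
    obtain ⟨θ, hθ, h4⟩ := exists_under_of_covF hM hB hb hcov hχ
    exact Or.inl ⟨⟨θ, hθ, (h1 χ θ h4).trans h3⟩, exists_irr_degree_of_surjective
      e.toMonoidHom e.surjective (exists_irr_degree_sylow hΩ hw _)⟩
  · have := isMulCommutative_wrSylow (by simpa using hw) P
    refine Or.inr ⟨fun θ hθ => ?_, ⟨⟨fun x y => e.injective (by
      rw [map_mul, map_mul, mul_comm' (e x)])⟩⟩⟩
    obtain ⟨χ, hχ, h3⟩ := exists_over_of_covF hM (isBlockUnion_of_block hM hB) hb hcov hθ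
    rw [h1 χ θ h3]
    obtain ⟨mu, hm, h4, rfl⟩ := hχ
    have h5 := blockHeight_blk hM hN hm
    rw [h4, wt_eq_of_mem hM.1.pos hl hm h4, Nat.factorization_eq_zero_of_not_dvd
      (n := (wt p lam).factorial) (by rwa [hM.1.dvd_factorial])] at h5
    omega

end CL.Sym
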