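import Cfsg.Agent.BLK.Cyclo
import Cfsg.Agent.CHAR.Galois
import Cfsg.Agent.CHAR.Constit
import Cfsg.Agent.CHAR.Linear

/-! Combinations of characters with algebraic integer coefficients; cyclotomic numbers. -/

set_option autoImplicit false
open Cfsg
open scoped ComplexConjugate

namespace CL.VCh
open CL.Char

variable {H : Type*} [Group H]

/-- Combinations of characters with algebraic integer coefficients. -/
def VC (H : Type*) [Group H] : Subalgebra AlgInt (H → ℂ) :=
  Algebra.adjoin AlgInt {χ | IsCharacter H χ}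

theorem mem_of_char {χ : H → ℂ} (h : IsCharacter H χ) : χ ∈ VC H := Algebra.subset_adjoin h

theorem smul_mem {f : H → ℂ} (hf : f ∈ VC H) {c : ℂ} (hc : IsIntegral ℤ c) : c • f ∈ VC H :=
  (VC H).smul_mem hf (⟨c, hc⟩ : AlgInt)

theorem const_mem {c : ℂ} (hc : IsIntegral ℤ c) : (fun _ : H => c) ∈ VC H := by
  have := smul_mem (VC H).one_mem hc
  convert this using 1
  funext; simp

theorem mem_span {f : H → ℂ} (hf : f ∈ VC H) :
    f ∈ Submodule.span AlgInt {χ | IsCharacter H χ} := by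
  refine Algebra.adjoin_induction (fun x hx => Submodule.subset_span hx) (fun r => ?_)
    (fun x y _ _ hx hy => add_mem hx hy) (fun x y _ _ hx hy => ?_) hf
  · rw [Algebra.algebraMap_eq_smul_one]
    exact Submodule.smul_mem _ _ (Submodule.subset_span isCharacter_one')
  · have := Submodule.mul_mem_mul hx hy
    rw [Submodule.span_mul_span] at this
    refine Submodule.span_mono ?_ this
    rintro _ ⟨a, ha, b, hb, rfl⟩
    exact IsCharacter.mul ha hb

theorem induction {P : (H → ℂ) → Prop} {f : H → ℂ} (hf : f ∈ VC H)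
    (h1 : ∀ χ, IsCharacter H χ → P χ) (h0 : P 0) (ha : ∀ a b, P a → P b → P (a + b))
    (hs : ∀ (c : ℂ) a, IsIntegral ℤ c → P a → P (c • a)) : P f :=
  Submodule.span_induction (p := fun x _ => P x) h1 h0 (fun a b _ _ => ha a b)
    (fun (c : AlgInt) a _ => hs c a c.2) (mem_span hf)

theorem isClassFunction {f : H → ℂ} (hf : f ∈ VC H) : IsClassFunction H f :=
  induction hf (fun _ h => h.isClassFunction) isClassFunction_zero (fun _ _ => IsClassFunction.add)
    (fun c _ _ => IsClassFunction.smul c)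

theorem isIntegral_apply [Finite H] {f : H → ℂ} (hf : f ∈ VC H) (h : H) : IsIntegral ℤ (f h) :=
  induction (P := fun f => IsIntegral ℤ (f h)) hf (fun _ hχ => hχ.isIntegral h) isIntegral_zero
    (fun _ _ => IsIntegral.add) (fun _ _ => IsIntegral.mul)

theorem isIntegral_inner [Fintype H] {f : H → ℂ} (hf : f ∈ VC H) {φ : H → ℂ}
    (hφ : IsCharacter H φ) : IsIntegral ℤ (classInner f φ) := by
  refine induction (P := fun f => IsIntegral ℤ (classInner f φ)) hf (fun χ hχ => ?_) ?_
    (fun a b ha hb => ?_) (fun c a hc ha => ?_)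
  · obtain ⟨n, hn⟩ := hχ.exists_nat_inner hφ
    rw [hn]; exact isIntegral_natCast' n
  · rw [classInner_zero_left]; exact isIntegral_zero
  · rw [classInner_add_left]; exact ha.add hb
  · rw [classInner_smul_left]; exact hc.mul ha

theorem mem_of_inner [Fintype H] {f : H → ℂ} (hf : IsClassFunction H f)
    (h : ∀ φ, IsIrrCharacter H φ → IsIntegral ℤ (classInner f φ)) : f ∈ VC H := by
  rw [hf.eq_sum]
  exact Subalgebra.sum_mem _ fun φ _ => smul_mem (mem_of_char φ.2.isCharacter) (h _ φ.2)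

theorem comp_mem {K : Type*} [Group K] (j : K →* H) {f : H → ℂ} (hf : f ∈ VC H) :
    (fun k => f (j k)) ∈ VC K :=
  induction (P := fun f => (fun k => f (j k)) ∈ VC K) hf (fun _ hχ => mem_of_char (hχ.comp j))
    (VC K).zero_mem (fun _ _ => (VC K).add_mem) (fun _ _ hc ha => smul_mem ha hc)

theorem isIntegral_of_coprime {z : ℂ} {a b : ℕ} (hab : a.Coprime b) (ha : IsIntegral ℤ (a * z))
    (hb : IsIntegral ℤ (b * z)) : IsIntegral ℤ z := by
  have h := Nat.gcd_eq_gcd_ab a b
  rw [hab] at h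
  have h' : (1 : ℂ) = a * (Nat.gcdA a b : ℤ) + b * (Nat.gcdB a b : ℤ) := by exact_mod_cast h
  have : z = (Nat.gcdA a b : ℤ) * (a * z) + (Nat.gcdB a b : ℤ) * (b * z) := by
    linear_combination z * h'
  rw [this]
  exact ((isIntegral_intCast' _).mul ha).add ((isIntegral_intCast' _).mul hb)

/-- A class function with integral values, a multiple of which by a number prime to the group order
is a combination of characters, is itself such a combination. -/
theorem mem_of_coprime_smul [Finite H] {ψ : H → ℂ} (hψ : ∀ h, IsIntegral ℤ (ψ h)) {q : ℕ}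
    (hq : q.Coprime (Nat.card H)) (h : (q : ℂ) • ψ ∈ VC H) : ψ ∈ VC H := by
  have := Fintype.ofFinite H
  have hq0 : (q : ℂ) ≠ 0 ∨ Nat.card H = 1 := by
    rcases Nat.eq_zero_or_pos q with rfl | h0
    · exact Or.inr (by simpa using hq)
    · exact Or.inl (by exact_mod_cast h0.ne')
  refine mem_of_inner (fun g x => ?_) fun φ hφ => isIntegral_of_coprime hq ?_ ?_
  · rcases hq0 with h0 | h0
    · exact mul_left_cancel₀ h0 (isClassFunction h g x)
    · have := (Nat.card_eq_one_iff_unique.1 h0).1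
      exact congrArg ψ (Subsingleton.elim _ _)
  · rw [← classInner_smul_left]; exact isIntegral_inner h hφ.isCharacter
  · rw [card_mul_classInner]
    exact IsIntegral.sum _ fun g _ => (hψ g).mul (isIntegral_conj (hφ.isIntegral g))

/-- Division in the ring of combinations of characters. -/
theorem mem_of_mul_eq [Finite H] {θ ψ χ : H → ℂ} (hθ : θ ∈ VC H) (hχ : χ ∈ VC H)
    (hψ : ∀ h, IsIntegral ℤ (ψ h)) (hmul : ∀ h, θ h * ψ h = χ h) {q : ℕ}
    (hq : q.Coprime (Nat.card H)) (hu : ∀ h, ∃ u, IsIntegral ℤ u ∧ u * θ h = q) : ψ ∈ VC H := by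
  classical
  have := Fintype.ofFinite H
  choose u hu hu' using hu
  have key : ∀ s : Finset H, ∃ Q ∈ VC H, ∀ x,
      ∏ h ∈ s, ((q : ℂ) - u h * θ x) = θ x * Q x + (q : ℂ) ^ s.card := fun s => by
    induction s using Finset.induction_on with
    | empty => exact ⟨0, zero_mem _, fun x => by simp⟩
    | insert a s ha ih =>
      obtain ⟨Q, hQ, hQ'⟩ := ih
      refine ⟨(q : ℂ) • Q - u a • (θ * Q) - (u a * (q : ℂ) ^ s.card) • 1,
        sub_mem (sub_mem (smul_mem hQ (isIntegral_natCast' q)) (smul_mem (mul_mem hθ hQ) (hu a)))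
          (smul_mem (one_mem _) ((hu a).mul ((isIntegral_natCast' q).pow _))), fun x => ?_⟩
      rw [Finset.prod_insert ha, hQ', Finset.card_insert_of_notMem ha]
      simp only [Pi.sub_apply, Pi.smul_apply, Pi.mul_apply, Pi.one_apply, smul_eq_mul]
      ring
  obtain ⟨Q, hQ, hQ'⟩ := key Finset.univ
  refine mem_of_coprime_smul hψ (q := q ^ (Finset.univ : Finset H).card) (hq.pow_left _) ?_
  convert neg_mem (mul_mem hχ hQ) using 1
  funext x
  have h1 := hQ' x
  rw [Finset.prod_eq_zero (Finset.mem_univ x) (by rw [hu', sub_self])] at h1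
  simp only [Pi.smul_apply, smul_eq_mul, Pi.neg_apply, Pi.mul_apply, Nat.cast_pow, ← hmul]
  linear_combination (-ψ x) * h1

/-- The function `h ↦ χ (v * j h)` for `v` commuting with the image of `j`. -/
theorem shift_mem {X : Type*} [Group X] [Finite X] {χ : X → ℂ} (hχ : IsCharacter X χ) (v : X)
    (j : H →* X) (hj : ∀ h, j h * v = v * j h) : (fun h => χ (v * j h)) ∈ VC H := by
  classical
  have := Fintype.ofFinite X
  let C := Subgroup.centralizer ({v} : Set X)
  have hv : v ∈ C := Subgroup.mem_centralizer_singleton_iff.2 rfl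
  let j' : H →* C := j.codRestrict C fun h => Subgroup.mem_centralizer_singleton_iff.2 (hj h)
  obtain ⟨n, -, hn⟩ := (hχ.res C).exists_nat_coeffs
  have h1 : (fun h => χ (v * j h)) = ∑ ξ : IrrCharacter C, (n ξ : ℂ) •
      fun h => ξ.1 (⟨v, hv⟩ * j' h) := by
    funext h
    have := congrFun hn (⟨v, hv⟩ * j' h)
    simp only [Finset.sum_apply, Pi.smul_apply] at this ⊢
    exact this
  rw [h1]
  refine Subalgebra.sum_mem _ fun ξ _ => smul_mem ?_ (isIntegral_natCast' _)
  have hz : (⟨v, hv⟩ : C) ∈ Subgroup.center C := Subgroup.mem_center_iff.2 fun g =>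
    Subtype.ext (Subgroup.mem_centralizer_singleton_iff.1 g.2)
  obtain ⟨c, -, hc⟩ := mem_charCenter_iff.1 (ξ.2.center_le_charCenter hz)
  have h2 : ∀ k : ℕ, ξ.1 (⟨v, hv⟩ ^ k) = c ^ k * ξ.1 1 := fun k => by
    induction k with
    | zero => simp
    | succ k ih => rw [pow_succ', hc, ih, pow_succ', mul_assoc]
  have h3 : c ^ Nat.card C = 1 := by
    have := h2 (Nat.card C)
    rw [pow_card_eq_one'] at this
    exact mul_right_cancel₀ ξ.2.one_ne_zero (by rw [← this, one_mul])
  have h4 : IsIntegral ℤ c := IsIntegral.of_pow Nat.card_pos (h3 ▸ isIntegral_one)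
  simp only [hc]
  exact smul_mem (mem_of_char (ξ.2.isCharacter.comp j')) h4

/-- Numbers whose images under automorphisms depend only on the action on `n`-th roots of unity. -/
def Fix (n : ℕ) : Subfield ℂ where
  carrier := {a | ∀ τ τ' : ℂ →+* ℂ, (∀ z : ℂ, z ^ n = 1 → τ z = τ' z) → τ a = τ' a}
  mul_mem' := fun ha hb τ τ' h => by rw [map_mul, map_mul, ha τ τ' h, hb τ τ' h]
  one_mem' := fun τ τ' _ => by rw [map_one, map_one]
  add_mem' := fun ha hb τ τ' h => by rw [map_add, map_add, ha τ τ' h, hb τ τ' h]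
  zero_mem' := fun τ τ' _ => by rw [map_zero, map_zero]
  neg_mem' := fun ha τ τ' h => by rw [map_neg, map_neg, ha τ τ' h]
  inv_mem' := fun a ha τ τ' h => by rw [map_inv₀, map_inv₀, ha τ τ' h]

theorem root_mem_fix {n : ℕ} {z : ℂ} (hz : z ^ n = 1) : z ∈ Fix n := fun _ _ h => h z hz

theorem char_mem_fix [Finite H] {n : ℕ} (hn : n ≠ 0) {χ : H → ℂ} (hχ : IsCharacter H χ) {g : H}
    (hg : g ^ n = 1) : χ g ∈ Fix n := fun τ τ' h => by
  obtain ⟨k, -, hk⟩ := exists_coprime_apply_eq_pow hn τ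
  rw [hχ.gal_apply hk hg, hχ.gal_apply (fun z hz => (h z hz).symm.trans (hk z hz)) hg]

theorem exists_family (n : ℕ) [NeZero n] : ∃ σ : (ZMod n)ˣ → ℂ ≃+* ℂ, ∀ a : ℂ, IsIntegral ℤ a →
    a ∈ Fix n → a ≠ 0 → (Fintype.card (ZMod n)ˣ : ℝ) ≤ ∑ u, ‖σ u a‖ ^ 2 := by
  choose σ hσ using fun u : (ZMod n)ˣ =>
    exists_ringEquiv_pow (NeZero.ne n) (ZMod.val_coe_unit_coprime u)
  refine ⟨σ, fun a ha hfix h0 => ?_⟩
  have hne : ∀ u, σ u a ≠ 0 := fun u => (map_ne_zero _).2 h0
  obtain ⟨m, hm⟩ : ∃ m : ℤ, ∏ u, σ u a = m := by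
    refine exists_int_of_fixed (IsIntegral.prod _ fun u _ =>
      isIntegral_map_ringHom (σ u).toRingHom ha) fun τ => ?_
    obtain ⟨k, hk, hτ⟩ := exists_coprime_apply_eq_pow (NeZero.ne n) τ.toRingHom
    rw [map_prod]
    refine Fintype.prod_equiv (Equiv.mulRight (ZMod.unitOfCoprime k hk)) _ _ fun u => ?_
    refine hfix (τ.toRingHom.comp (σ u).toRingHom) (σ _).toRingHom fun z hz => ?_
    have h1 : (z ^ (u : ZMod n).val) ^ n = 1 := by rw [← pow_mul, mul_comm, pow_mul, hz, one_pow]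
    show τ.toRingHom (σ u z) = σ _ z
    rw [hσ u z hz, hτ _ h1, hσ _ z hz, ← pow_mul]
    refine pow_eq_pow_of_modEq ?_ hz
    rw [← ZMod.natCast_eq_natCast_iff]
    simp
  have hm0 : m ≠ 0 := by
    rintro rfl
    exact Finset.prod_ne_zero_iff.mpr (fun u _ => hne u) (by simpa using hm)
  refine CL.Blk.card_le_sum_of_one_le_prod _ (fun u _ => pow_pos (norm_pos_iff.2 (hne u)) 2) ?_
  rw [Finset.prod_pow, ← norm_prod, hm, Complex.norm_intCast]
  have : (1 : ℝ) ≤ |(m : ℝ)| := by exact_mod_cast Int.one_le_abs hm0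
  nlinarith

end CL.VCh
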